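import Mathlib
import Cfsg.Prelude.Def_Characters

set_option autoImplicit false

namespace Cfsg.Agent.Lib.Helper8

open Cfsg Matrix
open scoped ComplexOrder ComplexConjugate

variable {G : Type*} [Group G]

/-- The matrix of `ρ g`. -/
noncomputable def repMat {n : ℕ} (ρ : Representation ℂ G (Fin n → ℂ)) (g : G) : Matrix (Fin n) (Fin n) ℂ :=
  LinearMap.toMatrix' (ρ g)

theorem repMat_mul {n : ℕ} (ρ : Representation ℂ G (Fin n → ℂ)) (g h : G) :
    repMat ρ (g * h) = repMat ρ g * repMat ρ h := by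
  unfold repMat
  rw [map_mul, LinearMap.toMatrix'_mul]

theorem repMat_one {n : ℕ} (ρ : Representation ℂ G (Fin n → ℂ)) : repMat ρ 1 = 1 := by
  unfold repMat
  rw [map_one, LinearMap.toMatrix'_one]

theorem character_eq_trace {n : ℕ} (ρ : Representation ℂ G (Fin n → ℂ)) (g : G) :
    ρ.character g = Matrix.trace (repMat ρ g) := by
  unfold Representation.character repMat
  rw [LinearMap.trace_eq_matrix_trace ℂ (Pi.basisFun ℂ (Fin n)), LinearMap.toMatrix_eq_toMatrix']

/-- Weyl's unitary trick in matrix form: `χ(g⁻¹) = conj χ(g)`. -/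
theorem character_inv [Finite G] {n : ℕ} (ρ : Representation ℂ G (Fin n → ℂ)) (g : G) :
    ρ.character g⁻¹ = conj (ρ.character g) := by
  classical
  have : Fintype G := Fintype.ofFinite G
  set A := repMat ρ with hA
  set H : Matrix (Fin n) (Fin n) ℂ := ∑ x : G, (A x)ᴴ * A x with hH
  -- H is positive definite
  have hpsd : ∀ x : G, ((A x)ᴴ * A x).PosSemidef := fun x => posSemidef_conjTranspose_mul_self _
  have hHpd : H.PosDef := by
    have hsplit : H = (A 1)ᴴ * A 1 + ∑ x ∈ Finset.univ.erase (1 : G), (A x)ᴴ * A x := by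
      rw [hH, ← Finset.add_sum_erase _ _ (Finset.mem_univ (1 : G))]
    rw [hsplit]
    apply Matrix.PosDef.add_posSemidef
    · rw [hA, repMat_one, conjTranspose_one, one_mul]
      exact Matrix.PosDef.one
    · exact posSemidef_sum _ (fun x _ => hpsd x)
  have hHu : IsUnit H := hHpd.isUnit
  -- invariance
  have hinv : (A g)ᴴ * H * A g = H := by
    rw [hH, Finset.mul_sum, Finset.sum_mul]
    have : ∀ x : G, (A g)ᴴ * ((A x)ᴴ * A x) * A g = (A (x * g))ᴴ * A (x * g) := by
      intro x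
      rw [hA, repMat_mul, conjTranspose_mul]
      simp only [Matrix.mul_assoc]
    simp_rw [this]
    exact Fintype.sum_bijective (fun x => x * g) (Group.mulRight_bijective g) _ _ (fun x => rfl)
  have hAg : A g * A g⁻¹ = 1 := by rw [hA, ← repMat_mul, mul_inv_cancel, repMat_one]
  have h1 : (A g)ᴴ * H = H * A g⁻¹ := by
    have h0 : (A g)ᴴ * H * A g * A g⁻¹ = H * A g⁻¹ := by rw [hinv]
    rw [Matrix.mul_assoc, hAg, Matrix.mul_one] at h0
    exact h0
  obtain ⟨Hu, hHu'⟩ := hHu
  have h2 : A g⁻¹ = (↑Hu⁻¹ : Matrix (Fin n) (Fin n) ℂ) * ((A g)ᴴ * H) := by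
    rw [h1, ← Matrix.mul_assoc, ← hHu', Units.inv_mul, Matrix.one_mul]
  rw [character_eq_trace, character_eq_trace, ← hA, h2, Matrix.trace_mul_comm, Matrix.mul_assoc,
    ← hHu', Units.mul_inv, Matrix.mul_one, Matrix.trace_conjTranspose]
  rfl

end Cfsg.Agent.Lib.Helper8
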