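import Mathlib
import Cfsg.Prelude.Def_Characters
import Cfsg.Agent.Lib.Helper8.CharConj

set_option autoImplicit false

namespace Cfsg.Agent.Lib.Helper8

open Cfsg
open scoped ComplexConjugate

variable {G : Type*} [Group G]

theorem classInner_character [Fintype G] {n m : ℕ} (ρ : Representation ℂ G (Fin n → ℂ))
    (σ : Representation ℂ G (Fin m → ℂ)) :
    classInner ρ.character σ.character =
      (Nat.card G : ℂ)⁻¹ * ∑ g : G, ρ.character g * σ.character g⁻¹ := by
  unfold classInner
  congr 1
  apply Finset.sum_congr rfl
  intro g _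
  rw [character_inv]

/-- First orthogonality relation in Hermitian form for irreducible characters. -/
theorem irr_classInner [Fintype G] {χ ψ : G → ℂ} (hχ : IsIrrCharacter G χ) (hψ : IsIrrCharacter G ψ) :
    classInner χ ψ = if χ = ψ then 1 else 0 := by
  classical
  obtain ⟨n, ρ, hρ, rfl⟩ := hχ
  obtain ⟨m, σ, hσ, rfl⟩ := hψ
  have hcard : (Nat.card G : ℂ) ≠ 0 := Nat.cast_ne_zero.mpr Nat.card_pos.ne'
  have : Invertible (Nat.card G : ℂ) := invertibleOfNonzero hcard
  have h1 := Representation.char_orthonormal ρ σ
  have h2 := Representation.char_orthonormal ρ ρ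
  rw [← classInner_character] at h1 h2
  rw [h1]
  by_cases heq : ρ.character = σ.character
  · rw [if_pos heq]
    by_cases hne : Nonempty (Representation.Equiv σ ρ)
    · rw [if_pos hne]
    · exfalso
      rw [if_neg hne] at h1
      rw [← heq, h2, if_pos ⟨Representation.Equiv.refl ρ⟩] at h1
      simp at h1
  · rw [if_neg heq]
    by_cases hne : Nonempty (Representation.Equiv σ ρ)
    · exfalso
      obtain ⟨φ⟩ := hne
      exact heq (Representation.char_iso φ).symm
    · rw [if_neg hne]

end Cfsg.Agent.Lib.Helper8
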