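import Mathlib
import Cfsg.Prelude.Def_Characters
import Cfsg.Agent.Lib.Helper8.CharOrth

set_option autoImplicit false

namespace Cfsg.Agent.Lib.Helper8

open Cfsg
open scoped ComplexConjugate

variable {G : Type*} [Group G]

theorem character_isConj {χ : G → ℂ} (hχ : IsCharacter G χ) {g h : G} (hc : IsConj g h) : χ g = χ h := by
  obtain ⟨n, ρ, rfl⟩ := hχ
  obtain ⟨c, hc⟩ := isConj_iff.mp hc
  rw [← hc, Representation.char_conj]

theorem irr_isCharacter {χ : G → ℂ} (hχ : IsIrrCharacter G χ) : IsCharacter G χ := by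
  obtain ⟨n, ρ, -, h⟩ := hχ
  exact ⟨n, ρ, h⟩

theorem classInner_sum_left [Fintype G] {ι : Type*} (s : Finset ι) (a : ι → ℂ) (f : ι → G → ℂ) (ψ : G → ℂ) :
    classInner (fun g => ∑ i ∈ s, a i * f i g) ψ = ∑ i ∈ s, a i * classInner (f i) ψ := by
  unfold classInner
  simp_rw [Finset.sum_mul, Finset.mul_sum]
  rw [Finset.sum_comm]
  apply Finset.sum_congr rfl
  intro i _
  apply Finset.sum_congr rfl
  intro g _
  ring

/-- The irreducible characters, as functions on conjugacy classes, are linearly independent. -/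
theorem irr_linearIndependent [Finite G] :
    LinearIndependent ℂ (fun χ : IrrCharacter G => fun C : ConjClasses G => χ.1 (Quotient.out C)) := by
  classical
  have : Fintype G := Fintype.ofFinite G
  rw [linearIndependent_iff']
  intro s a hsum ψ hψ
  -- the relation holds on all of G
  have hG : ∀ g : G, ∑ χ ∈ s, a χ * χ.1 g = 0 := by
    intro g
    have h1 := congrFun hsum (ConjClasses.mk g)
    simp only [Finset.sum_apply, Pi.smul_apply, smul_eq_mul, Pi.zero_apply] at h1
    rw [← h1]
    apply Finset.sum_congr rfl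
    intro χ _
    congr 1
    apply character_isConj (irr_isCharacter χ.2)
    have : ConjClasses.mk (Quotient.out (ConjClasses.mk g)) = ConjClasses.mk g := Quotient.out_eq _
    exact (ConjClasses.mk_eq_mk_iff_isConj.mp this).symm
  have h2 : classInner (fun g => ∑ χ ∈ s, a χ * χ.1 g) ψ.1 = 0 := by
    have : (fun g => ∑ χ ∈ s, a χ * χ.1 g) = fun _ => (0 : ℂ) := funext hG
    rw [this]
    unfold classInner
    simp
  rw [classInner_sum_left] at h2
  have h3 : ∑ χ ∈ s, a χ * classInner χ.1 ψ.1 = a ψ := by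
    rw [Finset.sum_eq_single ψ]
    · rw [irr_classInner ψ.2 ψ.2, if_pos rfl, mul_one]
    · intro χ _ hne
      rw [irr_classInner χ.2 ψ.2, if_neg (fun h => hne (Subtype.ext h)), mul_zero]
    · intro h; exact absurd hψ h
  rw [h3] at h2
  exact h2

theorem irr_finite [Finite G] : Finite (IrrCharacter G) :=
  (irr_linearIndependent (G := G)).finite

theorem card_irr_le [Finite G] : Nat.card (IrrCharacter G) ≤ Nat.card (ConjClasses G) := by
  classical
  have : Fintype G := Fintype.ofFinite G
  have := irr_finite (G := G)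
  have : Fintype (IrrCharacter G) := Fintype.ofFinite _
  have h := (irr_linearIndependent (G := G)).fintype_card_le_finrank
  rw [Module.finrank_fintype_fun_eq_card] at h
  rw [Nat.card_eq_fintype_card, Nat.card_eq_fintype_card]
  exact h

theorem card_orbit_mul_card_centralizer [Finite G] (g : G) :
    (MulAction.orbit (ConjAct G) g).ncard * Nat.card (Subgroup.centralizer ({g} : Set G)) = Nat.card G := by
  rw [Subgroup.nat_card_centralizer_nat_card_stabilizer, ← MulAction.index_stabilizer, mul_comm,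
    Subgroup.card_mul_index]
  rfl

/-- Bessel's inequality for the values of irreducible characters at `g`. -/
theorem irr_sum_sq_le [Finite G] (s : Finset (IrrCharacter G)) (g : G) :
    ∑ χ ∈ s, ‖χ.1 g‖ ^ 2 ≤ (Nat.card (Subgroup.centralizer ({g} : Set G)) : ℝ) := by
  classical
  have : Fintype G := Fintype.ofFinite G
  set cG : ℝ := (Nat.card G : ℝ) with hcG
  have hcGpos : 0 < cG := by
    rw [hcG]; exact_mod_cast Nat.card_pos
  set w : IrrCharacter G → EuclideanSpace ℂ G := fun χ =>
    ((Real.sqrt cG)⁻¹ : ℂ) • (WithLp.toLp 2 χ.1 : EuclideanSpace ℂ G) with hw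
  have hinner : ∀ f h : G → ℂ, inner ℂ (WithLp.toLp 2 f : EuclideanSpace ℂ G) (WithLp.toLp 2 h) =
      ∑ g, conj (f g) * h g := by
    intro f h
    rw [PiLp.inner_apply]
    apply Finset.sum_congr rfl
    intro g _
    simp [mul_comm]
  have hsq : ((Real.sqrt cG)⁻¹ : ℂ) * ((Real.sqrt cG)⁻¹ : ℂ) = (Nat.card G : ℂ)⁻¹ := by
    rw [← mul_inv, ← Complex.ofReal_mul, Real.mul_self_sqrt hcGpos.le, hcG]
    simp
  have horth : Orthonormal ℂ w := by
    rw [orthonormal_iff_ite]
    intro χ ψ
    simp only [hw]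
    rw [inner_smul_left, inner_smul_right, hinner, Complex.conj_inv, Complex.conj_ofReal, ← mul_assoc, hsq]
    have : (Nat.card G : ℂ)⁻¹ * ∑ g, conj (χ.1 g) * ψ.1 g = classInner ψ.1 χ.1 := by
      unfold classInner
      congr 1
      apply Finset.sum_congr rfl
      intro g _
      ring
    rw [this, irr_classInner ψ.2 χ.2]
    by_cases h : χ = ψ
    · rw [if_pos h, if_pos (by rw [h])]
    · rw [if_neg h, if_neg (fun h' => h (Subtype.ext h'.symm))]
  -- the class indicator
  set O : Set G := MulAction.orbit (ConjAct G) g with hO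
  set N : ℝ := (O.ncard : ℝ) with hN
  set x : EuclideanSpace ℂ G := WithLp.toLp 2 (fun h => if h ∈ O then (1 : ℂ) else 0) with hx
  have hgO : g ∈ O := MulAction.mem_orbit_self g
  have hNpos : 0 < N := by
    rw [hN]
    have : 0 < O.ncard := Set.ncard_pos (Set.toFinite O) |>.mpr ⟨g, hgO⟩
    exact_mod_cast this
  have hsumO : ∀ F : G → ℂ, (∀ h ∈ O, F h = F g) →
      ∑ h, F h * (if h ∈ O then (1 : ℂ) else 0) = N * F g := by
    intro F hF
    have : ∀ h, F h * (if h ∈ O then (1 : ℂ) else 0) = if h ∈ O then F g else 0 := by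
      intro h
      by_cases hh : h ∈ O
      · rw [if_pos hh, if_pos hh, mul_one, hF h hh]
      · rw [if_neg hh, if_neg hh, mul_zero]
    simp_rw [this]
    rw [← Finset.sum_filter, Finset.sum_const, nsmul_eq_mul]
    congr 1
    rw [hN, Set.ncard_eq_toFinset_card']
    simp
  have hxnorm : ‖x‖ ^ 2 = N := by
    rw [hx, EuclideanSpace.norm_sq_eq]
    have : ∀ h : G, ‖(if h ∈ O then (1 : ℂ) else 0)‖ ^ 2 = if h ∈ O then (1 : ℝ) else 0 := by
      intro h
      by_cases hh : h ∈ O <;> simp [hh]
    simp_rw [this]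
    rw [← Finset.sum_filter, Finset.sum_const, nsmul_eq_mul, mul_one, hN, Set.ncard_eq_toFinset_card']
    simp
  have hwx : ∀ χ : IrrCharacter G, ‖inner ℂ (w χ) x‖ ^ 2 = N ^ 2 / cG * ‖χ.1 g‖ ^ 2 := by
    intro χ
    simp only [hw]
    rw [inner_smul_left, hx, hinner, hsumO (fun h => conj (χ.1 h))]
    · rw [norm_mul, norm_mul, Complex.conj_inv, Complex.conj_ofReal, norm_inv, Complex.norm_real,
        Complex.norm_real, RCLike.norm_conj, Real.norm_of_nonneg (Real.sqrt_nonneg _),
        Real.norm_of_nonneg hNpos.le, mul_pow, mul_pow, inv_pow, Real.sq_sqrt hcGpos.le]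
      field_simp
    · intro h hh
      congr 1
      apply character_isConj (irr_isCharacter χ.2)
      exact ConjAct.mem_orbit_conjAct.mp hh
  have hbessel := horth.sum_inner_products_le (x := x) (s := s)
  simp_rw [hwx] at hbessel
  rw [hxnorm, ← Finset.mul_sum] at hbessel
  -- N^2 / cG * S ≤ N  →  S ≤ cG / N
  have hcard := card_orbit_mul_card_centralizer g
  have hcard' : N * (Nat.card (Subgroup.centralizer ({g} : Set G)) : ℝ) = cG := by
    rw [hN, hcG, hO]
    exact_mod_cast hcard
  have hS : ∑ χ ∈ s, ‖χ.1 g‖ ^ 2 ≤ cG / N := by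
    rw [le_div_iff₀ hNpos]
    have h1 : N ^ 2 / cG * ∑ χ ∈ s, ‖χ.1 g‖ ^ 2 = (N / cG) * ((∑ χ ∈ s, ‖χ.1 g‖ ^ 2) * N) := by
      field_simp
    rw [h1] at hbessel
    have h2 : (∑ χ ∈ s, ‖χ.1 g‖ ^ 2) * N ≤ N / (N / cG) := by
      rw [le_div_iff₀ (div_pos hNpos hcGpos)]
      linarith [hbessel]
    have h3 : N / (N / cG) = cG := by field_simp
    linarith [h2, h3]
  have : cG / N = (Nat.card (Subgroup.centralizer ({g} : Set G)) : ℝ) := by
    rw [← hcard']
    field_simp
  rw [← this]
  exact hS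

end Cfsg.Agent.Lib.Helper8
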