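import Mathlib
import Cfsg.Prelude.Def_Characters

set_option autoImplicit false

namespace Cfsg.Agent.Lib.Helper8

open Cfsg

variable {G : Type*} [Group G] {V : Type*} [AddCommGroup V] [Module ℂ V]

theorem irreducible_submodule {ρ : Representation ℂ G V} (h : ρ.IsIrreducible) (W : Submodule ℂ V)
    (hW : ∀ g : G, ∀ v ∈ W, ρ g v ∈ W) : W = ⊥ ∨ W = ⊤ := by
  have := h.eq_bot_or_eq_top (⟨W, fun g v hv => hW g v hv⟩ : Subrepresentation ρ)
  rcases this with h1 | h1
  · left; exact congrArg Subrepresentation.toSubmodule h1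
  · right; exact congrArg Subrepresentation.toSubmodule h1

theorem irreducible_nontrivial {ρ : Representation ℂ G V} (h : ρ.IsIrreducible) : Nontrivial V := by
  by_contra hnt
  rw [not_nontrivial_iff_subsingleton] at hnt
  have hne : (⊥ : Subrepresentation ρ) ≠ ⊤ := bot_ne_top
  apply hne
  apply Subrepresentation.toSubmodule_injective
  exact Subsingleton.elim _ _

/-- Schur's lemma: an endomorphism commuting with an irreducible complex representation is a scalar. -/
theorem schur_scalar [FiniteDimensional ℂ V] {ρ : Representation ℂ G V} (h : ρ.IsIrreducible)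
    (T : V →ₗ[ℂ] V) (hT : ∀ g : G, ∀ v : V, T (ρ g v) = ρ g (T v)) : ∃ c : ℂ, ∀ v : V, T v = c • v := by
  have hnt : Nontrivial V := irreducible_nontrivial h
  obtain ⟨μ, hμ⟩ := Module.End.exists_eigenvalue T
  refine ⟨μ, ?_⟩
  have hW := irreducible_submodule h (Module.End.eigenspace T μ) (by
    intro g v hv
    rw [Module.End.mem_eigenspace_iff] at hv ⊢
    rw [hT, hv, map_smul])
  rcases hW with hW | hW
  · exact absurd hW hμ
  · intro v
    have : v ∈ Module.End.eigenspace T μ := by rw [hW]; trivial
    exact Module.End.mem_eigenspace_iff.mp this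

theorem central_scalar [FiniteDimensional ℂ V] {ρ : Representation ℂ G V} (h : ρ.IsIrreducible)
    {z : G} (hz : z ∈ Subgroup.center G) : ∃ c : ℂ, ∀ v : V, ρ z v = c • v := by
  apply schur_scalar h (ρ z)
  intro g v
  have : z * g = g * z := ((Subgroup.mem_center_iff.mp hz) g).symm
  have h1 : ρ (z * g) v = ρ (g * z) v := by rw [this]
  simpa [map_mul] using h1

end Cfsg.Agent.Lib.Helper8
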