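import Mathlib
import Cfsg.Prelude.Def_Characters
import Cfsg.Agent.Lib.Helper8.CharBessel
import Cfsg.Agent.Lib.Helper8.CharSchur

set_option autoImplicit false

namespace Cfsg.Agent.Lib.Helper8
open Cfsg
open scoped ComplexConjugate

universe u
variable {G : Type*} [Group G]
variable {V : Type*} [AddCommGroup V] [Module ℂ V]

variable {V' : Type*} [AddCommGroup V'] [Module ℂ V']

/-- Transport a representation along a linear equivalence. -/
noncomputable def transportRep (ρ : Representation ℂ G V) (e : V ≃ₗ[ℂ] V') : Representation ℂ G V' where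
  toFun g := e.conj (ρ g)
  map_one' := by
    rw [map_one]
    ext v
    simp [LinearEquiv.conj_apply]
  map_mul' g h := by
    rw [map_mul]
    ext v
    simp [LinearEquiv.conj_apply]

theorem transportRep_apply (ρ : Representation ℂ G V) (e : V ≃ₗ[ℂ] V') (g : G) (v : V') :
    transportRep ρ e g v = e (ρ g (e.symm v)) := by
  simp [transportRep, LinearEquiv.conj_apply]

theorem transportRep_character (ρ : Representation ℂ G V) (e : V ≃ₗ[ℂ] V') :
    (transportRep ρ e).character = ρ.character := by
  ext g
  simp only [Representation.character]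
  exact LinearMap.trace_conj' (ρ g) e

theorem transportRep_irreducible {ρ : Representation ℂ G V} (e : V ≃ₗ[ℂ] V') (h : ρ.IsIrreducible) :
    (transportRep ρ e).IsIrreducible := by
  have hnt : Nontrivial V := irreducible_nontrivial h
  have hnt' : Nontrivial V' := e.symm.toEquiv.nontrivial
  refine { exists_pair_ne := ?_, eq_bot_or_eq_top := ?_ }
  · refine ⟨⊥, ⊤, ?_⟩
    intro heq
    have h1 : (⊥ : Submodule ℂ V') = ⊤ := congrArg Subrepresentation.toSubmodule heq
    exact bot_ne_top h1
  · intro W
    have hW := irreducible_submodule h (W.toSubmodule.comap e.toLinearMap) (by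
      intro g v hv
      rw [Submodule.mem_comap] at hv ⊢
      have := W.apply_mem_toSubmodule g hv
      rw [transportRep_apply] at this
      simpa using this)
    rcases hW with hW | hW
    · left
      apply Subrepresentation.toSubmodule_injective
      show W.toSubmodule = (⊥ : Submodule ℂ V')
      rw [eq_bot_iff]
      intro w hw
      have : e.symm w ∈ W.toSubmodule.comap e.toLinearMap := by
        rw [Submodule.mem_comap]; simpa using hw
      rw [hW, Submodule.mem_bot] at this
      have h2 : w = 0 := by simpa using this
      rw [h2]; exact Submodule.zero_mem _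
    · right
      apply Subrepresentation.toSubmodule_injective
      show W.toSubmodule = (⊤ : Submodule ℂ V')
      rw [eq_top_iff]
      intro w _
      have : e.symm w ∈ W.toSubmodule.comap e.toLinearMap := by rw [hW]; trivial
      rw [Submodule.mem_comap] at this
      simpa using this


noncomputable def transportEquiv (ρ : Representation ℂ G V) (e : V ≃ₗ[ℂ] V') :
    ρ.Equiv (transportRep ρ e) :=
  Representation.Equiv.mk e (by
    intro g
    ext v
    simp [transportRep_apply])

theorem isCharacter_of_rep [FiniteDimensional ℂ V] (ρ : Representation ℂ G V) :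
    IsCharacter G ρ.character := by
  let b := Module.finBasis ℂ V
  exact ⟨Module.finrank ℂ V, transportRep ρ b.equivFun, transportRep_character ρ b.equivFun⟩

theorem isIrrCharacter_of_irreducible [FiniteDimensional ℂ V] {ρ : Representation ℂ G V}
    (h : ρ.IsIrreducible) : IsIrrCharacter G ρ.character := by
  let b := Module.finBasis ℂ V
  exact ⟨Module.finrank ℂ V, transportRep ρ b.equivFun, transportRep_irreducible b.equivFun h,
    transportRep_character ρ b.equivFun⟩

/-- `χ(g⁻¹) = conj χ(g)` for an arbitrary finite-dimensional complex representation. -/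
theorem character_inv' [Finite G] [FiniteDimensional ℂ V] (ρ : Representation ℂ G V) (g : G) :
    ρ.character g⁻¹ = conj (ρ.character g) := by
  let b := Module.finBasis ℂ V
  rw [← transportRep_character ρ b.equivFun]
  exact character_inv _ g


/-- The operator `∑ f(g) ρ(g⁻¹)`. -/
noncomputable def classOp [Fintype G] (f : G → ℂ) (ρ : Representation ℂ G V) : V →ₗ[ℂ] V :=
  ∑ g : G, f g • ρ g⁻¹

theorem classOp_apply [Fintype G] (f : G → ℂ) (ρ : Representation ℂ G V) (v : V) :
    classOp f ρ v = ∑ g : G, f g • ρ g⁻¹ v := by
  simp [classOp, LinearMap.sum_apply]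

theorem classOp_comm [Fintype G] {f : G → ℂ} (hf : IsClassFunction G f) (ρ : Representation ℂ G V)
    (h : G) (v : V) : classOp f ρ (ρ h v) = ρ h (classOp f ρ v) := by
  rw [classOp_apply, classOp_apply, map_sum]
  apply Fintype.sum_equiv (MulAut.conj h⁻¹).toEquiv
  intro g
  simp only [MulEquiv.toEquiv_eq_coe, EquivLike.coe_coe, MulAut.conj_apply, map_smul]
  rw [hf g h⁻¹]
  congr 1
  rw [← Module.End.mul_apply, ← Module.End.mul_apply, ← map_mul, ← map_mul]
  congr 2
  group

theorem trace_classOp [Fintype G] (f : G → ℂ) (ρ : Representation ℂ G V) :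
    LinearMap.trace ℂ V (classOp f ρ) = ∑ g : G, f g * ρ.character g⁻¹ := by
  simp [classOp, map_sum, Representation.character]


theorem classOp_irreducible_eq_zero [Fintype G] [FiniteDimensional ℂ V] {f : G → ℂ}
    (hf : IsClassFunction G f) {ρ : Representation ℂ G V} (hρ : ρ.IsIrreducible)
    (h0 : classInner f ρ.character = 0) : classOp f ρ = 0 := by
  obtain ⟨c, hc⟩ := schur_scalar hρ (classOp f ρ) (classOp_comm hf ρ)
  have hnt : Nontrivial V := irreducible_nontrivial hρ
  have hT : classOp f ρ = c • LinearMap.id := by
    ext v; rw [hc v]; rfl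
  have htr : LinearMap.trace ℂ V (classOp f ρ) = 0 := by
    rw [trace_classOp]
    unfold classInner at h0
    have hcard : (Nat.card G : ℂ) ≠ 0 := Nat.cast_ne_zero.mpr Nat.card_pos.ne'
    rcases mul_eq_zero.mp h0 with h1 | h1
    · exact absurd (inv_eq_zero.mp h1) hcard
    · rw [← h1]
      apply Finset.sum_congr rfl
      intro g _
      rw [character_inv']
  rw [hT, map_smul, LinearMap.trace_id, smul_eq_mul] at htr
  have hfr : (Module.finrank ℂ V : ℂ) ≠ 0 := Nat.cast_ne_zero.mpr (Module.finrank_pos).ne'
  have hc0 : c = 0 := by
    rcases mul_eq_zero.mp htr with h1 | h1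
    · exact h1
    · exact absurd h1 hfr
  rw [hT, hc0, zero_smul]

theorem classOp_sub [Fintype G] (f : G → ℂ) {ρ : Representation ℂ G V} (W : Subrepresentation ρ)
    (w : W.toSubmodule) : ((classOp f W.toRepresentation w : W.toSubmodule) : V) = classOp f ρ w := by
  rw [classOp_apply, classOp_apply]
  rw [Submodule.coe_sum]
  apply Finset.sum_congr rfl
  intro g _
  rfl

theorem classOp_eq_zero_aux [Fintype G] {f : G → ℂ} (hf : IsClassFunction G f)
    (h0 : ∀ χ, IsIrrCharacter G χ → classInner f χ = 0) :
    ∀ (n : ℕ) (V : Type u) [AddCommGroup V] [Module ℂ V] [FiniteDimensional ℂ V]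
      (ρ : Representation ℂ G V), Module.finrank ℂ V = n → classOp f ρ = 0 := by
  intro n
  induction n using Nat.strong_induction_on with
  | _ n ih =>
    intro V _ _ _ ρ hn
    by_cases hirr : ρ.IsIrreducible
    · exact classOp_irreducible_eq_zero hf hirr (h0 _ (isIrrCharacter_of_irreducible hirr))
    · by_cases hnt : Nontrivial V
      · -- get a proper nonzero subrepresentation
        have hex : ∃ W : Subrepresentation ρ, W ≠ ⊥ ∧ W ≠ ⊤ := by
          by_contra hcon
          push Not at hcon
          apply hirr
          refine { exists_pair_ne := ⟨⊥, ⊤, ?_⟩, eq_bot_or_eq_top := ?_ }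
          · intro heq
            have h1 : (⊥ : Submodule ℂ V) = ⊤ := congrArg Subrepresentation.toSubmodule heq
            exact bot_ne_top h1
          · intro W
            by_cases hW : W = ⊥
            · left; exact hW
            · right; exact hcon W hW
        obtain ⟨W, hWb, hWt⟩ := hex
        have hcardne : NeZero (Nat.card G : ℂ) := ⟨Nat.cast_ne_zero.mpr Nat.card_pos.ne'⟩
        obtain ⟨W', hW'⟩ := exists_isCompl W
        have hsup : W.toSubmodule ⊔ W'.toSubmodule = ⊤ := by
          have := hW'.sup_eq_top
          exact congrArg Subrepresentation.toSubmodule this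
        have hinf : W.toSubmodule ⊓ W'.toSubmodule = ⊥ := by
          have := hW'.inf_eq_bot
          exact congrArg Subrepresentation.toSubmodule this
        have hWt' : W.toSubmodule ≠ ⊤ := fun h => hWt (Subrepresentation.toSubmodule_injective h)
        have hWb' : W.toSubmodule ≠ ⊥ := fun h => hWb (Subrepresentation.toSubmodule_injective h)
        have hW't : W'.toSubmodule ≠ ⊤ := by
          intro h
          rw [h, inf_top_eq] at hinf
          exact hWb' hinf
        have h1 : Module.finrank ℂ W.toSubmodule < n := by
          rw [← hn]; exact Submodule.finrank_lt hWt'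
        have h2 : Module.finrank ℂ W'.toSubmodule < n := by
          rw [← hn]; exact Submodule.finrank_lt hW't
        have e1 := ih _ h1 W.toSubmodule W.toRepresentation rfl
        have e2 := ih _ h2 W'.toSubmodule W'.toRepresentation rfl
        ext v
        have hv : v ∈ W.toSubmodule ⊔ W'.toSubmodule := by rw [hsup]; trivial
        obtain ⟨w, hw, w', hw', rfl⟩ := Submodule.mem_sup.mp hv
        rw [map_add]
        have := classOp_sub f W ⟨w, hw⟩
        rw [e1] at this
        have hh := classOp_sub f W' ⟨w', hw'⟩
        rw [e2] at hh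
        simp only [LinearMap.zero_apply, ZeroMemClass.coe_zero] at this hh
        rw [← this, ← hh]
        simp
      · rw [not_nontrivial_iff_subsingleton] at hnt
        ext v
        exact Subsingleton.elim _ _

end Cfsg.Agent.Lib.Helper8
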