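import Mathlib
import Cfsg.Agent.Lib.Helper8.CharComplete

set_option autoImplicit false

namespace Cfsg.Agent.Lib.Helper8
open Cfsg
open scoped ComplexConjugate

universe u
variable {G : Type u} [Group G]

theorem classFunction_eq_zero [Fintype G] {f : G → ℂ} (hf : IsClassFunction G f)
    (h0 : ∀ χ, IsIrrCharacter G χ → classInner f χ = 0) : f = 0 := by
  classical
  have h := classOp_eq_zero_aux hf h0 _ (MonoidAlgebra ℂ G) (Representation.leftRegular ℂ G) rfl
  ext x
  have h1 := LinearMap.congr_fun h (MonoidAlgebra.single 1 1)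
  rw [classOp_apply] at h1
  simp only [Representation.ofMulAction_single, smul_eq_mul, mul_one, LinearMap.zero_apply] at h1
  have h2 := congrArg (fun y => y.coeff x⁻¹) h1
  simp only [MonoidAlgebra.coeff_sum] at h2
  simp [MonoidAlgebra.coeff_single, Finsupp.single_apply] at h2
  simpa using h2

theorem isClassFunction_of_isCharacter {χ : G → ℂ} (hχ : IsCharacter G χ) : IsClassFunction G χ := by
  intro g h
  obtain ⟨n, ρ, rfl⟩ := hχ
  exact Representation.char_conj ρ g h

theorem classInner_sub_left [Fintype G] (f₁ f₂ ψ : G → ℂ) :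
    classInner (f₁ - f₂) ψ = classInner f₁ ψ - classInner f₂ ψ := by
  unfold classInner
  rw [← mul_sub, ← Finset.sum_sub_distrib]
  congr 1
  apply Finset.sum_congr rfl
  intro g _
  simp only [Pi.sub_apply]
  ring

/-- Completeness: every class function is the combination of the irreducible characters with
coefficients the inner products. -/
theorem classFunction_eq_sum [Fintype G] [Fintype (IrrCharacter G)] {ψ : G → ℂ}
    (hψ : IsClassFunction G ψ) : ψ = ∑ χ : IrrCharacter G, classInner ψ χ.1 • χ.1 := by
  classical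
  set φ : G → ℂ := fun g => ∑ χ : IrrCharacter G, classInner ψ χ.1 * χ.1 g with hφ
  have hφ' : (∑ χ : IrrCharacter G, classInner ψ χ.1 • χ.1) = φ := by
    ext g
    simp [hφ, Finset.sum_apply]
  rw [hφ']
  have hcf : IsClassFunction G (ψ - φ) := by
    intro g h
    simp only [Pi.sub_apply, hφ]
    rw [hψ g h]
    congr 1
    apply Finset.sum_congr rfl
    intro χ _
    rw [isClassFunction_of_isCharacter (irr_isCharacter χ.2) g h]
  have h0 : ∀ θ, IsIrrCharacter G θ → classInner (ψ - φ) θ = 0 := by
    intro θ hθ
    rw [classInner_sub_left, hφ, classInner_sum_left]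
    rw [Finset.sum_eq_single (⟨θ, hθ⟩ : IrrCharacter G)]
    · rw [irr_classInner hθ hθ, if_pos rfl, mul_one, sub_self]
    · intro χ _ hne
      rw [irr_classInner χ.2 hθ, if_neg (fun h => hne (Subtype.ext h)), mul_zero]
    · intro h; exact absurd (Finset.mem_univ _) h
  have := classFunction_eq_zero hcf h0
  exact sub_eq_zero.mp this


/-- The irreducible characters span the functions on conjugacy classes. -/
theorem irr_span_top [Finite G] :
    Submodule.span ℂ (Set.range (fun χ : IrrCharacter G => fun C : ConjClasses G => χ.1 (Quotient.out C))) = ⊤ := by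
  classical
  have : Fintype G := Fintype.ofFinite G
  have := irr_finite (G := G)
  have : Fintype (IrrCharacter G) := Fintype.ofFinite _
  rw [eq_top_iff]
  intro F _
  set ψ : G → ℂ := fun g => F (ConjClasses.mk g) with hψ
  have hcf : IsClassFunction G ψ := by
    intro g h
    simp only [hψ]
    congr 1
    rw [ConjClasses.mk_eq_mk_iff_isConj]
    exact (isConj_iff.mpr ⟨h, rfl⟩).symm
  have h1 := classFunction_eq_sum hcf
  have h2 : F = ∑ χ : IrrCharacter G, classInner ψ χ.1 • (fun C : ConjClasses G => χ.1 (Quotient.out C)) := by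
    ext C
    have h3 := congrFun h1 (Quotient.out C)
    simp only [Finset.sum_apply, Pi.smul_apply, smul_eq_mul] at h3 ⊢
    rw [← h3, hψ]
    simp only
    congr 1
    exact (Quotient.out_eq C).symm
  rw [h2]
  apply Submodule.sum_mem
  intro χ _
  apply Submodule.smul_mem
  apply Submodule.subset_span
  exact ⟨χ, rfl⟩

theorem card_irr_eq [Finite G] : Nat.card (IrrCharacter G) = Nat.card (ConjClasses G) := by
  classical
  have : Fintype G := Fintype.ofFinite G
  have := irr_finite (G := G)
  have : Fintype (IrrCharacter G) := Fintype.ofFinite _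
  let b := Module.Basis.mk (irr_linearIndependent (G := G)) (by rw [irr_span_top])
  have h := Module.finrank_eq_card_basis b
  rw [Module.finrank_fintype_fun_eq_card] at h
  rw [Nat.card_eq_fintype_card, Nat.card_eq_fintype_card]
  exact h.symm


/-- Second orthogonality relation. -/
theorem irr_sum_mul_conj [Fintype G] [Fintype (IrrCharacter G)] (g h : G) [Decidable (IsConj g h)] :
    ∑ χ : IrrCharacter G, χ.1 g * conj (χ.1 h) =
      if IsConj g h then (Nat.card (Subgroup.centralizer ({h} : Set G)) : ℂ) else 0 := by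
  classical
  set O : Set G := MulAction.orbit (ConjAct G) h with hO
  have hmemO : ∀ x : G, x ∈ O ↔ IsConj x h := by
    intro x
    rw [hO, ConjAct.mem_orbit_conjAct]
  set ψ : G → ℂ := fun x => if x ∈ O then 1 else 0 with hψ
  have hcf : IsClassFunction G ψ := by
    intro x y
    simp only [hψ]
    have : (y * x * y⁻¹ ∈ O) ↔ x ∈ O := by
      rw [hmemO, hmemO]
      have hc : IsConj x (y * x * y⁻¹) := isConj_iff.mpr ⟨y, rfl⟩
      exact ⟨fun h1 => hc.trans h1, fun h1 => hc.symm.trans h1⟩
    simp only [this]
  have hinner : ∀ χ : IrrCharacter G, classInner ψ χ.1 =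
      (Nat.card G : ℂ)⁻¹ * ((O.ncard : ℂ) * conj (χ.1 h)) := by
    intro χ
    unfold classInner
    congr 1
    have : ∀ x : G, ψ x * conj (χ.1 x) = if x ∈ O then conj (χ.1 h) else 0 := by
      intro x
      simp only [hψ]
      by_cases hx : x ∈ O
      · rw [if_pos hx, if_pos hx, one_mul]
        congr 1
        exact character_isConj (irr_isCharacter χ.2) ((hmemO x).mp hx)
      · rw [if_neg hx, if_neg hx, zero_mul]
    simp_rw [this]
    rw [← Finset.sum_filter, Finset.sum_const, nsmul_eq_mul]
    congr 2
    rw [Set.ncard_eq_toFinset_card']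
    simp
  have h1 := congrFun (classFunction_eq_sum hcf) g
  simp only [Finset.sum_apply, Pi.smul_apply, smul_eq_mul] at h1
  simp_rw [hinner] at h1
  have hcard := card_orbit_mul_card_centralizer h
  have hcard' : (O.ncard : ℂ) * (Nat.card (Subgroup.centralizer ({h} : Set G)) : ℂ) = (Nat.card G : ℂ) := by
    rw [hO]; exact_mod_cast hcard
  have hGne : (Nat.card G : ℂ) ≠ 0 := Nat.cast_ne_zero.mpr Nat.card_pos.ne'
  have hOne : (O.ncard : ℂ) ≠ 0 := by
    intro h0; rw [h0, zero_mul] at hcard'; exact hGne hcard'.symm
  have h2 : ∑ χ : IrrCharacter G, χ.1 g * conj (χ.1 h) =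
      (Nat.card (Subgroup.centralizer ({h} : Set G)) : ℂ) * ψ g := by
    rw [h1, Finset.mul_sum]
    apply Finset.sum_congr rfl
    intro χ _
    rw [← hcard']
    field_simp
  rw [h2]
  simp only [hψ]
  by_cases hgh : IsConj g h
  · rw [if_pos hgh, if_pos ((hmemO g).mpr hgh), mul_one]
  · rw [if_neg hgh, if_neg (fun hx => hgh ((hmemO g).mp hx)), mul_zero]

end Cfsg.Agent.Lib.Helper8
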