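import Mathlib

set_option autoImplicit false

namespace Cfsg.Agent.Lib.Helper8

open Polynomial

variable {V : Type*} [AddCommGroup V] [Module ℂ V] [FiniteDimensional ℂ V]

theorem eigenvalue_pow_eq_one {f : Module.End ℂ V} {m : ℕ} (hf : f ^ m = 1) {μ : ℂ}
    (hμ : f.HasEigenvalue μ) : μ ^ m = 1 := by
  obtain ⟨v, hv⟩ := hμ.exists_hasEigenvector
  have h1 := hv.pow_apply m
  rw [hf] at h1
  have h2 : (μ ^ m - 1) • v = 0 := by
    rw [sub_smul, ← h1, one_smul]
    simp
  rcases smul_eq_zero.mp h2 with h3 | h3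
  · exact sub_eq_zero.mp h3
  · exact absurd h3 hv.2

theorem root_pow_eq_one {f : Module.End ℂ V} {m : ℕ} (hf : f ^ m = 1) {μ : ℂ}
    (hμ : μ ∈ f.charpoly.roots) : μ ^ m = 1 :=
  eigenvalue_pow_eq_one hf ((Module.End.hasEigenvalue_iff_isRoot_charpoly f μ).mpr (mem_roots'.mp hμ).2)

theorem trace_eq_roots_sum (f : Module.End ℂ V) : LinearMap.trace ℂ V f = f.charpoly.roots.sum :=
  Module.End.trace_eq_sum_roots_charpoly_of_splits (IsAlgClosed.splits f.charpoly)

theorem card_roots_charpoly (f : Module.End ℂ V) :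
    Multiset.card f.charpoly.roots = Module.finrank ℂ V := by
  rw [← (IsAlgClosed.splits f.charpoly).natDegree_eq_card_roots, LinearMap.charpoly_natDegree]

theorem isSemisimple_of_pow_eq_one {f : Module.End ℂ V} {m : ℕ} (hm : 0 < m) (hf : f ^ m = 1) :
    f.IsSemisimple := by
  apply Module.End.isSemisimple_of_squarefree_aeval_eq_zero (p := X ^ m - 1)
  · apply Separable.squarefree
    have : (X ^ m - 1 : ℂ[X]) = X ^ m - C 1 := by simp
    rw [this]
    exact separable_X_pow_sub_C (1 : ℂ) (Nat.cast_ne_zero.mpr hm.ne') one_ne_zero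
  · simp [hf]

/-- A semisimple endomorphism all of whose eigenvalues equal `ω` is `ω • 1`. -/
theorem eq_smul_of_eigenvalues {f : Module.End ℂ V} (hss : f.IsSemisimple) {ω : ℂ}
    (h : ∀ μ : ℂ, f.HasEigenvalue μ → μ = ω) : ∀ v : V, f v = ω • v := by
  have htop := hss.iSup_eigenspace_eq_top
  have hle : ⨆ μ : ℂ, f.eigenspace μ ≤ f.eigenspace ω := by
    apply iSup_le
    intro μ
    by_cases hμ : f.HasEigenvalue μ
    · rw [h μ hμ]
    · rw [Module.End.hasEigenvalue_iff, not_not] at hμ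
      rw [hμ]; exact bot_le
  rw [htop] at hle
  intro v
  exact Module.End.mem_eigenspace_iff.mp (hle (Submodule.mem_top))

theorem eq_smul_of_roots {f : Module.End ℂ V} (hss : f.IsSemisimple) {ω : ℂ}
    (h : ∀ μ ∈ f.charpoly.roots, μ = ω) : ∀ v : V, f v = ω • v := by
  apply eq_smul_of_eigenvalues hss
  intro μ hμ
  apply h
  rw [mem_roots']
  exact ⟨(LinearMap.charpoly_monic f).ne_zero, (Module.End.hasEigenvalue_iff_isRoot_charpoly f μ).mp hμ⟩

theorem norm_eq_one_of_pow_eq_one' {μ : ℂ} {m : ℕ} (hm : 0 < m) (h : μ ^ m = 1) : ‖μ‖ = 1 := by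
  have h1 : ‖μ‖ ^ m = 1 := by rw [← norm_pow, h, norm_one]
  exact (pow_eq_one_iff_of_nonneg (norm_nonneg μ) hm.ne').mp h1

/-- Representation version. -/
theorem rep_pow_orderOf {G : Type*} [Group G] (ρ : Representation ℂ G V) (g : G) :
    (ρ g) ^ (orderOf g) = 1 := by
  rw [← map_pow, pow_orderOf_eq_one, map_one]

theorem multiset_all_zero_of_sum_zero (s : Multiset ℝ) (hnn : ∀ x ∈ s, 0 ≤ x) (hsum : s.sum = 0) :
    ∀ x ∈ s, x = 0 := by
  induction s using Multiset.induction_on with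
  | empty => intro x hx; exact absurd hx (Multiset.notMem_zero x)
  | cons a s ih =>
    rw [Multiset.sum_cons] at hsum
    have ha : 0 ≤ a := hnn a (Multiset.mem_cons_self a s)
    have hs : 0 ≤ s.sum := Multiset.sum_nonneg (fun x hx => hnn x (Multiset.mem_cons_of_mem hx))
    have ha0 : a = 0 := by linarith
    have hs0 : s.sum = 0 := by linarith
    intro x hx
    rcases Multiset.mem_cons.mp hx with rfl | hx
    · exact ha0
    · exact ih (fun y hy => hnn y (Multiset.mem_cons_of_mem hy)) hs0 x hx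

theorem sum_one_sub_re (c : ℂ) (s : Multiset ℂ) :
    (s.map (fun μ => 1 - (c * μ).re)).sum = (Multiset.card s : ℝ) - (c * s.sum).re := by
  induction s using Multiset.induction_on with
  | empty => simp
  | cons a t ih =>
    simp only [Multiset.map_cons, Multiset.sum_cons, Multiset.card_cons, Nat.cast_add, Nat.cast_one,
      mul_add, Complex.add_re]
    rw [ih]
    ring

/-- If unimodular complex numbers `μ ∈ s` satisfy `‖∑ μ‖ = card s` then all of them are equal to a common `u`. -/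
theorem all_eq_of_norm_sum_eq_card (s : Multiset ℂ) (hs : ∀ μ ∈ s, ‖μ‖ = 1)
    (h : ‖s.sum‖ = (Multiset.card s : ℝ)) (hne : s ≠ 0) : ∃ u : ℂ, ‖u‖ = 1 ∧ ∀ μ ∈ s, μ = u := by
  have hcard : 0 < (Multiset.card s : ℝ) := by
    have : 0 < Multiset.card s := Multiset.card_pos.mpr hne
    exact_mod_cast this
  have hSne : s.sum ≠ 0 := by
    intro h0
    rw [h0, norm_zero] at h
    linarith
  have hnS : (‖s.sum‖ : ℂ) ≠ 0 := by
    rw [Complex.ofReal_ne_zero]; exact norm_ne_zero_iff.mpr hSne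
  set u : ℂ := s.sum / (‖s.sum‖ : ℂ) with hu
  have hun : ‖u‖ = 1 := by
    rw [hu, norm_div, Complex.norm_real, norm_norm, div_self (norm_ne_zero_iff.mpr hSne)]
  have huu : (starRingEnd ℂ) u * u = 1 := by
    rw [mul_comm, Complex.mul_conj, Complex.normSq_eq_norm_sq, hun]; simp
  refine ⟨u, hun, ?_⟩
  have hre : ((starRingEnd ℂ) u * s.sum).re = ‖s.sum‖ := by
    have : (starRingEnd ℂ) u * s.sum = (‖s.sum‖ : ℂ) := by
      have h1 : s.sum = (‖s.sum‖ : ℂ) * u := by rw [hu]; field_simp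
      conv_lhs => rw [h1]
      rw [mul_comm, mul_assoc, mul_comm u, huu, mul_one]
    rw [this, Complex.ofReal_re]
  have hsum : (s.map (fun μ => 1 - ((starRingEnd ℂ) u * μ).re)).sum = 0 := by
    rw [sum_one_sub_re, hre, h, sub_self]
  have hnn : ∀ x ∈ s.map (fun μ => 1 - ((starRingEnd ℂ) u * μ).re), 0 ≤ x := by
    intro x hx
    obtain ⟨μ, hμ, rfl⟩ := Multiset.mem_map.mp hx
    have h1 : ((starRingEnd ℂ) u * μ).re ≤ ‖(starRingEnd ℂ) u * μ‖ := Complex.re_le_norm _
    rw [norm_mul, RCLike.norm_conj, hun, hs μ hμ, mul_one] at h1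
    linarith
  have hall := multiset_all_zero_of_sum_zero _ hnn hsum
  intro μ hμ
  have h0 := hall _ (Multiset.mem_map.mpr ⟨μ, hμ, rfl⟩)
  -- conj u * μ has norm 1 and real part 1, hence equals 1
  set w := (starRingEnd ℂ) u * μ with hw
  have hwn : ‖w‖ = 1 := by rw [hw, norm_mul, RCLike.norm_conj, hun, hs μ hμ, mul_one]
  have hwre : w.re = 1 := by linarith
  have hwim : w.im = 0 := by
    have h2 : w.re ^ 2 + w.im ^ 2 = 1 := by
      have := Complex.sq_norm w
      rw [hwn, Complex.normSq_apply] at this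
      nlinarith [this]
    rw [hwre] at h2
    have : w.im ^ 2 = 0 := by linarith
    exact pow_eq_zero_iff (by norm_num) |>.mp this
  have hw1 : w = 1 := Complex.ext (by simp [hwre]) (by simp [hwim])
  -- μ = u * (conj u * μ) = u
  have : μ = u * w := by
    rw [hw, ← mul_assoc, mul_comm u, huu, one_mul]
  rw [this, hw1, mul_one]

end Cfsg.Agent.Lib.Helper8
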