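import Mathlib
import Cfsg.Agent.Lib.Helper8.CharComplete2
import Cfsg.Agent.Lib.Helper8.FinOrdEnd

set_option autoImplicit false

namespace Cfsg.Agent.Lib.Helper8
open Cfsg
open scoped ComplexConjugate

variable {G : Type*} [Group G]
variable {V : Type*} [AddCommGroup V] [Module ℂ V]

theorem character_isIntegral [Finite G] [FiniteDimensional ℂ V] (ρ : Representation ℂ G V) (g : G) :
    IsIntegral ℤ (ρ.character g) := by
  have hm : 0 < orderOf g := orderOf_pos g
  have hpow := rep_pow_orderOf ρ g
  have h1 : ρ.character g = (ρ g).charpoly.roots.sum := trace_eq_roots_sum (ρ g)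
  rw [h1]
  apply IsIntegral.multiset_sum
  intro μ hμ
  apply IsIntegral.of_pow hm
  rw [root_pow_eq_one hpow hμ]
  exact isIntegral_one

theorem isCharacter_isIntegral [Finite G] {χ : G → ℂ} (hχ : IsCharacter G χ) (g : G) :
    IsIntegral ℤ (χ g) := by
  obtain ⟨n, ρ, rfl⟩ := hχ
  exact character_isIntegral ρ g

/-- If `∑ c(g) ρ(g)` with algebraic-integer coefficients acts as the scalar `ω` on a nonzero space,
then `ω` is an algebraic integer. -/
theorem scalar_isIntegral [Fintype G] [Nontrivial V] (ρ : Representation ℂ G V) (c : G → ℂ)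
    (hc : ∀ g, IsIntegral ℤ (c g)) (ω : ℂ) (h : ∑ g : G, c g • ρ g = ω • (LinearMap.id : V →ₗ[ℂ] V)) :
    IsIntegral ℤ ω := by
  classical
  let R := integralClosure ℤ ℂ
  let a : MonoidAlgebra R G := ∑ g : G, MonoidAlgebra.single g (⟨c g, hc g⟩ : R)
  let φ : MonoidAlgebra R G →ₐ[R] Module.End ℂ V := MonoidAlgebra.lift R (Module.End ℂ V) G ρ
  have ha : IsIntegral R a := IsIntegral.of_finite R a
  have hφa : IsIntegral R (φ a) := IsIntegral.map (A := R) φ ha
  have hφ : φ a = algebraMap ℂ (Module.End ℂ V) ω := by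
    have : φ a = ∑ g : G, c g • ρ g := by
      simp only [a, φ, map_sum, MonoidAlgebra.lift_single]
      rfl
    rw [this, h]
    ext v
    simp [Module.algebraMap_end_apply]
  rw [hφ] at hφa
  have hinj : Function.Injective (algebraMap ℂ (Module.End ℂ V)) :=
    FaithfulSMul.algebraMap_injective ℂ (Module.End ℂ V)
  have h1 : IsIntegral R ω := (isIntegral_algebraMap_iff hinj).mp hφa
  exact isIntegral_trans ω h1


theorem classOp_inv [Fintype G] (c : G → ℂ) (ρ : Representation ℂ G V) :
    classOp (fun g => c g⁻¹) ρ = ∑ g : G, c g • ρ g := by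
  unfold classOp
  exact Equiv.sum_comp (Equiv.inv G) (fun g => c g • ρ g)

theorem isClassFunction_inv {c : G → ℂ} (hc : IsClassFunction G c) :
    IsClassFunction G (fun g => c g⁻¹) := by
  intro g h
  have := hc g⁻¹ h
  simp only [mul_inv_rev, inv_inv] at this ⊢
  rw [← this, mul_assoc]

/-- For an irreducible representation and a class function `c` with algebraic-integer values,
`(∑ c(g) χ(g)) / χ(1)` is an algebraic integer. -/
theorem irr_sum_div_degree_isIntegral [Fintype G] [FiniteDimensional ℂ V] {ρ : Representation ℂ G V}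
    (hρ : ρ.IsIrreducible) {c : G → ℂ} (hcf : IsClassFunction G c) (hc : ∀ g, IsIntegral ℤ (c g)) :
    IsIntegral ℤ ((∑ g : G, c g * ρ.character g) / (Module.finrank ℂ V : ℂ)) := by
  have hnt : Nontrivial V := irreducible_nontrivial hρ
  obtain ⟨ω, hω⟩ := schur_scalar hρ (classOp (fun g => c g⁻¹) ρ) (classOp_comm (isClassFunction_inv hcf) ρ)
  have hT : ∑ g : G, c g • ρ g = ω • (LinearMap.id : V →ₗ[ℂ] V) := by
    rw [← classOp_inv]
    ext v; rw [hω v]; rfl
  have hint := scalar_isIntegral ρ c hc ω hT
  have htr : ∑ g : G, c g * ρ.character g = ω * (Module.finrank ℂ V : ℂ) := by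
    have := congrArg (LinearMap.trace ℂ V) hT
    rw [map_sum, map_smul, LinearMap.trace_id, smul_eq_mul] at this
    rw [← this]
    apply Finset.sum_congr rfl
    intro g _
    rw [map_smul, smul_eq_mul]
    rfl
  have hfr : (Module.finrank ℂ V : ℂ) ≠ 0 := Nat.cast_ne_zero.mpr (Module.finrank_pos).ne'
  rw [htr, mul_div_assoc, div_self hfr, mul_one]
  exact hint


theorem ncard_orbit_eq_index [Finite G] (g : G) :
    (MulAction.orbit (ConjAct G) g).ncard = (Subgroup.centralizer ({g} : Set G)).index := by
  have h1 := card_orbit_mul_card_centralizer g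
  have h2 := Subgroup.card_mul_index (Subgroup.centralizer ({g} : Set G))
  rw [← h2, mul_comm] at h1
  exact Nat.eq_of_mul_eq_mul_left Nat.card_pos h1

/-- Sum of a class function times the indicator of a class. -/
theorem sum_class_indicator [Fintype G] [DecidableEq G] (g : G) (F : G → ℂ)
    (hF : ∀ x, IsConj x g → F x = F g) [DecidablePred (fun x => x ∈ MulAction.orbit (ConjAct G) g)] :
    ∑ x : G, (if x ∈ MulAction.orbit (ConjAct G) g then (1 : ℂ) else 0) * F x =
      ((Subgroup.centralizer ({g} : Set G)).index : ℂ) * F g := by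
  have : ∀ x : G, (if x ∈ MulAction.orbit (ConjAct G) g then (1 : ℂ) else 0) * F x =
      if x ∈ MulAction.orbit (ConjAct G) g then F g else 0 := by
    intro x
    by_cases hx : x ∈ MulAction.orbit (ConjAct G) g
    · rw [if_pos hx, if_pos hx, one_mul]
      exact hF x (ConjAct.mem_orbit_conjAct.mp hx)
    · rw [if_neg hx, if_neg hx, zero_mul]
  simp_rw [this]
  rw [← Finset.sum_filter, Finset.sum_const, nsmul_eq_mul, ← ncard_orbit_eq_index,
    Set.ncard_eq_toFinset_card']
  simp

theorem class_mul_char_div_degree_isIntegral [Finite G] [FiniteDimensional ℂ V] {ρ : Representation ℂ G V}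
    (hρ : ρ.IsIrreducible) (g : G) :
    IsIntegral ℤ (((Subgroup.centralizer ({g} : Set G)).index : ℂ) * ρ.character g /
      (Module.finrank ℂ V : ℂ)) := by
  classical
  have : Fintype G := Fintype.ofFinite G
  set c : G → ℂ := fun x => if x ∈ MulAction.orbit (ConjAct G) g then (1 : ℂ) else 0 with hc
  have hcf : IsClassFunction G c := by
    intro x y
    simp only [hc]
    have : (y * x * y⁻¹ ∈ MulAction.orbit (ConjAct G) g) ↔ x ∈ MulAction.orbit (ConjAct G) g := by
      rw [ConjAct.mem_orbit_conjAct, ConjAct.mem_orbit_conjAct]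
      have hcc : IsConj x (y * x * y⁻¹) := isConj_iff.mpr ⟨y, rfl⟩
      exact ⟨fun h1 => hcc.trans h1, fun h1 => hcc.symm.trans h1⟩
    simp only [this]
  have hci : ∀ x, IsIntegral ℤ (c x) := by
    intro x
    simp only [hc]
    split_ifs
    · exact isIntegral_one
    · exact isIntegral_zero
  have := irr_sum_div_degree_isIntegral hρ hcf hci
  rw [sum_class_indicator g ρ.character] at this
  · exact this
  · intro x hx
    exact character_isConj (isCharacter_of_rep ρ) hx

theorem degree_dvd_card [Finite G] [FiniteDimensional ℂ V] {ρ : Representation ℂ G V}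
    (hρ : ρ.IsIrreducible) : Module.finrank ℂ V ∣ Nat.card G := by
  classical
  have : Fintype G := Fintype.ofFinite G
  have hirr := isIrrCharacter_of_irreducible hρ
  set c : G → ℂ := fun x => conj (ρ.character x) with hc
  have hcf : IsClassFunction G c := by
    intro x y
    simp only [hc]
    rw [isClassFunction_of_isCharacter (isCharacter_of_rep ρ) x y]
  have hci : ∀ x, IsIntegral ℤ (c x) := by
    intro x
    simp only [hc]
    rw [← character_inv']
    have hm : 0 < orderOf x⁻¹ := orderOf_pos _
    have hpow := rep_pow_orderOf ρ x⁻¹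
    have h1 : ρ.character x⁻¹ = (ρ x⁻¹).charpoly.roots.sum := trace_eq_roots_sum (ρ x⁻¹)
    rw [h1]
    apply IsIntegral.multiset_sum
    intro μ hμ
    apply IsIntegral.of_pow hm
    rw [root_pow_eq_one hpow hμ]
    exact isIntegral_one
  have h1 := irr_sum_div_degree_isIntegral hρ hcf hci
  have h2 : ∑ g : G, c g * ρ.character g = (Nat.card G : ℂ) := by
    have h3 := irr_classInner hirr hirr
    rw [if_pos rfl] at h3
    unfold classInner at h3
    have hGne : (Nat.card G : ℂ) ≠ 0 := Nat.cast_ne_zero.mpr Nat.card_pos.ne'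
    have h4 : ∑ g : G, ρ.character g * conj (ρ.character g) = (Nat.card G : ℂ) := by
      field_simp at h3
      exact h3
    rw [← h4]
    apply Finset.sum_congr rfl
    intro g _
    simp only [hc]
    ring
  rw [h2] at h1
  -- a rational algebraic integer is an integer
  have hfr : (Module.finrank ℂ V : ℚ) ≠ 0 := by
    have hnt : Nontrivial V := irreducible_nontrivial hρ
    exact Nat.cast_ne_zero.mpr (Module.finrank_pos).ne'
  have h5 : IsIntegral ℤ (algebraMap ℚ ℂ ((Nat.card G : ℚ) / (Module.finrank ℂ V : ℚ))) := by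
    convert h1 using 1
    simp
  have h6 : IsIntegral ℤ ((Nat.card G : ℚ) / (Module.finrank ℂ V : ℚ)) :=
    (isIntegral_algebraMap_iff (algebraMap ℚ ℂ).injective).mp h5
  obtain ⟨y, hy⟩ := IsIntegrallyClosed.isIntegral_iff.mp h6
  have h7 : (y : ℚ) * (Module.finrank ℂ V : ℚ) = (Nat.card G : ℚ) := by
    have : (y : ℚ) = (Nat.card G : ℚ) / (Module.finrank ℂ V : ℚ) := hy
    rw [this]
    field_simp
  have h8 : y * (Module.finrank ℂ V : ℤ) = (Nat.card G : ℤ) := by exact_mod_cast h7
  have h9 : (Module.finrank ℂ V : ℤ) ∣ (Nat.card G : ℤ) := ⟨y, by rw [← h8, mul_comm]⟩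
  exact Int.natCast_dvd_natCast.mp h9

end Cfsg.Agent.Lib.Helper8
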