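import Mathlib

set_option autoImplicit false

namespace Cfsg.Agent.Lib.Helper8

open Polynomial

theorem multiset_prod_norm_le_one (s : Multiset ℂ) (hs : ∀ x ∈ s, ‖x‖ ≤ 1) : ‖s.prod‖ ≤ 1 := by
  induction s using Multiset.induction_on with
  | empty => simp
  | cons a t ih =>
    rw [Multiset.prod_cons, norm_mul]
    have h1 := hs a (Multiset.mem_cons_self a t)
    have h2 := ih (fun x hx => hs x (Multiset.mem_cons_of_mem hx))
    calc ‖a‖ * ‖t.prod‖ ≤ 1 * 1 := mul_le_mul h1 h2 (norm_nonneg _) zero_le_one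
      _ = 1 := one_mul 1

theorem multiset_sum_norm_le_card (s : Multiset ℂ) (hs : ∀ x ∈ s, ‖x‖ ≤ 1) :
    ‖s.sum‖ ≤ (Multiset.card s : ℝ) := by
  induction s using Multiset.induction_on with
  | empty => simp
  | cons a t ih =>
    rw [Multiset.sum_cons, Multiset.card_cons]
    have h1 := hs a (Multiset.mem_cons_self a t)
    have h2 := ih (fun x hx => hs x (Multiset.mem_cons_of_mem hx))
    push_cast
    calc ‖a + t.sum‖ ≤ ‖a‖ + ‖t.sum‖ := norm_add_le _ _
      _ ≤ (Multiset.card t : ℝ) + 1 := by linarith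

/-- Galois conjugates of an average of roots of unity have absolute value at most one. -/
theorem conj_norm_le_one {m : ℕ} (hm : 0 < m) (s : Multiset ℂ) (hs : ∀ ζ ∈ s, ζ ^ m = 1) (β : ℂ)
    (hβ : IsConjRoot ℚ (s.sum / (Multiset.card s : ℂ)) β) : ‖β‖ ≤ 1 := by
  classical
  set n := Multiset.card s with hn
  by_cases hn0 : n = 0
  · rw [hn0] at hβ
    simp only [Nat.cast_zero, div_zero] at hβ
    rw [isConjRoot_zero_iff_eq_zero] at hβ
    rw [hβ]; simp
  let L := algebraicClosure ℚ ℂ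
  have hmemL : ∀ ζ ∈ s, ζ ∈ L := by
    intro ζ hζ
    rw [mem_algebraicClosure_iff']
    apply IsIntegral.of_pow hm
    rw [hs ζ hζ]
    exact isIntegral_one
  set s' : Multiset L := s.pmap (fun z hz => (⟨z, hz⟩ : L)) hmemL with hs'
  have hs'map : s'.map (fun x : L => (x : ℂ)) = s := by
    rw [hs', Multiset.map_pmap]
    simp only
    rw [Multiset.pmap_eq_map]
    exact Multiset.map_id s
  have hcard' : Multiset.card s' = n := by rw [hs']; exact Multiset.card_pmap _ _ _
  set α' : L := s'.sum / (n : L) with hα'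
  have hαc : ((α' : L) : ℂ) = s.sum / (n : ℂ) := by
    rw [hα']
    push_cast
    congr 1
    rw [← hs'map]
  have hαint : IsIntegral ℚ (s.sum / (n : ℂ)) := by
    rw [← hαc]
    exact (mem_algebraicClosure_iff').mp α'.2
  have hβint : IsIntegral ℚ β := (hβ.isIntegral_iff).mp hαint
  set β' : L := ⟨β, (mem_algebraicClosure_iff').mpr hβint⟩ with hβ'
  have hconj : IsConjRoot ℚ α' β' := by
    have : IsConjRoot ℚ (L.val α') (L.val β') := by
      show IsConjRoot ℚ ((α' : L) : ℂ) β
      rw [hαc]; exact hβ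
    exact (isConjRoot_algHom_iff (f := L.val)).mp this
  have hcl : IsAlgClosure ℚ L := algebraicClosure.isAlgClosure ℚ ℂ
  have hnormal : Normal ℚ L := IsAlgClosure.normal ℚ L
  obtain ⟨σ, hσ⟩ := hconj.exists_algEquiv
  have hβσ : β' = σ.symm α' := by rw [← hσ]; simp
  have hβeq : β = (((s'.map σ.symm).map (fun x : L => (x : ℂ))).sum) / (n : ℂ) := by
    have h1 : β = ((β' : L) : ℂ) := rfl
    rw [h1, hβσ, hα', map_div₀, map_natCast]
    push_cast
    congr 1
    rw [map_multiset_sum]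
    exact map_multiset_sum (algebraMap L ℂ) _
  rw [hβeq, norm_div]
  have hnpos : (0 : ℝ) < n := by exact_mod_cast Nat.pos_of_ne_zero hn0
  rw [Complex.norm_natCast, div_le_one hnpos]
  have hcard2 : Multiset.card ((s'.map σ.symm).map (fun x : L => (x : ℂ))) = n := by
    rw [Multiset.card_map, Multiset.card_map, hcard']
  rw [← hcard2]
  apply multiset_sum_norm_le_card
  intro x hx
  obtain ⟨y, hy, rfl⟩ := Multiset.mem_map.mp hx
  obtain ⟨z, hz, rfl⟩ := Multiset.mem_map.mp hy
  have hzm : z ^ m = 1 := by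
    have hzc : ((z : L) : ℂ) ∈ s := by
      rw [← hs'map]; exact Multiset.mem_map.mpr ⟨z, hz, rfl⟩
    have := hs _ hzc
    apply Subtype.ext
    push_cast
    exact this
  have h2 : (((σ.symm z : L) : ℂ)) ^ m = 1 := by
    have : (σ.symm z) ^ m = 1 := by rw [← map_pow, hzm, map_one]
    have h3 := congrArg (fun x : L => (x : ℂ)) this
    simpa using h3
  have h3 : ‖((σ.symm z : L) : ℂ)‖ ^ m = 1 := by rw [← norm_pow, h2, norm_one]
  exact le_of_eq ((pow_eq_one_iff_of_nonneg (norm_nonneg _) hm.ne').mp h3)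


/-- An algebraic integer which is an average of roots of unity and has absolute value `< 1` is zero. -/
theorem avg_roots_of_unity_eq_zero {m : ℕ} (hm : 0 < m) (s : Multiset ℂ) (hs : ∀ ζ ∈ s, ζ ^ m = 1)
    (hint : IsIntegral ℤ (s.sum / (Multiset.card s : ℂ)))
    (hlt : ‖s.sum / (Multiset.card s : ℂ)‖ < 1) : s.sum / (Multiset.card s : ℂ) = 0 := by
  classical
  set α : ℂ := s.sum / (Multiset.card s : ℂ) with hα
  have hαQ : IsIntegral ℚ α := hint.tower_top
  set P : ℚ[X] := minpoly ℚ α with hP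
  have hPZ : P = (minpoly ℤ α).map (algebraMap ℤ ℚ) :=
    minpoly.isIntegrallyClosed_eq_field_fractions' ℚ hint
  set P' : ℂ[X] := P.map (algebraMap ℚ ℂ) with hP'
  have hmonic : P'.Monic := (minpoly.monic hαQ).map _
  have hsplit : P'.Splits := IsAlgClosed.splits P'
  have hcoeff := hsplit.coeff_zero_eq_prod_roots_of_monic hmonic
  have hαroot : α ∈ P'.roots := by
    rw [mem_roots hmonic.ne_zero, IsRoot.def, hP', eval_map_algebraMap, hP]
    exact minpoly.aeval ℚ α
  have hle : ∀ β ∈ P'.roots, ‖β‖ ≤ 1 := by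
    intro β hβ
    apply conj_norm_le_one hm s hs β
    rw [isConjRoot_iff_mem_minpoly_aroots hαQ]
    exact hβ
  have hprod : ‖P'.roots.prod‖ ≤ ‖α‖ := by
    obtain ⟨t, ht⟩ := Multiset.exists_cons_of_mem hαroot
    rw [ht, Multiset.prod_cons, norm_mul]
    have h2 : ‖t.prod‖ ≤ 1 := multiset_prod_norm_le_one t (fun x hx => hle x (by rw [ht]; exact Multiset.mem_cons_of_mem hx))
    calc ‖α‖ * ‖t.prod‖ ≤ ‖α‖ * 1 := mul_le_mul_of_nonneg_left h2 (norm_nonneg _)
      _ = ‖α‖ := mul_one _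
  set c : ℤ := (minpoly ℤ α).coeff 0 with hc
  have hc' : P'.coeff 0 = (c : ℂ) := by
    rw [hP', hPZ, coeff_map, coeff_map]
    simp [hc]
  have hcnorm : ‖(c : ℂ)‖ < 1 := by
    rw [← hc', hcoeff, norm_mul, norm_pow, norm_neg, norm_one, one_pow, one_mul]
    exact lt_of_le_of_lt hprod hlt
  have hc0 : c = 0 := by
    rw [Complex.norm_intCast] at hcnorm
    have : |c| < 1 := by exact_mod_cast hcnorm
    exact Int.abs_lt_one_iff.mp this
  have hP0 : P.coeff 0 = 0 := by
    rw [hPZ, coeff_map, ← hc, hc0]; simp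
  exact (minpoly.coeff_zero_eq_zero hαQ).mp hP0

end Cfsg.Agent.Lib.Helper8
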