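import Mathlib
import Cfsg.Agent.Lib.Helper8.CharIntegral
import Cfsg.Agent.Lib.Helper8.GaloisAvg

set_option autoImplicit false

namespace Cfsg.Agent.Lib.Helper8
open Cfsg
open scoped ComplexConjugate

variable {G : Type*} [Group G]
variable {V : Type*} [AddCommGroup V] [Module ℂ V]

theorem norm_character_le [Finite G] [FiniteDimensional ℂ V] (ρ : Representation ℂ G V) (g : G) :
    ‖ρ.character g‖ ≤ (Module.finrank ℂ V : ℝ) := by
  have hm : 0 < orderOf g := orderOf_pos g
  have hpow := rep_pow_orderOf ρ g
  have h1 : ρ.character g = (ρ g).charpoly.roots.sum := trace_eq_roots_sum (ρ g)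
  rw [h1, ← card_roots_charpoly (ρ g)]
  apply multiset_sum_norm_le_card
  intro μ hμ
  exact le_of_eq (norm_eq_one_of_pow_eq_one' hm (root_pow_eq_one hpow hμ))

/-- Burnside's lemma on character values for classes of size coprime to the degree. -/
theorem burnside_coprime [Finite G] [FiniteDimensional ℂ V] {ρ : Representation ℂ G V}
    (hρ : ρ.IsIrreducible) (g : G)
    (hcop : Nat.Coprime (Module.finrank ℂ V) (Subgroup.centralizer ({g} : Set G)).index) :
    ρ.character g = 0 ∨ ‖ρ.character g‖ = (Module.finrank ℂ V : ℝ) := by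
  have hnt : Nontrivial V := irreducible_nontrivial hρ
  have hm : 0 < orderOf g := orderOf_pos g
  have hpow := rep_pow_orderOf ρ g
  have h1 : ρ.character g = (ρ g).charpoly.roots.sum := trace_eq_roots_sum (ρ g)
  set s := (ρ g).charpoly.roots with hs
  have hcard : Multiset.card s = Module.finrank ℂ V := card_roots_charpoly (ρ g)
  set n := Module.finrank ℂ V with hn
  set k := (Subgroup.centralizer ({g} : Set G)).index with hk
  have hnpos : 0 < n := Module.finrank_pos
  have hnC : (n : ℂ) ≠ 0 := Nat.cast_ne_zero.mpr hnpos.ne'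
  -- Bezout
  have hbez : (n : ℤ) * Nat.gcdA n k + (k : ℤ) * Nat.gcdB n k = 1 := by
    have := Nat.gcd_eq_gcd_ab n k
    rw [hcop.gcd_eq_one] at this
    exact_mod_cast this.symm
  set a := Nat.gcdA n k
  set b := Nat.gcdB n k
  have hint : IsIntegral ℤ (s.sum / (Multiset.card s : ℂ)) := by
    rw [hcard, ← h1]
    have h2 : ρ.character g / (n : ℂ) = (a : ℂ) * ρ.character g +
        (b : ℂ) * ((k : ℂ) * ρ.character g / (n : ℂ)) := by
      have hb : ((n : ℂ) * (a : ℂ) + (k : ℂ) * (b : ℂ)) = 1 := by exact_mod_cast hbez
      field_simp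
      linear_combination (-(ρ.character g)) * hb
    rw [h2]
    apply IsIntegral.add
    · apply IsIntegral.mul
      · have := isIntegral_algebraMap (R := ℤ) (A := ℂ) (x := a)
        simpa using this
      · exact character_isIntegral ρ g
    · apply IsIntegral.mul
      · have := isIntegral_algebraMap (R := ℤ) (A := ℂ) (x := b)
        simpa using this
      · exact class_mul_char_div_degree_isIntegral hρ g
  by_cases hlt : ‖s.sum / (Multiset.card s : ℂ)‖ < 1
  · left
    have h0 := avg_roots_of_unity_eq_zero hm s (fun ζ hζ => root_pow_eq_one hpow hζ) hint hlt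
    rw [hcard] at h0
    rw [h1]
    rcases div_eq_zero_iff.mp h0 with h | h
    · exact h
    · exact absurd h hnC
  · right
    have hle := norm_character_le ρ g
    rw [hcard, ← h1, norm_div, Complex.norm_natCast] at hlt
    have hnR : (0 : ℝ) < n := by exact_mod_cast hnpos
    rw [div_lt_one hnR] at hlt
    exact le_antisymm hle (not_lt.mp hlt)


theorem irreducible_of_finrank_eq_one (ρ : Representation ℂ G V) (h : Module.finrank ℂ V = 1) :
    ρ.IsIrreducible := by
  have hfd : FiniteDimensional ℂ V := Module.finite_of_finrank_eq_succ h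
  have hnt : Nontrivial V := Module.nontrivial_of_finrank_eq_succ h
  refine { exists_pair_ne := ⟨⊥, ⊤, ?_⟩, eq_bot_or_eq_top := ?_ }
  · intro heq
    have h1 : (⊥ : Submodule ℂ V) = ⊤ := congrArg Subrepresentation.toSubmodule heq
    exact bot_ne_top h1
  · intro W
    by_cases hW : W.toSubmodule = ⊥
    · left; exact Subrepresentation.toSubmodule_injective hW
    · right
      apply Subrepresentation.toSubmodule_injective
      show W.toSubmodule = (⊤ : Submodule ℂ V)
      apply Submodule.eq_top_of_finrank_eq
      have h1 : Module.finrank ℂ W.toSubmodule ≤ 1 := h ▸ Submodule.finrank_le _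
      have h2 : 0 < Module.finrank ℂ W.toSubmodule := by
        rw [Module.finrank_pos_iff]
        exact Submodule.nontrivial_iff_ne_bot.mpr hW
      rw [h]; omega

theorem principal_isIrrCharacter : IsIrrCharacter G (fun _ => (1 : ℂ)) := by
  refine ⟨1, Representation.trivial ℂ G (Fin 1 → ℂ), ?_, ?_⟩
  · apply irreducible_of_finrank_eq_one
    simp
  · ext g
    simp [Representation.character]

theorem finrank_eq_one_of_all_scalar [FiniteDimensional ℂ V] {ρ : Representation ℂ G V}
    (hρ : ρ.IsIrreducible) (h : ∀ x : G, ∃ ω : ℂ, ρ x = ω • (LinearMap.id : V →ₗ[ℂ] V)) :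
    Module.finrank ℂ V = 1 := by
  have hnt : Nontrivial V := irreducible_nontrivial hρ
  obtain ⟨v, hv⟩ := exists_ne (0 : V)
  have hW := irreducible_submodule hρ (Submodule.span ℂ {v}) (by
    intro x w hw
    obtain ⟨ω, hω⟩ := h x
    rw [hω]
    simp only [LinearMap.smul_apply, LinearMap.id_coe, id_eq]
    exact Submodule.smul_mem _ _ hw)
  rcases hW with hW | hW
  · exfalso
    have : v ∈ Submodule.span ℂ {v} := Submodule.mem_span_singleton_self v
    rw [hW, Submodule.mem_bot] at this
    exact hv this
  · have h1 := finrank_span_singleton (K := ℂ) hv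
    rw [hW, finrank_top] at h1
    exact h1

end Cfsg.Agent.Lib.Helper8
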