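import Mathlib
import Cfsg.Prelude.Def_RootSubgroups

set_option autoImplicit false

namespace Cfsg.Agent.Lib.Helper8

open Cfsg

variable {G : Type*} [Group G]

theorem mem_conjBy {A : Subgroup G} {g x : G} : x ∈ conjBy A g ↔ g⁻¹ * x * g ∈ A := by
  unfold conjBy
  rw [Subgroup.mem_map]
  constructor
  · rintro ⟨y, hy, rfl⟩
    simpa [MulAut.conj_apply, mul_assoc] using hy
  · intro h
    exact ⟨g⁻¹ * x * g, h, by simp [MulAut.conj_apply, mul_assoc]⟩

theorem conjBy_conjBy (A : Subgroup G) (g h : G) : conjBy (conjBy A g) h = conjBy A (h * g) := by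
  ext x
  simp only [mem_conjBy]
  simp [mul_assoc]

@[simp] theorem conjBy_one (A : Subgroup G) : conjBy A 1 = A := by
  ext x
  simp

theorem conjBy_of_mem {A : Subgroup G} {g : G} (hg : g ∈ A) : conjBy A g = A := by
  ext x
  rw [mem_conjBy]
  constructor
  · intro h
    have := A.mul_mem (A.mul_mem hg h) (A.inv_mem hg)
    simpa [mul_assoc] using this
  · intro h
    exact A.mul_mem (A.mul_mem (A.inv_mem hg) h) hg

theorem conjBy_eq_iff {A B : Subgroup G} {g : G} : conjBy A g = B ↔ A = conjBy B g⁻¹ := by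
  constructor
  · rintro rfl
    rw [conjBy_conjBy]; simp
  · intro h
    rw [h, conjBy_conjBy]; simp

theorem conjBy_injective (g : G) {A B : Subgroup G} (h : conjBy A g = conjBy B g) : A = B := by
  have := congrArg (fun C => conjBy C g⁻¹) h
  simpa [conjBy_conjBy] using this

theorem mem_normalizer_iff_conjBy {A : Subgroup G} {g : G} :
    g ∈ Subgroup.normalizer (A : Set G) ↔ conjBy A g = A :=
  Subgroup.mem_normalizer_iff_map_conj_eq

theorem conjBy_mono {A B : Subgroup G} (h : A ≤ B) (g : G) : conjBy A g ≤ conjBy B g :=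
  Subgroup.map_mono h

theorem conjBy_le_of_mem {A H : Subgroup G} (hA : A ≤ H) {g : G} (hg : g ∈ H) : conjBy A g ≤ H := by
  intro x hx
  rw [mem_conjBy] at hx
  have := H.mul_mem (H.mul_mem hg (hA hx)) (H.inv_mem hg)
  simpa [mul_assoc] using this

theorem conjBy_sup (A B : Subgroup G) (g : G) : conjBy (A ⊔ B) g = conjBy A g ⊔ conjBy B g :=
  Subgroup.map_sup A B _

theorem conjBy_eq_bot {A : Subgroup G} {g : G} : conjBy A g = ⊥ ↔ A = ⊥ := by
  unfold conjBy
  exact (Subgroup.map_eq_bot_iff_of_injective A (MulAut.conj g).injective)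

/-! ### Rank one pairs -/

theorem rankOne_inf_normalizer {A B : Subgroup G} (hne : A ≠ B) (h : RankOneCondition A B) :
    A ⊓ Subgroup.normalizer (B : Set G) = ⊥ := by
  rw [eq_bot_iff]
  rintro a ⟨haA, haN⟩
  rw [Subgroup.mem_bot]
  by_contra ha1
  obtain ⟨b, hbB, -, hb⟩ := h a haA ha1
  have h1 : conjBy B a⁻¹ = B := mem_normalizer_iff_conjBy.mp (Subgroup.inv_mem _ haN)
  rw [h1, conjBy_eq_iff, inv_inv, conjBy_of_mem hbB] at hb
  exact hne hb

theorem rankOne_unique {A B : Subgroup G} (hBA : B ⊓ Subgroup.normalizer (A : Set G) = ⊥)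
    {a b b' : G} (hb : b ∈ B) (hb' : b' ∈ B)
    (h1 : conjBy A b⁻¹ = conjBy B a⁻¹) (h2 : conjBy A b'⁻¹ = conjBy B a⁻¹) : b = b' := by
  have h3 : conjBy A b⁻¹ = conjBy A b'⁻¹ := h1.trans h2.symm
  have h4 : conjBy A (b' * b⁻¹) = A := by
    have := congrArg (fun C => conjBy C b') h3
    simpa [conjBy_conjBy] using this
  have h5 : b' * b⁻¹ ∈ B ⊓ Subgroup.normalizer (A : Set G) :=
    ⟨B.mul_mem hb' (B.inv_mem hb), mem_normalizer_iff_conjBy.mpr h4⟩
  rw [hBA, Subgroup.mem_bot] at h5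
  exact (mul_inv_eq_one.mp h5).symm

end Cfsg.Agent.Lib.Helper8
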