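import Mathlib
import Cfsg.Agent.Lib.Helper8.CharComplete2

set_option autoImplicit false

namespace Cfsg.Agent.Lib.Helper8
open Cfsg
open scoped ComplexConjugate

universe u
variable {G : Type*} [Group G]

theorem trace_of_isCompl {V : Type*} [AddCommGroup V] [Module ℂ V] [FiniteDimensional ℂ V]
    (f : V →ₗ[ℂ] V) (W W' : Submodule ℂ V) (h : IsCompl W W')
    (hW : ∀ v ∈ W, f v ∈ W) (hW' : ∀ v ∈ W', f v ∈ W') :
    LinearMap.trace ℂ V f = LinearMap.trace ℂ W (f.restrict hW) + LinearMap.trace ℂ W' (f.restrict hW') := by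
  set e := Submodule.prodEquivOfIsCompl W W' h with he
  have hconj : f = e.conj (LinearMap.prodMap (f.restrict hW) (f.restrict hW')) := by
    apply LinearMap.ext
    intro v
    obtain ⟨x, rfl⟩ := e.surjective v
    rw [LinearEquiv.conj_apply]
    simp only [LinearMap.coe_comp, LinearEquiv.coe_coe, Function.comp_apply,
      LinearEquiv.symm_apply_apply]
    obtain ⟨w, w'⟩ := x
    simp [he, Submodule.coe_prodEquivOfIsCompl', LinearMap.restrict_apply]
  conv_lhs => rw [hconj]
  rw [LinearMap.trace_conj', LinearMap.trace_prodMap']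

theorem character_decomp_aux [Finite G] [Fintype (IrrCharacter G)] :
    ∀ (n : ℕ) (V : Type u) [AddCommGroup V] [Module ℂ V] [FiniteDimensional ℂ V]
      (ρ : Representation ℂ G V), Module.finrank ℂ V = n →
      ∃ m : IrrCharacter G → ℕ, ∀ g, ρ.character g = ∑ ψ : IrrCharacter G, (m ψ : ℂ) * ψ.1 g := by
  classical
  intro n
  induction n using Nat.strong_induction_on with
  | _ n ih =>
    intro V _ _ _ ρ hn
    by_cases hirr : ρ.IsIrreducible
    · refine ⟨Pi.single ⟨ρ.character, isIrrCharacter_of_irreducible hirr⟩ 1, ?_⟩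
      intro g
      rw [Finset.sum_eq_single (⟨ρ.character, isIrrCharacter_of_irreducible hirr⟩ : IrrCharacter G)]
      · simp
      · intro ψ _ hne
        simp [hne]
      · intro h; exact absurd (Finset.mem_univ _) h
    · by_cases hnt : Nontrivial V
      · have hex : ∃ W : Subrepresentation ρ, W ≠ ⊥ ∧ W ≠ ⊤ := by
          by_contra hcon
          push Not at hcon
          apply hirr
          refine { exists_pair_ne := ⟨⊥, ⊤, ?_⟩, eq_bot_or_eq_top := ?_ }
          · intro heq
            have h1 : (⊥ : Submodule ℂ V) = ⊤ := congrArg Subrepresentation.toSubmodule heq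
            exact bot_ne_top h1
          · intro W
            by_cases hW : W = ⊥
            · left; exact hW
            · right; exact hcon W hW
        obtain ⟨W, hWb, hWt⟩ := hex
        have hcardne : NeZero (Nat.card G : ℂ) := ⟨Nat.cast_ne_zero.mpr Nat.card_pos.ne'⟩
        obtain ⟨W', hW'⟩ := exists_isCompl W
        have hsup : W.toSubmodule ⊔ W'.toSubmodule = ⊤ := by
          have := hW'.sup_eq_top
          exact congrArg Subrepresentation.toSubmodule this
        have hinf : W.toSubmodule ⊓ W'.toSubmodule = ⊥ := by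
          have := hW'.inf_eq_bot
          exact congrArg Subrepresentation.toSubmodule this
        have hcompl : IsCompl W.toSubmodule W'.toSubmodule :=
          IsCompl.of_eq hinf hsup
        have hWt' : W.toSubmodule ≠ ⊤ := fun h => hWt (Subrepresentation.toSubmodule_injective h)
        have hWb' : W.toSubmodule ≠ ⊥ := fun h => hWb (Subrepresentation.toSubmodule_injective h)
        have hW't : W'.toSubmodule ≠ ⊤ := by
          intro h
          rw [h, inf_top_eq] at hinf
          exact hWb' hinf
        have h1 : Module.finrank ℂ W.toSubmodule < n := by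
          rw [← hn]; exact Submodule.finrank_lt hWt'
        have h2 : Module.finrank ℂ W'.toSubmodule < n := by
          rw [← hn]; exact Submodule.finrank_lt hW't
        obtain ⟨m1, hm1⟩ := ih _ h1 W.toSubmodule W.toRepresentation rfl
        obtain ⟨m2, hm2⟩ := ih _ h2 W'.toSubmodule W'.toRepresentation rfl
        refine ⟨m1 + m2, ?_⟩
        intro g
        have htr := trace_of_isCompl (ρ g) W.toSubmodule W'.toSubmodule hcompl
          (fun v hv => W.apply_mem_toSubmodule g hv) (fun v hv => W'.apply_mem_toSubmodule g hv)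
        have e1 : LinearMap.trace ℂ W.toSubmodule ((ρ g).restrict (fun v hv => W.apply_mem_toSubmodule g hv))
            = W.toRepresentation.character g := rfl
        have e2 : LinearMap.trace ℂ W'.toSubmodule ((ρ g).restrict (fun v hv => W'.apply_mem_toSubmodule g hv))
            = W'.toRepresentation.character g := rfl
        rw [e1, e2, hm1 g, hm2 g] at htr
        rw [Representation.character, htr, ← Finset.sum_add_distrib]
        apply Finset.sum_congr rfl
        intro ψ _
        simp only [Pi.add_apply, Nat.cast_add]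
        ring
      · rw [not_nontrivial_iff_subsingleton] at hnt
        refine ⟨0, ?_⟩
        intro g
        simp only [Pi.zero_apply, Nat.cast_zero, zero_mul, Finset.sum_const_zero]
        rw [Representation.character]
        have : ρ g = 0 := by
          ext v; exact Subsingleton.elim _ _
        rw [this, map_zero]


theorem isCharacter_decomp [Finite G] [Fintype (IrrCharacter G)] {χ : G → ℂ} (hχ : IsCharacter G χ) :
    ∃ m : IrrCharacter G → ℕ, ∀ g, χ g = ∑ ψ : IrrCharacter G, (m ψ : ℂ) * ψ.1 g := by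
  obtain ⟨n, ρ, rfl⟩ := hχ
  exact character_decomp_aux _ _ ρ rfl

theorem isCharacter_zero : IsCharacter G (0 : G → ℂ) := by
  refine ⟨0, 1, ?_⟩
  ext g
  simp [Representation.character]

theorem isCharacter_add {χ θ : G → ℂ} (hχ : IsCharacter G χ) (hθ : IsCharacter G θ) :
    IsCharacter G (χ + θ) := by
  obtain ⟨n, ρ, rfl⟩ := hχ
  obtain ⟨m, σ, rfl⟩ := hθ
  have h := isCharacter_of_rep (ρ.prod σ)
  have : (ρ.prod σ).character = ρ.character + σ.character := by
    ext g
    simp only [Representation.character, Pi.add_apply]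
    exact LinearMap.trace_prodMap' (ρ g) (σ g)
  rw [this] at h
  exact h

theorem isCharacter_mul {χ θ : G → ℂ} (hχ : IsCharacter G χ) (hθ : IsCharacter G θ) :
    IsCharacter G (χ * θ) := by
  obtain ⟨n, ρ, rfl⟩ := hχ
  obtain ⟨m, σ, rfl⟩ := hθ
  have h := isCharacter_of_rep (ρ.tprod σ)
  rw [Representation.char_tensor] at h
  exact h

theorem isCharacter_nsmul {χ : G → ℂ} (hχ : IsCharacter G χ) (k : ℕ) :
    IsCharacter G (fun g => (k : ℂ) * χ g) := by
  induction k with
  | zero =>
    have : (fun g => ((0 : ℕ) : ℂ) * χ g) = 0 := by ext g; simp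
    rw [this]; exact isCharacter_zero
  | succ k ih =>
    have : (fun g => ((k + 1 : ℕ) : ℂ) * χ g) = (fun g => (k : ℂ) * χ g) + χ := by
      ext g; simp only [Pi.add_apply]; push_cast; ring
    rw [this]; exact isCharacter_add ih hχ

theorem isCharacter_sum {ι : Type*} (s : Finset ι) (f : ι → G → ℂ) (h : ∀ i ∈ s, IsCharacter G (f i)) :
    IsCharacter G (fun g => ∑ i ∈ s, f i g) := by
  classical
  induction s using Finset.induction_on with
  | empty =>
    have : (fun g => ∑ i ∈ (∅ : Finset ι), f i g) = (0 : G → ℂ) := by ext g; simp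
    rw [this]; exact isCharacter_zero
  | insert a s ha ih =>
    have : (fun g => ∑ i ∈ insert a s, f i g) = f a + (fun g => ∑ i ∈ s, f i g) := by
      ext g; simp [Finset.sum_insert ha]
    rw [this]
    exact isCharacter_add (h a (Finset.mem_insert_self a s))
      (ih (fun i hi => h i (Finset.mem_insert_of_mem hi)))

theorem isCharacter_of_nat_comb [Fintype (IrrCharacter G)] (m : IrrCharacter G → ℕ) :
    IsCharacter G (fun g => ∑ ψ : IrrCharacter G, (m ψ : ℂ) * ψ.1 g) := by
  apply isCharacter_sum
  intro ψ _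
  exact isCharacter_nsmul (irr_isCharacter ψ.2) (m ψ)

/-- Inner product of a ℕ-combination of irreducibles with an irreducible. -/
theorem classInner_comb_irr [Fintype G] [Fintype (IrrCharacter G)] (a : IrrCharacter G → ℂ)
    (θ : IrrCharacter G) :
    classInner (fun g => ∑ ψ : IrrCharacter G, a ψ * ψ.1 g) θ.1 = a θ := by
  rw [classInner_sum_left]
  rw [Finset.sum_eq_single θ]
  · rw [irr_classInner θ.2 θ.2, if_pos rfl, mul_one]
  · intro ψ _ hne
    rw [irr_classInner ψ.2 θ.2, if_neg (fun h => hne (Subtype.ext h)), mul_zero]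
  · intro h; exact absurd (Finset.mem_univ _) h

theorem classInner_character_irr_nat [Fintype G] {χ : G → ℂ} (hχ : IsCharacter G χ)
    {θ : G → ℂ} (hθ : IsIrrCharacter G θ) : ∃ k : ℕ, classInner χ θ = k := by
  classical
  have := irr_finite (G := G)
  have : Fintype (IrrCharacter G) := Fintype.ofFinite _
  obtain ⟨m, hm⟩ := isCharacter_decomp hχ
  refine ⟨m ⟨θ, hθ⟩, ?_⟩
  have : χ = fun g => ∑ ψ : IrrCharacter G, (m ψ : ℂ) * ψ.1 g := funext hm
  rw [this]
  exact classInner_comb_irr (fun ψ => (m ψ : ℂ)) ⟨θ, hθ⟩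

/-- A class function whose inner products with all irreducible characters are natural numbers is a
character. -/
theorem isCharacter_of_classInner_nat [Fintype G] {φ : G → ℂ} (hφ : IsClassFunction G φ)
    (h : ∀ θ : IrrCharacter G, ∃ k : ℕ, classInner φ θ.1 = k) : IsCharacter G φ := by
  classical
  have := irr_finite (G := G)
  have : Fintype (IrrCharacter G) := Fintype.ofFinite _
  choose m hm using h
  have h1 := classFunction_eq_sum hφ
  have h2 : φ = fun g => ∑ ψ : IrrCharacter G, (m ψ : ℂ) * ψ.1 g := by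
    conv_lhs => rw [h1]
    ext g
    simp only [Finset.sum_apply, Pi.smul_apply, smul_eq_mul]
    apply Finset.sum_congr rfl
    intro ψ _
    rw [hm ψ]
  rw [h2]
  exact isCharacter_of_nat_comb m

theorem classInner_conj_symm [Fintype G] (φ ψ : G → ℂ) :
    classInner ψ φ = conj (classInner φ ψ) := by
  unfold classInner
  rw [map_mul, map_inv₀, map_natCast, map_sum]
  congr 1
  apply Finset.sum_congr rfl
  intro g _
  rw [map_mul, Complex.conj_conj, mul_comm]

/-- The inner product of two characters is a natural number. -/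
theorem classInner_character_nat [Fintype G] {χ θ : G → ℂ} (hχ : IsCharacter G χ)
    (hθ : IsCharacter G θ) : ∃ k : ℕ, classInner χ θ = k := by
  classical
  have := irr_finite (G := G)
  have : Fintype (IrrCharacter G) := Fintype.ofFinite _
  obtain ⟨m, hm⟩ := isCharacter_decomp hθ
  -- classInner χ θ = conj (classInner θ χ) = conj (Σ m ψ ⟨ψ, χ⟩)
  have hθ' : θ = fun g => ∑ ψ : IrrCharacter G, (m ψ : ℂ) * ψ.1 g := funext hm
  have hk : ∀ ψ : IrrCharacter G, ∃ k : ℕ, classInner χ ψ.1 = k :=
    fun ψ => classInner_character_irr_nat hχ ψ.2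
  choose k hk using hk
  refine ⟨∑ ψ : IrrCharacter G, m ψ * k ψ, ?_⟩
  rw [classInner_conj_symm, hθ', classInner_sum_left, map_sum]
  push_cast
  apply Finset.sum_congr rfl
  intro ψ _
  rw [map_mul, map_natCast, ← classInner_conj_symm, hk ψ]

/-- A character of norm one is irreducible. -/
theorem isIrrCharacter_of_norm_one [Fintype G] {χ : G → ℂ} (hχ : IsCharacter G χ)
    (h1 : classInner χ χ = 1) : IsIrrCharacter G χ := by
  classical
  have := irr_finite (G := G)
  have : Fintype (IrrCharacter G) := Fintype.ofFinite _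
  obtain ⟨m, hm⟩ := isCharacter_decomp hχ
  have hχ' : χ = fun g => ∑ ψ : IrrCharacter G, (m ψ : ℂ) * ψ.1 g := funext hm
  have hnorm : classInner χ χ = ∑ ψ : IrrCharacter G, ((m ψ * m ψ : ℕ) : ℂ) := by
    conv_lhs => rw [hχ']
    rw [classInner_sum_left]
    apply Finset.sum_congr rfl
    intro ψ _
    rw [classInner_conj_symm, classInner_comb_irr (fun ψ => (m ψ : ℂ)) ψ]
    simp
  rw [h1] at hnorm
  have hnat : ∑ ψ : IrrCharacter G, m ψ * m ψ = 1 := by
    have : ((∑ ψ : IrrCharacter G, m ψ * m ψ : ℕ) : ℂ) = 1 := by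
      rw [hnorm]; push_cast; rfl
    exact_mod_cast this
  -- exactly one m ψ is one
  have hex : ∃ ψ₀, m ψ₀ ≠ 0 := by
    by_contra hcon
    push Not at hcon
    simp [hcon] at hnat
  obtain ⟨ψ₀, hψ₀⟩ := hex
  have hle : m ψ₀ * m ψ₀ ≤ 1 := by
    rw [← hnat]
    exact Finset.single_le_sum (f := fun ψ => m ψ * m ψ) (fun _ _ => Nat.zero_le _) (Finset.mem_univ ψ₀)
  have hm1 : m ψ₀ = 1 := by
    have : m ψ₀ ≤ 1 := by nlinarith
    omega
  have hrest : ∀ ψ, ψ ≠ ψ₀ → m ψ = 0 := by
    intro ψ hne
    by_contra hmψ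
    have h2 : m ψ₀ * m ψ₀ + m ψ * m ψ ≤ ∑ ψ : IrrCharacter G, m ψ * m ψ := by
      have h3 := Finset.sum_pair (f := fun ψ => m ψ * m ψ) hne.symm
      rw [← h3]
      exact Finset.sum_le_sum_of_subset (Finset.subset_univ _)
    rw [hnat, hm1] at h2
    have : 0 < m ψ * m ψ := Nat.mul_pos (Nat.pos_of_ne_zero hmψ) (Nat.pos_of_ne_zero hmψ)
    omega
  have : χ = ψ₀.1 := by
    rw [hχ']
    ext g
    rw [Finset.sum_eq_single ψ₀]
    · rw [hm1]; simp
    · intro ψ _ hne
      rw [hrest ψ hne]; simp
    · intro h; exact absurd (Finset.mem_univ _) h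
  rw [this]
  exact ψ₀.2

end Cfsg.Agent.Lib.Helper8
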