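import Mathlib
import Cfsg.Agent.Lib.Helper8.CharDecomp

set_option autoImplicit false

namespace Cfsg.Agent.Lib.Helper8
open Cfsg
open scoped ComplexConjugate

variable {G : Type*} [Group G]

theorem extendByZero_mem (H : Subgroup G) (θ : H → ℂ) {g : G} (hg : g ∈ H) :
    extendByZero H θ g = θ ⟨g, hg⟩ := by
  unfold extendByZero
  exact Subtype.val_injective.extend_apply θ 0 ⟨g, hg⟩

theorem extendByZero_coe (H : Subgroup G) (θ : H → ℂ) (h : H) :
    extendByZero H θ (h : G) = θ h := by
  unfold extendByZero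
  exact Subtype.val_injective.extend_apply θ 0 h

theorem extendByZero_not_mem (H : Subgroup G) (θ : H → ℂ) {g : G} (hg : g ∉ H) :
    extendByZero H θ g = 0 := by
  unfold extendByZero
  rw [Function.extend_apply']
  · rfl
  · rintro ⟨a, rfl⟩
    exact hg a.2

theorem sum_extendByZero [Fintype G] (H : Subgroup G) [Fintype H] (θ : H → ℂ) (F : G → ℂ) :
    ∑ g : G, extendByZero H θ g * F g = ∑ h : H, θ h * F h := by
  classical
  have h1 : ∑ g : G, extendByZero H θ g * F g =
      ∑ g ∈ Finset.univ.filter (fun g => g ∈ H), extendByZero H θ g * F g := by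
    symm
    apply Finset.sum_subset (Finset.subset_univ _)
    intro g _ hg
    have : g ∉ H := by simpa using hg
    rw [extendByZero_not_mem H θ this, zero_mul]
  rw [h1, Finset.sum_subtype (Finset.univ.filter (fun g => g ∈ H)) (p := fun g => g ∈ H)
    (by intro x; simp)]
  apply Finset.sum_congr rfl
  intro h _
  rw [extendByZero_coe]

theorem indFun_apply [Fintype G] (H : Subgroup G) (θ : H → ℂ) (g : G) :
    indFun H θ g = (Nat.card H : ℂ)⁻¹ * ∑ x : G, extendByZero H θ (x⁻¹ * g * x) := rfl

theorem indFun_isClassFunction [Fintype G] (H : Subgroup G) (θ : H → ℂ) :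
    IsClassFunction G (indFun H θ) := by
  intro g h
  rw [indFun_apply, indFun_apply]
  congr 1
  apply Fintype.sum_equiv (Equiv.mulLeft h⁻¹)
  intro x
  simp only [Equiv.coe_mulLeft]
  congr 1
  group

/-- Frobenius reciprocity. -/
theorem frobenius_reciprocity [Fintype G] (H : Subgroup G) [Fintype H] (θ : H → ℂ) (χ : G → ℂ)
    (hχ : IsClassFunction G χ) :
    classInner (indFun H θ) χ = classInner θ (fun h : H => χ h) := by
  classical
  unfold classInner
  have hGne : (Nat.card G : ℂ) ≠ 0 := Nat.cast_ne_zero.mpr Nat.card_pos.ne'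
  have hHne : (Nat.card H : ℂ) ≠ 0 := Nat.cast_ne_zero.mpr Nat.card_pos.ne'
  have h1 : ∑ g : G, indFun H θ g * conj (χ g) =
      (Nat.card H : ℂ)⁻¹ * ∑ x : G, ∑ g : G, extendByZero H θ (x⁻¹ * g * x) * conj (χ g) := by
    simp_rw [indFun_apply, mul_assoc, ← Finset.mul_sum, Finset.sum_mul]
    rw [Finset.sum_comm]
  have h2 : ∀ x : G, ∑ g : G, extendByZero H θ (x⁻¹ * g * x) * conj (χ g) =
      ∑ h : H, θ h * conj (χ h) := by
    intro x
    rw [← sum_extendByZero H θ (fun g => conj (χ g))]
    apply Fintype.sum_equiv (MulAut.conj x⁻¹).toEquiv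
    intro g
    simp only [MulEquiv.toEquiv_eq_coe, EquivLike.coe_coe, MulAut.conj_apply, inv_inv]
    have := hχ g x⁻¹
    rw [inv_inv] at this
    rw [this]
  rw [h1]
  simp_rw [h2]
  rw [Finset.sum_const, Finset.card_univ, nsmul_eq_mul, ← Nat.card_eq_fintype_card]
  field_simp

theorem isCharacter_restrict (H : Subgroup G) {χ : G → ℂ} (hχ : IsCharacter G χ) :
    IsCharacter H (fun h : H => χ h) := by
  obtain ⟨n, ρ, rfl⟩ := hχ
  exact ⟨n, ρ.comp H.subtype, rfl⟩

/-- The function induced from a character is a character. -/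
theorem isCharacter_indFun [Fintype G] (H : Subgroup G) {θ : H → ℂ} (hθ : IsCharacter H θ) :
    IsCharacter G (indFun H θ) := by
  classical
  have : Fintype H := Fintype.ofFinite H
  apply isCharacter_of_classInner_nat (indFun_isClassFunction H θ)
  intro ψ
  rw [frobenius_reciprocity H θ ψ.1 (isClassFunction_of_isCharacter (irr_isCharacter ψ.2))]
  exact classInner_character_nat hθ (isCharacter_restrict H (irr_isCharacter ψ.2))

end Cfsg.Agent.Lib.Helper8
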