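import Mathlib
import Cfsg.Prelude.Def_Blocks
import Cfsg.Agent.Lib.Helper8.CharInd

set_option autoImplicit false

namespace Cfsg.Agent.Lib.Helper8
open Cfsg
open scoped ComplexConjugate

variable {G : Type*} [Group G]

/-- The fibre of `x ↦ x⁻¹ g x` over a conjugate of `g` is a coset of the centralizer. -/
theorem card_conj_fiber [Fintype G] [DecidableEq G] (g y : G) (hy : IsConj g y) :
    (Finset.univ.filter (fun x : G => x⁻¹ * g * x = y)).card =
      Nat.card (Subgroup.centralizer ({g} : Set G)) := by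
  classical
  obtain ⟨x₀, hx₀⟩ := isConj_iff.mp hy
  -- hx₀ : x₀ * g * x₀⁻¹ = y
  rw [Nat.card_eq_fintype_card, ← Finset.card_univ]
  symm
  apply Finset.card_bij (fun (c : Subgroup.centralizer ({g} : Set G)) _ => (c : G) * x₀⁻¹)
  · intro c _
    rw [Finset.mem_filter]
    refine ⟨Finset.mem_univ _, ?_⟩
    have hc := Subgroup.mem_centralizer_iff.mp c.2 g (Set.mem_singleton g)
    -- hc : g * c = c * g
    rw [← hx₀]
    have : ((c : G) * x₀⁻¹)⁻¹ * g * ((c : G) * x₀⁻¹) = x₀ * ((c : G)⁻¹ * (g * c)) * x₀⁻¹ := by group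
    rw [this, hc]; group
  · intro a _ b _ hab
    exact Subtype.ext (mul_right_cancel hab)
  · intro x hx
    rw [Finset.mem_filter] at hx
    refine ⟨⟨x * x₀, ?_⟩, Finset.mem_univ _, by group⟩
    rw [Subgroup.mem_centralizer_iff]
    intro z hz
    rw [Set.mem_singleton_iff] at hz
    subst hz
    have h1 := hx.2
    rw [← hx₀] at h1
    -- x⁻¹ z x = x₀ z x₀⁻¹
    have : z = x * (x⁻¹ * z * x) * x⁻¹ := by group
    rw [h1] at this
    calc z * (x * x₀) = (x * (x₀ * z * x₀⁻¹) * x⁻¹) * (x * x₀) := by rw [← this]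
      _ = x * x₀ * z := by group

open Classical in
theorem sum_conj_eq [Fintype G] (g : G) (F : G → ℂ) :
    ∑ x : G, F (x⁻¹ * g * x) =
      (Nat.card (Subgroup.centralizer ({g} : Set G)) : ℂ) *
        ∑ y ∈ Finset.univ.filter (fun y : G => IsConj g y), F y := by
  classical
  rw [← Finset.sum_fiberwise_of_maps_to (s := Finset.univ)
    (t := Finset.univ.filter (fun y : G => IsConj g y)) (g := fun x : G => x⁻¹ * g * x)]
  · rw [Finset.mul_sum]
    apply Finset.sum_congr rfl
    intro y hy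
    rw [Finset.mem_filter] at hy
    rw [Finset.sum_congr rfl (fun x hx => by rw [(Finset.mem_filter.mp hx).2] : ∀ x ∈ Finset.univ.filter (fun x : G => x⁻¹ * g * x = y), F (x⁻¹ * g * x) = F y)]
    rw [Finset.sum_const, nsmul_eq_mul, card_conj_fiber g y hy.2]
  · intro x _
    rw [Finset.mem_filter]
    refine ⟨Finset.mem_univ _, ?_⟩
    exact isConj_iff.mpr ⟨x⁻¹, by group⟩

theorem indFun_one [Fintype G] (H : Subgroup G) (ξ : H → ℂ) :
    indFun H ξ 1 = (H.index : ℂ) * ξ 1 := by
  rw [indFun_apply]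
  have : ∀ x : G, extendByZero H ξ (x⁻¹ * 1 * x) = ξ 1 := by
    intro x
    have : x⁻¹ * 1 * x = ((1 : H) : G) := by simp
    rw [this, extendByZero_coe]
  rw [Finset.sum_congr rfl (fun x _ => this x), Finset.sum_const, Finset.card_univ, nsmul_eq_mul,
    ← Nat.card_eq_fintype_card, ← Subgroup.card_mul_index H]
  have hH : (Nat.card H : ℂ) ≠ 0 := Nat.cast_ne_zero.mpr Nat.card_pos.ne'
  push_cast
  field_simp

open Classical in
theorem indFun_eq_class_sum [Fintype G] (H : Subgroup G) [Fintype H] (ξ : H → ℂ) (g : G) :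
    indFun H ξ g = (Nat.card H : ℂ)⁻¹ * (Nat.card (Subgroup.centralizer ({g} : Set G)) : ℂ) *
      ∑ h ∈ Finset.univ.filter (fun h : H => IsConj g (h : G)), ξ h := by
  classical
  rw [indFun_apply, sum_conj_eq g (extendByZero H ξ), mul_assoc]
  congr 2
  rw [Finset.sum_filter, Finset.sum_filter]
  have h1 := sum_extendByZero H ξ (fun y => if IsConj g y then (1 : ℂ) else 0)
  simp only [mul_ite, mul_one, mul_zero] at h1
  exact h1

end Cfsg.Agent.Lib.Helper8
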