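import Mathlib
import Cfsg.Agent.Lib.Helper8.CharBurnside

set_option autoImplicit false

namespace Cfsg.Agent.Lib.Helper8
open Cfsg
open scoped ComplexConjugate

variable {G : Type*} [Group G]
variable {V : Type*} [AddCommGroup V] [Module ℂ V]

/-- Indexed version of `scalar_isIntegral`. -/
theorem scalar_isIntegral' [Finite G] [Nontrivial V] (ρ : Representation ℂ G V) {ι : Type*} [Fintype ι]
    (f : ι → G) (c : ι → ℂ) (hc : ∀ i, IsIntegral ℤ (c i)) (ω : ℂ)
    (h : ∑ i : ι, c i • ρ (f i) = ω • (LinearMap.id : V →ₗ[ℂ] V)) : IsIntegral ℤ ω := by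
  classical
  let R := integralClosure ℤ ℂ
  let a : MonoidAlgebra R G := ∑ i : ι, MonoidAlgebra.single (f i) (⟨c i, hc i⟩ : R)
  let φ : MonoidAlgebra R G →ₐ[R] Module.End ℂ V := MonoidAlgebra.lift R (Module.End ℂ V) G ρ
  have ha : IsIntegral R a := IsIntegral.of_finite R a
  have hφa : IsIntegral R (φ a) := IsIntegral.map (A := R) φ ha
  have hφ : φ a = algebraMap ℂ (Module.End ℂ V) ω := by
    have : φ a = ∑ i : ι, c i • ρ (f i) := by
      simp only [a, φ, map_sum, MonoidAlgebra.lift_single]
      rfl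
    rw [this, h]
    ext v
    simp [Module.algebraMap_end_apply]
  rw [hφ] at hφa
  have hinj : Function.Injective (algebraMap ℂ (Module.End ℂ V)) :=
    FaithfulSMul.algebraMap_injective ℂ (Module.End ℂ V)
  have h1 : IsIntegral R ω := (isIntegral_algebraMap_iff hinj).mp hφa
  exact isIntegral_trans ω h1

theorem classSum_eq_smul [Fintype G] [FiniteDimensional ℂ V] {ρ : Representation ℂ G V}
    (hρ : ρ.IsIrreducible) {c : G → ℂ} (hcf : IsClassFunction G c) :
    ∑ g : G, c g • ρ g =
      ((∑ g : G, c g * ρ.character g) / (Module.finrank ℂ V : ℂ)) • (LinearMap.id : V →ₗ[ℂ] V) := by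
  have hnt : Nontrivial V := irreducible_nontrivial hρ
  obtain ⟨ω, hω⟩ := schur_scalar hρ (classOp (fun g => c g⁻¹) ρ) (classOp_comm (isClassFunction_inv hcf) ρ)
  have hT : ∑ g : G, c g • ρ g = ω • (LinearMap.id : V →ₗ[ℂ] V) := by
    rw [← classOp_inv]
    ext v; rw [hω v]; rfl
  have htr : ∑ g : G, c g * ρ.character g = ω * (Module.finrank ℂ V : ℂ) := by
    have := congrArg (LinearMap.trace ℂ V) hT
    rw [map_sum, map_smul, LinearMap.trace_id, smul_eq_mul] at this
    rw [← this]
    apply Finset.sum_congr rfl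
    intro g _
    rw [map_smul, smul_eq_mul]
    rfl
  have hfr : (Module.finrank ℂ V : ℂ) ≠ 0 := Nat.cast_ne_zero.mpr (Module.finrank_pos).ne'
  rw [hT, htr, mul_div_assoc, div_self hfr, mul_one]

/-- Summing a function constant on cosets of `Z`. -/
theorem sum_eq_card_smul_sum_out [Fintype G] {M : Type*} [AddCommMonoid M] (Z : Subgroup G)
    [Fintype Z] [Fintype (G ⧸ Z)] (F : G → M) (hF : ∀ g : G, ∀ z ∈ Z, F (g * z) = F g) :
    ∑ g : G, F g = Nat.card Z • ∑ q : G ⧸ Z, F (Quotient.out q) := by
  classical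
  let Φ : (G ⧸ Z) × Z → G := fun x => Quotient.out x.1 * (x.2 : G)
  have hmk : ∀ x : (G ⧸ Z) × Z, (QuotientGroup.mk (Φ x) : G ⧸ Z) = x.1 := by
    intro x
    have : (QuotientGroup.mk (Quotient.out x.1 * (x.2 : G)) : G ⧸ Z) = QuotientGroup.mk (Quotient.out x.1) := by
      rw [QuotientGroup.eq]
      simp
    rw [this]
    exact QuotientGroup.out_eq' x.1
  have hbij : Function.Bijective Φ := by
    constructor
    · intro x y hxy
      have h1 : x.1 = y.1 := by rw [← hmk x, ← hmk y, hxy]
      have h2 : (x.2 : G) = y.2 := by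
        have : Quotient.out x.1 * (x.2 : G) = Quotient.out y.1 * (y.2 : G) := hxy
        rw [h1] at this
        exact mul_left_cancel this
      exact Prod.ext h1 (Subtype.ext h2)
    · intro g
      have hmem : (Quotient.out (QuotientGroup.mk g : G ⧸ Z))⁻¹ * g ∈ Z := by
        rw [← QuotientGroup.eq]
        exact QuotientGroup.out_eq' _
      refine ⟨(QuotientGroup.mk g, ⟨_, hmem⟩), ?_⟩
      simp [Φ]
  rw [← (Equiv.ofBijective Φ hbij).sum_comp, Fintype.sum_prod_type]
  simp only [Equiv.ofBijective_apply, Φ]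
  rw [Finset.smul_sum]
  apply Finset.sum_congr rfl
  intro q _
  have h1 : ∀ z : Z, F (Quotient.out q * (z : G)) = F (Quotient.out q) := fun z => hF _ _ z.2
  rw [Finset.sum_congr rfl (fun z _ => h1 z), Finset.sum_const, Finset.card_univ,
    Nat.card_eq_fintype_card]

/-- The degree of an irreducible representation divides the index of the centre. -/
theorem degree_dvd_index_center [Finite G] [FiniteDimensional ℂ V] {ρ : Representation ℂ G V}
    (hρ : ρ.IsIrreducible) : Module.finrank ℂ V ∣ (Subgroup.center G).index := by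
  classical
  have : Fintype G := Fintype.ofFinite G
  set Z := Subgroup.center G with hZ
  have : Fintype Z := Fintype.ofFinite Z
  have : Fintype (G ⧸ Z) := Fintype.ofFinite _
  have hnt : Nontrivial V := irreducible_nontrivial hρ
  have hirr := isIrrCharacter_of_irreducible hρ
  set F : G → Module.End ℂ V := fun g => conj (ρ.character g) • ρ g with hF
  -- F is constant on cosets of the centre
  have hFZ : ∀ g : G, ∀ z ∈ Z, F (g * z) = F g := by
    intro g z hz
    obtain ⟨c, hc⟩ := central_scalar hρ hz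
    have hρz : ρ z = c • (LinearMap.id : V →ₗ[ℂ] V) := by ext v; rw [hc v]; rfl
    have hcn : conj c * c = 1 := by
      have hm : 0 < orderOf z := orderOf_pos z
      have hpow : c ^ orderOf z = 1 := by
        have h2 := rep_pow_orderOf ρ z
        rw [hρz] at h2
        obtain ⟨v, hv⟩ := exists_ne (0 : V)
        have h3 : ∀ n : ℕ, ((c • (LinearMap.id : V →ₗ[ℂ] V)) ^ n) v = c ^ n • v := by
          intro n
          induction n with
          | zero => simp
          | succ n ih =>
            rw [pow_succ, Module.End.mul_apply]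
            simp only [LinearMap.smul_apply, LinearMap.id_coe, id_eq]
            rw [map_smul, ih, smul_smul, pow_succ]
            ring_nf
        have h4 : (c ^ orderOf z - 1) • v = 0 := by
          rw [sub_smul, ← h3, h2]; simp
        rcases smul_eq_zero.mp h4 with h5 | h5
        · exact sub_eq_zero.mp h5
        · exact absurd h5 hv
      have hn := norm_eq_one_of_pow_eq_one' hm hpow
      rw [mul_comm, Complex.mul_conj, Complex.normSq_eq_norm_sq, hn]; simp
    simp only [hF]
    have h1 : ρ (g * z) = c • ρ g := by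
      rw [map_mul, hρz]
      ext v
      simp
    have h2 : ρ.character (g * z) = c * ρ.character g := by
      simp only [Representation.character, h1, map_smul, smul_eq_mul]
    rw [h1, h2, map_mul, smul_smul]
    congr 1
    calc conj c * conj (ρ.character g) * c = (conj c * c) * conj (ρ.character g) := by ring
      _ = conj (ρ.character g) := by rw [hcn, one_mul]
  have hsum := sum_eq_card_smul_sum_out Z F hFZ
  -- total sum
  have hcf : IsClassFunction G (fun g => conj (ρ.character g)) := by
    intro x y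
    simp only
    rw [isClassFunction_of_isCharacter (isCharacter_of_rep ρ) x y]
  have htot := classSum_eq_smul hρ hcf
  have h2 : ∑ g : G, conj (ρ.character g) * ρ.character g = (Nat.card G : ℂ) := by
    have h3 := irr_classInner hirr hirr
    rw [if_pos rfl] at h3
    unfold classInner at h3
    have hGne : (Nat.card G : ℂ) ≠ 0 := Nat.cast_ne_zero.mpr Nat.card_pos.ne'
    have h4 : ∑ g : G, ρ.character g * conj (ρ.character g) = (Nat.card G : ℂ) := by
      field_simp at h3
      exact h3
    rw [← h4]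
    apply Finset.sum_congr rfl
    intro g _
    ring
  rw [h2] at htot
  have hZne : (Nat.card Z : ℂ) ≠ 0 := Nat.cast_ne_zero.mpr Nat.card_pos.ne'
  have hfr : (Module.finrank ℂ V : ℂ) ≠ 0 := Nat.cast_ne_zero.mpr (Module.finrank_pos).ne'
  have hkey : ∑ q : G ⧸ Z, conj (ρ.character (Quotient.out q)) • ρ (Quotient.out q) =
      (((Nat.card G : ℂ) / (Module.finrank ℂ V : ℂ)) / (Nat.card Z : ℂ)) • (LinearMap.id : V →ₗ[ℂ] V) := by
    have h5 : (Nat.card Z : ℂ) • ∑ q : G ⧸ Z, F (Quotient.out q) =
        ((Nat.card G : ℂ) / (Module.finrank ℂ V : ℂ)) • (LinearMap.id : V →ₗ[ℂ] V) := by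
      rw [← htot]
      have : ∑ g : G, conj (ρ.character g) • ρ g = ∑ g : G, F g := rfl
      rw [this, hsum]
      rw [← Nat.cast_smul_eq_nsmul ℂ]
    have h6 : ∑ q : G ⧸ Z, F (Quotient.out q) = (Nat.card Z : ℂ)⁻¹ • ((Nat.card Z : ℂ) • ∑ q : G ⧸ Z, F (Quotient.out q)) := by
      rw [smul_smul, inv_mul_cancel₀ hZne, one_smul]
    show ∑ q : G ⧸ Z, F (Quotient.out q) = _
    rw [h6, h5, smul_smul]
    congr 1
    field_simp
  have hint := scalar_isIntegral' ρ (fun q : G ⧸ Z => Quotient.out q)
    (fun q => conj (ρ.character (Quotient.out q)))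
    (fun q => by
      rw [← character_inv']
      exact character_isIntegral ρ _) _ hkey
  -- rational integrality
  have hidx : (Nat.card G : ℂ) / (Nat.card Z : ℂ) = (Z.index : ℂ) := by
    rw [← Subgroup.card_mul_index Z]
    push_cast
    field_simp
  have h7 : IsIntegral ℤ (algebraMap ℚ ℂ ((Z.index : ℚ) / (Module.finrank ℂ V : ℚ))) := by
    convert hint using 1
    simp only [map_div₀, map_natCast]
    rw [← hidx]
    field_simp
  have h8 : IsIntegral ℤ ((Z.index : ℚ) / (Module.finrank ℂ V : ℚ)) :=
    (isIntegral_algebraMap_iff (algebraMap ℚ ℂ).injective).mp h7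
  obtain ⟨y, hy⟩ := IsIntegrallyClosed.isIntegral_iff.mp h8
  have hfrQ : (Module.finrank ℂ V : ℚ) ≠ 0 := Nat.cast_ne_zero.mpr (Module.finrank_pos).ne'
  have h9 : (y : ℚ) * (Module.finrank ℂ V : ℚ) = (Z.index : ℚ) := by
    have : (y : ℚ) = (Z.index : ℚ) / (Module.finrank ℂ V : ℚ) := hy
    rw [this]
    field_simp
  have h10 : y * (Module.finrank ℂ V : ℤ) = (Z.index : ℤ) := by exact_mod_cast h9
  have h11 : (Module.finrank ℂ V : ℤ) ∣ (Z.index : ℤ) := ⟨y, by rw [← h10, mul_comm]⟩
  exact Int.natCast_dvd_natCast.mp h11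

end Cfsg.Agent.Lib.Helper8
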