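import Mathlib
import Cfsg.Agent.Lib.Helper8.CharCenter

set_option autoImplicit false

namespace Cfsg.Agent.Lib.Helper8
open Cfsg
open scoped ComplexConjugate

variable {G : Type*} [Group G]
variable {V : Type*} [AddCommGroup V] [Module ℂ V]

/-- Schur averaging: `∑_h ρ(h x h⁻¹) = (|G| χ(x) / χ(1)) • id`. -/
theorem sum_conj_rep [Fintype G] [FiniteDimensional ℂ V] {ρ : Representation ℂ G V}
    (hρ : ρ.IsIrreducible) (x : G) :
    ∑ h : G, ρ (h * x * h⁻¹) =
      ((Nat.card G : ℂ) * ρ.character x / (Module.finrank ℂ V : ℂ)) • (LinearMap.id : V →ₗ[ℂ] V) := by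
  have hnt : Nontrivial V := irreducible_nontrivial hρ
  set T : Module.End ℂ V := ∑ h : G, ρ (h * x * h⁻¹) with hT
  have hcomm : ∀ g : G, ∀ v : V, T (ρ g v) = ρ g (T v) := by
    intro g v
    have h1 : T * ρ g = ρ g * T := by
      rw [hT, Finset.sum_mul, Finset.mul_sum]
      apply Fintype.sum_equiv (Equiv.mulLeft g⁻¹)
      intro h
      simp only [Equiv.coe_mulLeft]
      rw [← map_mul, ← map_mul]
      congr 1
      group
    have := congrArg (fun S : Module.End ℂ V => S v) h1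
    simpa [Module.End.mul_apply] using this
  obtain ⟨c, hc⟩ := schur_scalar hρ T hcomm
  have hTc : T = c • (LinearMap.id : V →ₗ[ℂ] V) := by
    ext v; rw [hc v]; rfl
  have htr : LinearMap.trace ℂ V T = (Nat.card G : ℂ) * ρ.character x := by
    rw [hT, map_sum]
    have : ∀ h : G, LinearMap.trace ℂ V (ρ (h * x * h⁻¹)) = ρ.character x := by
      intro h
      exact Representation.char_conj ρ x h
    simp_rw [this]
    rw [Finset.sum_const, Finset.card_univ, nsmul_eq_mul, Nat.card_eq_fintype_card]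
  rw [hTc, map_smul, LinearMap.trace_id, smul_eq_mul] at htr
  have hfr : (Module.finrank ℂ V : ℂ) ≠ 0 := Nat.cast_ne_zero.mpr (Module.finrank_pos).ne'
  rw [hTc, ← htr, mul_div_assoc, div_self hfr, mul_one]

/-- `∑_h χ(h x h⁻¹ y) = |G| χ(x) χ(y) / χ(1)`. -/
theorem sum_char_conj_mul [Fintype G] [FiniteDimensional ℂ V] {ρ : Representation ℂ G V}
    (hρ : ρ.IsIrreducible) (x y : G) :
    ∑ h : G, ρ.character (h * x * h⁻¹ * y) =
      (Nat.card G : ℂ) * ρ.character x * ρ.character y / (Module.finrank ℂ V : ℂ) := by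
  have h1 := sum_conj_rep hρ x
  have h2 := congrArg (fun T : Module.End ℂ V => LinearMap.trace ℂ V (T * ρ y)) h1
  simp only [Finset.sum_mul, map_sum] at h2
  have h3 : ∀ h : G, LinearMap.trace ℂ V (ρ (h * x * h⁻¹) * ρ y) = ρ.character (h * x * h⁻¹ * y) := by
    intro h
    rw [← map_mul]; rfl
  simp_rw [h3] at h2
  rw [h2, smul_mul_assoc, map_smul, smul_eq_mul]
  have : LinearMap.trace ℂ V ((LinearMap.id : V →ₗ[ℂ] V) * ρ y) = ρ.character y := by
    have : (LinearMap.id : V →ₗ[ℂ] V) * ρ y = ρ y := by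
      ext v; simp [Module.End.mul_apply]
    rw [this]; rfl
  rw [this]
  ring

theorem irr_sum_conj_mul [Fintype G] (ψ : IrrCharacter G) (x y : G) :
    ∑ h : G, ψ.1 (h * x * h⁻¹ * y) = (Nat.card G : ℂ) * ψ.1 x * ψ.1 y / ψ.1 1 := by
  obtain ⟨n, ρ, hρ, hρψ⟩ := ψ.2
  rw [← hρψ, Representation.char_one]
  exact sum_char_conj_mul hρ x y

theorem irr_one_ne_zero (ψ : IrrCharacter G) : ψ.1 1 ≠ 0 := by
  obtain ⟨n, ρ, hρ, hρψ⟩ := ψ.2
  have hnt : Nontrivial (Fin n → ℂ) := irreducible_nontrivial hρ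
  rw [← hρψ, Representation.char_one]
  exact Nat.cast_ne_zero.mpr (Module.finrank_pos).ne'

theorem irr_inv [Finite G] (ψ : IrrCharacter G) (g : G) : ψ.1 g⁻¹ = conj (ψ.1 g) := by
  obtain ⟨n, ρ, hρ, hρψ⟩ := ψ.2
  rw [← hρψ]
  exact character_inv ρ g

theorem irr_one_real (ψ : IrrCharacter G) : conj (ψ.1 1) = ψ.1 1 := by
  obtain ⟨n, ρ, hρ, hρψ⟩ := ψ.2
  rw [← hρψ, Representation.char_one]
  simp

/-- Convolution of irreducible characters. -/
theorem irr_convolution [Fintype G] (ψ φ : IrrCharacter G) (g : G) :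
    ∑ z : G, ψ.1 z * φ.1 (z⁻¹ * g) = if ψ = φ then (Nat.card G : ℂ) * ψ.1 g / ψ.1 1 else 0 := by
  obtain ⟨n, ρ, hρ, hρφ⟩ := φ.2
  have hnt : Nontrivial (Fin n → ℂ) := irreducible_nontrivial hρ
  have hfr : (Module.finrank ℂ (Fin n → ℂ) : ℂ) ≠ 0 := Nat.cast_ne_zero.mpr (Module.finrank_pos).ne'
  have hcf : IsClassFunction G ψ.1 := isClassFunction_of_isCharacter (irr_isCharacter ψ.2)
  obtain ⟨c, hc⟩ := schur_scalar hρ (classOp ψ.1 ρ) (classOp_comm hcf ρ)
  have hT : classOp ψ.1 ρ = c • (LinearMap.id : (Fin n → ℂ) →ₗ[ℂ] (Fin n → ℂ)) := by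
    apply LinearMap.ext
    intro v; rw [hc v]; rfl
  have htr : LinearMap.trace ℂ _ (classOp ψ.1 ρ) = (Nat.card G : ℂ) * classInner ψ.1 φ.1 := by
    rw [trace_classOp]
    unfold classInner
    have hGne : (Nat.card G : ℂ) ≠ 0 := Nat.cast_ne_zero.mpr Nat.card_pos.ne'
    rw [← mul_assoc, mul_inv_cancel₀ hGne, one_mul]
    apply Finset.sum_congr rfl
    intro z _
    rw [← hρφ, character_inv]
  have hc' : c * (Module.finrank ℂ (Fin n → ℂ) : ℂ) = (Nat.card G : ℂ) * classInner ψ.1 φ.1 := by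
    rw [← htr, hT, map_smul, LinearMap.trace_id, smul_eq_mul]
  -- now compute the convolution as a trace
  have h1 : ∑ z : G, ψ.1 z * φ.1 (z⁻¹ * g) = LinearMap.trace ℂ _ (classOp ψ.1 ρ * ρ g) := by
    unfold classOp
    rw [Finset.sum_mul, map_sum]
    apply Finset.sum_congr rfl
    intro z _
    rw [smul_mul_assoc, map_smul, smul_eq_mul, ← map_mul, ← hρφ]
    rfl
  rw [h1, hT, smul_mul_assoc, map_smul, smul_eq_mul]
  have h2 : LinearMap.trace ℂ _ ((LinearMap.id : (Fin n → ℂ) →ₗ[ℂ] (Fin n → ℂ)) * ρ g) = φ.1 g := by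
    have : (LinearMap.id : (Fin n → ℂ) →ₗ[ℂ] (Fin n → ℂ)) * ρ g = ρ g := by
      apply LinearMap.ext
      intro v; simp [Module.End.mul_apply]
    rw [this, ← hρφ]; rfl
  rw [h2]
  have hc'' : c = (Nat.card G : ℂ) * classInner ψ.1 φ.1 / (Module.finrank ℂ (Fin n → ℂ) : ℂ) := by
    rw [← hc']; field_simp
  rw [hc'', irr_classInner ψ.2 φ.2]
  by_cases h : ψ = φ
  · rw [if_pos h, if_pos (by rw [h]), h, ← hρφ, Representation.char_one]
    ring
  · rw [if_neg h, if_neg (fun h' => h (Subtype.ext h'))]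
    ring


/-- If the fibre-counting function of `w : ι → G` is a class function, it is expanded in terms of
irreducible characters. -/
theorem count_fiber_eq [Fintype G] [Fintype (IrrCharacter G)] [DecidableEq G] {ι : Type*} [Fintype ι]
    (w : ι → G)
    (hw : ∀ g z : G, (Finset.univ.filter (fun i => w i = g * z * g⁻¹)).card =
      (Finset.univ.filter (fun i => w i = z)).card) (z : G) :
    ((Finset.univ.filter (fun i => w i = z)).card : ℂ) =
      ∑ ψ : IrrCharacter G, ((Nat.card G : ℂ)⁻¹ * ∑ i : ι, conj (ψ.1 (w i))) * ψ.1 z := by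
  set N : G → ℂ := fun z => ((Finset.univ.filter (fun i => w i = z)).card : ℂ) with hN
  have hcf : IsClassFunction G N := by
    intro z g
    simp only [hN]
    rw [hw g z]
  have h1 := congrFun (classFunction_eq_sum hcf) z
  simp only [Finset.sum_apply, Pi.smul_apply, smul_eq_mul] at h1
  show N z = _
  rw [h1]
  apply Finset.sum_congr rfl
  intro ψ _
  congr 1
  unfold classInner
  congr 1
  -- ∑_z N z * conj ψ z = ∑_i conj ψ (w i)
  have h2 : ∀ z : G, N z * conj (ψ.1 z) = ∑ i : ι, if w i = z then conj (ψ.1 (w i)) else 0 := by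
    intro z
    simp only [hN]
    rw [Finset.card_eq_sum_ones, Nat.cast_sum, Finset.sum_mul, Finset.sum_filter]
    apply Finset.sum_congr rfl
    intro i _
    by_cases hi : w i = z
    · rw [if_pos hi, if_pos hi, hi]; simp
    · rw [if_neg hi, if_neg hi]
  simp_rw [h2]
  rw [Finset.sum_comm]
  apply Finset.sum_congr rfl
  intro i _
  rw [Finset.sum_ite_eq]
  simp

theorem irr_sum_norm_sq [Fintype G] (ψ : IrrCharacter G) :
    ∑ y : G, ψ.1 y * ψ.1 y⁻¹ = (Nat.card G : ℂ) := by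
  have h3 := irr_classInner ψ.2 ψ.2
  rw [if_pos rfl] at h3
  unfold classInner at h3
  have hGne : (Nat.card G : ℂ) ≠ 0 := Nat.cast_ne_zero.mpr Nat.card_pos.ne'
  have h4 : ∑ g : G, ψ.1 g * conj (ψ.1 g) = (Nat.card G : ℂ) := by
    field_simp at h3
    exact h3
  rw [← h4]
  apply Finset.sum_congr rfl
  intro g _
  rw [irr_inv]

/-- `∑_{a,b} ψ([a,b] u) = |G|² ψ(u) / ψ(1)²`. -/
theorem irr_sum_commutator_mul [Fintype G] (ψ : IrrCharacter G) (u : G) :
    ∑ a : G, ∑ b : G, ψ.1 (a * b * a⁻¹ * b⁻¹ * u) = (Nat.card G : ℂ) ^ 2 * ψ.1 u / ψ.1 1 ^ 2 := by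
  have h1 := irr_one_ne_zero ψ
  rw [Finset.sum_comm]
  have h2 : ∀ b : G, ∑ a : G, ψ.1 (a * b * a⁻¹ * b⁻¹ * u) =
      (Nat.card G : ℂ) * ψ.1 b * ψ.1 (b⁻¹ * u) / ψ.1 1 := by
    intro b
    rw [← irr_sum_conj_mul ψ b (b⁻¹ * u)]
    apply Finset.sum_congr rfl
    intro a _
    have : a * b * a⁻¹ * b⁻¹ * u = a * b * a⁻¹ * (b⁻¹ * u) := by group
    rw [this]
  simp_rw [h2]
  rw [← Finset.sum_div]
  simp_rw [mul_assoc]
  rw [← Finset.mul_sum, irr_convolution ψ ψ u, if_pos rfl]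
  field_simp

theorem irr_sum_commutator [Fintype G] (ψ : IrrCharacter G) :
    ∑ a : G, ∑ b : G, ψ.1 (a * b * a⁻¹ * b⁻¹) = (Nat.card G : ℂ) ^ 2 / ψ.1 1 := by
  have h1 := irr_one_ne_zero ψ
  have := irr_sum_commutator_mul ψ 1
  simp only [mul_one] at this
  rw [this]
  field_simp


theorem card_fiber_conj [DecidableEq G] {ι : Type*} [Fintype ι] (w : ι → G) (e : G → ι ≃ ι)
    (he : ∀ g i, w (e g i) = g * w i * g⁻¹) (g z : G) :
    (Finset.univ.filter (fun i => w i = g * z * g⁻¹)).card =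
      (Finset.univ.filter (fun i => w i = z)).card := by
  symm
  apply Finset.card_equiv (e g)
  intro i
  simp only [Finset.mem_filter, Finset.mem_univ, true_and]
  rw [he]
  constructor
  · intro h; rw [h]
  · intro h
    have := congrArg (fun t => g⁻¹ * t * g) h
    simpa [mul_assoc] using this

/-- conjugation equivalence on pairs -/
def conjPair (g : G) : G × G ≃ G × G where
  toFun p := (g * p.1 * g⁻¹, g * p.2 * g⁻¹)
  invFun p := (g⁻¹ * p.1 * g, g⁻¹ * p.2 * g)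
  left_inv p := by ext <;> simp [mul_assoc]
  right_inv p := by ext <;> simp [mul_assoc]

/-- The number of ways to write `z` as a commutator. -/
theorem commutator_count [Fintype G] [Fintype (IrrCharacter G)] [DecidableEq G] (z : G) :
    ((Finset.univ.filter (fun p : G × G => p.1 * p.2 * p.1⁻¹ * p.2⁻¹ = z)).card : ℂ) =
      (Nat.card G : ℂ) * ∑ ψ : IrrCharacter G, ψ.1 z / ψ.1 1 := by
  have hw := card_fiber_conj (fun p : G × G => p.1 * p.2 * p.1⁻¹ * p.2⁻¹) conjPair (by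
    intro g p
    simp only [conjPair, Equiv.coe_fn_mk]
    group)
  rw [count_fiber_eq _ hw z, Finset.mul_sum]
  apply Finset.sum_congr rfl
  intro ψ _
  have hGne : (Nat.card G : ℂ) ≠ 0 := Nat.cast_ne_zero.mpr Nat.card_pos.ne'
  have h1 := irr_one_ne_zero ψ
  have h2 : ∑ p : G × G, conj (ψ.1 (p.1 * p.2 * p.1⁻¹ * p.2⁻¹)) = (Nat.card G : ℂ) ^ 2 / ψ.1 1 := by
    rw [← map_sum, Fintype.sum_prod_type]
    simp only
    rw [irr_sum_commutator ψ, map_div₀, map_pow, map_natCast, irr_one_real]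
  rw [h2]
  field_simp

/-- conjugation equivalence on quadruples -/
def conjQuad (g : G) : (G × G) × (G × G) ≃ (G × G) × (G × G) := (conjPair g).prodCongr (conjPair g)

/-- The number of ways to write `z` as a product of two commutators. -/
theorem two_commutator_count [Fintype G] [Fintype (IrrCharacter G)] [DecidableEq G] (z : G) :
    ((Finset.univ.filter (fun p : (G × G) × (G × G) =>
      (p.1.1 * p.1.2 * p.1.1⁻¹ * p.1.2⁻¹) * (p.2.1 * p.2.2 * p.2.1⁻¹ * p.2.2⁻¹) = z)).card : ℂ) =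
      (Nat.card G : ℂ) ^ 3 * ∑ ψ : IrrCharacter G, ψ.1 z / ψ.1 1 ^ 3 := by
  have hw := card_fiber_conj (fun p : (G × G) × (G × G) =>
      (p.1.1 * p.1.2 * p.1.1⁻¹ * p.1.2⁻¹) * (p.2.1 * p.2.2 * p.2.1⁻¹ * p.2.2⁻¹)) conjQuad (by
    intro g p
    simp only [conjQuad, conjPair, Equiv.prodCongr_apply, Equiv.coe_fn_mk, Prod.map_fst, Prod.map_snd]
    group)
  rw [count_fiber_eq _ hw z, Finset.mul_sum]
  apply Finset.sum_congr rfl
  intro ψ _
  have hGne : (Nat.card G : ℂ) ≠ 0 := Nat.cast_ne_zero.mpr Nat.card_pos.ne'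
  have h1 := irr_one_ne_zero ψ
  have h2 : ∑ p : (G × G) × (G × G), conj (ψ.1 ((p.1.1 * p.1.2 * p.1.1⁻¹ * p.1.2⁻¹) *
      (p.2.1 * p.2.2 * p.2.1⁻¹ * p.2.2⁻¹))) = (Nat.card G : ℂ) ^ 4 / ψ.1 1 ^ 3 := by
    rw [← map_sum]
    have h3 : ∑ p : (G × G) × (G × G), ψ.1 ((p.1.1 * p.1.2 * p.1.1⁻¹ * p.1.2⁻¹) *
        (p.2.1 * p.2.2 * p.2.1⁻¹ * p.2.2⁻¹)) = (Nat.card G : ℂ) ^ 4 / ψ.1 1 ^ 3 := by
      rw [Fintype.sum_prod_type, Finset.sum_comm]
      have h4 : ∀ q : G × G, ∑ p : G × G, ψ.1 ((p.1 * p.2 * p.1⁻¹ * p.2⁻¹) *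
          (q.1 * q.2 * q.1⁻¹ * q.2⁻¹)) =
          (Nat.card G : ℂ) ^ 2 * ψ.1 (q.1 * q.2 * q.1⁻¹ * q.2⁻¹) / ψ.1 1 ^ 2 := by
        intro q
        rw [Fintype.sum_prod_type]
        exact irr_sum_commutator_mul ψ _
      simp_rw [h4]
      rw [← Finset.sum_div, ← Finset.mul_sum, Fintype.sum_prod_type, irr_sum_commutator ψ]
      field_simp
    rw [h3, map_div₀, map_pow, map_pow, map_natCast, irr_one_real]
  rw [h2]
  field_simp

end Cfsg.Agent.Lib.Helper8
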