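import Mathlib
import Cfsg.Prelude.Def_Blocks
import Cfsg.Agent.Lib.Helper8.CharAvg

set_option autoImplicit false

namespace Cfsg.Agent.Lib.Helper8
open Cfsg
open scoped ComplexConjugate

variable {G : Type*} [Group G]

theorem isCharacter_one_eq_charDegree {χ : G → ℂ} (hχ : IsCharacter G χ) :
    χ 1 = (charDegree χ : ℂ) := by
  obtain ⟨n, ρ, rfl⟩ := hχ
  unfold charDegree
  rw [Representation.char_one]
  simp

theorem irr_one_eq_charDegree (ψ : IrrCharacter G) : ψ.1 1 = (charDegree ψ.1 : ℂ) :=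
  isCharacter_one_eq_charDegree (irr_isCharacter ψ.2)

theorem charDegree_pos (ψ : IrrCharacter G) : 0 < charDegree ψ.1 := by
  have h1 := irr_one_ne_zero ψ
  rw [irr_one_eq_charDegree] at h1
  exact Nat.pos_of_ne_zero (fun h => h1 (by rw [h]; simp))

theorem charDegree_dvd_card [Finite G] (ψ : IrrCharacter G) : charDegree ψ.1 ∣ Nat.card G := by
  obtain ⟨n, σ, hσ, hσψ⟩ := ψ.2
  have hdvd := degree_dvd_card hσ
  have : charDegree ψ.1 = Module.finrank ℂ (Fin n → ℂ) := by
    have h1 := irr_one_eq_charDegree ψ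
    have h2 : ψ.1 1 = (Module.finrank ℂ (Fin n → ℂ) : ℂ) := by
      rw [← hσψ, Representation.char_one]
    rw [h2] at h1
    exact_mod_cast h1.symm
  rw [this]; exact hdvd

theorem card_eq_sum_charDegree_sq [Finite G] [Fintype (IrrCharacter G)] :
    Nat.card G = ∑ ψ : IrrCharacter G, charDegree ψ.1 ^ 2 := by
  classical
  have : Fintype G := Fintype.ofFinite G
  have key := irr_sum_mul_conj (1 : G) 1
  rw [if_pos (IsConj.refl 1)] at key
  have hc : Subgroup.centralizer ({1} : Set G) = ⊤ := by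
    rw [eq_top_iff]
    intro x _
    rw [Subgroup.mem_centralizer_iff]
    intro y hy
    rw [Set.mem_singleton_iff.mp hy]
    simp
  rw [hc, Nat.card_congr (Subgroup.topEquiv (G := G)).toEquiv] at key
  have : ((Nat.card G : ℕ) : ℂ) = ((∑ ψ : IrrCharacter G, charDegree ψ.1 ^ 2 : ℕ) : ℂ) := by
    rw [← key]; push_cast
    apply Finset.sum_congr rfl
    intro ψ _
    rw [irr_one_eq_charDegree ψ]; simp [sq]
  exact_mod_cast this

end Cfsg.Agent.Lib.Helper8
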