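import Mathlib
import Cfsg.Agent.Lib.Helper8.CharBurnside

set_option autoImplicit false

namespace Cfsg.Agent.Lib.Helper8
open Cfsg
open scoped ComplexConjugate

variable {G : Type*} [Group G] {H : Type*} [Group H]

theorem irreducible_comp_surjective {V : Type*} [AddCommGroup V] [Module ℂ V] (φ : G →* H)
    (hφ : Function.Surjective φ) {ρ : Representation ℂ H V} (hρ : ρ.IsIrreducible) :
    Representation.IsIrreducible (ρ.comp φ : Representation ℂ G V) := by
  have hnt : Nontrivial V := irreducible_nontrivial hρ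
  refine { exists_pair_ne := ⟨⊥, ⊤, ?_⟩, eq_bot_or_eq_top := ?_ }
  · intro heq
    have h1 : (⊥ : Submodule ℂ V) = ⊤ := congrArg Subrepresentation.toSubmodule heq
    exact bot_ne_top h1
  · intro W
    have hW := irreducible_submodule hρ W.toSubmodule (by
      intro h v hv
      obtain ⟨g, rfl⟩ := hφ h
      exact W.apply_mem_toSubmodule g hv)
    rcases hW with hW | hW
    · left; exact Subrepresentation.toSubmodule_injective hW
    · right; exact Subrepresentation.toSubmodule_injective hW

theorem isIrrCharacter_comp_surjective (φ : G →* H) (hφ : Function.Surjective φ) {ψ : H → ℂ}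
    (hψ : IsIrrCharacter H ψ) : IsIrrCharacter G (ψ ∘ φ) := by
  obtain ⟨n, ρ, hρ, rfl⟩ := hψ
  exact ⟨n, ρ.comp φ, irreducible_comp_surjective φ hφ hρ, rfl⟩

theorem isCharacter_comp (φ : G →* H) {ψ : H → ℂ} (hψ : IsCharacter H ψ) : IsCharacter G (ψ ∘ φ) := by
  obtain ⟨n, ρ, rfl⟩ := hψ
  exact ⟨n, ρ.comp φ, rfl⟩

theorem end_fin_one_comm (f g : Module.End ℂ (Fin 1 → ℂ)) : f * g = g * f := by
  have key : ∀ (f : Module.End ℂ (Fin 1 → ℂ)) (v : Fin 1 → ℂ), f v = (f (fun _ => 1) 0) • v := by
    intro f v
    have hv : v = (v 0) • (fun _ => (1 : ℂ)) := by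
      ext i
      have : i = 0 := Subsingleton.elim _ _
      simp [this]
    conv_lhs => rw [hv]
    rw [map_smul]
    ext i
    have : i = 0 := Subsingleton.elim _ _
    simp [this, mul_comm]
  apply LinearMap.ext
  intro v
  simp only [Module.End.mul_apply]
  rw [key f (g v), key g v, key g (f v), key f v, smul_smul, smul_smul, mul_comm]

theorem commutator_le_ker_of_degree_one (ρ : Representation ℂ G (Fin 1 → ℂ)) :
    commutator G ≤ MonoidHom.ker ρ := by
  rw [commutator_def, Subgroup.commutator_le]
  intro a _ b _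
  rw [MonoidHom.mem_ker, commutatorElement_def, map_mul, map_mul, map_mul, end_fin_one_comm (ρ a) (ρ b),
    ← map_mul, ← map_mul, ← map_mul]
  have : b * a * a⁻¹ * b⁻¹ = 1 := by group
  rw [this, map_one]

/-- The number of linear characters equals the index of the commutator subgroup. -/
theorem card_linear_characters [Finite G] :
    Nat.card {χ : IrrCharacter G // χ.1 1 = 1} = (commutator G).index := by
  classical
  set A := Abelianization G with hA
  let mk : G →* A := Abelianization.of
  have hmk : Function.Surjective mk := QuotientGroup.mk_surjective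
  have hdegA : ∀ ψ : IrrCharacter A, ψ.1 1 = 1 := by
    intro ψ
    obtain ⟨n, ρ, hρ, hρψ⟩ := ψ.2
    have h1 := Representation.IsIrreducible.finrank_eq_one_of_isMulCommutative ρ
    rw [← hρψ, Representation.char_one, h1]
    simp
  let f : IrrCharacter A → {χ : IrrCharacter G // χ.1 1 = 1} := fun ψ =>
    ⟨⟨ψ.1 ∘ mk, isIrrCharacter_comp_surjective mk hmk ψ.2⟩, by
      show ψ.1 (mk 1) = 1
      rw [map_one]; exact hdegA ψ⟩
  have hinj : Function.Injective f := by
    intro ψ₁ ψ₂ h
    have h1 : ψ₁.1 ∘ mk = ψ₂.1 ∘ mk := congrArg (fun x => x.1.1) h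
    apply Subtype.ext
    ext a
    obtain ⟨g, rfl⟩ := hmk a
    exact congrFun h1 g
  have hsurj : Function.Surjective f := by
    rintro ⟨χ, hχ1⟩
    obtain ⟨n, ρ, hρ, hρχ⟩ := χ.2
    have hn : n = 1 := by
      have := hχ1
      rw [← hρχ, Representation.char_one] at this
      simp only [Module.finrank_fin_fun] at this
      exact_mod_cast this
    subst hn
    have hle := commutator_le_ker_of_degree_one ρ
    let ρ' : Representation ℂ A (Fin 1 → ℂ) := QuotientGroup.lift (commutator G) ρ hle
    have hρ' : ρ'.IsIrreducible := irreducible_of_finrank_eq_one ρ' (by simp)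
    refine ⟨⟨ρ'.character, ⟨1, ρ', hρ', rfl⟩⟩, ?_⟩
    apply Subtype.ext
    apply Subtype.ext
    show ρ'.character ∘ mk = χ.1
    rw [← hρχ]
    ext g
    rfl
  have h1 : Nat.card (IrrCharacter A) = Nat.card {χ : IrrCharacter G // χ.1 1 = 1} :=
    Nat.card_congr (Equiv.ofBijective f ⟨hinj, hsurj⟩)
  rw [← h1, card_irr_eq, ← Nat.card_congr (ConjClasses.mkEquiv (α := A))]
  rfl

end Cfsg.Agent.Lib.Helper8
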