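import Mathlib
import Cfsg.Agent.Lib.Helper8.CharLinear
import Cfsg.Agent.Lib.Helper8.CharDecomp
import Cfsg.Agent.Lib.Helper8.CharDegree

set_option autoImplicit false

namespace Cfsg.Agent.Lib.Helper8
open Cfsg
open scoped ComplexConjugate

variable {G : Type*} [Group G]
variable {V : Type*} [AddCommGroup V] [Module ℂ V]

theorem character_eq_degree_iff [Finite G] [FiniteDimensional ℂ V] (ρ : Representation ℂ G V) (g : G) :
    ρ.character g = (Module.finrank ℂ V : ℂ) ↔ ρ g = LinearMap.id := by
  have hm : 0 < orderOf g := orderOf_pos g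
  have hpow := rep_pow_orderOf ρ g
  have h1 : ρ.character g = (ρ g).charpoly.roots.sum := trace_eq_roots_sum (ρ g)
  constructor
  · intro h
    rw [h1] at h
    set s := (ρ g).charpoly.roots with hs
    have hcard : Multiset.card s = Module.finrank ℂ V := card_roots_charpoly (ρ g)
    have hnorm : ∀ μ ∈ s, ‖μ‖ = 1 := fun μ hμ =>
      norm_eq_one_of_pow_eq_one' hm (root_pow_eq_one hpow hμ)
    have hsum : (s.map (fun μ => 1 - ((1 : ℂ) * μ).re)).sum = 0 := by
      rw [sum_one_sub_re, one_mul, h, hcard]
      simp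
    have hnn : ∀ x ∈ s.map (fun μ => 1 - ((1 : ℂ) * μ).re), 0 ≤ x := by
      intro x hx
      obtain ⟨μ, hμ, rfl⟩ := Multiset.mem_map.mp hx
      have h2 : ((1 : ℂ) * μ).re ≤ ‖(1 : ℂ) * μ‖ := Complex.re_le_norm _
      rw [one_mul, hnorm μ hμ] at h2
      rw [one_mul]
      linarith
    have hall := multiset_all_zero_of_sum_zero _ hnn hsum
    have hone : ∀ μ ∈ s, μ = 1 := by
      intro μ hμ
      have h0 := hall _ (Multiset.mem_map.mpr ⟨μ, hμ, rfl⟩)
      rw [one_mul] at h0
      have hre : μ.re = 1 := by linarith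
      have hn := hnorm μ hμ
      have him : μ.im = 0 := by
        have h2 : μ.re ^ 2 + μ.im ^ 2 = 1 := by
          have := Complex.sq_norm μ
          rw [hn, Complex.normSq_apply] at this
          nlinarith [this]
        rw [hre] at h2
        have : μ.im ^ 2 = 0 := by linarith
        exact pow_eq_zero_iff (by norm_num) |>.mp this
      exact Complex.ext (by simp [hre]) (by simp [him])
    have hss := isSemisimple_of_pow_eq_one hm hpow
    have := eq_smul_of_roots hss hone
    ext v
    rw [this v, one_smul]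
    rfl
  · intro h
    rw [Representation.character, h]
    simp

/-- If the degree of a representation is smaller than every prime divisor of the group order,
all commutators act trivially. -/
theorem commutator_acts_trivially [Finite G] [FiniteDimensional ℂ V] (ρ : Representation ℂ G V)
    (hdeg : ∀ p : ℕ, p.Prime → p ∣ Nat.card G → Module.finrank ℂ V < p) (a b : G) :
    ρ (a * b * a⁻¹ * b⁻¹) = LinearMap.id := by
  classical
  have : Fintype G := Fintype.ofFinite G
  have := irr_finite (G := G)
  have : Fintype (IrrCharacter G) := Fintype.ofFinite _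
  obtain ⟨m, hm⟩ := character_decomp_aux _ V ρ rfl
  have hsum : Module.finrank ℂ V = ∑ ψ : IrrCharacter G, m ψ * charDegree ψ.1 := by
    have h1 := hm 1
    rw [Representation.char_one] at h1
    have : ((Module.finrank ℂ V : ℕ) : ℂ) = ((∑ ψ : IrrCharacter G, m ψ * charDegree ψ.1 : ℕ) : ℂ) := by
      rw [h1]; push_cast
      apply Finset.sum_congr rfl
      intro ψ _
      rw [irr_one_eq_charDegree ψ]
    exact_mod_cast this
  have hlin : ∀ ψ : IrrCharacter G, m ψ ≠ 0 → ∀ x y : G, ψ.1 (x * y * x⁻¹ * y⁻¹) = 1 := by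
    intro ψ hmψ x y
    have hle : charDegree ψ.1 ≤ Module.finrank ℂ V := by
      rw [hsum]
      calc charDegree ψ.1 ≤ m ψ * charDegree ψ.1 := Nat.le_mul_of_pos_left _ (Nat.pos_of_ne_zero hmψ)
        _ ≤ ∑ ψ : IrrCharacter G, m ψ * charDegree ψ.1 :=
          Finset.single_le_sum (f := fun ψ => m ψ * charDegree ψ.1) (fun _ _ => Nat.zero_le _) (Finset.mem_univ ψ)
    have hd : charDegree ψ.1 = 1 := by
      by_contra hne
      obtain ⟨p, hp, hpn⟩ := Nat.exists_prime_and_dvd hne
      have h1 := hdeg p hp (hpn.trans (charDegree_dvd_card ψ))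
      have h3 : p ≤ charDegree ψ.1 := Nat.le_of_dvd (charDegree_pos ψ) hpn
      omega
    obtain ⟨n, σ, hσ, hσψ⟩ := ψ.2
    have hn1 : n = 1 := by
      have h1 := irr_one_eq_charDegree ψ
      rw [hd] at h1
      have h2 : ψ.1 1 = (Module.finrank ℂ (Fin n → ℂ) : ℂ) := by
        rw [← hσψ, Representation.char_one]
      rw [h2] at h1
      simp only [Module.finrank_fin_fun] at h1
      exact_mod_cast h1
    subst hn1
    have hle' := commutator_le_ker_of_degree_one σ
    have hmem : x * y * x⁻¹ * y⁻¹ ∈ commutator G := by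
      rw [commutator_def]
      exact Subgroup.commutator_mem_commutator (Subgroup.mem_top x) (Subgroup.mem_top y)
    have h2 := hle' hmem
    rw [MonoidHom.mem_ker] at h2
    rw [← hσψ, Representation.character, h2]
    simp
  have hc : ρ.character (a * b * a⁻¹ * b⁻¹) = (Module.finrank ℂ V : ℂ) := by
    rw [hm, ← Representation.char_one (ρ := ρ), hm 1]
    apply Finset.sum_congr rfl
    intro ψ _
    by_cases hmψ : m ψ = 0
    · rw [hmψ]; simp
    · rw [hlin ψ hmψ a b]
      have := hlin ψ hmψ 1 1
      simp only [mul_one, inv_one] at this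
      rw [this]
  exact (character_eq_degree_iff ρ _).mp hc

end Cfsg.Agent.Lib.Helper8
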