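import Mathlib
import Cfsg.Prelude.Def_Solvable
import Cfsg.Prelude.Def_Characters
import Cfsg.Agent.Lib.Helper8.CharInd
import Cfsg.Agent.Lib.Helper8.CharClassSum
import Cfsg.Agent.Lib.Helper8.CharComplete2
import Cfsg.Agent.Lib.Helper8.CharBurnside
import Cfsg.Agent.Lib.Helper8.CharSmallDegree
import Cfsg.Agent.Lib.Helper8.CharDegree
import Cfsg.Agent.Lib.Helper8.CharDecomp

set_option autoImplicit false

namespace Cfsg.Agent.Lib.Helper8
open Cfsg
open scoped ComplexConjugate Pointwise

variable {G : Type*} [Group G]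

/-- A class function with integral multiplicities, norm one and positive degree is an irreducible
character. -/
theorem isIrrCharacter_of_int_norm_one [Fintype G] {φ : G → ℂ} (hφ : IsClassFunction G φ)
    (h : ∀ θ : IrrCharacter G, ∃ k : ℤ, classInner φ θ.1 = k) (h1 : classInner φ φ = 1)
    (hpos : 0 < (φ 1).re) : IsIrrCharacter G φ := by
  classical
  have := irr_finite (G := G)
  have : Fintype (IrrCharacter G) := Fintype.ofFinite _
  choose m hm using h
  have h1' := classFunction_eq_sum hφ
  have h2 : φ = fun g => ∑ ψ : IrrCharacter G, (m ψ : ℂ) * ψ.1 g := by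
    conv_lhs => rw [h1']
    ext g
    simp only [Finset.sum_apply, Pi.smul_apply, smul_eq_mul]
    apply Finset.sum_congr rfl
    intro ψ _
    rw [hm ψ]
  have hnorm : classInner φ φ = ∑ ψ : IrrCharacter G, ((m ψ * m ψ : ℤ) : ℂ) := by
    conv_lhs => rw [h2]
    rw [classInner_sum_left]
    apply Finset.sum_congr rfl
    intro ψ _
    rw [classInner_conj_symm, classInner_comb_irr (fun ψ => (m ψ : ℂ)) ψ]
    simp
  rw [h1] at hnorm
  have hint : ∑ ψ : IrrCharacter G, m ψ * m ψ = 1 := by
    have : ((∑ ψ : IrrCharacter G, m ψ * m ψ : ℤ) : ℂ) = 1 := by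
      rw [hnorm]; push_cast; rfl
    exact_mod_cast this
  have hex : ∃ ψ₀, m ψ₀ ≠ 0 := by
    by_contra hcon
    push Not at hcon
    simp [hcon] at hint
  obtain ⟨ψ₀, h0⟩ := hex
  have hsplit := Finset.add_sum_erase Finset.univ (fun ψ => m ψ * m ψ) (Finset.mem_univ ψ₀)
  rw [hint] at hsplit
  have hge : 1 ≤ m ψ₀ * m ψ₀ := by
    have : 0 < m ψ₀ * m ψ₀ := mul_self_pos.mpr h0
    omega
  have hnn : 0 ≤ ∑ ψ ∈ Finset.univ.erase ψ₀, m ψ * m ψ :=
    Finset.sum_nonneg (fun ψ _ => mul_self_nonneg _)
  have hrest : ∑ ψ ∈ Finset.univ.erase ψ₀, m ψ * m ψ = 0 := by linarith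
  have hsq : m ψ₀ * m ψ₀ = 1 := by linarith
  have hothers : ∀ ψ, ψ ≠ ψ₀ → m ψ = 0 := by
    intro ψ hne
    have := (Finset.sum_eq_zero_iff_of_nonneg (fun ψ _ => mul_self_nonneg (m ψ))).mp hrest ψ
      (Finset.mem_erase.mpr ⟨hne, Finset.mem_univ _⟩)
    exact mul_self_eq_zero.mp this
  have hφeq : ∀ g, φ g = (m ψ₀ : ℂ) * ψ₀.1 g := by
    intro g
    have := congrFun h2 g
    rw [this]
    rw [Finset.sum_eq_single ψ₀]
    · intro ψ _ hne; rw [hothers ψ hne]; simp
    · intro h; exact absurd (Finset.mem_univ _) h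
  have hm1 : m ψ₀ = 1 ∨ m ψ₀ = -1 := by
    have : (m ψ₀ - 1) * (m ψ₀ + 1) = 0 := by ring_nf; linarith
    rcases mul_eq_zero.mp this with h | h
    · left; omega
    · right; omega
  rcases hm1 with h | h
  · have : φ = ψ₀.1 := by ext g; rw [hφeq g, h]; simp
    rw [this]; exact ψ₀.2
  · exfalso
    have h3 := hφeq 1
    rw [h, irr_one_eq_charDegree] at h3
    have h4 : (φ 1).re = -(charDegree ψ₀.1 : ℝ) := by rw [h3]; simp
    have hp := charDegree_pos ψ₀
    rw [h4] at hpos
    have : (0:ℝ) < charDegree ψ₀.1 := by exact_mod_cast hp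
    linarith

theorem frobenius_conj_mem {H : Subgroup G} (hH : Cfsg.IsFrobeniusComplement H) {h x : G}
    (hh : h ∈ H) (h1 : h ≠ 1) (hx : x⁻¹ * h * x ∈ H) : x ∈ H := by
  by_contra hxH
  have h2 := hH.2.2 x hxH
  have h3 : h ∈ H ⊓ (MulAut.conj x • H) := by
    refine Subgroup.mem_inf.mpr ⟨hh, ?_⟩
    rw [Subgroup.mem_pointwise_smul_iff_inv_smul_mem]
    simpa [MulAut.smul_def] using hx
  rw [h2] at h3
  exact h1 (Subgroup.mem_bot.mp h3)

theorem indFun_eq_zero_of_not_conj [Fintype G] (H : Subgroup G) (θ : H → ℂ) {x : G}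
    (hx : ∀ g : G, x ∉ MulAut.conj g • H) : indFun H θ x = 0 := by
  rw [indFun_apply]
  have : ∀ y : G, extendByZero H θ (y⁻¹ * x * y) = 0 := by
    intro y
    apply extendByZero_not_mem
    intro hy
    apply hx y
    rw [Subgroup.mem_pointwise_smul_iff_inv_smul_mem]
    simpa [MulAut.smul_def] using hy
  simp [this]

theorem indFun_frobenius [Fintype G] {H : Subgroup G} (hH : Cfsg.IsFrobeniusComplement H)
    {θ : H → ℂ} (hθ : IsClassFunction H θ) (h : H) (h1 : h ≠ 1) :
    indFun H θ (h : G) = θ h := by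
  classical
  rw [indFun_apply]
  have hHne : (Nat.card H : ℂ) ≠ 0 := Nat.cast_ne_zero.mpr Nat.card_pos.ne'
  have hterm : ∀ x : G, extendByZero H θ (x⁻¹ * (h : G) * x) = if x ∈ H then θ h else 0 := by
    intro x
    by_cases hx : x ∈ H
    · rw [if_pos hx]
      have e : x⁻¹ * (h : G) * x = (((⟨x, hx⟩ : H)⁻¹ * h * ⟨x, hx⟩ : H) : G) := by simp
      rw [e, extendByZero_coe]
      have := hθ h (⟨x, hx⟩ : H)⁻¹
      rw [inv_inv] at this
      exact this
    · rw [if_neg hx]
      apply extendByZero_not_mem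
      intro hc
      exact hx (frobenius_conj_mem hH h.2 (fun e => h1 (Subtype.ext e)) hc)
  simp_rw [hterm]
  rw [Finset.sum_ite, Finset.sum_const_zero, add_zero, Finset.sum_const, nsmul_eq_mul]
  have hcard : (Finset.univ.filter (fun x : G => x ∈ H)).card = Nat.card H := by
    rw [← Nat.card_eq_finsetCard]
    exact Nat.card_congr (Equiv.subtypeEquivRight (by intro x; simp))
  rw [hcard]
  field_simp

/-- The Frobenius extension of a class function of the complement. -/
noncomputable def frobStar [Fintype G] (H : Subgroup G) (φ : H → ℂ) : G → ℂ :=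
  fun x => indFun H (fun h => φ h - φ 1) x + φ 1

theorem frobStar_isClassFunction [Fintype G] (H : Subgroup G) (φ : H → ℂ) :
    IsClassFunction G (frobStar H φ) := by
  intro g h
  unfold frobStar
  rw [indFun_isClassFunction H _ g h]

theorem frobStar_coe [Fintype G] {H : Subgroup G} (hH : IsFrobeniusComplement H) {φ : H → ℂ}
    (hφ : IsClassFunction H φ) (h : H) : frobStar H φ (h : G) = φ h := by
  unfold frobStar
  by_cases h1 : h = 1
  · rw [h1, Subgroup.coe_one, indFun_one]; simp
  · have hcf : IsClassFunction H (fun h => φ h - φ 1) := by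
      intro a b
      simp only [hφ a b]
    rw [indFun_frobenius hH hcf h h1]; ring

theorem frobStar_kernel [Fintype G] (H : Subgroup G) (φ : H → ℂ) {x : G}
    (hx : x ∈ frobeniusKernel H) : frobStar H φ x = φ 1 := by
  unfold frobStar
  rcases hx with rfl | hx
  · rw [indFun_one]; simp
  · rw [indFun_eq_zero_of_not_conj H _ hx, zero_add]

theorem classInner_add_const [Fintype G] (f χ : G → ℂ) (c : ℂ) :
    classInner (fun g => f g + c) χ = classInner f χ + c * classInner (fun _ => (1 : ℂ)) χ := by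
  unfold classInner
  simp only [add_mul, one_mul, Finset.sum_add_distrib, mul_add, ← Finset.mul_sum]
  ring

theorem classInner_sub_const [Fintype G] (f χ : G → ℂ) (c : ℂ) :
    classInner (fun g => f g - c) χ = classInner f χ - c * classInner (fun _ => (1 : ℂ)) χ := by
  unfold classInner
  simp only [sub_mul, one_mul, Finset.sum_sub_distrib, mul_sub, ← Finset.mul_sum]
  ring

theorem classInner_one_one [Fintype G] :
    classInner (fun _ : G => (1 : ℂ)) (fun _ : G => (1 : ℂ)) = 1 := by
  unfold classInner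
  have hGne : (Nat.card G : ℂ) ≠ 0 := Nat.cast_ne_zero.mpr Nat.card_pos.ne'
  simp only [map_one, mul_one, Finset.sum_const, Finset.card_univ, nsmul_eq_mul,
    ← Nat.card_eq_fintype_card]
  field_simp

theorem classInner_frobStar [Fintype G] (H : Subgroup G) [Fintype H] (φ : H → ℂ) {χ : G → ℂ}
    (hχ : IsClassFunction G χ) :
    classInner (frobStar H φ) χ = classInner φ (fun h : H => χ h)
      - φ 1 * classInner (fun _ : H => (1 : ℂ)) (fun h : H => χ h)
      + φ 1 * classInner (fun _ : G => (1 : ℂ)) χ := by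
  unfold frobStar
  rw [classInner_add_const (indFun H (fun h => φ h - φ 1)) χ (φ 1)]
  rw [frobenius_reciprocity H _ χ hχ, classInner_sub_const]

theorem classInner_frobStar_one [Fintype G] (H : Subgroup G) [Fintype H] (φ : H → ℂ) :
    classInner (frobStar H φ) (fun _ : G => (1 : ℂ)) = classInner φ (fun _ : H => (1 : ℂ)) := by
  rw [classInner_frobStar H φ (χ := fun _ : G => (1 : ℂ)) (fun _ _ => rfl)]
  rw [classInner_one_one, classInner_one_one]
  ring

theorem classInner_frobStar_self [Fintype G] {H : Subgroup G} [Fintype H]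
    (hH : IsFrobeniusComplement H) {φ : H → ℂ} (hφ : IsClassFunction H φ) :
    classInner (frobStar H φ) (frobStar H φ) = classInner φ φ := by
  rw [classInner_frobStar H φ (frobStar_isClassFunction H φ)]
  have hres : (fun h : H => frobStar H φ (h : G)) = φ := funext (fun h => frobStar_coe hH hφ h)
  rw [hres]
  rw [classInner_conj_symm (frobStar H φ) (fun _ : G => (1 : ℂ)), classInner_frobStar_one,
    ← classInner_conj_symm]
  ring

theorem frobStar_irr [Fintype G] {H : Subgroup G} (hH : IsFrobeniusComplement H)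
    (φ : IrrCharacter H) : IsIrrCharacter G (frobStar H φ.1) := by
  classical
  have : Fintype H := Fintype.ofFinite H
  have hφcf : IsClassFunction H φ.1 := isClassFunction_of_isCharacter (irr_isCharacter φ.2)
  apply isIrrCharacter_of_int_norm_one (frobStar_isClassFunction H φ.1)
  · intro χ
    have hχcf := isClassFunction_of_isCharacter (irr_isCharacter χ.2)
    rw [classInner_frobStar H φ.1 hχcf]
    have hres : IsCharacter H (fun h : H => χ.1 h) := isCharacter_restrict H (irr_isCharacter χ.2)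
    obtain ⟨k1, hk1⟩ := classInner_character_nat (irr_isCharacter φ.2) hres
    obtain ⟨k2, hk2⟩ := classInner_character_nat
      (irr_isCharacter (principal_isIrrCharacter (G := H))) hres
    obtain ⟨k3, hk3⟩ := classInner_character_nat
      (irr_isCharacter (principal_isIrrCharacter (G := G))) (irr_isCharacter χ.2)
    refine ⟨(k1 : ℤ) - (charDegree φ.1 : ℤ) * k2 + (charDegree φ.1 : ℤ) * k3, ?_⟩
    rw [hk1, hk2, hk3, irr_one_eq_charDegree]
    push_cast
    ring
  · rw [classInner_frobStar_self hH hφcf, irr_classInner φ.2 φ.2, if_pos rfl]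
  · rw [frobStar_kernel H φ.1 (Or.inl rfl), irr_one_eq_charDegree]
    have hp := charDegree_pos φ
    simp only [Complex.natCast_re]
    exact_mod_cast hp

/-- Frobenius' theorem. -/
theorem frobenius_kernel_thm {G : Type*} [Group G] [Finite G] (H : Subgroup G)
    (hH : IsFrobeniusComplement H) :
    ∃ N : Subgroup G, (N : Set G) = frobeniusKernel H ∧ N.Normal ∧ Subgroup.IsComplement' N H := by
  classical
  have : Fintype G := Fintype.ofFinite G
  have : Fintype H := Fintype.ofFinite H
  have := irr_finite (G := H)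
  have : Fintype (IrrCharacter H) := Fintype.ofFinite _
  have hrep : ∀ φ : IrrCharacter H, ∃ (n : ℕ) (ρ : Representation ℂ G (Fin n → ℂ)),
      ρ.character = frobStar H φ.1 := by
    intro φ
    obtain ⟨n, ρ, _, h⟩ := frobStar_irr hH φ
    exact ⟨n, ρ, h⟩
  choose n ρ hρ using hrep
  set N : Subgroup G := ⨅ φ : IrrCharacter H, (ρ φ).asGroupHom.ker with hNdef
  have hNnormal : N.Normal := Subgroup.normal_iInf_normal (fun φ => MonoidHom.normal_ker _)
  have hcf : ∀ φ : IrrCharacter H, IsClassFunction H φ.1 :=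
    fun φ => isClassFunction_of_isCharacter (irr_isCharacter φ.2)
  have hmemN : ∀ x : G, x ∈ N ↔ ∀ φ : IrrCharacter H, frobStar H φ.1 x = φ.1 1 := by
    intro x
    rw [hNdef, Subgroup.mem_iInf]
    apply forall_congr'
    intro φ
    rw [MonoidHom.mem_ker, ← hρ φ]
    have h1 : (ρ φ).character 1 = φ.1 1 := by
      rw [hρ φ]; exact frobStar_kernel H φ.1 (Or.inl rfl)
    rw [← h1, Representation.char_one]
    rw [character_eq_degree_iff (ρ φ) x]
    constructor
    · intro h
      have := congrArg Units.val h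
      rw [Representation.asGroupHom_apply, Units.val_one] at this
      exact this
    · intro h
      apply Units.ext
      rw [Representation.asGroupHom_apply, h]
      rfl
  -- sum of squares of degrees
  have hsq : ∑ φ : IrrCharacter H, φ.1 1 * φ.1 1 = (Nat.card H : ℂ) := by
    rw [card_eq_sum_charDegree_sq (G := H)]
    push_cast
    apply Finset.sum_congr rfl
    intro φ _
    rw [irr_one_eq_charDegree]; ring
  have hcol : ∀ h : H, h ≠ 1 → ∑ φ : IrrCharacter H, φ.1 1 * φ.1 h = 0 := by
    intro h h1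
    have key := irr_sum_mul_conj (G := H) h 1
    rw [if_neg (fun hc => h1 (isConj_one_left.mp hc))] at key
    rw [← key]
    apply Finset.sum_congr rfl
    intro φ _
    rw [irr_one_real, mul_comm]
  -- N ∩ H = ⊥
  have hNH : ∀ h : H, (h : G) ∈ N → h = 1 := by
    intro h hh
    by_contra h1
    have h2 := hcol h h1
    have h3 : ∑ φ : IrrCharacter H, φ.1 1 * φ.1 h = ∑ φ : IrrCharacter H, φ.1 1 * φ.1 1 := by
      apply Finset.sum_congr rfl
      intro φ _
      rw [← (hmemN _).mp hh φ, frobStar_coe hH (hcf φ) h]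
    rw [h3, hsq] at h2
    exact (Nat.cast_ne_zero.mpr Nat.card_pos.ne' : (Nat.card H : ℂ) ≠ 0) h2
  have hKN : ∀ x : G, x ∈ frobeniusKernel H → x ∈ N := by
    intro x hx
    rw [hmemN]
    intro φ
    exact frobStar_kernel H φ.1 hx
  have hconj : ∀ x : G, x ∉ frobeniusKernel H → ∃ g : G, ∃ h : H, h ≠ 1 ∧ x = g * h * g⁻¹ := by
    intro x hx
    have hx' : ¬ (x = 1 ∨ ∀ g : G, x ∉ MulAut.conj g • H) := hx
    push Not at hx'
    obtain ⟨hx1, g, hg⟩ := hx'
    rw [Subgroup.mem_pointwise_smul_iff_inv_smul_mem] at hg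
    have hg' : g⁻¹ * x * g ∈ H := by simpa [MulAut.smul_def] using hg
    refine ⟨g, ⟨g⁻¹ * x * g, hg'⟩, ?_, by group⟩
    intro hc
    apply hx1
    have e1 : g⁻¹ * x * g = 1 := congrArg Subtype.val hc
    calc x = g * (g⁻¹ * x * g) * g⁻¹ := by group
      _ = 1 := by rw [e1]; group
  have hNK : ∀ x : G, x ∈ N → x ∈ frobeniusKernel H := by
    intro x hx
    by_contra hxK
    obtain ⟨g, h, h1, hxe⟩ := hconj x hxK
    apply h1
    apply hNH
    have : (h : G) = g⁻¹ * x * g⁻¹⁻¹ := by rw [hxe]; group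
    rw [this]
    exact hNnormal.conj_mem x hx g⁻¹
  have hNK' : (N : Set G) = frobeniusKernel H := by
    ext x
    exact ⟨hNK x, hKN x⟩
  refine ⟨N, hNK', hNnormal, ?_⟩
  -- counting
  have hGne : (Nat.card G : ℂ) ≠ 0 := Nat.cast_ne_zero.mpr Nat.card_pos.ne'
  have hsum1 : ∑ x : G, ∑ φ : IrrCharacter H, φ.1 1 * frobStar H φ.1 x = (Nat.card G : ℂ) := by
    rw [Finset.sum_comm]
    have hinner : ∀ φ : IrrCharacter H, ∑ x : G, φ.1 1 * frobStar H φ.1 x =
        φ.1 1 * ((Nat.card G : ℂ) * (if φ.1 = (fun _ => (1 : ℂ)) then 1 else 0)) := by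
      intro φ
      rw [← Finset.mul_sum]
      congr 1
      have h1 := classInner_frobStar_one H φ.1
      rw [irr_classInner φ.2 principal_isIrrCharacter] at h1
      rw [← h1]
      unfold classInner
      simp only [map_one, mul_one]
      field_simp
    rw [Finset.sum_congr rfl (fun φ _ => hinner φ)]
    rw [Finset.sum_eq_single (⟨fun _ => (1 : ℂ), principal_isIrrCharacter⟩ : IrrCharacter H)]
    · simp
    · intro φ _ hne
      rw [if_neg (fun hc => hne (Subtype.ext hc))]; simp
    · intro h; exact absurd (Finset.mem_univ _) h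
  have hpt : ∀ x : G, ∑ φ : IrrCharacter H, φ.1 1 * frobStar H φ.1 x =
      if x ∈ N then (Nat.card H : ℂ) else 0 := by
    intro x
    by_cases hx : x ∈ N
    · rw [if_pos hx, ← hsq]
      apply Finset.sum_congr rfl
      intro φ _
      rw [(hmemN x).mp hx φ]
    · rw [if_neg hx]
      obtain ⟨g, h, h1, hxe⟩ := hconj x (fun hc => hx (hKN x hc))
      rw [← hcol h h1]
      apply Finset.sum_congr rfl
      intro φ _
      rw [hxe, frobStar_isClassFunction H φ.1 (h : G) g, frobStar_coe hH (hcf φ) h]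
  have hcount : (Nat.card N : ℂ) * (Nat.card H : ℂ) = (Nat.card G : ℂ) := by
    rw [← hsum1, Finset.sum_congr rfl (fun x _ => hpt x), Finset.sum_ite, Finset.sum_const_zero,
      add_zero, Finset.sum_const, nsmul_eq_mul]
    congr 2
    rw [← Nat.card_eq_finsetCard]
    exact Nat.card_congr (Equiv.subtypeEquivRight (by intro x; simp))
  apply Subgroup.isComplement'_of_card_mul_and_disjoint
  · exact_mod_cast hcount
  · rw [Subgroup.disjoint_def]
    intro x hxN hxH
    have := hNH ⟨x, hxH⟩ hxN
    exact congrArg Subtype.val this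

end Cfsg.Agent.Lib.Helper8
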