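import Mathlib
import Cfsg.Agent.Lib.Helper8.CharAvg
import Cfsg.Agent.Lib.Helper8.CharLinear
import Cfsg.Agent.Lib.Helper8.CharDecomp

set_option autoImplicit false

namespace Cfsg.Agent.Lib.Helper8
open Cfsg
open scoped ComplexConjugate

variable {G : Type*} [Group G]

/-- Counting conjugacy classes on which a class-invariant predicate holds. -/
theorem card_classes_eq_sum [Fintype G] (P : G → Prop) [DecidablePred P]
    (hP : ∀ g h : G, IsConj g h → (P g ↔ P h)) :
    (Nat.card {C : ConjClasses G // ∀ g : G, ConjClasses.mk g = C → P g} : ℂ) =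
      (Nat.card G : ℂ)⁻¹ * ∑ g : G, if P g then (Nat.card (Subgroup.centralizer ({g} : Set G)) : ℂ) else 0 := by
  classical
  have hGne : (Nat.card G : ℂ) ≠ 0 := Nat.cast_ne_zero.mpr Nat.card_pos.ne'
  -- rewrite each term
  have hterm : ∀ g : G, (Nat.card G : ℂ)⁻¹ * (if P g then (Nat.card (Subgroup.centralizer ({g} : Set G)) : ℂ) else 0) =
      if P g then ((Finset.univ.filter (fun h : G => ConjClasses.mk h = ConjClasses.mk g)).card : ℂ)⁻¹ else 0 := by
    intro g
    by_cases hg : P g
    · rw [if_pos hg, if_pos hg]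
      have h1 := card_orbit_mul_card_centralizer g
      have h2 : (MulAction.orbit (ConjAct G) g).ncard =
          (Finset.univ.filter (fun h : G => ConjClasses.mk h = ConjClasses.mk g)).card := by
        rw [Set.ncard_eq_toFinset_card']
        congr 1
        ext h
        simp only [Set.mem_toFinset, Finset.mem_filter, Finset.mem_univ, true_and]
        rw [ConjAct.mem_orbit_conjAct, ConjClasses.mk_eq_mk_iff_isConj]
      rw [h2] at h1
      have h3 : ((Finset.univ.filter (fun h : G => ConjClasses.mk h = ConjClasses.mk g)).card : ℂ) *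
          (Nat.card (Subgroup.centralizer ({g} : Set G)) : ℂ) = (Nat.card G : ℂ) := by exact_mod_cast h1
      have h4 : ((Finset.univ.filter (fun h : G => ConjClasses.mk h = ConjClasses.mk g)).card : ℂ) ≠ 0 := by
        intro h0; rw [h0, zero_mul] at h3; exact hGne h3.symm
      rw [← h3]
      field_simp
    · rw [if_neg hg, if_neg hg, mul_zero]
  rw [Finset.mul_sum, Finset.sum_congr rfl (fun g _ => hterm g)]
  rw [← Finset.sum_fiberwise Finset.univ (ConjClasses.mk : G → ConjClasses G)]
  have hfiber : ∀ C : ConjClasses G,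
      ∑ g ∈ Finset.univ.filter (fun g : G => ConjClasses.mk g = C),
        (if P g then ((Finset.univ.filter (fun h : G => ConjClasses.mk h = ConjClasses.mk g)).card : ℂ)⁻¹ else 0) =
      if (∀ g : G, ConjClasses.mk g = C → P g) then 1 else 0 := by
    intro C
    obtain ⟨g₀, rfl⟩ := ConjClasses.mk_surjective C
    by_cases hC : ∀ g : G, ConjClasses.mk g = ConjClasses.mk g₀ → P g
    · rw [if_pos hC]
      have : ∀ g ∈ Finset.univ.filter (fun g : G => ConjClasses.mk g = ConjClasses.mk g₀),
          (if P g then ((Finset.univ.filter (fun h : G => ConjClasses.mk h = ConjClasses.mk g)).card : ℂ)⁻¹ else 0) =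
          ((Finset.univ.filter (fun h : G => ConjClasses.mk h = ConjClasses.mk g₀)).card : ℂ)⁻¹ := by
        intro g hg
        simp only [Finset.mem_filter, Finset.mem_univ, true_and] at hg
        rw [if_pos (hC g hg), hg]
      rw [Finset.sum_congr rfl this, Finset.sum_const, nsmul_eq_mul]
      have hne : ((Finset.univ.filter (fun h : G => ConjClasses.mk h = ConjClasses.mk g₀)).card : ℂ) ≠ 0 := by
        apply Nat.cast_ne_zero.mpr
        apply Finset.card_ne_zero.mpr
        exact ⟨g₀, by simp⟩
      exact mul_inv_cancel₀ hne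
    · rw [if_neg hC]
      apply Finset.sum_eq_zero
      intro g hg
      simp only [Finset.mem_filter, Finset.mem_univ, true_and] at hg
      have : ¬ P g := by
        intro hPg
        apply hC
        intro g' hg'
        have hc : IsConj g g' := ConjClasses.mk_eq_mk_iff_isConj.mp (hg.trans hg'.symm)
        exact (hP g g' hc).mp hPg
      rw [if_neg this]
  rw [Finset.sum_congr rfl (fun C _ => hfiber C), Finset.sum_boole]
  rw [Nat.card_eq_fintype_card, Fintype.card_subtype]

/-- Brauer's permutation lemma in a general form. -/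
theorem perm_lemma [Finite G] (β : G → G) (hβ1 : ∀ g h : G, IsConj g h → IsConj (β g) (β h))
    (hβ2 : ∀ χ : IrrCharacter G, IsIrrCharacter G (χ.1 ∘ β)) :
    Nat.card {C : ConjClasses G // ∀ g : G, ConjClasses.mk g = C → IsConj (β g) g} =
      Nat.card {χ : IrrCharacter G // χ.1 ∘ β = χ.1} := by
  classical
  have : Fintype G := Fintype.ofFinite G
  have := irr_finite (G := G)
  have : Fintype (IrrCharacter G) := Fintype.ofFinite _
  have hGne : (Nat.card G : ℂ) ≠ 0 := Nat.cast_ne_zero.mpr Nat.card_pos.ne'
  have hP : ∀ g h : G, IsConj g h → (IsConj (β g) g ↔ IsConj (β h) h) := by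
    intro g h hgh
    have h1 := hβ1 g h hgh
    constructor
    · intro h2; exact (h1.symm.trans h2).trans hgh
    · intro h2; exact (h1.trans h2).trans hgh.symm
  have h1 := card_classes_eq_sum (fun g => IsConj (β g) g) hP
  have h2 : ∀ g : G, (if IsConj (β g) g then (Nat.card (Subgroup.centralizer ({g} : Set G)) : ℂ) else 0) =
      ∑ χ : IrrCharacter G, χ.1 (β g) * conj (χ.1 g) := fun g => (irr_sum_mul_conj (β g) g).symm
  simp_rw [h2] at h1
  rw [Finset.sum_comm, Finset.mul_sum] at h1
  have h3 : ∀ χ : IrrCharacter G, (Nat.card G : ℂ)⁻¹ * ∑ g : G, χ.1 (β g) * conj (χ.1 g) =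
      if χ.1 ∘ β = χ.1 then 1 else 0 := by
    intro χ
    have := irr_classInner (hβ2 χ) χ.2
    unfold classInner at this
    exact this
  rw [Finset.sum_congr rfl (fun χ _ => h3 χ), Finset.sum_boole] at h1
  have h4 : (Finset.univ.filter (fun χ : IrrCharacter G => χ.1 ∘ β = χ.1)).card =
      Nat.card {χ : IrrCharacter G // χ.1 ∘ β = χ.1} := by
    rw [Nat.card_eq_fintype_card, Fintype.card_subtype]
  rw [h4] at h1
  exact_mod_cast h1

theorem irr_conj [Finite G] {χ : G → ℂ} (hχ : IsIrrCharacter G χ) :
    IsIrrCharacter G (fun g => conj (χ g)) := by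
  have : Fintype G := Fintype.ofFinite G
  obtain ⟨n, ρ, hρ, rfl⟩ := hχ
  have hchar : IsCharacter G (fun g => conj (ρ.character g)) := by
    have h := isCharacter_of_rep ρ.dual
    have : ρ.dual.character = fun g => conj (ρ.character g) := by
      ext g
      rw [Representation.char_dual, character_inv]
    rw [this] at h
    exact h
  apply isIrrCharacter_of_norm_one hchar
  have h1 := irr_classInner (⟨n, ρ, hρ, rfl⟩ : IsIrrCharacter G ρ.character) ⟨n, ρ, hρ, rfl⟩
  rw [if_pos rfl] at h1
  unfold classInner at h1 ⊢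
  rw [← h1]
  congr 1
  apply Finset.sum_congr rfl
  intro g _
  rw [Complex.conj_conj, mul_comm]

end Cfsg.Agent.Lib.Helper8
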