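import Mathlib
import Cfsg.Agent.Lib.Helper8.CharInd
import Cfsg.Agent.Lib.Helper8.CharLinear

set_option autoImplicit false

namespace Cfsg.Agent.Lib.Helper8
open Cfsg
open scoped ComplexConjugate

variable {G : Type*} [Group G]

/-- The conjugate `θ^g : h ↦ θ(g h g⁻¹)` of a function on a normal subgroup. -/
def conjChar {H : Subgroup G} (hN : H.Normal) (θ : H → ℂ) (g : G) : H → ℂ :=
  fun h => θ ⟨g * h * g⁻¹, hN.conj_mem h h.2 g⟩

theorem conjChar_apply {H : Subgroup G} (hN : H.Normal) (θ : H → ℂ) (g : G) (h : H) :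
    conjChar hN θ g h = θ ⟨g * h * g⁻¹, hN.conj_mem h h.2 g⟩ := rfl

theorem conjChar_eq_comp {H : Subgroup G} (hN : H.Normal) (θ : H → ℂ) (g : G) :
    conjChar hN θ g = θ ∘ (@MulAut.conjNormal G _ H hN g) := by
  ext h
  simp only [conjChar, Function.comp_apply]
  congr 1

theorem conjChar_irr {H : Subgroup G} (hN : H.Normal) {θ : H → ℂ} (hθ : IsIrrCharacter H θ) (g : G) :
    IsIrrCharacter H (conjChar hN θ g) := by
  rw [conjChar_eq_comp]
  exact isIrrCharacter_comp_surjective (@MulAut.conjNormal G _ H hN g).toMonoidHom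
    (@MulAut.conjNormal G _ H hN g).surjective hθ

theorem conjChar_isCharacter {H : Subgroup G} (hN : H.Normal) {θ : H → ℂ} (hθ : IsCharacter H θ) (g : G) :
    IsCharacter H (conjChar hN θ g) := by
  rw [conjChar_eq_comp]
  exact isCharacter_comp (@MulAut.conjNormal G _ H hN g).toMonoidHom hθ

theorem conjChar_one {H : Subgroup G} (hN : H.Normal) (θ : H → ℂ) : conjChar hN θ 1 = θ := by
  ext h
  simp [conjChar]

theorem conjChar_mul {H : Subgroup G} (hN : H.Normal) (θ : H → ℂ) (a b : G) :
    conjChar hN (conjChar hN θ a) b = conjChar hN θ (a * b) := by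
  ext h
  simp only [conjChar]
  congr 1
  apply Subtype.ext
  simp only
  group

/-- Restriction to `H` of a class function of `G` is invariant under conjugation. -/
theorem conjChar_restrict {H : Subgroup G} (hN : H.Normal) {χ : G → ℂ} (hχ : IsClassFunction G χ) (g : G) :
    conjChar hN (fun h : H => χ h) g = fun h : H => χ h := by
  ext h
  simp only [conjChar]
  exact hχ h g

/-- Conjugation is an isometry for the inner product on `H`. -/
theorem classInner_conjChar {H : Subgroup G} [Fintype H] (hN : H.Normal) (α β : H → ℂ) (g : G) :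
    classInner (conjChar hN α g) (conjChar hN β g) = classInner α β := by
  unfold classInner
  congr 1
  apply Fintype.sum_equiv (@MulAut.conjNormal G _ H hN g).toEquiv
  intro h
  simp only [conjChar]
  rfl

theorem classInner_sum_right [Fintype G] {ι : Type*} (s : Finset ι) (a : ι → ℂ) (f : ι → G → ℂ) (ψ : G → ℂ) :
    classInner ψ (fun g => ∑ i ∈ s, a i * f i g) = ∑ i ∈ s, conj (a i) * classInner ψ (f i) := by
  rw [classInner_conj_symm, classInner_sum_left, map_sum]
  apply Finset.sum_congr rfl
  intro i _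
  rw [map_mul, ← classInner_conj_symm]

/-- The restriction to `H` of the induced function. -/
theorem indFun_restrict [Fintype G] {H : Subgroup G} (hN : H.Normal) (θ : H → ℂ) (h : H) :
    indFun H θ h = (Nat.card H : ℂ)⁻¹ * ∑ x : G, conjChar hN θ x h := by
  rw [indFun_apply]
  congr 1
  apply Fintype.sum_equiv (Equiv.inv G)
  intro x
  simp only [Equiv.inv_apply, conjChar, inv_inv]
  rw [extendByZero_mem H θ (by
    have := hN.conj_mem h h.2 x⁻¹
    simpa using this)]

/-- `|H| ⟨Ind θ, Ind θ⟩` counts the stabilizer of `θ`. -/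
theorem card_mul_norm_indFun [Fintype G] {H : Subgroup G} (hN : H.Normal) {θ : H → ℂ}
    (hθ : IsIrrCharacter H θ) [DecidableEq (H → ℂ)] :
    (Nat.card H : ℂ) * classInner (indFun H θ) (indFun H θ) =
      ((Finset.univ.filter (fun x : G => conjChar hN θ x = θ)).card : ℂ) := by
  classical
  have : Fintype H := Fintype.ofFinite H
  have hHne : (Nat.card H : ℂ) ≠ 0 := Nat.cast_ne_zero.mpr Nat.card_pos.ne'
  rw [frobenius_reciprocity H θ _ (indFun_isClassFunction H θ)]
  have h1 : (fun h : H => indFun H θ h) =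
      fun h => ∑ x ∈ (Finset.univ : Finset G), (Nat.card H : ℂ)⁻¹ * conjChar hN θ x h := by
    ext h
    rw [indFun_restrict hN θ h, Finset.mul_sum]
  rw [h1, classInner_sum_right, Finset.mul_sum]
  have h2 : ∀ x : G, (Nat.card H : ℂ) * (conj ((Nat.card H : ℂ)⁻¹) * classInner θ (conjChar hN θ x)) =
      if conjChar hN θ x = θ then 1 else 0 := by
    intro x
    rw [irr_classInner hθ (conjChar_irr hN hθ x), map_inv₀, map_natCast, ← mul_assoc,
      mul_inv_cancel₀ hHne, one_mul]
    by_cases hx : conjChar hN θ x = θ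
    · rw [if_pos hx.symm, if_pos hx]
    · rw [if_neg (fun h => hx h.symm), if_neg hx]
  rw [Finset.sum_congr rfl (fun x _ => h2 x), Finset.sum_boole]

end Cfsg.Agent.Lib.Helper8
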