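import Mathlib
import Cfsg.Agent.Lib.Helper8.CharClifford

set_option autoImplicit false

namespace Cfsg.Agent.Lib.Helper8
open Cfsg
open scoped ComplexConjugate

variable {G : Type*} [Group G]

theorem clifford_inner_conj {N : Subgroup G} [Fintype N] (hN : N.Normal) {θ : G → ℂ}
    (hθ : IsClassFunction G θ) (χ : N → ℂ) (g : G) :
    classInner (fun n : N => θ n) (conjChar hN χ g) = classInner (fun n : N => θ n) χ := by
  conv_lhs => rw [← conjChar_restrict hN hθ g]
  exact classInner_conjChar hN _ _ g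

theorem clifford_inner_nonconj [Fintype G] {N : Subgroup G} [Fintype N] (hN : N.Normal) {θ : G → ℂ}
    (hθ : IsIrrCharacter G θ) {χ : N → ℂ} (hχ : IsIrrCharacter N χ)
    (hconst : classInner (fun n : N => θ n) χ ≠ 0) (ψ : IrrCharacter N)
    (hψ : ¬ ∃ g : G, ψ.1 = conjChar hN χ g) : classInner (fun n : N => θ n) ψ.1 = 0 := by
  classical
  have := irr_finite (G := G)
  have : Fintype (IrrCharacter G) := Fintype.ofFinite _
  have hθcf : IsClassFunction G θ := isClassFunction_of_isCharacter (irr_isCharacter hθ)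
  have hfrob : classInner (indFun N χ) θ = conj (classInner (fun n : N => θ n) χ) := by
    rw [frobenius_reciprocity N χ θ hθcf, classInner_conj_symm]
  have hind : IsCharacter G (indFun N χ) := isCharacter_indFun N (irr_isCharacter hχ)
  obtain ⟨n, hn⟩ := isCharacter_decomp hind
  have hind' : indFun N χ = fun g => ∑ φ : IrrCharacter G, (n φ : ℂ) * φ.1 g := funext hn
  have hnθ : (n ⟨θ, hθ⟩ : ℂ) = conj (classInner (fun n : N => θ n) χ) := by
    rw [← hfrob, hind']
    exact (classInner_comb_irr (fun φ => (n φ : ℂ)) ⟨θ, hθ⟩).symm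
  have hnθ0 : n ⟨θ, hθ⟩ ≠ 0 := by
    intro h0
    rw [h0] at hnθ
    simp only [Nat.cast_zero] at hnθ
    apply hconst
    have := congrArg (starRingEnd ℂ) hnθ
    simpa using this.symm
  -- inner product of (Ind χ)_N with ψ, computed in two ways
  have hA : classInner (fun m : N => indFun N χ m) ψ.1 = 0 := by
    have h1 : (fun m : N => indFun N χ m) =
        fun m => ∑ x ∈ (Finset.univ : Finset G), (Nat.card N : ℂ)⁻¹ * conjChar hN χ x m := by
      ext m
      rw [indFun_restrict hN χ m, Finset.mul_sum]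
    rw [h1, classInner_sum_left]
    apply Finset.sum_eq_zero
    intro x _
    rw [irr_classInner (conjChar_irr hN hχ x) ψ.2, if_neg (fun h => hψ ⟨x, h.symm⟩), mul_zero]
  have hk : ∀ φ : IrrCharacter G, ∃ k : ℕ, classInner (fun m : N => φ.1 m) ψ.1 = k :=
    fun φ => classInner_character_irr_nat (isCharacter_restrict N (irr_isCharacter φ.2)) ψ.2
  choose k hk using hk
  have hB : classInner (fun m : N => indFun N χ m) ψ.1 = ((∑ φ : IrrCharacter G, n φ * k φ : ℕ) : ℂ) := by
    have h1 : (fun m : N => indFun N χ m) =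
        fun m => ∑ φ : IrrCharacter G, (n φ : ℂ) * (fun m : N => φ.1 m) m := by
      ext m
      rw [hn]
    rw [h1, classInner_sum_left]
    push_cast
    apply Finset.sum_congr rfl
    intro φ _
    rw [hk φ]
  rw [hA] at hB
  have hsum0 : ∑ φ : IrrCharacter G, n φ * k φ = 0 := by exact_mod_cast hB.symm
  have h0 : n ⟨θ, hθ⟩ * k ⟨θ, hθ⟩ = 0 :=
    Finset.sum_eq_zero_iff.mp hsum0 ⟨θ, hθ⟩ (Finset.mem_univ _)
  have hk0 : k ⟨θ, hθ⟩ = 0 := by
    rcases Nat.mul_eq_zero.mp h0 with h | h
    · exact absurd h hnθ0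
    · exact h
  have := hk ⟨θ, hθ⟩
  rw [hk0] at this
  simpa using this

/-- Clifford's theorem. -/
theorem clifford [Fintype G] {N : Subgroup G} [Fintype N] (hN : N.Normal) {θ : G → ℂ}
    (hθ : IsIrrCharacter G θ) {χ : N → ℂ} (hχ : IsIrrCharacter N χ)
    (hconst : classInner (fun n : N => θ n) χ ≠ 0) :
    (fun n : N => θ n) = classInner (fun n : N => θ n) χ •
      ∑ᶠ ψ ∈ {ψ : N → ℂ | ∃ g : G, ψ = conjChar hN χ g}, ψ := by
  classical
  have := irr_finite (G := N)
  have : Fintype (IrrCharacter N) := Fintype.ofFinite _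
  have hθcf : IsClassFunction G θ := isClassFunction_of_isCharacter (irr_isCharacter hθ)
  have hcfN : IsClassFunction N (fun n : N => θ n) :=
    isClassFunction_of_isCharacter (isCharacter_restrict N (irr_isCharacter hθ))
  set O : Set (N → ℂ) := {ψ : N → ℂ | ∃ g : G, ψ = conjChar hN χ g} with hO
  set filt : Finset (IrrCharacter N) := Finset.univ.filter (fun ψ => ψ.1 ∈ O) with hfilt
  have hOeq : O = ↑(Finset.image (fun ψ : IrrCharacter N => ψ.1) filt) := by
    ext ψ
    simp only [Finset.coe_image, Set.mem_image, Finset.mem_coe, hfilt, Finset.mem_filter,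
      Finset.mem_univ, true_and]
    constructor
    · intro hψ
      obtain ⟨g, hg⟩ := hψ
      exact ⟨⟨ψ, by rw [hg]; exact conjChar_irr hN hχ g⟩, ⟨g, hg⟩, rfl⟩
    · rintro ⟨φ, hφ, rfl⟩
      exact hφ
  have hfinsum : ∑ᶠ ψ ∈ O, ψ = ∑ ψ ∈ filt, ψ.1 := by
    rw [hOeq, finsum_mem_coe_finset, Finset.sum_image]
    intro a _ b _ hab
    exact Subtype.ext hab
  rw [hfinsum]
  have h1 := classFunction_eq_sum hcfN
  conv_lhs => rw [h1]
  rw [Finset.smul_sum, ← Finset.sum_filter_add_sum_filter_not Finset.univ (fun ψ : IrrCharacter N => ψ.1 ∈ O)]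
  have h2 : ∑ ψ ∈ Finset.univ.filter (fun ψ : IrrCharacter N => ¬ ψ.1 ∈ O),
      classInner (fun n : N => θ n) ψ.1 • ψ.1 = 0 := by
    apply Finset.sum_eq_zero
    intro ψ hψ
    simp only [Finset.mem_filter, Finset.mem_univ, true_and] at hψ
    rw [clifford_inner_nonconj hN hθ hχ hconst ψ hψ, zero_smul]
  rw [h2, add_zero]
  apply Finset.sum_congr rfl
  intro ψ hψ
  simp only [Finset.mem_filter, Finset.mem_univ, true_and] at hψ
  obtain ⟨g, hg⟩ := hψ
  rw [hg, clifford_inner_conj hN hθcf χ g]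

end Cfsg.Agent.Lib.Helper8
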