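import Mathlib
import Cfsg.Agent.Lib.Helper8.CharClifford2

set_option autoImplicit false

namespace Cfsg.Agent.Lib.Helper8
open Cfsg
open scoped ComplexConjugate

variable {G : Type*} [Group G]

theorem indFun_conjChar [Fintype G] {H : Subgroup G} (hN : H.Normal) (θ : H → ℂ) (g : G) :
    indFun H (conjChar hN θ g) = indFun H θ := by
  ext y
  rw [indFun_apply, indFun_apply]
  congr 1
  apply Fintype.sum_equiv (Equiv.mulRight g⁻¹)
  intro x
  simp only [Equiv.coe_mulRight]
  have hconj : (x * g⁻¹)⁻¹ * y * (x * g⁻¹) = g * (x⁻¹ * y * x) * g⁻¹ := by group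
  by_cases hmem : x⁻¹ * y * x ∈ H
  · have hmem' : (x * g⁻¹)⁻¹ * y * (x * g⁻¹) ∈ H := by
      rw [hconj]; exact hN.conj_mem _ hmem g
    rw [extendByZero_mem H _ hmem, extendByZero_mem H _ hmem']
    simp only [conjChar]
    congr 1
    apply Subtype.ext
    simp only
    rw [hconj]
  · have hmem' : (x * g⁻¹)⁻¹ * y * (x * g⁻¹) ∉ H := by
      rw [hconj]
      intro h
      apply hmem
      have := hN.conj_mem _ h g⁻¹
      simpa [mul_assoc] using this
    rw [extendByZero_not_mem H _ hmem, extendByZero_not_mem H _ hmem']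

theorem card_conjChar_fiber [Fintype G] [DecidableEq G] {H : Subgroup G} (hN : H.Normal) (θ : H → ℂ)
    [DecidableEq (H → ℂ)] (x₀ : G) :
    (Finset.univ.filter (fun x : G => conjChar hN θ x = conjChar hN θ x₀)).card =
      (Finset.univ.filter (fun x : G => conjChar hN θ x = θ)).card := by
  apply Finset.card_bij (fun x _ => x * x₀⁻¹)
  · intro x hx
    simp only [Finset.mem_filter, Finset.mem_univ, true_and] at hx ⊢
    rw [← conjChar_mul, hx, conjChar_mul, mul_inv_cancel, conjChar_one]
  · intro x _ x' _ h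
    exact mul_right_cancel h
  · intro t ht
    simp only [Finset.mem_filter, Finset.mem_univ, true_and] at ht
    refine ⟨t * x₀, ?_, by simp⟩
    simp only [Finset.mem_filter, Finset.mem_univ, true_and]
    rw [← conjChar_mul, ht]

/-- The restriction to `H` of an induced function, as a multiple of the orbit sum. -/
theorem indFun_restrict_orbit [Fintype G] {H : Subgroup G} (hN : H.Normal) (θ : H → ℂ) :
    (fun h : H => indFun H θ h) =
      ((Nat.card {g : G // conjChar hN θ g = θ} : ℂ) / (Nat.card H : ℂ)) •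
        ∑ᶠ ψ ∈ {ψ : H → ℂ | ∃ g : G, ψ = conjChar hN θ g}, ψ := by
  classical
  have hset : {ψ : H → ℂ | ∃ g : G, ψ = conjChar hN θ g} =
      ↑(Finset.univ.image (fun g : G => conjChar hN θ g)) := by
    ext ψ
    simp only [Set.mem_ofPred_eq, Finset.coe_image, Finset.coe_univ, Set.image_univ, Set.mem_range]
    constructor
    · rintro ⟨g, rfl⟩; exact ⟨g, rfl⟩
    · rintro ⟨g, rfl⟩; exact ⟨g, rfl⟩
  rw [hset, finsum_mem_coe_finset]
  ext h
  rw [indFun_restrict hN θ h, Pi.smul_apply, Finset.sum_apply, smul_eq_mul]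
  have h1 : ∑ x : G, conjChar hN θ x h =
      ∑ ψ ∈ Finset.univ.image (fun g : G => conjChar hN θ g),
        (Finset.univ.filter (fun x : G => conjChar hN θ x = ψ)).card • ψ h := by
    exact Finset.sum_comp (fun ψ : H → ℂ => ψ h) (fun g : G => conjChar hN θ g)
  rw [h1]
  have h2 : ∀ ψ ∈ Finset.univ.image (fun g : G => conjChar hN θ g),
      (Finset.univ.filter (fun x : G => conjChar hN θ x = ψ)).card • ψ h =
      (Nat.card {g : G // conjChar hN θ g = θ} : ℂ) * ψ h := by
    intro ψ hψ
    obtain ⟨x₀, -, rfl⟩ := Finset.mem_image.mp hψ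
    rw [card_conjChar_fiber hN θ x₀, nsmul_eq_mul, Nat.card_eq_fintype_card, Fintype.card_subtype]
  rw [Finset.sum_congr rfl h2, ← Finset.mul_sum]
  ring

/-- Inner product of two induced functions from a normal subgroup. -/
theorem classInner_indFun_indFun [Fintype G] {H : Subgroup G} [Fintype H] (hN : H.Normal) {θ φ : H → ℂ}
    (hθ : IsIrrCharacter H θ) (hφ : IsIrrCharacter H φ) [DecidableEq (H → ℂ)] :
    classInner (indFun H φ) (indFun H θ) =
      (Nat.card H : ℂ)⁻¹ * ((Finset.univ.filter (fun x : G => conjChar hN θ x = φ)).card : ℂ) := by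
  rw [frobenius_reciprocity H φ _ (indFun_isClassFunction H θ)]
  have h1 : (fun h : H => indFun H θ h) =
      fun h : H => ∑ x ∈ (Finset.univ : Finset G), (Nat.card H : ℂ)⁻¹ * conjChar hN θ x h := by
    ext h
    rw [indFun_restrict hN θ h, Finset.mul_sum]
  rw [h1, classInner_sum_right]
  simp only [map_inv₀, map_natCast]
  rw [← Finset.mul_sum]
  congr 1
  have h2 : ∀ x : G, classInner φ (conjChar hN θ x) = if conjChar hN θ x = φ then 1 else 0 := by
    intro x
    rw [irr_classInner hφ (conjChar_irr hN hθ x)]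
    by_cases h : conjChar hN θ x = φ
    · rw [if_pos h, if_pos h.symm]
    · rw [if_neg h, if_neg (fun h' => h h'.symm)]
  simp_rw [h2]
  rw [Finset.sum_boole]

end Cfsg.Agent.Lib.Helper8
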