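import Mathlib
import Cfsg.Prelude.Def_Blocks
import Cfsg.Agent.Lib.Helper8.CharClifford3
import Cfsg.Agent.Lib.Helper8.CharLinear
import Cfsg.Agent.Lib.Helper8.CharAvg
import Cfsg.Agent.S0147

set_option autoImplicit false

namespace Cfsg.Agent.Lib.Helper8
open Cfsg
open scoped ComplexConjugate

variable {G : Type*} [Group G]

/-- Transport of a function on `H` to `H.subgroupOf T`. -/
def subOfFun (H T : Subgroup G) (θ : H → ℂ) : H.subgroupOf T → ℂ :=
  fun x => θ ⟨(x : T), Subgroup.mem_subgroupOf.mp x.2⟩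

theorem subOfFun_eq_comp {H T : Subgroup G} (hHT : H ≤ T) (θ : H → ℂ) :
    subOfFun H T θ = θ ∘ (Subgroup.subgroupOfEquivOfLe hHT) := by
  ext x
  rfl

theorem subOfFun_irr {H T : Subgroup G} (hHT : H ≤ T) {θ : H → ℂ} (hθ : IsIrrCharacter H θ) :
    IsIrrCharacter (H.subgroupOf T) (subOfFun H T θ) := by
  rw [subOfFun_eq_comp hHT]
  exact isIrrCharacter_comp_surjective (Subgroup.subgroupOfEquivOfLe hHT).toMonoidHom
    (Subgroup.subgroupOfEquivOfLe hHT).surjective hθ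

theorem classInner_subOfFun {H T : Subgroup G} [Fintype H] [Fintype (H.subgroupOf T)] (hHT : H ≤ T)
    (ψ : T → ℂ) (θ : H → ℂ) :
    classInner (fun x : H.subgroupOf T => ψ x) (subOfFun H T θ) =
      classInner (fun n : H => ψ ⟨(n : G), hHT n.2⟩) θ := by
  unfold classInner
  rw [Nat.card_congr (Subgroup.subgroupOfEquivOfLe hHT).toEquiv]
  congr 1
  apply Fintype.sum_equiv (Subgroup.subgroupOfEquivOfLe hHT).toEquiv
  intro x
  rfl

theorem extendByZero_comb (H : Subgroup G) {ι : Type*} (s : Finset ι) (a : ι → ℂ) (f : ι → H → ℂ) (g : G) :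
    extendByZero H (fun h => ∑ i ∈ s, a i * f i h) g = ∑ i ∈ s, a i * extendByZero H (f i) g := by
  by_cases hg : g ∈ H
  · rw [extendByZero_mem H _ hg]
    apply Finset.sum_congr rfl
    intro i _
    rw [extendByZero_mem H _ hg]
  · rw [extendByZero_not_mem H _ hg]
    symm
    apply Finset.sum_eq_zero
    intro i _
    rw [extendByZero_not_mem H _ hg, mul_zero]

theorem indFun_comb [Fintype G] (H : Subgroup G) {ι : Type*} (s : Finset ι) (a : ι → ℂ) (f : ι → H → ℂ) (g : G) :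
    indFun H (fun h => ∑ i ∈ s, a i * f i h) g = ∑ i ∈ s, a i * indFun H (f i) g := by
  rw [indFun_apply]
  simp_rw [extendByZero_comb, indFun_apply]
  rw [Finset.sum_comm, Finset.mul_sum]
  apply Finset.sum_congr rfl
  intro i _
  rw [← Finset.mul_sum]
  ring

theorem indFun_ne_zero [Fintype G] (H : Subgroup G) (ψ : IrrCharacter H) : indFun H ψ.1 ≠ 0 := by
  intro h0
  have h1 := congrFun h0 1
  rw [indFun_apply] at h1
  have : ∀ x : G, extendByZero H ψ.1 (x⁻¹ * 1 * x) = ψ.1 1 := by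
    intro x
    have : x⁻¹ * 1 * x = ((1 : H) : G) := by simp
    rw [this, extendByZero_coe]
  rw [Finset.sum_congr rfl (fun x _ => this x), Finset.sum_const, Finset.card_univ, nsmul_eq_mul] at h1
  have hH : (Nat.card H : ℂ)⁻¹ ≠ 0 := inv_ne_zero (Nat.cast_ne_zero.mpr Nat.card_pos.ne')
  have hG : (Fintype.card G : ℂ) ≠ 0 := Nat.cast_ne_zero.mpr Fintype.card_pos.ne'
  exact mul_ne_zero hH (mul_ne_zero hG (irr_one_ne_zero ψ)) h1

/-- The norm of a nonzero character is at least one. -/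
theorem one_le_norm_of_character [Fintype G] {χ : G → ℂ} (hχ : IsCharacter G χ) (hne : χ ≠ 0)
    {k : ℕ} (hk : classInner χ χ = k) : 1 ≤ k := by
  classical
  have := irr_finite (G := G)
  have : Fintype (IrrCharacter G) := Fintype.ofFinite _
  obtain ⟨m, hm⟩ := isCharacter_decomp hχ
  have hχ' : χ = fun g => ∑ ψ : IrrCharacter G, (m ψ : ℂ) * ψ.1 g := funext hm
  have hnorm : classInner χ χ = ∑ ψ : IrrCharacter G, ((m ψ * m ψ : ℕ) : ℂ) := by
    conv_lhs => rw [hχ']
    rw [classInner_sum_left]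
    apply Finset.sum_congr rfl
    intro ψ _
    rw [classInner_conj_symm, classInner_comb_irr (fun ψ => (m ψ : ℂ)) ψ]
    simp
  rw [hk, ← Nat.cast_sum] at hnorm
  have hk' : k = ∑ ψ : IrrCharacter G, m ψ * m ψ := by exact_mod_cast hnorm
  by_contra hlt
  have hk0 : k = 0 := by omega
  rw [hk0] at hk'
  have hall : ∀ ψ : IrrCharacter G, m ψ = 0 := by
    intro ψ
    have := (Finset.sum_eq_zero_iff.mp hk'.symm) ψ (Finset.mem_univ _)
    exact mul_self_eq_zero.mp this
  apply hne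
  rw [hχ']
  ext g
  simp [hall]

theorem clifford_corr_main [Fintype G] (H T : Subgroup G) [hN : H.Normal] [Fintype T]
    [Fintype (IrrCharacter T)] (θ : H → ℂ)
    (hθ : IsIrrCharacter H θ)
    (hT : ∀ g : G, g ∈ T ↔ ∀ h : H, θ ⟨g * h * g⁻¹, hN.conj_mem h h.2 g⟩ = θ h) (hHT : H ≤ T) :
    ∃ m : IrrCharacter T → ℕ,
      (∀ ψ : IrrCharacter T, classInner (indFun (H.subgroupOf T) (subOfFun H T θ)) ψ.1 = m ψ) ∧
      (∀ g, indFun H θ g = ∑ ψ : IrrCharacter T, (m ψ : ℂ) * indFun T ψ.1 g) ∧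
      (∀ ψ, m ψ ≠ 0 → classInner (indFun T ψ.1) (indFun T ψ.1) = 1) ∧
      (∀ ψ ψ', m ψ ≠ 0 → m ψ' ≠ 0 → ψ ≠ ψ' → classInner (indFun T ψ.1) (indFun T ψ'.1) = 0) := by
  classical
  have : Fintype H := Fintype.ofFinite H
  have : Fintype (H.subgroupOf T) := Fintype.ofFinite _
  set θ' := subOfFun H T θ with hθ'
  have hθ'irr : IsIrrCharacter (H.subgroupOf T) θ' := subOfFun_irr hHT hθ
  have hN' : (H.subgroupOf T).Normal := Subgroup.normal_subgroupOf
  set θT := indFun (H.subgroupOf T) θ' with hθT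
  have hθTchar : IsCharacter T θT := isCharacter_indFun _ (irr_isCharacter hθ'irr)
  obtain ⟨m, hm⟩ := isCharacter_decomp hθTchar
  have hθTeq : θT = fun t => ∑ ψ : IrrCharacter T, (m ψ : ℂ) * ψ.1 t := funext hm
  have hm1 : ∀ ψ : IrrCharacter T, classInner θT ψ.1 = m ψ := by
    intro ψ
    rw [hθTeq]
    exact classInner_comb_irr (fun ψ => (m ψ : ℂ)) ψ
  have htrans : indFun T θT = indFun H θ := Cfsg.Agent.S0147.result H T hHT θ
  have hdecomp : ∀ g, indFun H θ g = ∑ ψ : IrrCharacter T, (m ψ : ℂ) * indFun T ψ.1 g := by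
    intro g
    rw [← htrans, hθTeq]
    exact indFun_comb T Finset.univ (fun ψ => (m ψ : ℂ)) (fun ψ => ψ.1) g
  -- norms
  have hcardH : Nat.card (H.subgroupOf T) = Nat.card H :=
    Nat.card_congr (Subgroup.subgroupOfEquivOfLe hHT).toEquiv
  have hnormT : classInner θT θT = (Nat.card H : ℂ)⁻¹ * (Nat.card T : ℂ) := by
    rw [hθT, classInner_indFun_indFun hN' hθ'irr hθ'irr, hcardH]
    congr 2
    rw [Finset.filter_true_of_mem, Finset.card_univ, Nat.card_eq_fintype_card]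
    intro x _
    ext h'
    rw [conjChar_apply]
    have hx := (hT (x : G)).mp x.2 ⟨((h' : T) : G), Subgroup.mem_subgroupOf.mp h'.2⟩
    exact hx
  have hnormG : classInner (indFun H θ) (indFun H θ) = (Nat.card H : ℂ)⁻¹ * (Nat.card T : ℂ) := by
    rw [classInner_indFun_indFun hN hθ hθ]
    congr 2
    rw [Nat.card_eq_fintype_card, Fintype.card_subtype]
    congr 1
    apply Finset.filter_congr
    intro x _
    rw [hT x]
    constructor
    · intro hx h
      have := congrFun hx h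
      rw [conjChar_apply] at this
      exact this
    · intro hx
      ext h
      rw [conjChar_apply]
      exact hx h
  -- natural-number inner products
  have hchar : ∀ ψ : IrrCharacter T, IsCharacter G (indFun T ψ.1) :=
    fun ψ => isCharacter_indFun T (irr_isCharacter ψ.2)
  have hex : ∀ ψ ψ' : IrrCharacter T, ∃ k : ℕ, classInner (indFun T ψ.1) (indFun T ψ'.1) = k :=
    fun ψ ψ' => classInner_character_nat (hchar ψ) (hchar ψ')
  choose a ha using hex
  have ha1 : ∀ ψ, 1 ≤ a ψ ψ := fun ψ =>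
    one_le_norm_of_character (hchar ψ) (indFun_ne_zero T ψ) (ha ψ ψ)
  have hsumT : classInner θT θT = ((∑ ψ : IrrCharacter T, m ψ * m ψ : ℕ) : ℂ) := by
    conv_lhs => rw [hθTeq]
    rw [classInner_sum_left]
    push_cast
    apply Finset.sum_congr rfl
    intro ψ _
    rw [classInner_conj_symm, classInner_comb_irr (fun ψ => (m ψ : ℂ)) ψ]
    simp
  have hsumG : classInner (indFun H θ) (indFun H θ) =
      ((∑ ψ : IrrCharacter T, ∑ ψ' : IrrCharacter T, m ψ * m ψ' * a ψ ψ' : ℕ) : ℂ) := by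
    have h1 : indFun H θ = fun g => ∑ ψ : IrrCharacter T, (m ψ : ℂ) * indFun T ψ.1 g := funext hdecomp
    conv_lhs => rw [h1]
    rw [classInner_sum_left]
    push_cast
    apply Finset.sum_congr rfl
    intro ψ _
    rw [classInner_sum_right, Finset.mul_sum]
    apply Finset.sum_congr rfl
    intro ψ' _
    rw [ha ψ ψ']
    simp
    ring
  have hnat : ∑ ψ : IrrCharacter T, m ψ * m ψ =
      ∑ ψ : IrrCharacter T, ∑ ψ' : IrrCharacter T, m ψ * m ψ' * a ψ ψ' := by
    have : ((∑ ψ : IrrCharacter T, m ψ * m ψ : ℕ) : ℂ) =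
        ((∑ ψ : IrrCharacter T, ∑ ψ' : IrrCharacter T, m ψ * m ψ' * a ψ ψ' : ℕ) : ℂ) := by
      rw [← hsumT, ← hsumG, hnormT, hnormG]
    exact_mod_cast this
  have hle : ∀ ψ ∈ (Finset.univ : Finset (IrrCharacter T)), m ψ * m ψ ≤
      ∑ ψ' : IrrCharacter T, m ψ * m ψ' * a ψ ψ' := by
    intro ψ _
    calc m ψ * m ψ ≤ m ψ * m ψ * a ψ ψ := Nat.le_mul_of_pos_right _ (ha1 ψ)
      _ ≤ ∑ ψ' : IrrCharacter T, m ψ * m ψ' * a ψ ψ' :=
        Finset.single_le_sum (f := fun ψ' => m ψ * m ψ' * a ψ ψ') (fun _ _ => Nat.zero_le _)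
          (Finset.mem_univ ψ)
  have heq := (Finset.sum_eq_sum_iff_of_le hle).mp hnat
  refine ⟨m, hm1, hdecomp, ?_, ?_⟩
  · intro ψ hψ
    have h1 := heq ψ (Finset.mem_univ _)
    have h2 : m ψ * m ψ * a ψ ψ ≤ m ψ * m ψ := by
      calc m ψ * m ψ * a ψ ψ ≤ ∑ ψ' : IrrCharacter T, m ψ * m ψ' * a ψ ψ' :=
            Finset.single_le_sum (f := fun ψ' => m ψ * m ψ' * a ψ ψ') (fun _ _ => Nat.zero_le _)
              (Finset.mem_univ ψ)
        _ = m ψ * m ψ := h1.symm
    have hpos : 0 < m ψ * m ψ := Nat.mul_pos (Nat.pos_of_ne_zero hψ) (Nat.pos_of_ne_zero hψ)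
    have h3 : a ψ ψ ≤ 1 := by
      by_contra hcon
      push Not at hcon
      have : m ψ * m ψ * 2 ≤ m ψ * m ψ * a ψ ψ := Nat.mul_le_mul_left _ hcon
      omega
    have h4 : a ψ ψ = 1 := le_antisymm h3 (ha1 ψ)
    rw [ha ψ ψ, h4]; simp
  · intro ψ ψ' hψ hψ' hne
    have h1 := heq ψ (Finset.mem_univ _)
    have hsub : ∑ x ∈ ({ψ, ψ'} : Finset (IrrCharacter T)), m ψ * m x * a ψ x ≤
        ∑ ψ' : IrrCharacter T, m ψ * m ψ' * a ψ ψ' :=
      Finset.sum_le_sum_of_subset (Finset.subset_univ _)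
    rw [Finset.sum_pair hne, ← h1] at hsub
    have h5 : m ψ * m ψ ≤ m ψ * m ψ * a ψ ψ := Nat.le_mul_of_pos_right _ (ha1 ψ)
    have h6 : m ψ * m ψ' * a ψ ψ' = 0 := by omega
    have h7 : a ψ ψ' = 0 := by
      rcases Nat.mul_eq_zero.mp h6 with h | h
      · rcases Nat.mul_eq_zero.mp h with h | h
        · exact absurd h hψ
        · exact absurd h hψ'
      · exact h
    rw [ha ψ ψ', h7]; simp

end Cfsg.Agent.Lib.Helper8
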