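import Mathlib
import Cfsg.Prelude.Def_Blocks
import Cfsg.Agent.Lib.Helper8.CharClifford2
import Cfsg.Agent.Lib.Helper8.CharDegree
import Cfsg.Agent.Lib.Helper8.CharClassSum

set_option autoImplicit false

namespace Cfsg.Agent.Lib.Helper8
open Cfsg
open scoped ComplexConjugate

variable {G : Type*} [Group G]

theorem clifford_invariant [Fintype G] {N : Subgroup G} [Fintype N] (hN : N.Normal) {χ : G → ℂ}
    (hχ : IsIrrCharacter G χ) {ϑ : N → ℂ} (hϑ : IsIrrCharacter N ϑ)
    (hcon : classInner (fun n : N => χ n) ϑ ≠ 0) (hinv : ∀ g : G, conjChar hN ϑ g = ϑ) :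
    (fun n : N => χ n) = classInner (fun n : N => χ n) ϑ • ϑ := by
  have h := clifford hN hχ hϑ hcon
  have hset : {ψ : N → ℂ | ∃ g : G, ψ = conjChar hN ϑ g} = {ϑ} := by
    ext ψ
    simp only [Set.mem_ofPred_eq, Set.mem_singleton_iff]
    constructor
    · rintro ⟨g, rfl⟩; exact hinv g
    · intro h; exact ⟨1, by rw [h, hinv 1]⟩
  rw [hset, finsum_mem_singleton] at h
  exact h

theorem sum_eq_sum_subgroup_add [Fintype G] (N : Subgroup G) [Fintype N] [DecidablePred (· ∈ N)]
    (F : G → ℂ) :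
    ∑ g : G, F g = ∑ n : N, F n + ∑ g ∈ Finset.univ.filter (fun g => g ∉ N), F g := by
  rw [← Finset.sum_filter_add_sum_filter_not Finset.univ (fun g => g ∈ N)]
  congr 1
  have h1 := sum_extendByZero N (fun _ => (1 : ℂ)) F
  simp only [one_mul] at h1
  rw [← h1, Finset.sum_filter]
  apply Finset.sum_congr rfl
  intro g _
  by_cases hg : g ∈ N
  · rw [if_pos hg, extendByZero_mem N _ hg, one_mul]
  · rw [if_neg hg, extendByZero_not_mem N _ hg, zero_mul]

theorem irr_norm_sum [Fintype G] {χ : G → ℂ} (hχ : IsIrrCharacter G χ) :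
    ∑ g : G, χ g * conj (χ g) = (Nat.card G : ℂ) := by
  have h3 := irr_classInner hχ hχ
  rw [if_pos rfl] at h3
  unfold classInner at h3
  have hGne : (Nat.card G : ℂ) ≠ 0 := Nat.cast_ne_zero.mpr Nat.card_pos.ne'
  field_simp at h3
  exact h3

/-- If `χ_N = k ϑ`, then `χ` vanishes off `N` iff `k² = [G:N]`. -/
theorem vanish_off_iff [Fintype G] {N : Subgroup G} [Fintype N] {χ : G → ℂ}
    (hχ : IsIrrCharacter G χ) {ϑ : N → ℂ} (hϑ : IsIrrCharacter N ϑ) (k : ℕ)
    (hres : (fun n : N => χ n) = (k : ℂ) • ϑ) :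
    (∀ g : G, g ∉ N → χ g = 0) ↔ k ^ 2 = N.index := by
  classical
  have h1 := irr_norm_sum hχ
  have h2 := irr_norm_sum hϑ
  rw [sum_eq_sum_subgroup_add N] at h1
  have h3 : ∑ n : N, χ n * conj (χ n) = (k : ℂ) ^ 2 * (Nat.card N : ℂ) := by
    rw [← h2, Finset.mul_sum]
    apply Finset.sum_congr rfl
    intro n _
    have := congrFun hres n
    simp only [Pi.smul_apply, smul_eq_mul] at this
    rw [this, map_mul, Complex.conj_natCast]
    ring
  rw [h3] at h1
  have hGN : (Nat.card G : ℂ) = (Nat.card N : ℂ) * (N.index : ℂ) := by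
    rw [← Nat.cast_mul, Subgroup.card_mul_index]
  have hNne : (Nat.card N : ℂ) ≠ 0 := Nat.cast_ne_zero.mpr Nat.card_pos.ne'
  constructor
  · intro hv
    have h4 : ∑ g ∈ Finset.univ.filter (fun g => g ∉ N), χ g * conj (χ g) = 0 := by
      apply Finset.sum_eq_zero
      intro g hg
      rw [hv g (Finset.mem_filter.mp hg).2, zero_mul]
    rw [h4, add_zero, hGN] at h1
    have h5 : (k : ℂ) ^ 2 = (N.index : ℂ) := by
      apply mul_right_cancel₀ hNne
      rw [h1]; ring
    exact_mod_cast h5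
  · intro hk g hg
    have h4 : ∑ g ∈ Finset.univ.filter (fun g => g ∉ N), χ g * conj (χ g) = 0 := by
      have : (k : ℂ) ^ 2 = (N.index : ℂ) := by exact_mod_cast hk
      rw [this, hGN, mul_comm] at h1
      exact left_eq_add.mp h1.symm
    have h5 : ∀ g : G, χ g * conj (χ g) = ((Complex.normSq (χ g) : ℝ) : ℂ) := fun g =>
      Complex.mul_conj (χ g)
    simp_rw [h5] at h4
    rw [← Complex.ofReal_sum] at h4
    have h6 : ∑ g ∈ Finset.univ.filter (fun g => g ∉ N), Complex.normSq (χ g) = 0 := by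
      exact_mod_cast h4
    have h7 := (Finset.sum_eq_zero_iff_of_nonneg (fun g _ => Complex.normSq_nonneg (χ g))).mp h6 g
      (Finset.mem_filter.mpr ⟨Finset.mem_univ _, hg⟩)
    exact Complex.normSq_eq_zero.mp h7

/-- If `χ_N = k ϑ`, then `k² = [G:N]` iff `χ` is the only irreducible constituent of `ϑ^G`. -/
theorem unique_constituent_iff [Fintype G] {N : Subgroup G} [Fintype N] {χ : G → ℂ}
    (hχ : IsIrrCharacter G χ) {ϑ : N → ℂ} (hϑ : IsIrrCharacter N ϑ) (k : ℕ)
    (hres : (fun n : N => χ n) = (k : ℂ) • ϑ) :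
    k ^ 2 = N.index ↔
      ∀ ψ : G → ℂ, IsIrrCharacter G ψ → classInner (indFun N ϑ) ψ ≠ 0 → ψ = χ := by
  classical
  have := irr_finite (G := G)
  have : Fintype (IrrCharacter G) := Fintype.ofFinite _
  have hind : IsCharacter G (indFun N ϑ) := isCharacter_indFun N (irr_isCharacter hϑ)
  obtain ⟨m, hm⟩ := isCharacter_decomp hind
  have hind' : indFun N ϑ = fun g => ∑ φ : IrrCharacter G, (m φ : ℂ) * φ.1 g := funext hm
  have hmφ : ∀ φ : IrrCharacter G, classInner (indFun N ϑ) φ.1 = (m φ : ℂ) := by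
    intro φ
    rw [hind']
    exact classInner_comb_irr (fun φ => (m φ : ℂ)) φ
  have hχcf : IsClassFunction G χ := isClassFunction_of_isCharacter (irr_isCharacter hχ)
  have hϑnorm : classInner ϑ ϑ = 1 := by rw [irr_classInner hϑ hϑ, if_pos rfl]
  have hmχ : m ⟨χ, hχ⟩ = k := by
    have h1 := hmφ ⟨χ, hχ⟩
    rw [frobenius_reciprocity N ϑ χ hχcf, hres] at h1
    have h2 : classInner ϑ ((k : ℂ) • ϑ) = (k : ℂ) := by
      rw [classInner_conj_symm]
      have : classInner ((k : ℂ) • ϑ) ϑ = (k : ℂ) * classInner ϑ ϑ := by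
        unfold classInner
        simp only [Pi.smul_apply, smul_eq_mul]
        rw [Finset.mul_sum, Finset.mul_sum, Finset.mul_sum]
        apply Finset.sum_congr rfl
        intro n _
        ring
      rw [this, hϑnorm, mul_one, Complex.conj_natCast]
    rw [h2] at h1
    exact_mod_cast h1.symm
  -- degrees
  set d := charDegree ϑ with hd
  have hd1 : ϑ 1 = (d : ℂ) := irr_one_eq_charDegree ⟨ϑ, hϑ⟩
  have hdpos : 0 < d := charDegree_pos ⟨ϑ, hϑ⟩
  have hχ1 : χ 1 = (k : ℂ) * (d : ℂ) := by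
    have := congrFun hres 1
    simp only [Pi.smul_apply, smul_eq_mul] at this
    rw [← hd1, ← this]
    rfl
  have hdeg : (N.index : ℂ) * (d : ℂ) = ∑ φ : IrrCharacter G, (m φ : ℂ) * (charDegree φ.1 : ℂ) := by
    rw [← hd1, ← indFun_one, hm 1]
    apply Finset.sum_congr rfl
    intro φ _
    rw [irr_one_eq_charDegree φ]
  have hdegχ : charDegree χ = k * d := by
    have h1 := irr_one_eq_charDegree ⟨χ, hχ⟩
    simp only at h1
    rw [hχ1] at h1
    exact_mod_cast h1.symm
  have hdegN : N.index * d = ∑ φ : IrrCharacter G, m φ * charDegree φ.1 := by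
    exact_mod_cast hdeg
  rw [← Finset.add_sum_erase Finset.univ _ (Finset.mem_univ (⟨χ, hχ⟩ : IrrCharacter G))] at hdegN
  simp only at hdegN
  rw [hmχ, hdegχ] at hdegN
  constructor
  · intro hk ψ hψ hne
    by_contra hneq
    have hmem : (⟨ψ, hψ⟩ : IrrCharacter G) ∈ Finset.univ.erase (⟨χ, hχ⟩ : IrrCharacter G) := by
      rw [Finset.mem_erase]
      exact ⟨fun h => hneq (congrArg Subtype.val h), Finset.mem_univ _⟩
    have h0 : ∑ φ ∈ Finset.univ.erase (⟨χ, hχ⟩ : IrrCharacter G), m φ * charDegree φ.1 = 0 := by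
      have : N.index * d = k * (k * d) + 0 := by rw [← hk]; ring
      omega
    have h1 := (Finset.sum_eq_zero_iff.mp h0) ⟨ψ, hψ⟩ hmem
    simp only at h1
    rcases Nat.mul_eq_zero.mp h1 with h | h
    · apply hne
      rw [hmφ ⟨ψ, hψ⟩, h]; simp
    · have := charDegree_pos ⟨ψ, hψ⟩
      simp only at this
      omega
  · intro huniq
    have h0 : ∑ φ ∈ Finset.univ.erase (⟨χ, hχ⟩ : IrrCharacter G), m φ * charDegree φ.1 = 0 := by
      apply Finset.sum_eq_zero
      intro φ hφ
      rw [Finset.mem_erase] at hφ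
      have : m φ = 0 := by
        by_contra hne
        apply hφ.1
        apply Subtype.ext
        apply huniq φ.1 φ.2
        rw [hmφ φ]
        exact_mod_cast hne
      rw [this, zero_mul]
    rw [h0, add_zero] at hdegN
    have : N.index * d = k ^ 2 * d := by rw [hdegN]; ring
    exact (Nat.eq_of_mul_eq_mul_right hdpos this).symm

end Cfsg.Agent.Lib.Helper8
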