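import Mathlib
import Cfsg.Prelude.Def_Blocks
import Cfsg.Agent.Lib.Helper8.CharCliffordCorr
import Cfsg.Agent.Lib.Helper8.CharRamified

set_option autoImplicit false

namespace Cfsg.Agent.Lib.Helper8
open Cfsg
open scoped ComplexConjugate

variable {G : Type*} [Group G]

/-- The norm trick: if `Σ mᵢ² = Σ mᵢ mⱼ aᵢⱼ` with `aᵢᵢ ≥ 1`, then `a` is the identity matrix on the
support of `m`. -/
theorem norm_trick {ι : Type*} [Fintype ι] [DecidableEq ι] (m : ι → ℕ) (a : ι → ι → ℕ)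
    (ha1 : ∀ i, 1 ≤ a i i)
    (hnat : ∑ i, m i * m i = ∑ i, ∑ j, m i * m j * a i j) :
    (∀ i, m i ≠ 0 → a i i = 1) ∧ (∀ i j, m i ≠ 0 → m j ≠ 0 → i ≠ j → a i j = 0) := by
  have hle : ∀ ψ ∈ (Finset.univ : Finset ι), m ψ * m ψ ≤ ∑ ψ' : ι, m ψ * m ψ' * a ψ ψ' := by
    intro ψ _
    calc m ψ * m ψ ≤ m ψ * m ψ * a ψ ψ := Nat.le_mul_of_pos_right _ (ha1 ψ)
      _ ≤ ∑ ψ' : ι, m ψ * m ψ' * a ψ ψ' :=
        Finset.single_le_sum (f := fun ψ' => m ψ * m ψ' * a ψ ψ') (fun _ _ => Nat.zero_le _)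
          (Finset.mem_univ ψ)
  have heq := (Finset.sum_eq_sum_iff_of_le hle).mp hnat
  refine ⟨?_, ?_⟩
  · intro ψ hψ
    have h1 := heq ψ (Finset.mem_univ _)
    have h2 : m ψ * m ψ * a ψ ψ ≤ m ψ * m ψ := by
      calc m ψ * m ψ * a ψ ψ ≤ ∑ ψ' : ι, m ψ * m ψ' * a ψ ψ' :=
            Finset.single_le_sum (f := fun ψ' => m ψ * m ψ' * a ψ ψ') (fun _ _ => Nat.zero_le _)
              (Finset.mem_univ ψ)
        _ = m ψ * m ψ := h1.symm
    have hpos : 0 < m ψ * m ψ := Nat.mul_pos (Nat.pos_of_ne_zero hψ) (Nat.pos_of_ne_zero hψ)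
    have h3 : a ψ ψ ≤ 1 := by
      by_contra hcon
      push Not at hcon
      have : m ψ * m ψ * 2 ≤ m ψ * m ψ * a ψ ψ := Nat.mul_le_mul_left _ hcon
      omega
    exact le_antisymm h3 (ha1 ψ)
  · intro ψ ψ' hψ hψ' hne
    have h1 := heq ψ (Finset.mem_univ _)
    have hsub : ∑ x ∈ ({ψ, ψ'} : Finset ι), m ψ * m x * a ψ x ≤
        ∑ ψ' : ι, m ψ * m ψ' * a ψ ψ' :=
      Finset.sum_le_sum_of_subset (Finset.subset_univ _)
    rw [Finset.sum_pair hne, ← h1] at hsub
    have h5 : m ψ * m ψ ≤ m ψ * m ψ * a ψ ψ := Nat.le_mul_of_pos_right _ (ha1 ψ)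
    have h6 : m ψ * m ψ' * a ψ ψ' = 0 := by omega
    rcases Nat.mul_eq_zero.mp h6 with h | h
    · rcases Nat.mul_eq_zero.mp h with h | h
      · exact absurd h hψ
      · exact absurd h hψ'
    · exact h

theorem indFun_mul_restrict [Fintype G] (N : Subgroup G) (α : N → ℂ) {χ : G → ℂ}
    (hχ : IsClassFunction G χ) :
    indFun N (fun n => α n * χ n) = indFun N α * χ := by
  ext g
  rw [Pi.mul_apply, indFun_apply, indFun_apply, mul_assoc, Finset.sum_mul]
  congr 1
  apply Finset.sum_congr rfl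
  intro x _
  have hx : χ (x⁻¹ * g * x) = χ g := by
    have := hχ g x⁻¹
    rwa [inv_inv] at this
  by_cases hm : x⁻¹ * g * x ∈ N
  · rw [extendByZero_mem N _ hm, extendByZero_mem N _ hm, hx]
  · rw [extendByZero_not_mem N _ hm, extendByZero_not_mem N _ hm, zero_mul]

theorem norm_indFun_invariant [Fintype G] {N : Subgroup G} [Fintype N] (hN : N.Normal) {φ : N → ℂ}
    (hφ : IsIrrCharacter N φ) (hinv : ∀ g : G, conjChar hN φ g = φ) :
    classInner (indFun N φ) (indFun N φ) = (N.index : ℂ) := by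
  classical
  rw [classInner_indFun_indFun hN hφ hφ, Finset.filter_true_of_mem (fun x _ => hinv x),
    Finset.card_univ, ← Nat.card_eq_fintype_card, ← Subgroup.card_mul_index N]
  have hNne : (Nat.card N : ℂ) ≠ 0 := Nat.cast_ne_zero.mpr Nat.card_pos.ne'
  push_cast
  field_simp

theorem irr_mul_ne_zero (β χ : IrrCharacter G) : β.1 * χ.1 ≠ 0 := by
  intro h
  have := congrFun h 1
  simp only [Pi.mul_apply, Pi.zero_apply] at this
  rcases mul_eq_zero.mp this with h1 | h1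
  · exact irr_one_ne_zero β h1
  · exact irr_one_ne_zero χ h1

/-- Core of Gallagher's theorem (generalized form). -/
theorem gallagher_core [Fintype G] [Fintype (IrrCharacter G)] {N : Subgroup G} [Fintype N]
    (hN : N.Normal) {φ ϑ : N → ℂ}
    (hφ : IsIrrCharacter N φ) (hφinv : ∀ g : G, conjChar hN φ g = φ)
    (hprod : IsIrrCharacter N (φ * ϑ)) (hprodinv : ∀ g : G, conjChar hN (φ * ϑ) g = φ * ϑ)
    (χ : IrrCharacter G) (hext : ∀ n : N, χ.1 n = ϑ n) :
    ∃ m : IrrCharacter G → ℕ,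
      (∀ β : IrrCharacter G, classInner (indFun N φ) β.1 = m β) ∧
      (∀ g, indFun N (φ * ϑ) g = ∑ β : IrrCharacter G, (m β : ℂ) * (β.1 * χ.1) g) ∧
      (∀ β, m β ≠ 0 → classInner (β.1 * χ.1) (β.1 * χ.1) = 1) ∧
      (∀ β β', m β ≠ 0 → m β' ≠ 0 → β ≠ β' → classInner (β.1 * χ.1) (β'.1 * χ.1) = 0) := by
  classical
  have hχcf : IsClassFunction G χ.1 := isClassFunction_of_isCharacter (irr_isCharacter χ.2)
  have hind : IsCharacter G (indFun N φ) := isCharacter_indFun N (irr_isCharacter hφ)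
  obtain ⟨m, hm⟩ := isCharacter_decomp hind
  have hind' : indFun N φ = fun g => ∑ β : IrrCharacter G, (m β : ℂ) * β.1 g := funext hm
  have hmβ : ∀ β : IrrCharacter G, classInner (indFun N φ) β.1 = (m β : ℂ) := by
    intro β
    rw [hind']
    exact classInner_comb_irr (fun β => (m β : ℂ)) β
  have hprodfun : φ * ϑ = fun n : N => φ n * χ.1 n := by
    ext n
    rw [Pi.mul_apply, hext n]
  have hdecomp : ∀ g, indFun N (φ * ϑ) g = ∑ β : IrrCharacter G, (m β : ℂ) * (β.1 * χ.1) g := by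
    intro g
    rw [hprodfun, indFun_mul_restrict N φ hχcf, Pi.mul_apply, hm g, Finset.sum_mul]
    apply Finset.sum_congr rfl
    intro β _
    rw [Pi.mul_apply]; ring
  have hchar : ∀ β : IrrCharacter G, IsCharacter G (β.1 * χ.1) :=
    fun β => isCharacter_mul (irr_isCharacter β.2) (irr_isCharacter χ.2)
  have hex : ∀ β β' : IrrCharacter G, ∃ k : ℕ, classInner (β.1 * χ.1) (β'.1 * χ.1) = k :=
    fun β β' => classInner_character_nat (hchar β) (hchar β')
  choose a ha using hex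
  have ha1 : ∀ β, 1 ≤ a β β := fun β =>
    one_le_norm_of_character (hchar β) (irr_mul_ne_zero β χ) (ha β β)
  have hsum1 : classInner (indFun N φ) (indFun N φ) = ((∑ β : IrrCharacter G, m β * m β : ℕ) : ℂ) := by
    conv_lhs => rw [hind']
    rw [classInner_sum_left]
    push_cast
    apply Finset.sum_congr rfl
    intro β _
    rw [classInner_conj_symm, classInner_comb_irr (fun β => (m β : ℂ)) β]
    simp
  have hsum2 : classInner (indFun N (φ * ϑ)) (indFun N (φ * ϑ)) =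
      ((∑ β : IrrCharacter G, ∑ β' : IrrCharacter G, m β * m β' * a β β' : ℕ) : ℂ) := by
    have h1 : indFun N (φ * ϑ) = fun g => ∑ β : IrrCharacter G, (m β : ℂ) * (β.1 * χ.1) g :=
      funext hdecomp
    conv_lhs => rw [h1]
    rw [classInner_sum_left]
    push_cast
    apply Finset.sum_congr rfl
    intro β _
    rw [classInner_sum_right, Finset.mul_sum]
    apply Finset.sum_congr rfl
    intro β' _
    rw [ha β β']
    simp
    ring
  have hnat : ∑ β : IrrCharacter G, m β * m β =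
      ∑ β : IrrCharacter G, ∑ β' : IrrCharacter G, m β * m β' * a β β' := by
    have : ((∑ β : IrrCharacter G, m β * m β : ℕ) : ℂ) =
        ((∑ β : IrrCharacter G, ∑ β' : IrrCharacter G, m β * m β' * a β β' : ℕ) : ℂ) := by
      rw [← hsum1, ← hsum2, norm_indFun_invariant hN hφ hφinv,
        norm_indFun_invariant hN hprod hprodinv]
    exact_mod_cast this
  obtain ⟨hd, ho⟩ := norm_trick m a ha1 hnat
  refine ⟨m, hmβ, hdecomp, ?_, ?_⟩
  · intro β hβ
    rw [ha β β, hd β hβ]; simp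
  · intro β β' hβ hβ' hne
    rw [ha β β', ho β β' hβ hβ' hne]; simp

end Cfsg.Agent.Lib.Helper8
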