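import Mathlib
import Cfsg.Prelude.Def_Characters
import Cfsg.Agent.Lib.Helper8.CharInd
import Cfsg.Agent.Lib.Helper8.CharCenter

set_option autoImplicit false

namespace Cfsg.Agent.Lib.Helper8
open Cfsg
open scoped ComplexConjugate

variable {G : Type*} [Group G]

/-- Induction commutes with inflation from a quotient. -/
theorem indFun_inflate [Fintype G] (A H : Subgroup G) [A.Normal] (hAH : A ≤ H) [Fintype (G ⧸ A)]
    (θ : H → ℂ) (θ₁ : ↥(H.map (QuotientGroup.mk' A)) → ℂ)
    (hθ : ∀ x : H, θ₁ ⟨QuotientGroup.mk' A x, Subgroup.mem_map_of_mem _ x.2⟩ = θ x) (g : G) :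
    indFun (H.map (QuotientGroup.mk' A)) θ₁ (QuotientGroup.mk' A g) = indFun H θ g := by
  classical
  have : Fintype A := Fintype.ofFinite A
  have hπs : Function.Surjective (QuotientGroup.mk' A) := QuotientGroup.mk'_surjective A
  have hker : (QuotientGroup.mk' A).ker ≤ H := by rw [QuotientGroup.ker_mk']; exact hAH
  have hext : ∀ z : G, extendByZero H θ z =
      extendByZero (H.map (QuotientGroup.mk' A)) θ₁ (QuotientGroup.mk' A z) := by
    intro z
    by_cases hz : z ∈ H
    · have e1 : extendByZero H θ z = θ ⟨z, hz⟩ := extendByZero_coe H θ ⟨z, hz⟩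
      have e2 : extendByZero (H.map (QuotientGroup.mk' A)) θ₁ (QuotientGroup.mk' A z) =
          θ₁ ⟨QuotientGroup.mk' A z, Subgroup.mem_map_of_mem _ hz⟩ :=
        extendByZero_coe (H.map (QuotientGroup.mk' A)) θ₁
          ⟨QuotientGroup.mk' A z, Subgroup.mem_map_of_mem _ hz⟩
      rw [e1, e2]; exact (hθ ⟨z, hz⟩).symm
    · rw [extendByZero_not_mem H θ hz, extendByZero_not_mem]
      intro hc
      apply hz
      obtain ⟨h, hh, hhz⟩ := Subgroup.mem_map.mp hc
      have h1 : h⁻¹ * z ∈ A := by
        rw [← QuotientGroup.eq]; exact hhz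
      have h2 : z = h * (h⁻¹ * z) := by group
      rw [h2]; exact H.mul_mem hh (hAH h1)
  rw [indFun_apply, indFun_apply]
  have hsum : ∑ x : G, extendByZero H θ (x⁻¹ * g * x) =
      Nat.card A • ∑ q : G ⧸ A, extendByZero (H.map (QuotientGroup.mk' A)) θ₁
        (q⁻¹ * QuotientGroup.mk' A g * q) := by
    rw [sum_eq_card_smul_sum_out A (fun x => extendByZero H θ (x⁻¹ * g * x))]
    · congr 1
      apply Finset.sum_congr rfl
      intro q _
      rw [hext]
      rw [map_mul, map_mul, map_inv]
      have : QuotientGroup.mk' A (Quotient.out q) = q := QuotientGroup.out_eq' q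
      rw [this]
    · intro x z hz
      rw [hext, hext]
      congr 1
      rw [map_mul, map_mul, map_inv, map_mul, map_mul, map_mul, map_inv]
      have : QuotientGroup.mk' A z = 1 := (QuotientGroup.eq_one_iff z).mpr hz
      rw [this]; simp
  rw [hsum]
  have hcard : Nat.card H = Nat.card A * Nat.card (H.map (QuotientGroup.mk' A)) := by
    have h1 := Subgroup.card_mul_index H
    have h2 := Subgroup.card_mul_index (H.map (QuotientGroup.mk' A))
    rw [Subgroup.index_map_eq H hπs hker] at h2
    have h3 := Subgroup.card_eq_card_quotient_mul_card_subgroup A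
    have hidx : 0 < H.index := Nat.pos_of_ne_zero (Subgroup.index_ne_zero_of_finite)
    apply Nat.eq_of_mul_eq_mul_right hidx
    rw [h1, h3, ← h2]; ring
  have hAne : (Nat.card A : ℂ) ≠ 0 := Nat.cast_ne_zero.mpr Nat.card_pos.ne'
  have hHbar : (Nat.card (H.map (QuotientGroup.mk' A)) : ℂ) ≠ 0 :=
    Nat.cast_ne_zero.mpr Nat.card_pos.ne'
  rw [hcard]; push_cast; rw [nsmul_eq_mul]; field_simp

end Cfsg.Agent.Lib.Helper8
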