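import Mathlib
import Cfsg.Prelude.Def_Blocks
import Cfsg.Agent.Lib.Helper8.CharGallagher
import Cfsg.Agent.Lib.Helper8.CharSmallDegree

set_option autoImplicit false

namespace Cfsg.Agent.Lib.Helper8
open Cfsg
open scoped ComplexConjugate

variable {G : Type*} [Group G]

/-- A character of degree one is multiplicative. -/
theorem linear_char_mul (χ : IrrCharacter G) (h1 : χ.1 1 = 1) (x y : G) :
    χ.1 (x * y) = χ.1 x * χ.1 y := by
  obtain ⟨n, ρ, hρ, hρχ⟩ := χ.2
  have hn : n = 1 := by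
    rw [← hρχ, Representation.char_one] at h1
    simp only [Module.finrank_fin_fun] at h1
    exact_mod_cast h1
  subst hn
  rw [← hρχ]
  simp only [Representation.character]
  rw [map_mul]
  have key : ∀ f : Module.End ℂ (Fin 1 → ℂ), LinearMap.trace ℂ _ f = LinearMap.toMatrix' f 0 0 := by
    intro f
    rw [LinearMap.trace_eq_matrix_trace ℂ (Pi.basisFun ℂ (Fin 1)) f, Matrix.trace_fin_one]
    rfl
  rw [key, key, key, Module.End.mul_eq_comp, LinearMap.toMatrix'_comp, Matrix.mul_apply,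
    Fin.sum_univ_one]

theorem linear_char_norm [Finite G] (χ : IrrCharacter G) (h1 : χ.1 1 = 1) (x : G) :
    χ.1 x * conj (χ.1 x) = 1 := by
  rw [← irr_inv χ x, ← linear_char_mul χ h1, mul_inv_cancel, h1]

/-- Irreducible characters lying over the principal character of a normal subgroup with abelian
quotient are linear. -/
theorem linear_of_over_principal [Fintype G] {K : Subgroup G} [Fintype K] (hK : K.Normal)
    (hab : ∀ x y : G, x * y * x⁻¹ * y⁻¹ ∈ K) (β : IrrCharacter G)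
    (hβ : classInner (indFun K (fun _ => (1 : ℂ))) β.1 ≠ 0) : β.1 1 = 1 := by
  classical
  have hβcf : IsClassFunction G β.1 := isClassFunction_of_isCharacter (irr_isCharacter β.2)
  have h1irr : IsIrrCharacter K (fun _ => (1 : ℂ)) := principal_isIrrCharacter
  have hcon : classInner (fun k : K => β.1 k) (fun _ => (1 : ℂ)) ≠ 0 := by
    rw [frobenius_reciprocity K _ β.1 hβcf, classInner_conj_symm] at hβ
    intro h0
    apply hβ
    rw [h0]; simp
  have hres := clifford_invariant hK β.2 h1irr hcon (fun g => rfl)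
  set c := classInner (fun k : K => β.1 k) (fun _ => (1 : ℂ)) with hc
  have hval : ∀ k : K, β.1 k = β.1 1 := by
    intro k
    have h2 := congrFun hres k
    have h3 := congrFun hres 1
    simp only [Pi.smul_apply, smul_eq_mul, mul_one] at h2 h3
    rw [h2]
    rw [OneMemClass.coe_one] at h3
    exact h3.symm
  obtain ⟨n, ρ, hρ, hρβ⟩ := β.2
  have hker : ∀ k ∈ K, ρ k = LinearMap.id := by
    intro k hk
    apply (character_eq_degree_iff ρ k).mp
    rw [← Representation.char_one ρ, hρβ]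
    exact hval ⟨k, hk⟩
  have hcomm : ∀ x y : G, ρ x * ρ y = ρ y * ρ x := by
    intro x y
    have h2 := hker _ (hab x y)
    rw [map_mul, map_mul, map_mul] at h2
    have h3 : ρ x * ρ y = (ρ x * ρ y * ρ x⁻¹ * ρ y⁻¹) * (ρ y * ρ x) := by
      have hx : ρ x⁻¹ * ρ x = 1 := by rw [← map_mul, inv_mul_cancel, map_one]
      have hy : ρ y⁻¹ * ρ y = 1 := by rw [← map_mul, inv_mul_cancel, map_one]
      calc ρ x * ρ y = ρ x * ρ y * 1 := by rw [mul_one]
        _ = ρ x * ρ y * (ρ x⁻¹ * ρ x) := by rw [hx]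
        _ = ρ x * ρ y * ρ x⁻¹ * 1 * ρ x := by rw [mul_one]; simp only [mul_assoc]
        _ = ρ x * ρ y * ρ x⁻¹ * (ρ y⁻¹ * ρ y) * ρ x := by rw [hy]
        _ = (ρ x * ρ y * ρ x⁻¹ * ρ y⁻¹) * (ρ y * ρ x) := by simp only [mul_assoc]
    rw [h3, h2]
    rfl
  have hscal : ∀ x : G, ∃ ω : ℂ, ρ x = ω • (LinearMap.id : (Fin n → ℂ) →ₗ[ℂ] (Fin n → ℂ)) := by
    intro x
    obtain ⟨ω, hω⟩ := schur_scalar hρ (ρ x) (by
      intro g v
      have := congrArg (fun f : Module.End ℂ (Fin n → ℂ) => f v) (hcomm x g)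
      simpa using this)
    refine ⟨ω, ?_⟩
    apply LinearMap.ext
    intro v
    rw [hω v]; rfl
  have hfr := finrank_eq_one_of_all_scalar hρ hscal
  rw [← hρβ, Representation.char_one, hfr]
  simp

theorem classInner_mul_linear [Fintype G] (β : IrrCharacter G) (h1 : β.1 1 = 1) (φ ψ : G → ℂ) :
    classInner (β.1 * φ) (β.1 * ψ) = classInner φ ψ := by
  unfold classInner
  congr 1
  apply Finset.sum_congr rfl
  intro g _
  simp only [Pi.mul_apply, map_mul]
  have := linear_char_norm β h1 g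
  calc β.1 g * φ g * (conj (β.1 g) * conj (ψ g)) = (β.1 g * conj (β.1 g)) * (φ g * conj (ψ g)) := by ring
    _ = φ g * conj (ψ g) := by rw [this, one_mul]

/-- Ramification over a normal subgroup with abelian quotient. -/
theorem abelian_quotient_ramification [Fintype G] [Fintype (IrrCharacter G)] {K : Subgroup G} [Fintype K]
    (hK : K.Normal) (hab : ∀ x y : G, x * y * x⁻¹ * y⁻¹ ∈ K) {θ : K → ℂ} (hθ : IsIrrCharacter K θ)
    (hinv : ∀ g : G, conjChar hK θ g = θ) :
    ∃ e : ℕ, 0 < e ∧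
      (∀ ψ : IrrCharacter G, classInner (indFun K θ) ψ.1 ≠ 0 →
        classInner (indFun K θ) ψ.1 = e ∧ ψ.1 1 = (e : ℂ) * θ 1) ∧
      e ^ 2 * (Finset.univ.filter (fun ψ : IrrCharacter G => classInner (indFun K θ) ψ.1 ≠ 0)).card =
        K.index := by
  classical
  have hind : IsCharacter G (indFun K θ) := isCharacter_indFun K (irr_isCharacter hθ)
  obtain ⟨m, hm⟩ := isCharacter_decomp hind
  have hind' : indFun K θ = fun g => ∑ ψ : IrrCharacter G, (m ψ : ℂ) * ψ.1 g := funext hm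
  have hmψ : ∀ ψ : IrrCharacter G, classInner (indFun K θ) ψ.1 = (m ψ : ℂ) := by
    intro ψ
    rw [hind']
    exact classInner_comb_irr (fun ψ => (m ψ : ℂ)) ψ
  -- restriction of constituents
  have hres : ∀ ψ : IrrCharacter G, m ψ ≠ 0 → (fun k : K => ψ.1 k) = (m ψ : ℂ) • θ := by
    intro ψ hψ
    have hψcf : IsClassFunction G ψ.1 := isClassFunction_of_isCharacter (irr_isCharacter ψ.2)
    have h1 : classInner (fun k : K => ψ.1 k) θ = (m ψ : ℂ) := by
      rw [classInner_conj_symm, ← frobenius_reciprocity K θ ψ.1 hψcf, hmψ ψ]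
      simp
    have hcon : classInner (fun k : K => ψ.1 k) θ ≠ 0 := by
      rw [h1]; exact_mod_cast hψ
    have := clifford_invariant hK ψ.2 hθ hcon hinv
    rw [h1] at this
    exact this
  have hdeg : ∀ ψ : IrrCharacter G, m ψ ≠ 0 → ψ.1 1 = (m ψ : ℂ) * θ 1 := by
    intro ψ hψ
    have := congrFun (hres ψ hψ) 1
    simp only [Pi.smul_apply, smul_eq_mul] at this
    rw [← this]; rfl
  -- support is nonempty
  have hne : ∃ ψ₀ : IrrCharacter G, m ψ₀ ≠ 0 := by
    by_contra hcon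
    push Not at hcon
    have h0 : indFun K θ 1 = 0 := by
      rw [hm 1]
      apply Finset.sum_eq_zero
      intro ψ _
      rw [hcon ψ]; simp
    rw [indFun_one] at h0
    rcases mul_eq_zero.mp h0 with h | h
    · have := Subgroup.index_ne_zero_of_finite (H := K)
      exact this (by exact_mod_cast h)
    · exact irr_one_ne_zero ⟨θ, hθ⟩ h
  obtain ⟨ψ₀, hψ₀⟩ := hne
  -- decomposition of Ind 1_K
  have hind1 : IsCharacter G (indFun K (fun _ => (1 : ℂ))) :=
    isCharacter_indFun K (irr_isCharacter principal_isIrrCharacter)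
  obtain ⟨b, hb⟩ := isCharacter_decomp hind1
  have hind1' : indFun K (fun _ => (1 : ℂ)) = fun g => ∑ β : IrrCharacter G, (b β : ℂ) * β.1 g :=
    funext hb
  have hbβ : ∀ β : IrrCharacter G, classInner (indFun K (fun _ => (1 : ℂ))) β.1 = (b β : ℂ) := by
    intro β
    rw [hind1']
    exact classInner_comb_irr (fun β => (b β : ℂ)) β
  have hlin : ∀ β : IrrCharacter G, b β ≠ 0 → β.1 1 = 1 := by
    intro β hβ
    apply linear_of_over_principal hK hab β
    rw [hbβ β]; exact_mod_cast hβ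
  have hψ₀cf : IsClassFunction G ψ₀.1 := isClassFunction_of_isCharacter (irr_isCharacter ψ₀.2)
  -- m ψ₀ • Ind θ = Σ b β • β ψ₀
  have hkey : ∀ g, (m ψ₀ : ℂ) * indFun K θ g = ∑ β : IrrCharacter G, (b β : ℂ) * (β.1 * ψ₀.1) g := by
    intro g
    have h1 : indFun K (fun k : K => (1 : ℂ) * ψ₀.1 k) = indFun K (fun _ => (1 : ℂ)) * ψ₀.1 :=
      indFun_mul_restrict K (fun _ => (1 : ℂ)) hψ₀cf
    have h2 : (fun k : K => (1 : ℂ) * ψ₀.1 k) = fun k => ∑ i ∈ ({0} : Finset (Fin 1)), (m ψ₀ : ℂ) * θ k := by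
      ext k
      have := congrFun (hres ψ₀ hψ₀) k
      simp only [Pi.smul_apply, smul_eq_mul] at this
      rw [one_mul, this, Finset.sum_singleton]
    have h3 := indFun_comb K ({0} : Finset (Fin 1)) (fun _ => (m ψ₀ : ℂ)) (fun _ => θ) g
    rw [Finset.sum_singleton] at h3
    rw [← h3, ← h2, h1, Pi.mul_apply, hb g, Finset.sum_mul]
    apply Finset.sum_congr rfl
    intro β _
    rw [Pi.mul_apply]; ring
  -- every constituent is β ψ₀
  have hall : ∀ ψ : IrrCharacter G, m ψ ≠ 0 → m ψ = m ψ₀ := by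
    intro ψ hψ
    have h1 : classInner (fun g => (m ψ₀ : ℂ) * indFun K θ g) ψ.1 = (m ψ₀ : ℂ) * (m ψ : ℂ) := by
      have := classInner_sum_left ({0} : Finset (Fin 1)) (fun _ => (m ψ₀ : ℂ)) (fun _ => indFun K θ) ψ.1
      simp only [Finset.sum_singleton] at this
      rw [this, hmψ ψ]
    have h2 : classInner (fun g => (m ψ₀ : ℂ) * indFun K θ g) ψ.1 =
        ∑ β : IrrCharacter G, (b β : ℂ) * classInner (β.1 * ψ₀.1) ψ.1 := by
      rw [funext hkey]
      exact classInner_sum_left _ _ _ _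
    have h3 : ∑ β : IrrCharacter G, (b β : ℂ) * classInner (β.1 * ψ₀.1) ψ.1 ≠ 0 := by
      rw [← h2, h1]
      exact mul_ne_zero (by exact_mod_cast hψ₀) (by exact_mod_cast hψ)
    obtain ⟨β, -, hβne⟩ := Finset.exists_ne_zero_of_sum_ne_zero h3
    have hbβ0 : b β ≠ 0 := by
      intro h0
      apply hβne
      rw [h0]; simp
    have hβ1 := hlin β hbβ0
    have hirr : IsIrrCharacter G (β.1 * ψ₀.1) := by
      apply isIrrCharacter_of_norm_one (isCharacter_mul (irr_isCharacter β.2) (irr_isCharacter ψ₀.2))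
      rw [classInner_mul_linear β hβ1, irr_classInner ψ₀.2 ψ₀.2, if_pos rfl]
    have heq : β.1 * ψ₀.1 = ψ.1 := by
      by_contra hne'
      apply hβne
      rw [irr_classInner hirr ψ.2, if_neg hne', mul_zero]
    have hd : ψ.1 1 = ψ₀.1 1 := by
      rw [← heq, Pi.mul_apply, hβ1, one_mul]
    rw [hdeg ψ hψ, hdeg ψ₀ hψ₀] at hd
    have hθ1 := irr_one_ne_zero ⟨θ, hθ⟩
    have := mul_right_cancel₀ hθ1 hd
    exact_mod_cast this
  refine ⟨m ψ₀, Nat.pos_of_ne_zero hψ₀, ?_, ?_⟩
  · intro ψ hψ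
    have hmne : m ψ ≠ 0 := by
      intro h0
      apply hψ
      rw [hmψ ψ, h0]; simp
    refine ⟨by rw [hmψ ψ, hall ψ hmne], ?_⟩
    rw [hdeg ψ hmne, hall ψ hmne]
  · -- degree count
    have hfilt : Finset.univ.filter (fun ψ : IrrCharacter G => classInner (indFun K θ) ψ.1 ≠ 0) =
        Finset.univ.filter (fun ψ : IrrCharacter G => m ψ ≠ 0) := by
      apply Finset.filter_congr
      intro ψ _
      rw [hmψ ψ]
      exact_mod_cast Iff.rfl
    rw [hfilt]
    set d := charDegree θ with hd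
    have hd1 : θ 1 = (d : ℂ) := irr_one_eq_charDegree ⟨θ, hθ⟩
    have hdpos : 0 < d := charDegree_pos ⟨θ, hθ⟩
    have h1 : (K.index : ℂ) * (d : ℂ) = ∑ ψ : IrrCharacter G, (m ψ : ℂ) * ψ.1 1 := by
      rw [← hd1, ← indFun_one, hm 1]
    have h2 : ∑ ψ : IrrCharacter G, (m ψ : ℂ) * ψ.1 1 =
        ∑ ψ ∈ Finset.univ.filter (fun ψ : IrrCharacter G => m ψ ≠ 0), ((m ψ₀ * m ψ₀ * d : ℕ) : ℂ) := by
      rw [Finset.sum_filter]
      apply Finset.sum_congr rfl
      intro ψ _
      by_cases h0 : m ψ = 0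
      · rw [if_neg (by simpa using h0), h0]; simp
      · rw [if_pos h0, hdeg ψ h0, hall ψ h0, hd1]
        push_cast; ring
    rw [h2, Finset.sum_const, nsmul_eq_mul] at h1
    have h3 : K.index * d = (Finset.univ.filter (fun ψ : IrrCharacter G => m ψ ≠ 0)).card *
        (m ψ₀ * m ψ₀ * d) := by exact_mod_cast h1
    have h4 : K.index * d = (m ψ₀ ^ 2 * (Finset.univ.filter (fun ψ : IrrCharacter G => m ψ ≠ 0)).card) * d := by
      rw [h3]; ring
    exact (Nat.eq_of_mul_eq_mul_right hdpos h4).symm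

end Cfsg.Agent.Lib.Helper8
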