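import Mathlib
import Cfsg.Prelude.Def_Blocks
import Cfsg.Agent.Lib.Helper8.CharCenter
import Cfsg.Agent.Lib.Helper8.CharAbelQuot
import Cfsg.Agent.S0854
import Cfsg.Agent.S0138

set_option autoImplicit false

namespace Cfsg.Agent.Lib.Helper8
open Cfsg
open scoped ComplexConjugate

variable {G : Type*} [Group G]
variable {V : Type*} [AddCommGroup V] [Module ℂ V]

/-- The degree of an irreducible representation divides the index of any subgroup acting by
scalars. -/
theorem degree_dvd_index_of_scalar [Finite G] [FiniteDimensional ℂ V] {ρ : Representation ℂ G V}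
    (hρ : ρ.IsIrreducible) (Z : Subgroup G)
    (hscal : ∀ z ∈ Z, ∃ c : ℂ, ∀ v : V, ρ z v = c • v) : Module.finrank ℂ V ∣ Z.index := by
  classical
  have : Fintype G := Fintype.ofFinite G
  have : Fintype Z := Fintype.ofFinite Z
  have : Fintype (G ⧸ Z) := Fintype.ofFinite _
  have hnt : Nontrivial V := irreducible_nontrivial hρ
  have hirr := isIrrCharacter_of_irreducible hρ
  set F : G → Module.End ℂ V := fun g => conj (ρ.character g) • ρ g with hF
  have hFZ : ∀ g : G, ∀ z ∈ Z, F (g * z) = F g := by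
    intro g z hz
    obtain ⟨c, hc⟩ := hscal z hz
    have hρz : ρ z = c • (LinearMap.id : V →ₗ[ℂ] V) := by ext v; rw [hc v]; rfl
    have hcn : conj c * c = 1 := by
      have hm : 0 < orderOf z := orderOf_pos z
      have hpow : c ^ orderOf z = 1 := by
        have h2 := rep_pow_orderOf ρ z
        rw [hρz] at h2
        obtain ⟨v, hv⟩ := exists_ne (0 : V)
        have h3 : ∀ n : ℕ, ((c • (LinearMap.id : V →ₗ[ℂ] V)) ^ n) v = c ^ n • v := by
          intro n
          induction n with
          | zero => simp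
          | succ n ih =>
            rw [pow_succ, Module.End.mul_apply]
            simp only [LinearMap.smul_apply, LinearMap.id_coe, id_eq]
            rw [map_smul, ih, smul_smul, pow_succ]
            ring_nf
        have h4 : (c ^ orderOf z - 1) • v = 0 := by
          rw [sub_smul, ← h3, h2]; simp
        rcases smul_eq_zero.mp h4 with h5 | h5
        · exact sub_eq_zero.mp h5
        · exact absurd h5 hv
      have hn := norm_eq_one_of_pow_eq_one' hm hpow
      rw [mul_comm, Complex.mul_conj, Complex.normSq_eq_norm_sq, hn]; simp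
    simp only [hF]
    have h1 : ρ (g * z) = c • ρ g := by
      rw [map_mul, hρz]
      ext v
      simp
    have h2 : ρ.character (g * z) = c * ρ.character g := by
      simp only [Representation.character, h1, map_smul, smul_eq_mul]
    rw [h1, h2, map_mul, smul_smul]
    congr 1
    calc conj c * conj (ρ.character g) * c = (conj c * c) * conj (ρ.character g) := by ring
      _ = conj (ρ.character g) := by rw [hcn, one_mul]
  have hsum := sum_eq_card_smul_sum_out Z F hFZ
  have hcf : IsClassFunction G (fun g => conj (ρ.character g)) := by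
    intro x y
    simp only
    rw [isClassFunction_of_isCharacter (isCharacter_of_rep ρ) x y]
  have htot := classSum_eq_smul hρ hcf
  have h2 : ∑ g : G, conj (ρ.character g) * ρ.character g = (Nat.card G : ℂ) := by
    have h3 := irr_classInner hirr hirr
    rw [if_pos rfl] at h3
    unfold classInner at h3
    have hGne : (Nat.card G : ℂ) ≠ 0 := Nat.cast_ne_zero.mpr Nat.card_pos.ne'
    have h4 : ∑ g : G, ρ.character g * conj (ρ.character g) = (Nat.card G : ℂ) := by
      field_simp at h3
      exact h3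
    rw [← h4]
    apply Finset.sum_congr rfl
    intro g _
    ring
  rw [h2] at htot
  have hZne : (Nat.card Z : ℂ) ≠ 0 := Nat.cast_ne_zero.mpr Nat.card_pos.ne'
  have hfr : (Module.finrank ℂ V : ℂ) ≠ 0 := Nat.cast_ne_zero.mpr (Module.finrank_pos).ne'
  have hkey : ∑ q : G ⧸ Z, conj (ρ.character (Quotient.out q)) • ρ (Quotient.out q) =
      (((Nat.card G : ℂ) / (Module.finrank ℂ V : ℂ)) / (Nat.card Z : ℂ)) • (LinearMap.id : V →ₗ[ℂ] V) := by
    have h5 : (Nat.card Z : ℂ) • ∑ q : G ⧸ Z, F (Quotient.out q) =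
        ((Nat.card G : ℂ) / (Module.finrank ℂ V : ℂ)) • (LinearMap.id : V →ₗ[ℂ] V) := by
      rw [← htot]
      have : ∑ g : G, conj (ρ.character g) • ρ g = ∑ g : G, F g := rfl
      rw [this, hsum]
      rw [← Nat.cast_smul_eq_nsmul ℂ]
    have h6 : ∑ q : G ⧸ Z, F (Quotient.out q) = (Nat.card Z : ℂ)⁻¹ • ((Nat.card Z : ℂ) • ∑ q : G ⧸ Z, F (Quotient.out q)) := by
      rw [smul_smul, inv_mul_cancel₀ hZne, one_smul]
    show ∑ q : G ⧸ Z, F (Quotient.out q) = _
    rw [h6, h5, smul_smul]
    congr 1
    field_simp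
  have hint := scalar_isIntegral' ρ (fun q : G ⧸ Z => Quotient.out q)
    (fun q => conj (ρ.character (Quotient.out q)))
    (fun q => by
      rw [← character_inv']
      exact character_isIntegral ρ _) _ hkey
  have hidx : (Nat.card G : ℂ) / (Nat.card Z : ℂ) = (Z.index : ℂ) := by
    rw [← Subgroup.card_mul_index Z]
    push_cast
    field_simp
  have h7 : IsIntegral ℤ (algebraMap ℚ ℂ ((Z.index : ℚ) / (Module.finrank ℂ V : ℚ))) := by
    convert hint using 1
    simp only [map_div₀, map_natCast]
    rw [← hidx]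
    field_simp
  have h8 : IsIntegral ℤ ((Z.index : ℚ) / (Module.finrank ℂ V : ℚ)) :=
    (isIntegral_algebraMap_iff (algebraMap ℚ ℂ).injective).mp h7
  obtain ⟨y, hy⟩ := IsIntegrallyClosed.isIntegral_iff.mp h8
  have hfrQ : (Module.finrank ℂ V : ℚ) ≠ 0 := Nat.cast_ne_zero.mpr (Module.finrank_pos).ne'
  have h9 : (y : ℚ) * (Module.finrank ℂ V : ℚ) = (Z.index : ℚ) := by
    have : (y : ℚ) = (Z.index : ℚ) / (Module.finrank ℂ V : ℚ) := hy
    rw [this]
    field_simp
  have h10 : y * (Module.finrank ℂ V : ℤ) = (Z.index : ℤ) := by exact_mod_cast h9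
  have h11 : (Module.finrank ℂ V : ℤ) ∣ (Z.index : ℤ) := ⟨y, by rw [← h10, mul_comm]⟩
  exact Int.natCast_dvd_natCast.mp h11

/-- The inertia group of a function on a normal subgroup. -/
def inertiaSubgroup {H : Subgroup G} (hN : H.Normal) (θ : H → ℂ) : Subgroup G where
  carrier := {g | conjChar hN θ g = θ}
  mul_mem' := by
    intro a b ha hb
    show conjChar hN θ (a * b) = θ
    rw [← conjChar_mul, ha, hb]
  one_mem' := conjChar_one hN θ
  inv_mem' := by
    intro a ha
    show conjChar hN θ a⁻¹ = θ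
    have h1 : conjChar hN (conjChar hN θ a) a⁻¹ = θ := by
      rw [conjChar_mul, mul_inv_cancel, conjChar_one]
    rw [ha] at h1
    exact h1

theorem mem_inertiaSubgroup {H : Subgroup G} (hN : H.Normal) (θ : H → ℂ) (g : G) :
    g ∈ inertiaSubgroup hN θ ↔ ∀ h : H, θ ⟨g * h * g⁻¹, hN.conj_mem h h.2 g⟩ = θ h := by
  show conjChar hN θ g = θ ↔ _
  constructor
  · intro h x
    exact congrFun h x
  · intro h
    ext x
    exact h x

theorem le_inertiaSubgroup {H : Subgroup G} (hN : H.Normal) {θ : H → ℂ} (hθ : IsClassFunction H θ) :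
    H ≤ inertiaSubgroup hN θ := by
  intro g hg
  rw [mem_inertiaSubgroup]
  intro h
  exact hθ h ⟨g, hg⟩

/-- Itô's theorem, character form. -/
theorem ito_character [Fintype G] (H : Subgroup G) [hN : H.Normal]
    (hH : ∀ a ∈ H, ∀ b ∈ H, a * b = b * a) (χ : IrrCharacter G) : charDegree χ.1 ∣ H.index := by
  classical
  have : Fintype H := Fintype.ofFinite H
  have := irr_finite (G := H)
  have : Fintype (IrrCharacter H) := Fintype.ofFinite _
  have hχcf : IsClassFunction G χ.1 := isClassFunction_of_isCharacter (irr_isCharacter χ.2)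
  -- a constituent
  obtain ⟨m, hm⟩ := isCharacter_decomp (isCharacter_restrict H (irr_isCharacter χ.2))
  have hex : ∃ lam : IrrCharacter H, m lam ≠ 0 := by
    by_contra hcon
    push Not at hcon
    have h1 := hm 1
    rw [OneMemClass.coe_one] at h1
    apply irr_one_ne_zero χ
    rw [h1]
    apply Finset.sum_eq_zero
    intro lam _
    rw [hcon lam]; simp
  obtain ⟨lam, hlam⟩ := hex
  have hres : (fun h : H => χ.1 h) = fun g => ∑ ψ : IrrCharacter H, (m ψ : ℂ) * ψ.1 g := funext hm
  have hcon : classInner (fun h : H => χ.1 h) lam.1 ≠ 0 := by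
    rw [hres, classInner_comb_irr (fun ψ => (m ψ : ℂ)) lam]
    exact_mod_cast hlam
  have hcomm : IsMulCommutative H := ⟨⟨fun a b => Subtype.ext (hH a a.2 b b.2)⟩⟩
  have hlam1 : lam.1 1 = 1 := by
    obtain ⟨n, ρ, hρ, hρψ⟩ := lam.2
    have h1 := Representation.IsIrreducible.finrank_eq_one_of_isMulCommutative ρ
    rw [← hρψ, Representation.char_one, h1]
    simp
  set T := inertiaSubgroup hN lam.1 with hTdef
  have : Fintype T := Fintype.ofFinite T
  have hlamcf : IsClassFunction H lam.1 := isClassFunction_of_isCharacter (irr_isCharacter lam.2)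
  have hHT : H ≤ T := le_inertiaSubgroup hN hlamcf
  obtain ⟨ψ, hψ, hind, hmult⟩ := Cfsg.Agent.S0854.result H lam.1 lam.2 T
    (fun g => mem_inertiaSubgroup hN lam.1 g) hHT χ.1 χ.2 hcon
  -- ψ restricted to H' = H.subgroupOf T
  have : Fintype (H.subgroupOf T) := Fintype.ofFinite _
  set K := H.subgroupOf T with hKdef
  have hK : K.Normal := Subgroup.normal_subgroupOf
  set lam' := subOfFun H T lam.1 with hlam'
  have hlam'irr : IsIrrCharacter K lam' := subOfFun_irr hHT lam.2
  have hinv' : ∀ t : T, conjChar hK lam' t = lam' := by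
    intro t
    ext k
    rw [conjChar_apply]
    exact (mem_inertiaSubgroup hN lam.1 (t : G)).mp t.2 ⟨((k : T) : G), Subgroup.mem_subgroupOf.mp k.2⟩
  have hcon' : classInner (fun k : K => ψ k) lam' ≠ 0 := by
    rw [classInner_subOfFun hHT ψ lam.1, hmult]
    exact hcon
  have hres' := clifford_invariant hK hψ hlam'irr hcon' hinv'
  set e := classInner (fun k : K => ψ k) lam' with he
  have hlam'1 : lam' 1 = 1 := hlam1
  have he1 : ψ 1 = e := by
    have := congrFun hres' 1
    simp only [Pi.smul_apply, smul_eq_mul, hlam'1, mul_one] at this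
    rw [← this]; rfl
  obtain ⟨n, σ, hσ, hσψ⟩ := hψ
  have hscal : ∀ z ∈ K, ∃ c : ℂ, ∀ v : Fin n → ℂ, σ z v = c • v := by
    intro z hz
    have hval : σ.character z = (Module.finrank ℂ (Fin n → ℂ) : ℂ) * lam' ⟨z, hz⟩ := by
      rw [hσψ, ← Representation.char_one σ, hσψ, he1]
      have := congrFun hres' ⟨z, hz⟩
      simp only [Pi.smul_apply, smul_eq_mul] at this
      exact this
    have hnorm : ‖lam' ⟨z, hz⟩‖ = 1 := by
      have h1 := linear_char_norm ⟨lam', hlam'irr⟩ hlam'1 ⟨z, hz⟩
      simp only at h1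
      rw [Complex.mul_conj, Complex.normSq_eq_norm_sq] at h1
      have h2 : ‖lam' ⟨z, hz⟩‖ ^ 2 = 1 := by exact_mod_cast h1
      have h3 : 0 ≤ ‖lam' ⟨z, hz⟩‖ := norm_nonneg _
      nlinarith
    have hn : ‖σ.character z‖ = (Module.finrank ℂ (Fin n → ℂ) : ℝ) := by
      rw [hval, norm_mul, hnorm, mul_one, Complex.norm_natCast]
    obtain ⟨ω, hω⟩ := (Cfsg.Agent.S0138.result σ z).mp hn
    exact ⟨ω, fun v => by rw [hω]; rfl⟩
  have hdvd := degree_dvd_index_of_scalar hσ K hscal
  -- degrees
  have hψ1 : ψ 1 = (n : ℂ) := by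
    rw [← hσψ, Representation.char_one]; simp
  have hχ1 : χ.1 1 = (T.index : ℂ) * (n : ℂ) := by
    rw [← hind, indFun_one, hψ1]
  have hdeg : charDegree χ.1 = T.index * n := by
    have := irr_one_eq_charDegree χ
    rw [hχ1] at this
    exact_mod_cast this.symm
  rw [hdeg]
  have hrel : K.index * T.index = H.index := by
    rw [hKdef]
    exact Subgroup.relIndex_mul_index hHT
  rw [← hrel, mul_comm]
  apply Nat.mul_dvd_mul_right
  simpa using hdvd

end Cfsg.Agent.Lib.Helper8
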