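import Mathlib
import Cfsg.Prelude.Def_Characters
import Cfsg.Agent.Lib.Helper8.CharIto
import Cfsg.Agent.Lib.Helper8.CharInflate
import Cfsg.Agent.Lib.Helper8.CharRamified
import Cfsg.Agent.S0147

set_option autoImplicit false

universe u

namespace Cfsg.Agent.Lib.Helper8
open Cfsg
open scoped ComplexConjugate

variable {G : Type*} [Group G]

theorem indFun_congr_subgroup [Fintype G] {H₁ H₂ : Subgroup G} (h : H₁ = H₂) (θ₂ : H₂ → ℂ) :
    indFun H₁ (fun x => θ₂ ⟨(x : G), h ▸ x.2⟩) = indFun H₂ θ₂ := by
  subst h; rfl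

theorem indFun_top [Fintype G] {χ : G → ℂ} (hχ : IsClassFunction G χ) :
    indFun (⊤ : Subgroup G) (fun h => χ h) = χ := by
  ext g
  rw [indFun_apply]
  have hterm : ∀ x : G, extendByZero ⊤ (fun h : (⊤ : Subgroup G) => χ h) (x⁻¹ * g * x) = χ g := by
    intro x
    have e : extendByZero ⊤ (fun h : (⊤ : Subgroup G) => χ h) (x⁻¹ * g * x) = χ (x⁻¹ * g * x) :=
      extendByZero_coe (⊤ : Subgroup G) (fun h : (⊤ : Subgroup G) => χ h)
        ⟨x⁻¹ * g * x, Subgroup.mem_top _⟩
    rw [e]
    have := hχ g x⁻¹
    rw [inv_inv] at this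
    exact this
  rw [Finset.sum_congr rfl (fun x _ => hterm x), Finset.sum_const, Finset.card_univ, nsmul_eq_mul,
    ← Nat.card_eq_fintype_card, Subgroup.card_top]
  have hGne : (Nat.card G : ℂ) ≠ 0 := Nat.cast_ne_zero.mpr Nat.card_pos.ne'
  field_simp

theorem linear_hom_of_degree_one (χ : IrrCharacter G) (h1 : χ.1 1 = 1) :
    ∃ lam : (⊤ : Subgroup G) →* ℂˣ, ∀ h : (⊤ : Subgroup G), ((lam h : ℂˣ) : ℂ) = χ.1 h := by
  let f : (⊤ : Subgroup G) →* ℂ :=
    { toFun := fun h => χ.1 h
      map_one' := by simpa using h1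
      map_mul' := fun a b => by simpa using linear_char_mul χ h1 a b }
  exact ⟨f.toHomUnits, fun h => rfl⟩

theorem irreducible_of_comp {H : Type*} [Group H] {V : Type*} [AddCommGroup V] [Module ℂ V]
    (φ : G →* H) {ρ : Representation ℂ H V}
    (hρ : Representation.IsIrreducible (ρ.comp φ : Representation ℂ G V)) :
    ρ.IsIrreducible := by
  have hnt : Nontrivial V := irreducible_nontrivial hρ
  refine { exists_pair_ne := ⟨⊥, ⊤, ?_⟩, eq_bot_or_eq_top := ?_ }
  · intro heq
    have h1 : (⊥ : Submodule ℂ V) = ⊤ := congrArg Subrepresentation.toSubmodule heq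
    exact bot_ne_top h1
  · intro W
    have hW := irreducible_submodule hρ W.toSubmodule (by
      intro g v hv
      exact W.apply_mem_toSubmodule (φ g) hv)
    rcases hW with hW | hW
    · left; exact Subrepresentation.toSubmodule_injective hW
    · right; exact Subrepresentation.toSubmodule_injective hW

theorem exists_second_center [Group.IsNilpotent G] (hnc : ¬ ∀ a b : G, a * b = b * a) :
    ∃ a : G, a ∉ Subgroup.center G ∧ ∀ g : G, a * g * a⁻¹ * g⁻¹ ∈ Subgroup.center G := by
  by_contra hcon
  push Not at hcon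
  have h12 : Subgroup.upperCentralSeries G 2 ≤ Subgroup.upperCentralSeries G 1 := by
    intro a ha
    rw [Subgroup.upperCentralSeries_one]
    by_contra hac
    obtain ⟨g, hg⟩ := hcon a hac
    apply hg
    rw [← Subgroup.upperCentralSeries_one]
    exact (Subgroup.mem_upperCentralSeries_succ_iff.mp ha) g
  have hall : ∀ k, Subgroup.upperCentralSeries G (k + 1) ≤ Subgroup.upperCentralSeries G 1 := by
    intro k
    induction k with
    | zero => exact le_refl _
    | succ k ih =>
      intro x hx
      apply h12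
      rw [Subgroup.mem_upperCentralSeries_succ_iff]
      intro y
      exact ih ((Subgroup.mem_upperCentralSeries_succ_iff.mp hx) y)
  obtain ⟨n, hn⟩ := (inferInstance : Group.IsNilpotent G).nilpotent'
  apply hnc
  intro a b
  cases n with
  | zero =>
    rw [Subgroup.upperCentralSeries_zero] at hn
    have ha : a ∈ (⊥ : Subgroup G) := by rw [hn]; exact Subgroup.mem_top a
    rw [Subgroup.mem_bot] at ha
    rw [ha]; simp
  | succ k =>
    have ha : a ∈ Subgroup.upperCentralSeries G 1 := hall k (by rw [hn]; exact Subgroup.mem_top a)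
    rw [Subgroup.upperCentralSeries_one, Subgroup.mem_center_iff] at ha
    exact (ha b).symm

theorem exists_normal_abelian_noncentral [Group.IsNilpotent G]
    (hnc : ¬ ∀ a b : G, a * b = b * a) :
    ∃ A : Subgroup G, A.Normal ∧ (∀ x ∈ A, ∀ y ∈ A, x * y = y * x) ∧
      ¬ A ≤ Subgroup.center G := by
  obtain ⟨a, ha, hag⟩ := exists_second_center hnc
  have hmul : ∀ z ∈ Subgroup.center G, ∀ z' ∈ Subgroup.center G, ∀ k k' : ℤ,
      z * a ^ k * (z' * a ^ k') = z * z' * a ^ (k + k') := by
    intro z _ z' hz' k k'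
    have h1 := Subgroup.mem_center_iff.mp hz' (a ^ k)
    rw [zpow_add]
    calc z * a ^ k * (z' * a ^ k') = z * (a ^ k * z') * a ^ k' := by group
      _ = z * (z' * a ^ k) * a ^ k' := by rw [h1]
      _ = z * z' * (a ^ k * a ^ k') := by group
  let A : Subgroup G :=
    { carrier := {x | ∃ z ∈ Subgroup.center G, ∃ k : ℤ, x = z * a ^ k}
      one_mem' := ⟨1, Subgroup.one_mem _, 0, by simp⟩
      mul_mem' := by
        rintro x y ⟨z, hz, k, rfl⟩ ⟨z', hz', k', rfl⟩
        exact ⟨z * z', Subgroup.mul_mem _ hz hz', k + k', hmul z hz z' hz' k k'⟩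
      inv_mem' := by
        rintro x ⟨z, hz, k, rfl⟩
        refine ⟨z⁻¹, Subgroup.inv_mem _ hz, -k, ?_⟩
        have h1 := Subgroup.mem_center_iff.mp (Subgroup.inv_mem _ hz) (a ^ (-k))
        rw [mul_inv_rev, ← zpow_neg, h1] }
  have hmemA : ∀ x : G, x ∈ A ↔ ∃ z ∈ Subgroup.center G, ∃ k : ℤ, x = z * a ^ k := fun x => Iff.rfl
  refine ⟨A, ⟨?_⟩, ?_, ?_⟩
  · intro x hx g
    obtain ⟨z, hz, k, rfl⟩ := (hmemA x).mp hx
    rw [hmemA]
    set c := g * a * g⁻¹ * a⁻¹ with hc
    have hcc : c ∈ Subgroup.center G := by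
      have h1 := Subgroup.inv_mem _ (hag g)
      have h2 : (a * g * a⁻¹ * g⁻¹)⁻¹ = c := by rw [hc]; group
      rw [h2] at h1; exact h1
    have hca : Commute c a := by
      have := Subgroup.mem_center_iff.mp hcc a
      exact this.symm
    refine ⟨z * c ^ k, Subgroup.mul_mem _ hz (Subgroup.zpow_mem _ hcc k), k, ?_⟩
    have h3 : g * a ^ k * g⁻¹ = c ^ k * a ^ k := by
      rw [← conj_zpow, ← hca.mul_zpow]
      congr 1
      rw [hc]; group
    have h4 := Subgroup.mem_center_iff.mp hz g
    calc g * (z * a ^ k) * g⁻¹ = (g * z) * a ^ k * g⁻¹ := by group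
      _ = (z * g) * a ^ k * g⁻¹ := by rw [h4]
      _ = z * (g * a ^ k * g⁻¹) := by group
      _ = z * (c ^ k * a ^ k) := by rw [h3]
      _ = z * c ^ k * a ^ k := by group
  · intro x hx y hy
    obtain ⟨z, hz, k, rfl⟩ := (hmemA x).mp hx
    obtain ⟨z', hz', k', rfl⟩ := (hmemA y).mp hy
    rw [hmul z hz z' hz' k k', hmul z' hz' z hz k' k, add_comm k k']
    congr 1
    exact Subgroup.mem_center_iff.mp hz' z
  · intro hle
    apply ha
    apply hle
    rw [hmemA]
    exact ⟨1, Subgroup.one_mem _, 1, by simp⟩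

/-- Finite nilpotent groups are M-groups. -/
theorem monomial_of_nilpotent_aux : ∀ (n : ℕ) (G : Type u) [Group G] [Fintype G]
    [Group.IsNilpotent G], Nat.card G = n → ∀ χ : G → ℂ, IsIrrCharacter G χ →
    ∃ (H : Subgroup G) (lam : H →* ℂˣ), χ = indFun H (fun h => ((lam h : ℂˣ) : ℂ)) := by
  intro n
  induction n using Nat.strong_induction_on with
  | _ n ih =>
  intro G _ _ _ hcard χ hχ
  classical
  obtain ⟨d, ρ, hρirr, hρχ⟩ := hχ
  have hχirr : IsIrrCharacter G χ := ⟨d, ρ, hρirr, hρχ⟩
  have hχcf : IsClassFunction G χ := isClassFunction_of_isCharacter (irr_isCharacter hχirr)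
  set K : Subgroup G := MonoidHom.ker ρ with hK
  by_cases hKbot : K = ⊥
  swap
  · -- non-faithful: pass to the quotient
    have : Fintype (G ⧸ K) := Fintype.ofFinite _
    have hlt : Nat.card (G ⧸ K) < n := by
      rw [← hcard, Subgroup.card_eq_card_quotient_mul_card_subgroup K]
      have h1 : 1 < Nat.card K := (Subgroup.one_lt_card_iff_ne_bot K).mpr hKbot
      have h2 : 0 < Nat.card (G ⧸ K) := Nat.card_pos
      nlinarith
    let ρbar : Representation ℂ (G ⧸ K) (Fin d → ℂ) := QuotientGroup.lift K ρ (fun x hx => hx)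
    have hcomp : (ρbar.comp (QuotientGroup.mk' K) : Representation ℂ G (Fin d → ℂ)) = ρ := by
      apply MonoidHom.ext
      intro g
      rfl
    have hρbar : ρbar.IsIrreducible := by
      apply irreducible_of_comp (QuotientGroup.mk' K)
      rw [hcomp]; exact hρirr
    have hχbar : IsIrrCharacter (G ⧸ K) ρbar.character := ⟨d, ρbar, hρbar, rfl⟩
    obtain ⟨Hbar, lbar, hbar⟩ := ih _ hlt (G ⧸ K) rfl ρbar.character hχbar
    set H : Subgroup G := Hbar.comap (QuotientGroup.mk' K) with hH
    have hKH : K ≤ H := by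
      intro x hx
      rw [hH, Subgroup.mem_comap]
      have : QuotientGroup.mk' K x = 1 := (QuotientGroup.eq_one_iff x).mpr hx
      rw [this]; exact Subgroup.one_mem _
    have hmap : H.map (QuotientGroup.mk' K) = Hbar :=
      Subgroup.map_comap_eq_self_of_surjective (QuotientGroup.mk'_surjective K) Hbar
    let lam : H →* ℂˣ := lbar.comp ((QuotientGroup.mk' K).subgroupComap Hbar)
    refine ⟨H, lam, ?_⟩
    ext g
    have h1 : χ g = ρbar.character (QuotientGroup.mk' K g) := by
      rw [← hρχ]; rfl
    rw [h1, hbar, ← indFun_congr_subgroup hmap (fun h => ((lbar h : ℂˣ) : ℂ))]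
    exact indFun_inflate K H hKH (fun h => ((lam h : ℂˣ) : ℂ)) _ (fun x => rfl) g
  · -- faithful
    have hinj : ∀ x y : G, ρ x = ρ y → x = y := by
      intro x y hxy
      have h1 : x⁻¹ * y ∈ K := by
        rw [hK, MonoidHom.mem_ker, map_mul, ← hxy, ← map_mul, inv_mul_cancel, map_one]
      rw [hKbot, Subgroup.mem_bot] at h1
      exact inv_mul_eq_one.mp h1
    by_cases hcomm : ∀ a b : G, a * b = b * a
    · have hc : IsMulCommutative G := ⟨⟨hcomm⟩⟩
      have hd := Representation.IsIrreducible.finrank_eq_one_of_isMulCommutative ρ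
      have h1 : χ 1 = 1 := by rw [← hρχ, Representation.char_one, hd]; simp
      obtain ⟨lam, hlam⟩ := linear_hom_of_degree_one ⟨χ, hχirr⟩ h1
      refine ⟨⊤, lam, ?_⟩
      rw [show (fun h : (⊤ : Subgroup G) => ((lam h : ℂˣ) : ℂ)) = (fun h : (⊤ : Subgroup G) => χ h) from funext hlam]
      exact (indFun_top hχcf).symm
    · obtain ⟨A, hAn, hAab, hAc⟩ := exists_normal_abelian_noncentral hcomm
      have : Fintype A := Fintype.ofFinite A
      have := irr_finite (G := A)
      have : Fintype (IrrCharacter A) := Fintype.ofFinite _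
      obtain ⟨m, hm⟩ := isCharacter_decomp (isCharacter_restrict A (irr_isCharacter hχirr))
      have hex : ∃ lam : IrrCharacter A, m lam ≠ 0 := by
        by_contra hcon
        push Not at hcon
        have h1 := hm 1
        rw [OneMemClass.coe_one] at h1
        apply irr_one_ne_zero ⟨χ, hχirr⟩
        show χ 1 = 0
        rw [h1]
        apply Finset.sum_eq_zero
        intro lam _
        rw [hcon lam]; simp
      obtain ⟨lam, hlam⟩ := hex
      have hres : (fun h : A => χ h) = fun g => ∑ ψ : IrrCharacter A, (m ψ : ℂ) * ψ.1 g :=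
        funext hm
      have hcon : classInner (fun h : A => χ h) lam.1 ≠ 0 := by
        rw [hres, classInner_comb_irr (fun ψ => (m ψ : ℂ)) lam]
        exact_mod_cast hlam
      have hcommA : IsMulCommutative A := ⟨⟨fun a b => Subtype.ext (hAab a a.2 b b.2)⟩⟩
      have hlam1 : lam.1 1 = 1 := by
        obtain ⟨n', σ, hσ, hσψ⟩ := lam.2
        have h1 := Representation.IsIrreducible.finrank_eq_one_of_isMulCommutative σ
        rw [← hσψ, Representation.char_one, h1]
        simp
      set T := inertiaSubgroup hAn lam.1 with hTdef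
      have : Fintype T := Fintype.ofFinite T
      have hlamcf : IsClassFunction A lam.1 :=
        isClassFunction_of_isCharacter (irr_isCharacter lam.2)
      have hAT : A ≤ T := le_inertiaSubgroup hAn hlamcf
      by_cases hTtop : T = ⊤
      · exfalso
        have hinv : ∀ g : G, conjChar hAn lam.1 g = lam.1 := by
          intro g
          have h1 : g ∈ T := by rw [hTtop]; exact Subgroup.mem_top g
          exact h1
        have hres' := clifford_invariant hAn hχirr lam.2 hcon hinv
        set e := classInner (fun h : A => χ h) lam.1 with he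
        have he1 : χ 1 = e := by
          have := congrFun hres' 1
          simp only [Pi.smul_apply, smul_eq_mul, hlam1, mul_one] at this
          rw [← this]; rfl
        apply hAc
        intro x hx
        rw [Subgroup.mem_center_iff]
        intro g
        have hval : ρ.character x = (Module.finrank ℂ (Fin d → ℂ) : ℂ) * lam.1 ⟨x, hx⟩ := by
          rw [hρχ, ← Representation.char_one ρ, hρχ, he1]
          have := congrFun hres' ⟨x, hx⟩
          simp only [Pi.smul_apply, smul_eq_mul] at this
          exact this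
        have hnorm : ‖lam.1 ⟨x, hx⟩‖ = 1 := by
          have h1 := linear_char_norm lam hlam1 ⟨x, hx⟩
          rw [Complex.mul_conj, Complex.normSq_eq_norm_sq] at h1
          have h2 : ‖lam.1 ⟨x, hx⟩‖ ^ 2 = 1 := by exact_mod_cast h1
          have h3 : 0 ≤ ‖lam.1 ⟨x, hx⟩‖ := norm_nonneg _
          nlinarith
        have hn : ‖ρ.character x‖ = (Module.finrank ℂ (Fin d → ℂ) : ℝ) := by
          rw [hval, norm_mul, hnorm, mul_one, Complex.norm_natCast]
        obtain ⟨ω, hω⟩ := (Cfsg.Agent.S0138.result ρ x).mp hn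
        apply hinj
        rw [map_mul, map_mul, hω]
        apply LinearMap.ext
        intro v
        simp
      · obtain ⟨ψ, hψ, hind, _⟩ := Cfsg.Agent.S0854.result A lam.1 lam.2 T
          (fun g => mem_inertiaSubgroup hAn lam.1 g) hAT χ hχirr hcon
        have hltT : Nat.card T < n := by
          rw [← hcard]
          exact lt_of_le_of_ne (Subgroup.card_le_card_group T)
            (fun h => hTtop ((Subgroup.card_eq_iff_eq_top T).mp h))
        obtain ⟨H', mu, hmu⟩ := ih _ hltT T rfl ψ hψ
        have hinjT : Function.Injective T.subtype := Subgroup.subtype_injective T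
        set H : Subgroup G := H'.map T.subtype with hH
        have hHT : H ≤ T := by
          intro x hx
          obtain ⟨t, _, rfl⟩ := Subgroup.mem_map.mp hx
          exact t.2
        let eqv : H' ≃* H := Subgroup.equivMapOfInjective H' T.subtype hinjT
        let lamG : H →* ℂˣ := mu.comp eqv.symm.toMonoidHom
        refine ⟨H, lamG, ?_⟩
        have htrans := Cfsg.Agent.S0147.result H T hHT (fun h => ((lamG h : ℂˣ) : ℂ))
        rw [← htrans, ← hind, hmu]
        congr 1
        have hsub : H.subgroupOf T = H' := Subgroup.comap_map_eq_self_of_injective hinjT H'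
        rw [← indFun_congr_subgroup hsub (fun h => ((mu h : ℂˣ) : ℂ))]
        congr 1
        ext x
        show ((mu _ : ℂˣ) : ℂ) = ((mu (eqv.symm _) : ℂˣ) : ℂ)
        congr 2
        rw [MulEquiv.eq_symm_apply]
        apply Subtype.ext
        rfl

end Cfsg.Agent.Lib.Helper8
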