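import Mathlib
import Cfsg.Prelude.Def_Characters
import Cfsg.Agent.Lib.Helper8.CharInd
import Cfsg.Agent.Lib.Helper8.CharDecomp
import Cfsg.Agent.Lib.Helper8.CharGallagher
import Cfsg.Agent.Lib.Helper8.CharMonomial
import Cfsg.Agent.Lib.Helper8.CharLinear
import Cfsg.Agent.S0147

set_option autoImplicit false

namespace Cfsg.Agent.Lib.Helper8
open Cfsg

variable {G : Type*} [Group G]

theorem extendByZero_add (H : Subgroup G) (f g : H → ℂ) (x : G) :
    extendByZero H (f + g) x = extendByZero H f x + extendByZero H g x := by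
  by_cases hx : x ∈ H
  · rw [extendByZero_mem H _ hx, extendByZero_mem H _ hx, extendByZero_mem H _ hx]; rfl
  · rw [extendByZero_not_mem H _ hx, extendByZero_not_mem H _ hx, extendByZero_not_mem H _ hx,
      add_zero]

theorem extendByZero_zsmul (H : Subgroup G) (n : ℤ) (f : H → ℂ) (x : G) :
    extendByZero H (n • f) x = n • extendByZero H f x := by
  by_cases hx : x ∈ H
  · rw [extendByZero_mem H _ hx, extendByZero_mem H _ hx]; rfl
  · rw [extendByZero_not_mem H _ hx, extendByZero_not_mem H _ hx, smul_zero]

theorem indFun_add [Fintype G] (H : Subgroup G) (f g : H → ℂ) :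
    indFun H (f + g) = indFun H f + indFun H g := by
  ext x
  rw [Pi.add_apply, indFun_apply, indFun_apply, indFun_apply, ← mul_add, ← Finset.sum_add_distrib]
  congr 1
  apply Finset.sum_congr rfl
  intro y _
  exact extendByZero_add H f g _

theorem indFun_zsmul [Fintype G] (H : Subgroup G) (n : ℤ) (f : H → ℂ) :
    indFun H (n • f) = n • indFun H f := by
  ext x
  rw [Pi.smul_apply, indFun_apply, indFun_apply]
  have h1 : ∀ y : G, extendByZero H (n • f) (y⁻¹ * x * y) =
      (n : ℂ) * extendByZero H f (y⁻¹ * x * y) := by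
    intro y
    rw [extendByZero_zsmul, zsmul_eq_mul]
  rw [Finset.sum_congr rfl (fun y _ => h1 y), ← Finset.mul_sum, zsmul_eq_mul]
  ring

theorem indFun_zero [Fintype G] (H : Subgroup G) : indFun H (0 : H → ℂ) = 0 := by
  ext x
  rw [indFun_apply, Finset.sum_eq_zero, mul_zero]
  · rfl
  · intro y _
    by_cases hx : y⁻¹ * x * y ∈ H
    · rw [extendByZero_mem H _ hx]; rfl
    · rw [extendByZero_not_mem H _ hx]

/-- The ℤ-span of the characters induced from characters of `p`-elementary subgroups. -/
def elSpan [Fintype G] (p : ℕ) : Submodule ℤ (G → ℂ) :=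
  Submodule.span ℤ {f | ∃ (E : Subgroup G) (φ : E → ℂ), IsElementary p E ∧ IsCharacter E φ ∧
    f = indFun E φ}

theorem elSpan_mul_char [Fintype G] {p : ℕ} {f χ : G → ℂ} (hf : f ∈ elSpan (G := G) p)
    (hχ : IsCharacter G χ) : f * χ ∈ elSpan (G := G) p := by
  unfold elSpan at hf ⊢
  induction hf using Submodule.span_induction with
  | mem f hf =>
    obtain ⟨E, φ, hE, hφ, rfl⟩ := hf
    rw [← indFun_mul_restrict E φ (isClassFunction_of_isCharacter hχ)]
    exact Submodule.subset_span ⟨E, _, hE, isCharacter_mul hφ (isCharacter_restrict E hχ), rfl⟩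
  | zero => rw [zero_mul]; exact Submodule.zero_mem _
  | add f₁ f₂ _ _ h₁ h₂ => rw [add_mul]; exact Submodule.add_mem _ h₁ h₂
  | smul n f _ h => rw [smul_mul_assoc]; exact Submodule.smul_mem _ n h

theorem isElementary_of_mulEquiv {E E' : Type*} [Group E] [Group E'] (e : E ≃* E') {p : ℕ}
    (h : IsElementary p E) : IsElementary p E' := by
  obtain ⟨x, hx, hcop, k, hk⟩ := h
  refine ⟨e x, ?_, ?_, k, ?_⟩
  · rw [Subgroup.mem_center_iff] at hx ⊢
    intro y'
    obtain ⟨y, rfl⟩ := e.surjective y'
    rw [← map_mul, ← map_mul, hx y]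
  · rw [MulEquiv.orderOf_eq]; exact hcop
  · have : Subgroup.zpowers (e x) = (Subgroup.zpowers x).map (e : E →* E') := by
      rw [MonoidHom.map_zpowers]; rfl
    rw [this, Subgroup.index_map_equiv, hk]

theorem indFun_trans_map [Fintype G] (K : Subgroup G) [Fintype K] (E' : Subgroup K)
    (φ' : E' → ℂ) :
    indFun K (indFun E' φ') = indFun (E'.map K.subtype) (fun e =>
      φ' ((E'.equivMapOfInjective K.subtype K.subtype_injective).symm e)) := by
  have hEK : E'.map K.subtype ≤ K := Subgroup.map_subtype_le E'
  have htrans := Cfsg.Agent.S0147.result (E'.map K.subtype) K hEK (fun e =>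
      φ' ((E'.equivMapOfInjective K.subtype K.subtype_injective).symm e))
  rw [← htrans]
  congr 1
  have hsub : (E'.map K.subtype).subgroupOf K = E' :=
    Subgroup.comap_map_eq_self_of_injective K.subtype_injective E'
  rw [← indFun_congr_subgroup hsub φ']
  congr 1
  ext x
  congr 1
  rw [MulEquiv.eq_symm_apply]
  apply Subtype.ext
  rfl

theorem elSpan_induce [Fintype G] {p : ℕ} (K : Subgroup G) [Fintype K] {f : K → ℂ}
    (hf : f ∈ elSpan (G := K) p) : indFun K f ∈ elSpan (G := G) p := by
  unfold elSpan at hf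
  induction hf using Submodule.span_induction with
  | mem f hf =>
    obtain ⟨E', φ', hE', hφ', rfl⟩ := hf
    rw [indFun_trans_map]
    refine Submodule.subset_span ⟨E'.map K.subtype, _,
      isElementary_of_mulEquiv (E'.equivMapOfInjective K.subtype K.subtype_injective) hE', ?_, rfl⟩
    exact isCharacter_comp
      (E'.equivMapOfInjective K.subtype K.subtype_injective).symm.toMonoidHom hφ'
  | zero => rw [indFun_zero]; exact Submodule.zero_mem _
  | add f₁ f₂ _ _ h₁ h₂ => rw [indFun_add]; exact Submodule.add_mem _ h₁ h₂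
  | smul n f _ h => rw [indFun_zsmul]; exact Submodule.smul_mem _ n h

/-- One-dimensional representation attached to a linear character. -/
noncomputable def homRep {H : Type*} [Group H] (lam : H →* ℂˣ) : Representation ℂ H (Fin 1 → ℂ) where
  toFun h := ((lam h : ℂˣ) : ℂ) • LinearMap.id
  map_one' := by
    rw [map_one, Units.val_one, one_smul]
    rfl
  map_mul' a b := by
    rw [map_mul, Units.val_mul]
    ext v i
    simp only [LinearMap.smul_apply, LinearMap.id_coe, id_eq, Module.End.mul_apply,
      LinearMap.coe_comp, Function.comp_apply, Pi.smul_apply, smul_eq_mul, LinearMap.coe_single]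
    ring

theorem homRep_character {H : Type*} [Group H] (lam : H →* ℂˣ) (h : H) :
    (homRep lam).character h = ((lam h : ℂˣ) : ℂ) := by
  unfold Representation.character homRep
  simp

theorem isIrrCharacter_of_hom {H : Type*} [Group H] (lam : H →* ℂˣ) :
    IsIrrCharacter H (fun h => ((lam h : ℂˣ) : ℂ)) := by
  refine ⟨1, homRep lam, irreducible_of_finrank_eq_one _ (by simp), ?_⟩
  ext h
  exact homRep_character lam h

end Cfsg.Agent.Lib.Helper8
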