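import Mathlib
import Cfsg.Prelude.Def_Characters
import Cfsg.Agent.Lib.Helper8.CharDecomp
import Cfsg.Agent.Lib.Helper8.CharDegree

set_option autoImplicit false

namespace Cfsg.Agent.Lib.Helper8
open Cfsg
open scoped ComplexConjugate

variable {G : Type*} [Group G]

theorem charDegree_decomp [Fintype G] [Fintype (IrrCharacter G)] {Ψ : G → ℂ}
    (hΨ : IsCharacter G Ψ) (m : IrrCharacter G → ℕ)
    (hm : ∀ g, Ψ g = ∑ ψ : IrrCharacter G, (m ψ : ℂ) * ψ.1 g) :
    charDegree Ψ = ∑ ψ : IrrCharacter G, m ψ * charDegree ψ.1 := by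
  have h1 := hm 1
  rw [isCharacter_one_eq_charDegree hΨ] at h1
  have h2 : (charDegree Ψ : ℂ) = ((∑ ψ : IrrCharacter G, m ψ * charDegree ψ.1 : ℕ) : ℂ) := by
    rw [h1]
    push_cast
    apply Finset.sum_congr rfl
    intro ψ _
    rw [irr_one_eq_charDegree]
  exact_mod_cast h2

/-- A character containing `χ` with multiplicity `n` has degree at least `n χ(1)`. -/
theorem degree_ge_of_constituent [Fintype G] {Ψ : G → ℂ} (hΨ : IsCharacter G Ψ)
    (χ : IrrCharacter G) (n : ℕ) (h : classInner Ψ χ.1 = n) :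
    n * charDegree χ.1 ≤ charDegree Ψ := by
  classical
  have := irr_finite (G := G)
  have : Fintype (IrrCharacter G) := Fintype.ofFinite _
  obtain ⟨m, hm⟩ := isCharacter_decomp hΨ
  have hΨ' : Ψ = fun g => ∑ ψ : IrrCharacter G, (m ψ : ℂ) * ψ.1 g := funext hm
  have hmn : m χ = n := by
    have h1 : classInner Ψ χ.1 = (m χ : ℂ) := by
      rw [hΨ']; exact classInner_comb_irr (fun ψ => (m ψ : ℂ)) χ
    rw [h] at h1
    exact_mod_cast h1.symm
  rw [charDegree_decomp hΨ m hm, ← hmn]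
  exact Finset.single_le_sum (f := fun ψ : IrrCharacter G => m ψ * charDegree ψ.1)
    (fun _ _ => Nat.zero_le _) (Finset.mem_univ χ)

/-- A character containing `χ` and of the same degree equals `χ`. -/
theorem eq_of_constituent_of_degree_eq [Fintype G] {Ψ : G → ℂ} (hΨ : IsCharacter G Ψ)
    (χ : IrrCharacter G) (h : classInner Ψ χ.1 ≠ 0) (hdeg : charDegree Ψ = charDegree χ.1) :
    Ψ = χ.1 := by
  classical
  have := irr_finite (G := G)
  have : Fintype (IrrCharacter G) := Fintype.ofFinite _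
  obtain ⟨m, hm⟩ := isCharacter_decomp hΨ
  have hΨ' : Ψ = fun g => ∑ ψ : IrrCharacter G, (m ψ : ℂ) * ψ.1 g := funext hm
  have hmχ : m χ ≠ 0 := by
    intro h0
    apply h
    rw [hΨ', classInner_comb_irr (fun ψ => (m ψ : ℂ)) χ, h0]
    simp
  have hsum := charDegree_decomp hΨ m hm
  rw [hdeg, ← Finset.add_sum_erase _ _ (Finset.mem_univ χ)] at hsum
  have hpos := charDegree_pos χ
  have hm1 : m χ = 1 := by
    have h1 : 1 ≤ m χ := Nat.one_le_iff_ne_zero.mpr hmχ
    have h2 : m χ * charDegree χ.1 ≤ charDegree χ.1 := by omega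
    have h3 : m χ ≤ 1 := by
      by_contra hc
      push Not at hc
      have : 2 * charDegree χ.1 ≤ m χ * charDegree χ.1 := Nat.mul_le_mul_right _ hc
      omega
    omega
  have hrest : ∑ ψ ∈ Finset.univ.erase χ, m ψ * charDegree ψ.1 = 0 := by
    rw [hm1, one_mul] at hsum
    omega
  have hothers : ∀ ψ ∈ Finset.univ.erase χ, m ψ = 0 := by
    intro ψ hψ
    have h1 := (Finset.sum_eq_zero_iff.mp hrest) ψ hψ
    rcases Nat.mul_eq_zero.mp h1 with h2 | h2
    · exact h2
    · exact absurd h2 (charDegree_pos ψ).ne'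
  ext g
  rw [hm g, ← Finset.add_sum_erase _ _ (Finset.mem_univ χ), hm1,
    Finset.sum_eq_zero (fun ψ hψ => by rw [hothers ψ hψ]; simp)]
  simp

end Cfsg.Agent.Lib.Helper8
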