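import Mathlib
import Cfsg.Agent.Lib.Helper8.CharSmallDegree
import Cfsg.Agent.Lib.Helper8.CharSchur
import Cfsg.Agent.Lib.Helper8.CharComplete2

set_option autoImplicit false

namespace Cfsg.Agent.Lib.Helper8
open Cfsg
open scoped ComplexConjugate

variable {G : Type*} [Group G]

/-- For an irreducible representation and a normal subgroup `N`: either `N` acts trivially or the
sum of the operators over `N` vanishes. -/
theorem rep_normal_avg {V : Type*} [AddCommGroup V] [Module ℂ V] [FiniteDimensional ℂ V]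
    {ρ : Representation ℂ G V} (hρ : ρ.IsIrreducible) (N : Subgroup G) [hN : N.Normal] [Fintype N] :
    (∀ n ∈ N, ρ n = LinearMap.id) ∨ (∑ n : N, ρ (n : G)) = 0 := by
  let W : Submodule ℂ V :=
    { carrier := {v | ∀ n ∈ N, ρ n v = v}
      add_mem' := by
        intro a b ha hb n hn
        rw [map_add, ha n hn, hb n hn]
      zero_mem' := by
        intro n _
        simp
      smul_mem' := by
        intro c v hv n hn
        rw [map_smul, hv n hn] }
  have hWmem : ∀ v, v ∈ W ↔ ∀ n ∈ N, ρ n v = v := fun v => Iff.rfl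
  have hWinv : ∀ g : G, ∀ v ∈ W, ρ g v ∈ W := by
    intro g v hv
    rw [hWmem] at hv ⊢
    intro n hn
    have h1 : g⁻¹ * n * g ∈ N := by
      have := hN.conj_mem n hn g⁻¹
      simpa using this
    have h2 : n * g = g * (g⁻¹ * n * g) := by group
    calc ρ n (ρ g v) = ρ (n * g) v := by rw [map_mul]; rfl
      _ = ρ (g * (g⁻¹ * n * g)) v := by rw [h2]
      _ = ρ g (ρ (g⁻¹ * n * g) v) := by rw [map_mul]; rfl
      _ = ρ g v := by rw [hv _ h1]
  rcases irreducible_submodule hρ W hWinv with hbot | htop
  · right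
    apply LinearMap.ext
    intro v
    have hmem : (∑ n : N, ρ (n : G)) v ∈ W := by
      rw [hWmem]
      intro m hm
      rw [LinearMap.sum_apply, map_sum]
      apply Fintype.sum_equiv (Equiv.mulLeft (⟨m, hm⟩ : N))
      intro n
      simp only [Equiv.coe_mulLeft, Subgroup.coe_mul]
      rw [map_mul]; rfl
    rw [hbot, Submodule.mem_bot] at hmem
    rw [hmem]; rfl
  · left
    intro n hn
    apply LinearMap.ext
    intro v
    have : v ∈ W := by rw [htop]; trivial
    exact (hWmem v).mp this n hn

/-- Character version of `rep_normal_avg`. -/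
theorem irr_normal_avg [Finite G] (χ : IrrCharacter G) (N : Subgroup G) [hN : N.Normal] [Fintype N] :
    ((∀ x ∈ N, χ.1 x = χ.1 1) → ∀ x : G, ∀ n ∈ N, χ.1 (x * n) = χ.1 x) ∧
    ((∃ x ∈ N, χ.1 x ≠ χ.1 1) → ∀ x : G, ∑ n : N, χ.1 (x * (n : G)) = 0) := by
  obtain ⟨m, ρ, hρ, hρχ⟩ := χ.2
  have h1 : χ.1 1 = (Module.finrank ℂ (Fin m → ℂ) : ℂ) := by
    rw [← hρχ, Representation.char_one]
  constructor
  · intro hker x n hn
    have h2 : ρ n = LinearMap.id := by
      apply (character_eq_degree_iff ρ n).mp
      rw [hρχ, hker n hn, h1]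
    rw [← hρχ]
    simp only [Representation.character]
    rw [map_mul, h2]
    rfl
  · rintro ⟨x₀, hx₀N, hx₀⟩ x
    rcases rep_normal_avg hρ N with h | h
    · exfalso
      apply hx₀
      rw [← hρχ]
      simp only [Representation.character]
      rw [h x₀ hx₀N, map_one]
      rfl
    · rw [← hρχ]
      simp only [Representation.character]
      have : ∀ n : N, LinearMap.trace ℂ _ (ρ (x * (n : G))) = LinearMap.trace ℂ _ (ρ x * ρ (n : G)) := by
        intro n; rw [map_mul]
      simp_rw [this]
      rw [← map_sum, ← Finset.mul_sum, h, mul_zero, map_zero]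

end Cfsg.Agent.Lib.Helper8
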