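import Mathlib
import Cfsg.Prelude.Def_Blocks
import Cfsg.Agent.Lib.Helper8.CharGallagher
import Cfsg.Agent.Lib.Helper8.CharNormalAvg

set_option autoImplicit false

namespace Cfsg.Agent.Lib.Helper8
open Cfsg
open scoped ComplexConjugate

variable {G : Type*} [Group G]

/-- An irreducible character lying over the principal character of a normal subgroup has that
subgroup in its kernel. -/
theorem ker_of_over_principal [Fintype G] {K : Subgroup G} [Fintype K] (hK : K.Normal)
    (β : IrrCharacter G)
    (hβ : classInner (indFun K (fun _ => (1 : ℂ))) β.1 ≠ 0) : ∀ k ∈ K, β.1 k = β.1 1 := by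
  classical
  have hβcf : IsClassFunction G β.1 := isClassFunction_of_isCharacter (irr_isCharacter β.2)
  have h1irr : IsIrrCharacter K (fun _ => (1 : ℂ)) := principal_isIrrCharacter
  have hcon : classInner (fun k : K => β.1 k) (fun _ => (1 : ℂ)) ≠ 0 := by
    rw [frobenius_reciprocity K _ β.1 hβcf, classInner_conj_symm] at hβ
    intro h0
    apply hβ
    rw [h0]; simp
  have hres := clifford_invariant hK β.2 h1irr hcon (fun g => rfl)
  intro k hk
  have h2 := congrFun hres ⟨k, hk⟩
  have h3 := congrFun hres 1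
  simp only [Pi.smul_apply, smul_eq_mul, mul_one] at h2 h3
  rw [h2]
  rw [OneMemClass.coe_one] at h3
  exact h3.symm

theorem over_principal_of_ker [Fintype G] {K : Subgroup G} [Fintype K]
    (β : IrrCharacter G) (hker : ∀ k ∈ K, β.1 k = β.1 1) :
    classInner (indFun K (fun _ => (1 : ℂ))) β.1 ≠ 0 := by
  have hβcf : IsClassFunction G β.1 := isClassFunction_of_isCharacter (irr_isCharacter β.2)
  rw [frobenius_reciprocity K _ β.1 hβcf]
  unfold classInner
  have : ∀ k : K, (1 : ℂ) * conj (β.1 k) = conj (β.1 1) := by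
    intro k
    rw [one_mul, hker k k.2]
  rw [Finset.sum_congr rfl (fun k _ => this k), Finset.sum_const, Finset.card_univ, nsmul_eq_mul,
    ← Nat.card_eq_fintype_card]
  have hKne : (Nat.card K : ℂ) ≠ 0 := Nat.cast_ne_zero.mpr Nat.card_pos.ne'
  rw [← mul_assoc, inv_mul_cancel₀ hKne, one_mul]
  intro h0
  apply irr_one_ne_zero β
  have := congrArg (starRingEnd ℂ) h0
  simpa using this

/-- A class function constant on cosets of a normal subgroup is orthogonal to the irreducible
characters not containing the subgroup in their kernel. -/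
theorem classInner_coset_invariant [Fintype G] {N : Subgroup G} [hN : N.Normal] [Fintype N]
    {F : G → ℂ} (hF : ∀ g : G, ∀ n ∈ N, F (g * n) = F g) (β : IrrCharacter G)
    (hβ : ∃ x ∈ N, β.1 x ≠ β.1 1) : classInner F β.1 = 0 := by
  have hzero := (irr_normal_avg β N).2 hβ
  unfold classInner
  have hNne : (Nat.card N : ℂ) ≠ 0 := Nat.cast_ne_zero.mpr Nat.card_pos.ne'
  have h1 : ∀ n : N, ∑ g : G, F g * conj (β.1 g) = ∑ g : G, F g * conj (β.1 (g * (n : G))) := by
    intro n
    rw [← Equiv.sum_comp (Equiv.mulRight (n : G))]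
    apply Finset.sum_congr rfl
    intro g _
    simp only [Equiv.coe_mulRight]
    rw [hF g n n.2]
  have h2 : (Nat.card N : ℂ) * ∑ g : G, F g * conj (β.1 g) = 0 := by
    rw [Nat.card_eq_fintype_card, ← nsmul_eq_mul, ← Finset.card_univ (α := N), ← Finset.sum_const]
    rw [Finset.sum_congr rfl (fun n _ => h1 n), Finset.sum_comm]
    apply Finset.sum_eq_zero
    intro g _
    rw [← Finset.mul_sum, ← map_sum, hzero g, map_zero, mul_zero]
  rcases mul_eq_zero.mp h2 with h | h
  · exact absurd h hNne
  · rw [h, mul_zero]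

theorem classFunction_coset_expansion [Fintype G] [Fintype (IrrCharacter G)] {N : Subgroup G} [hN : N.Normal]
    [Fintype N] {F : G → ℂ} (hFcf : IsClassFunction G F)
    (hF : ∀ g : G, ∀ n ∈ N, F (g * n) = F g) [DecidablePred (fun β : IrrCharacter G => ∀ x ∈ N, β.1 x = β.1 1)] :
    F = ∑ β ∈ Finset.univ.filter (fun β : IrrCharacter G => ∀ x ∈ N, β.1 x = β.1 1),
      classInner F β.1 • β.1 := by
  conv_lhs => rw [classFunction_eq_sum hFcf]
  rw [Finset.sum_filter]
  apply Finset.sum_congr rfl
  intro β _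
  by_cases hβ : ∀ x ∈ N, β.1 x = β.1 1
  · rw [if_pos hβ]
  · rw [if_neg hβ]
    push Not at hβ
    rw [classInner_coset_invariant hF β hβ, zero_smul]

end Cfsg.Agent.Lib.Helper8
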