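import Mathlib
import Cfsg.Prelude.Def_Characters
import Cfsg.Prelude.Def_Transfer
import Cfsg.Agent.Lib.Helper8.CharInd
import Cfsg.Agent.Lib.Helper8.CharDecomp
import Cfsg.Agent.Lib.Helper8.CharBurnside
import Cfsg.Agent.Lib.Helper8.CharAbelQuot
import Cfsg.Agent.Lib.Helper8.CharRamified
import Cfsg.Agent.Lib.Helper8.CharCosetAvg
import Cfsg.Agent.Lib.Helper8.CharLinear
import Cfsg.Agent.Lib.Helper8.CharDegree
import Cfsg.Agent.Lib.Helper8.CharSchur

set_option autoImplicit false

namespace Cfsg.Agent.Lib.Helper8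
open Cfsg
open scoped ComplexConjugate commutatorElement

variable {P : Type*} [Group P]

/-- A character of degree one is irreducible. -/
theorem irr_of_degree_one {A : Type*} [Group A] {lam : A → ℂ} (h : IsCharacter A lam)
    (h1 : lam 1 = 1) : IsIrrCharacter A lam := by
  obtain ⟨m, ρ, hρ⟩ := h
  have hm : m = 1 := by
    rw [← hρ, Representation.char_one] at h1
    simp at h1
    exact_mod_cast h1
  subst hm
  exact ⟨1, ρ, irreducible_of_finrank_eq_one ρ (by simp), hρ⟩

/-- Translation by a central element of the subgroup in the extension by zero of a linear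
character. -/
theorem extendByZero_central_mul {A : Subgroup P} (lam : IrrCharacter A) (h1 : lam.1 1 = 1)
    {c : P} (hcA : c ∈ A) (w : P) :
    extendByZero A lam.1 (c * w) = lam.1 ⟨c, hcA⟩ * extendByZero A lam.1 w := by
  by_cases hw : w ∈ A
  · have hcw : c * w ∈ A := A.mul_mem hcA hw
    rw [extendByZero_mem A _ hcw, extendByZero_mem A _ hw]
    exact linear_char_mul lam h1 ⟨c, hcA⟩ ⟨w, hw⟩
  · have hcw : c * w ∉ A := by
      intro h
      apply hw
      have : w = c⁻¹ * (c * w) := by group
      rw [this]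
      exact A.mul_mem (A.inv_mem hcA) h
    rw [extendByZero_not_mem A _ hw, extendByZero_not_mem A _ hcw, mul_zero]

theorem indFun_central_mul [Fintype P] {A : Subgroup P} (lam : IrrCharacter A) (h1 : lam.1 1 = 1)
    {c : P} (hcA : c ∈ A) (hc : c ∈ Subgroup.center P) (g : P) :
    indFun A lam.1 (c * g) = lam.1 ⟨c, hcA⟩ * indFun A lam.1 g := by
  rw [indFun_apply, indFun_apply, mul_left_comm]
  congr 1
  rw [Finset.mul_sum]
  apply Finset.sum_congr rfl
  intro x _
  have hcomm : x⁻¹ * (c * g) * x = c * (x⁻¹ * g * x) := by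
    have := Subgroup.mem_center_iff.mp hc x⁻¹
    calc x⁻¹ * (c * g) * x = (x⁻¹ * c) * g * x := by group
      _ = (c * x⁻¹) * g * x := by rw [this]
      _ = c * (x⁻¹ * g * x) := by group
  rw [hcomm, extendByZero_central_mul lam h1 hcA]

/-- Induced characters of extraspecial groups from maximal abelian subgroups. -/
theorem extraspecial_induced [Fintype P] (p n : ℕ) [Fact p.Prime] (hP : IsExtraspecial p P)
    (hcard : Nat.card P = p ^ (2 * n + 1)) (A : Subgroup P)
    (hA : Nat.card A = p ^ (n + 1)) (lam : A → ℂ) (hlam : IsCharacter A lam ∧ lam 1 = 1)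
    (hZ : ∃ a : A, (a : P) ∈ Subgroup.center P ∧ lam a ≠ 1) :
    IsIrrCharacter P (indFun A lam) ∧ ∀ x : P, x ∉ Subgroup.center P → indFun A lam x = 0 := by
  classical
  have hp := (Fact.out : p.Prime)
  have : Fintype A := Fintype.ofFinite A
  have : Fintype (Subgroup.center P) := Fintype.ofFinite _
  have hlamirr : IsIrrCharacter A lam := irr_of_degree_one hlam.1 hlam.2
  set lamI : IrrCharacter A := ⟨lam, hlamirr⟩ with hlamI
  have h1 : lamI.1 1 = 1 := hlam.2
  obtain ⟨a₀, ha₀Z, ha₀⟩ := hZ
  have hZcard : Nat.card (Subgroup.center P) = p := hP.2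
  have hcomm : commutator P = Subgroup.center P := hP.1.2.2
  have ha₀1 : (⟨(a₀ : P), ha₀Z⟩ : Subgroup.center P) ≠ 1 := by
    intro h
    apply ha₀
    have h2 : (a₀ : P) = 1 := congrArg Subtype.val h
    have h3 : a₀ = 1 := Subtype.ext h2
    rw [h3]; exact hlam.2
  -- every central element is a power of any nontrivial central element
  have hgen : ∀ z z' : Subgroup.center P, z ≠ 1 → ∃ k : ℕ, z ^ k = z' := by
    intro z z' hz
    have h2 := zpowers_eq_top_of_prime_card hZcard hz
    have h3 : z' ∈ Subgroup.zpowers z := by rw [h2]; exact Subgroup.mem_top _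
    rw [← mem_powers_iff_mem_zpowers] at h3
    exact (Submonoid.mem_powers_iff _ _).mp h3
  have hZA : ∀ z ∈ Subgroup.center P, z ∈ A := by
    intro z hz
    obtain ⟨k, hk⟩ := hgen ⟨(a₀ : P), ha₀Z⟩ ⟨z, hz⟩ ha₀1
    have h2 : (a₀ : P) ^ k = z := by
      have := congrArg Subtype.val hk
      simpa using this
    rw [← h2]
    exact A.pow_mem a₀.2 k
  have hpow : ∀ (x : A) (k : ℕ), lam (x ^ k) = lam x ^ k := by
    intro x k
    induction k with
    | zero => rw [pow_zero, pow_zero]; exact hlam.2
    | succ k ih =>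
      rw [pow_succ, pow_succ, ← ih]
      exact linear_char_mul lamI h1 (x ^ k) x
  have hlamZ : ∀ z (hz : z ∈ Subgroup.center P), z ≠ 1 → lam ⟨z, hZA z hz⟩ ≠ 1 := by
    intro z hz hz1 hlz
    have hz1' : (⟨z, hz⟩ : Subgroup.center P) ≠ 1 := fun h => hz1 (congrArg Subtype.val h)
    obtain ⟨k, hk⟩ := hgen ⟨z, hz⟩ ⟨(a₀ : P), ha₀Z⟩ hz1'
    have h2 : z ^ k = (a₀ : P) := by
      have := congrArg Subtype.val hk
      simpa using this
    have h3 : (⟨z, hZA z hz⟩ : A) ^ k = a₀ := Subtype.ext (by simpa using h2)
    apply ha₀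
    rw [← h3, hpow, hlz, one_pow]
  have hcf : IsClassFunction P (indFun A lam) := indFun_isClassFunction A lam
  -- vanishing off the centre
  have hvan : ∀ x : P, x ∉ Subgroup.center P → indFun A lam x = 0 := by
    intro g hg
    rw [Subgroup.mem_center_iff] at hg
    push Not at hg
    obtain ⟨y, hy⟩ := hg
    set c := ⁅y, g⁆ with hc
    have hcZ : c ∈ Subgroup.center P := by
      rw [← hcomm, commutator_def]
      exact Subgroup.commutator_mem_commutator (Subgroup.mem_top y) (Subgroup.mem_top g)
    have hc1 : c ≠ 1 := by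
      intro h
      apply hy
      rw [hc, commutatorElement_eq_one_iff_mul_comm] at h
      exact h
    have h2 : y * g * y⁻¹ = c * g := by
      rw [hc, commutatorElement_def]; group
    have h3 : indFun A lam g = lam ⟨c, hZA c hcZ⟩ * indFun A lam g := by
      conv_lhs => rw [← hcf g y, h2]
      exact indFun_central_mul lamI h1 (hZA c hcZ) hcZ g
    have h4 : (1 - lam ⟨c, hZA c hcZ⟩) * indFun A lam g = 0 := by
      rw [sub_mul, one_mul, ← h3, sub_self]
    rcases mul_eq_zero.mp h4 with h | h
    · exact absurd (sub_eq_zero.mp h).symm (hlamZ c hcZ hc1)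
    · exact h
  refine ⟨?_, hvan⟩
  apply isIrrCharacter_of_norm_one (isCharacter_indFun A hlam.1)
  -- values on the centre
  have hPne : (Nat.card P : ℂ) ≠ 0 := Nat.cast_ne_zero.mpr Nat.card_pos.ne'
  have hAne : (Nat.card A : ℂ) ≠ 0 := Nat.cast_ne_zero.mpr Nat.card_pos.ne'
  have hval : ∀ z : Subgroup.center P, indFun A lam (z : P) =
      (A.index : ℂ) * lam ⟨(z : P), hZA z z.2⟩ := by
    intro z
    have h2 := indFun_central_mul lamI h1 (hZA z z.2) z.2 1
    rw [mul_one, indFun_one, h1, mul_one] at h2
    exact h2.trans (mul_comm _ _)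
  unfold classInner
  rw [sum_eq_sum_subgroup_add (Subgroup.center P) (fun g => indFun A lam g * conj (indFun A lam g))]
  have hout : ∑ g ∈ Finset.univ.filter (fun g => g ∉ Subgroup.center P),
      indFun A lam g * conj (indFun A lam g) = 0 := by
    apply Finset.sum_eq_zero
    intro g hg
    rw [Finset.mem_filter] at hg
    rw [hvan g hg.2, zero_mul]
  rw [hout, add_zero]
  have hterm : ∀ z : Subgroup.center P, indFun A lam (z : P) * conj (indFun A lam (z : P)) =
      (A.index : ℂ) * (A.index : ℂ) := by
    intro z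
    rw [hval z, map_mul, map_natCast]
    have h2 := linear_char_norm lamI h1 ⟨(z : P), hZA z z.2⟩
    calc (A.index : ℂ) * lam ⟨(z : P), hZA z z.2⟩ * ((A.index : ℂ) * conj (lam ⟨(z : P), hZA z z.2⟩))
        = (A.index : ℂ) * (A.index : ℂ) * (lam ⟨(z : P), hZA z z.2⟩ * conj (lam ⟨(z : P), hZA z z.2⟩)) := by
          ring
      _ = (A.index : ℂ) * (A.index : ℂ) := by rw [h2, mul_one]
  rw [Finset.sum_congr rfl (fun z _ => hterm z), Finset.sum_const, Finset.card_univ, nsmul_eq_mul,
    ← Nat.card_eq_fintype_card, hZcard]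
  have hidx : A.index = p ^ n := by
    have h2 := Subgroup.card_mul_index A
    rw [hA, hcard] at h2
    have h3 : p ^ (n + 1) * A.index = p ^ (n + 1) * p ^ n := by rw [h2]; ring
    exact Nat.eq_of_mul_eq_mul_left (pow_pos hp.pos _) h3
  rw [hidx, hcard]
  have hp0 : (p : ℂ) ≠ 0 := Nat.cast_ne_zero.mpr hp.ne_zero
  push_cast
  field_simp
  ring

theorem extraspecial_degrees [Finite P] (p n : ℕ) [Fact p.Prime] (hP : IsExtraspecial p P)
    (hcard : Nat.card P = p ^ (2 * n + 1)) (χ : IrrCharacter P) :
    charDegree χ.1 = 1 ∨ charDegree χ.1 = p ^ n := by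
  classical
  have : Fintype P := Fintype.ofFinite P
  have hp := (Fact.out : p.Prime)
  have : Fintype (Subgroup.center P) := Fintype.ofFinite _
  have hZcard : Nat.card (Subgroup.center P) = p := hP.2
  have hcomm : commutator P = Subgroup.center P := hP.1.2.2
  have hcf := isClassFunction_of_isCharacter (irr_isCharacter χ.2)
  by_cases hker : ∀ z ∈ Subgroup.center P, χ.1 z = χ.1 1
  · left
    have hab : ∀ x y : P, x * y * x⁻¹ * y⁻¹ ∈ Subgroup.center P := by
      intro x y
      rw [← hcomm, commutator_def, ← commutatorElement_def]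
      exact Subgroup.commutator_mem_commutator (Subgroup.mem_top x) (Subgroup.mem_top y)
    have h1 := linear_of_over_principal (K := Subgroup.center P) inferInstance hab χ
      (over_principal_of_ker χ hker)
    have h2 := irr_one_eq_charDegree χ
    rw [h1] at h2
    exact_mod_cast h2.symm
  · right
    push Not at hker
    obtain ⟨z₀, hz₀Z, hz₀⟩ := hker
    obtain ⟨d, ρ, hρ, hρχ⟩ := χ.2
    have hnt : Nontrivial (Fin d → ℂ) := irreducible_nontrivial hρ
    have hscal : ∀ z : Subgroup.center P, ∃ c : ℂ, ∀ v, ρ (z : P) v = c • v :=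
      fun z => central_scalar hρ z.2
    choose ω hω using hscal
    obtain ⟨v₀, hv₀⟩ := exists_ne (0 : Fin d → ℂ)
    have hωmul : ∀ z z' : Subgroup.center P, ω (z * z') = ω z * ω z' := by
      intro z z'
      have h1 := hω (z * z') v₀
      rw [Subgroup.coe_mul, map_mul, Module.End.mul_apply, hω z' v₀, map_smul, hω z v₀,
        smul_smul] at h1
      have h2 : (ω z' * ω z - ω (z * z')) • v₀ = 0 := by rw [sub_smul, h1, sub_self]
      rcases smul_eq_zero.mp h2 with h | h
      · rw [mul_comm]; exact (sub_eq_zero.mp h).symm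
      · exact absurd h hv₀
    have hω1 : ω 1 = 1 := by
      have h1 := hω 1 v₀
      rw [OneMemClass.coe_one, map_one, Module.End.one_apply] at h1
      have h2 : (1 - ω 1) • v₀ = 0 := by rw [sub_smul, one_smul, ← h1, sub_self]
      rcases smul_eq_zero.mp h2 with h | h
      · exact (sub_eq_zero.mp h).symm
      · exact absurd h hv₀
    have hωpow : ∀ (z : Subgroup.center P) (k : ℕ), ω (z ^ k) = ω z ^ k := by
      intro z k
      induction k with
      | zero => rw [pow_zero, pow_zero, hω1]
      | succ k ih => rw [pow_succ, pow_succ, hωmul, ih]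
    have hχmul : ∀ (z : Subgroup.center P) (g : P), χ.1 ((z : P) * g) = ω z * χ.1 g := by
      intro z g
      rw [← hρχ]
      simp only [Representation.character]
      rw [map_mul]
      have h1 : ρ (z : P) = ω z • (1 : Module.End ℂ (Fin d → ℂ)) := by
        apply LinearMap.ext
        intro v
        rw [hω z v]; rfl
      rw [h1, smul_mul_assoc, one_mul, map_smul, smul_eq_mul]
    have hgen : ∀ z z' : Subgroup.center P, z ≠ 1 → ∃ k : ℕ, z ^ k = z' := by
      intro z z' hz
      have h2 := zpowers_eq_top_of_prime_card hZcard hz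
      have h3 : z' ∈ Subgroup.zpowers z := by rw [h2]; exact Subgroup.mem_top _
      rw [← mem_powers_iff_mem_zpowers] at h3
      exact (Submonoid.mem_powers_iff _ _).mp h3
    have hωz₀ : ω ⟨z₀, hz₀Z⟩ ≠ 1 := by
      intro h
      apply hz₀
      have h1 := hχmul ⟨z₀, hz₀Z⟩ 1
      rw [h, one_mul, mul_one] at h1
      exact h1
    have hωne : ∀ z : Subgroup.center P, z ≠ 1 → ω z ≠ 1 := by
      intro z hz hωz
      obtain ⟨k, hk⟩ := hgen z ⟨z₀, hz₀Z⟩ hz
      apply hωz₀
      rw [← hk, hωpow, hωz, one_pow]
    have hvan : ∀ g : P, g ∉ Subgroup.center P → χ.1 g = 0 := by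
      intro g hg
      rw [Subgroup.mem_center_iff] at hg
      push Not at hg
      obtain ⟨y, hy⟩ := hg
      set c := ⁅y, g⁆ with hc
      have hcZ : c ∈ Subgroup.center P := by
        rw [← hcomm, commutator_def]
        exact Subgroup.commutator_mem_commutator (Subgroup.mem_top y) (Subgroup.mem_top g)
      have hc1 : c ≠ 1 := by
        intro h
        apply hy
        rw [hc, commutatorElement_eq_one_iff_mul_comm] at h
        exact h
      have h2 : y * g * y⁻¹ = c * g := by
        rw [hc, commutatorElement_def]; group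
      have h3 : χ.1 g = ω ⟨c, hcZ⟩ * χ.1 g := by
        conv_lhs => rw [← hcf g y, h2]
        exact hχmul ⟨c, hcZ⟩ g
      have h4 : (1 - ω ⟨c, hcZ⟩) * χ.1 g = 0 := by
        rw [sub_mul, one_mul, ← h3, sub_self]
      rcases mul_eq_zero.mp h4 with h | h
      · exact absurd (sub_eq_zero.mp h).symm
          (hωne ⟨c, hcZ⟩ (fun e => hc1 (congrArg Subtype.val e)))
      · exact h
    have hωnorm : ∀ z : Subgroup.center P, ω z * conj (ω z) = 1 := by
      intro z
      have h1 : ω z ^ p = 1 := by
        rw [← hωpow, ← hZcard, pow_card_eq_one', hω1]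
      have h2 := Complex.norm_eq_one_of_pow_eq_one h1 hp.ne_zero
      rw [Complex.mul_conj, Complex.normSq_eq_norm_sq, h2]
      simp
    have hnormsum := irr_norm_sum χ.2
    rw [sum_eq_sum_subgroup_add (Subgroup.center P) (fun g => χ.1 g * conj (χ.1 g))] at hnormsum
    have hout : ∑ g ∈ Finset.univ.filter (fun g => g ∉ Subgroup.center P),
        χ.1 g * conj (χ.1 g) = 0 := by
      apply Finset.sum_eq_zero
      intro g hg
      rw [Finset.mem_filter] at hg
      rw [hvan g hg.2, zero_mul]
    rw [hout, add_zero] at hnormsum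
    have hterm : ∀ z : Subgroup.center P, χ.1 (z : P) * conj (χ.1 (z : P)) =
        χ.1 1 * χ.1 1 := by
      intro z
      have h1 := hχmul z 1
      rw [mul_one] at h1
      rw [h1, map_mul, irr_one_real]
      calc ω z * χ.1 1 * (conj (ω z) * χ.1 1) = (ω z * conj (ω z)) * (χ.1 1 * χ.1 1) := by ring
        _ = χ.1 1 * χ.1 1 := by rw [hωnorm z, one_mul]
    rw [Finset.sum_congr rfl (fun z _ => hterm z), Finset.sum_const, Finset.card_univ,
      nsmul_eq_mul, ← Nat.card_eq_fintype_card, hZcard, hcard, irr_one_eq_charDegree] at hnormsum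
    have hN : p * (charDegree χ.1 * charDegree χ.1) = p ^ (2 * n + 1) := by exact_mod_cast hnormsum
    have hN2 : charDegree χ.1 * charDegree χ.1 = p ^ n * p ^ n := by
      have h1 : p * (charDegree χ.1 * charDegree χ.1) = p * (p ^ n * p ^ n) := by
        rw [hN]; ring
      exact Nat.eq_of_mul_eq_mul_left hp.pos h1
    exact Nat.mul_self_inj.mp hN2

theorem extraspecial_count [Finite P] (p n : ℕ) [Fact p.Prime] (hP : IsExtraspecial p P)
    (hcard : Nat.card P = p ^ (2 * n + 1)) :
    Nat.card {χ : IrrCharacter P // χ.1 1 = (p : ℂ) ^ n} = p - 1 := by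
  classical
  have hp := (Fact.out : p.Prime)
  have := irr_finite (G := P)
  have : Fintype (IrrCharacter P) := Fintype.ofFinite _
  have hZcard : Nat.card (Subgroup.center P) = p := hP.2
  have hcomm : commutator P = Subgroup.center P := hP.1.2.2
  have hn : n ≠ 0 := by
    intro h0
    rw [h0] at hcard
    simp only [mul_zero, zero_add, pow_one] at hcard
    have htop : Subgroup.center P = ⊤ := by
      apply Subgroup.eq_top_of_card_eq
      rw [hZcard, hcard]
    have hbot : commutator P = ⊥ := by
      rw [commutator_def, Subgroup.commutator_eq_bot_iff_le_centralizer]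
      intro x _
      rw [Subgroup.mem_centralizer_iff]
      intro y _
      have hx : x ∈ Subgroup.center P := by rw [htop]; exact Subgroup.mem_top x
      exact (Subgroup.mem_center_iff.mp hx y)
    rw [hcomm] at hbot
    rw [hbot, Subgroup.card_bot] at hZcard
    exact hp.one_lt.ne hZcard
  have hpn1 : p ^ n ≠ 1 := by
    have : 1 < p ^ n := Nat.one_lt_pow hn hp.one_lt
    omega
  have hdeg := extraspecial_degrees p n hP hcard
  have hsum := card_eq_sum_charDegree_sq (G := P)
  have hlin := card_linear_characters (G := P)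
  have hidx : (commutator P).index = p ^ (2 * n) := by
    rw [hcomm]
    have h1 := Subgroup.card_mul_index (Subgroup.center P)
    rw [hZcard, hcard] at h1
    have h2 : p * (Subgroup.center P).index = p * p ^ (2 * n) := by rw [h1]; ring
    exact Nat.eq_of_mul_eq_mul_left hp.pos h2
  rw [hidx] at hlin
  -- counts as filters
  have hc1 : (Finset.univ.filter (fun χ : IrrCharacter P => charDegree χ.1 = 1)).card =
      p ^ (2 * n) := by
    rw [← hlin, Nat.card_eq_fintype_card, Fintype.card_subtype]
    congr 1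
    ext χ
    simp only [Finset.mem_filter, Finset.mem_univ, true_and]
    rw [irr_one_eq_charDegree]
    constructor
    · intro h; rw [h]; simp
    · intro h; exact_mod_cast h
  have hc2 : Nat.card {χ : IrrCharacter P // χ.1 1 = (p : ℂ) ^ n} =
      (Finset.univ.filter (fun χ : IrrCharacter P => ¬ charDegree χ.1 = 1)).card := by
    rw [Nat.card_eq_fintype_card, Fintype.card_subtype]
    congr 1
    ext χ
    simp only [Finset.mem_filter, Finset.mem_univ, true_and]
    rw [irr_one_eq_charDegree]
    constructor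
    · intro h h1
      rw [h1] at h
      have : (1 : ℕ) = p ^ n := by exact_mod_cast h
      exact hpn1 this.symm
    · intro h
      rcases hdeg χ with h1 | h1
      · exact absurd h1 h
      · rw [h1]; push_cast; rfl
  rw [hc2]
  have hsplit : ∑ ψ : IrrCharacter P, charDegree ψ.1 ^ 2 =
      (Finset.univ.filter (fun χ : IrrCharacter P => charDegree χ.1 = 1)).card +
      (Finset.univ.filter (fun χ : IrrCharacter P => ¬ charDegree χ.1 = 1)).card * p ^ (2 * n) := by
    rw [← Finset.sum_filter_add_sum_filter_not Finset.univ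
      (fun χ : IrrCharacter P => charDegree χ.1 = 1)]
    congr 1
    · rw [Finset.card_eq_sum_ones]
      apply Finset.sum_congr rfl
      intro χ hχ
      rw [(Finset.mem_filter.mp hχ).2]; norm_num
    · rw [Finset.card_eq_sum_ones, Finset.sum_mul]
      apply Finset.sum_congr rfl
      intro χ hχ
      rcases hdeg χ with h1 | h1
      · exact absurd h1 (Finset.mem_filter.mp hχ).2
      · rw [h1, one_mul, ← pow_mul, mul_comm]
  rw [hsplit, hc1, hcard] at hsum
  set k := (Finset.univ.filter (fun χ : IrrCharacter P => ¬ charDegree χ.1 = 1)).card with hk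
  have h3 : p ^ (2 * n) * p = p ^ (2 * n) * (1 + k) := by
    rw [← pow_succ, hsum]; ring
  have h4 : p = 1 + k := Nat.eq_of_mul_eq_mul_left (pow_pos hp.pos _) h3
  omega

end Cfsg.Agent.Lib.Helper8
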