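import Mathlib
import Cfsg.Prelude.Def_Characters
import Cfsg.Agent.Lib.Helper8.CharAbelQuot
import Cfsg.Agent.Lib.Helper8.CharExtraspecial

set_option autoImplicit false

namespace Cfsg.Agent.Lib.Helper8
open Cfsg

variable {G : Type*} [Group G]

/-- The complex-valued function of a homomorphism to `ℂˣ`. -/
def linFun (f : G →* ℂˣ) : G → ℂ := fun g => ((f g : ℂˣ) : ℂ)

@[simp] theorem linFun_apply (f : G →* ℂˣ) (g : G) : linFun f g = ((f g : ℂˣ) : ℂ) := rfl

theorem linFun_one_eq (f : G →* ℂˣ) : linFun f 1 = 1 := by simp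

theorem linFun_isCharacter (f : G →* ℂˣ) : IsCharacter G (linFun f) := by
  let ρ : Representation ℂ G (Fin 1 → ℂ) :=
    { toFun := fun g => ((f g : ℂˣ) : ℂ) • (1 : Module.End ℂ (Fin 1 → ℂ))
      map_one' := by simp
      map_mul' := fun a b => by
        rw [map_mul, Units.val_mul, smul_mul_smul_comm, mul_one] }
  refine ⟨1, ρ, ?_⟩
  ext g
  show LinearMap.trace ℂ _ (((f g : ℂˣ) : ℂ) • (1 : Module.End ℂ (Fin 1 → ℂ))) = _
  rw [map_smul, LinearMap.trace_one]
  simp

theorem linFun_isIrr (f : G →* ℂˣ) : IsIrrCharacter G (linFun f) :=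
  irr_of_degree_one (linFun_isCharacter f) (linFun_one_eq f)

theorem exists_linFun {lam : G → ℂ} (h : IsCharacter G lam) (h1 : lam 1 = 1) :
    ∃ f : G →* ℂˣ, lam = linFun f := by
  have hirr : IsIrrCharacter G lam := irr_of_degree_one h h1
  let f : G →* ℂ :=
    { toFun := lam
      map_one' := h1
      map_mul' := fun a b => linear_char_mul ⟨lam, hirr⟩ h1 a b }
  exact ⟨f.toHomUnits, rfl⟩

theorem linFun_injective : Function.Injective (linFun : (G →* ℂˣ) → (G → ℂ)) := by
  intro f g hfg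
  apply MonoidHom.ext
  intro x
  apply Units.ext
  exact congrFun hfg x

theorem linFun_mul (f g : G →* ℂˣ) : linFun (f * g) = linFun f * linFun g := by
  ext x
  simp

/-- `linFun` as a monoid homomorphism. -/
def linFunHom : (G →* ℂˣ) →* (G → ℂ) where
  toFun := linFun
  map_one' := by ext x; simp
  map_mul' := linFun_mul

theorem orderOf_linFun (f : G →* ℂˣ) : orderOf (linFun f) = orderOf f :=
  orderOf_injective (linFunHom (G := G)) linFun_injective f

theorem hom_pow_card_eq_one [Finite G] (f : G →* ℂˣ) : f ^ Nat.card G = 1 := by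
  apply MonoidHom.ext
  intro x
  rw [MonoidHom.pow_apply, ← map_pow, pow_card_eq_one', map_one, MonoidHom.one_apply]

theorem orderOf_hom_pos [Finite G] (f : G →* ℂˣ) : 0 < orderOf f := by
  apply orderOf_pos_iff.mpr
  exact isOfFinOrder_iff_pow_eq_one.mpr ⟨Nat.card G, Nat.card_pos, hom_pow_card_eq_one f⟩

/-- A homomorphism to a commutative group trivial on a normal subgroup `N` is killed by the
index of `N`. -/
theorem hom_pow_index_eq_one {A : Type*} [CommGroup A] (N : Subgroup G) [N.Normal] (f : G →* A)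
    (hN : ∀ n ∈ N, f n = 1) : f ^ N.index = 1 := by
  apply MonoidHom.ext
  intro x
  rw [MonoidHom.pow_apply, ← map_pow, MonoidHom.one_apply]
  exact hN _ (Subgroup.pow_index_mem N x)

/-- Transfer of a homomorphism whose restriction to a normal subgroup `N ≤ H` is `G`-invariant,
evaluated on `N`. -/
theorem transfer_of_invariant {A : Type*} [CommGroup A] (H : Subgroup G) [H.FiniteIndex]
    (N : Subgroup G) [hN : N.Normal] (hNH : N ≤ H) (ν : H →* A)
    (hinv : ∀ (g : G) (n : N),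
      ν ⟨((MulAut.conjNormal g n : N) : G), hNH (MulAut.conjNormal g n).2⟩ = ν ⟨n, hNH n.2⟩)
    (n : N) : MonoidHom.transfer ν (n : G) = ν ⟨n, hNH n.2⟩ ^ H.index := by
  classical
  have : Fintype (G ⧸ H) := H.fintypeQuotientOfFiniteIndex
  have : Fintype (Quotient (MulAction.orbitRel (Subgroup.zpowers (n : G)) (G ⧸ H))) :=
    Fintype.ofFinite _
  rw [MonoidHom.transfer_eq_prod_quotient_orbitRel_zpowers_quot]
  have hterm : ∀ (x : G) (k : ℕ) (hmem : x⁻¹ * (n : G) ^ k * x ∈ H),
      ν ⟨x⁻¹ * (n : G) ^ k * x, hmem⟩ = ν ⟨n, hNH n.2⟩ ^ k := by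
    intro x k hmem
    have h1 := hinv x⁻¹ (n ^ k)
    have h2 : (⟨x⁻¹ * (n : G) ^ k * x, hmem⟩ : H) =
        ⟨((MulAut.conjNormal x⁻¹ (n ^ k) : N) : G), hNH (MulAut.conjNormal x⁻¹ (n ^ k)).2⟩ := by
      apply Subtype.ext
      show x⁻¹ * (n : G) ^ k * x = ((MulAut.conjNormal x⁻¹ (n ^ k) : N) : G)
      rw [MulAut.conjNormal_apply, inv_inv]
      rfl
    rw [h2, h1, ← map_pow]
    congr 1
  rw [Finset.prod_congr rfl (fun q _ => hterm _ _ _), Finset.prod_pow_eq_pow_sum,
    ← Subgroup.index_eq_sum_minimalPeriod H (n : G)]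

end Cfsg.Agent.Lib.Helper8
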