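import Mathlib
import Cfsg.Prelude.Def_Characters
import Cfsg.Agent.Lib.Helper8.BrauerSpan
import Cfsg.Agent.Lib.Helper8.CharInflate
import Cfsg.Agent.Lib.Helper8.CharClassSum
import Cfsg.Agent.Lib.Helper8.CharIto
import Cfsg.Agent.S0138
import Cfsg.Agent.S0854

set_option autoImplicit false

universe u

namespace Cfsg.Agent.Lib.Helper8
open Cfsg
open scoped ComplexConjugate

theorem monomial_of_nilpotent_quotient {G : Type u} [Group G] [Fintype G] {d : ℕ}
    (ρ : Representation ℂ G (Fin d → ℂ)) (hρirr : ρ.IsIrreducible)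
    (hnil : Group.IsNilpotent (G ⧸ MonoidHom.ker ρ)) :
    ∃ (H : Subgroup G) (lam : H →* ℂˣ),
      ρ.character = indFun H (fun h => ((lam h : ℂˣ) : ℂ)) := by
  classical
  have : Fintype (G ⧸ MonoidHom.ker ρ) := Fintype.ofFinite _
  let ρbar : Representation ℂ (G ⧸ MonoidHom.ker ρ) (Fin d → ℂ) :=
    QuotientGroup.lift (MonoidHom.ker ρ) ρ (fun x hx => hx)
  have hcomp : (ρbar.comp (QuotientGroup.mk' (MonoidHom.ker ρ)) :
      Representation ℂ G (Fin d → ℂ)) = ρ := by
    apply MonoidHom.ext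
    intro g
    rfl
  have hρbar : ρbar.IsIrreducible := by
    apply irreducible_of_comp (QuotientGroup.mk' (MonoidHom.ker ρ))
    rw [hcomp]; exact hρirr
  have hχbar : IsIrrCharacter (G ⧸ MonoidHom.ker ρ) ρbar.character := ⟨d, ρbar, hρbar, rfl⟩
  obtain ⟨Hbar, lbar, hbar⟩ := monomial_of_nilpotent_aux _ (G ⧸ MonoidHom.ker ρ) rfl
    ρbar.character hχbar
  set H : Subgroup G := Hbar.comap (QuotientGroup.mk' (MonoidHom.ker ρ)) with hH
  have hKH : MonoidHom.ker ρ ≤ H := by
    intro x hx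
    rw [hH, Subgroup.mem_comap]
    have : QuotientGroup.mk' (MonoidHom.ker ρ) x = 1 := (QuotientGroup.eq_one_iff x).mpr hx
    rw [this]; exact Subgroup.one_mem _
  have hmap : H.map (QuotientGroup.mk' (MonoidHom.ker ρ)) = Hbar :=
    Subgroup.map_comap_eq_self_of_surjective (QuotientGroup.mk'_surjective _) Hbar
  let lam : H →* ℂˣ := lbar.comp ((QuotientGroup.mk' (MonoidHom.ker ρ)).subgroupComap Hbar)
  refine ⟨H, lam, ?_⟩
  ext g
  have h1 : ρ.character g = ρbar.character (QuotientGroup.mk' (MonoidHom.ker ρ) g) := rfl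
  rw [h1, hbar, ← indFun_congr_subgroup hmap (fun h => ((lbar h : ℂˣ) : ℂ))]
  exact indFun_inflate (MonoidHom.ker ρ) H hKH (fun h => ((lam h : ℂˣ) : ℂ)) _ (fun x => rfl) g

theorem qe_induced_proper {G : Type u} [Group G] [Fintype G] {p : ℕ} [Fact p.Prime]
    (C : Subgroup G) [hCn : C.Normal] (hcyc : IsCyclic C) {k : ℕ} (hk : C.index = p ^ k)
    (χ : G → ℂ) (hχ : IsIrrCharacter G χ) (h1 : χ 1 ≠ 1) :
    ∃ (T : Subgroup G) (ψ : T → ℂ), T ≠ ⊤ ∧ IsIrrCharacter T ψ ∧ χ = indFun T ψ := by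
  classical
  obtain ⟨d, ρ, hρirr, hρχ⟩ := hχ
  have hχirr : IsIrrCharacter G χ := ⟨d, ρ, hρirr, hρχ⟩
  have : Fintype C := Fintype.ofFinite C
  have := irr_finite (G := C)
  have : Fintype (IrrCharacter C) := Fintype.ofFinite _
  obtain ⟨m, hm⟩ := isCharacter_decomp (isCharacter_restrict C (irr_isCharacter hχirr))
  have hex : ∃ lam : IrrCharacter C, m lam ≠ 0 := by
    by_contra hcon
    push Not at hcon
    have h1' := hm 1
    rw [OneMemClass.coe_one] at h1'
    apply irr_one_ne_zero ⟨χ, hχirr⟩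
    show χ 1 = 0
    rw [h1']
    apply Finset.sum_eq_zero
    intro lam _
    rw [hcon lam]; simp
  obtain ⟨lam, hlam⟩ := hex
  have hres : (fun h : C => χ h) = fun g => ∑ ψ : IrrCharacter C, (m ψ : ℂ) * ψ.1 g :=
    funext hm
  have hcon : classInner (fun h : C => χ h) lam.1 ≠ 0 := by
    rw [hres, classInner_comb_irr (fun ψ => (m ψ : ℂ)) lam]
    exact_mod_cast hlam
  have hcommC : IsMulCommutative C := by
    let _ := IsCyclic.commGroup (α := C)
    exact ⟨⟨fun a b => mul_comm a b⟩⟩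
  have hlam1 : lam.1 1 = 1 := by
    obtain ⟨n', σ, hσ, hσψ⟩ := lam.2
    have h1 := Representation.IsIrreducible.finrank_eq_one_of_isMulCommutative σ
    rw [← hσψ, Representation.char_one, h1]
    simp
  set T := inertiaSubgroup hCn lam.1 with hTdef
  have : Fintype T := Fintype.ofFinite T
  have hlamcf : IsClassFunction C lam.1 :=
    isClassFunction_of_isCharacter (irr_isCharacter lam.2)
  have hCT : C ≤ T := le_inertiaSubgroup hCn hlamcf
  by_cases hTtop : T = ⊤
  · -- invariant case: the image of C is central modulo the kernel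
    have hinv : ∀ g : G, conjChar hCn lam.1 g = lam.1 := by
      intro g
      have h1 : g ∈ T := by rw [hTtop]; exact Subgroup.mem_top g
      exact h1
    have hres' := clifford_invariant hCn hχirr lam.2 hcon hinv
    set e := classInner (fun h : C => χ h) lam.1 with he
    have he1 : χ 1 = e := by
      have := congrFun hres' 1
      simp only [Pi.smul_apply, smul_eq_mul, hlam1, mul_one] at this
      rw [← this]; rfl
    have hscal : ∀ x ∈ C, ∃ ω : ℂ, ρ x = ω • (LinearMap.id : (Fin d → ℂ) →ₗ[ℂ] (Fin d → ℂ)) := by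
      intro x hx
      have hval : ρ.character x = (Module.finrank ℂ (Fin d → ℂ) : ℂ) * lam.1 ⟨x, hx⟩ := by
        rw [hρχ, ← Representation.char_one ρ, hρχ, he1]
        have := congrFun hres' ⟨x, hx⟩
        simp only [Pi.smul_apply, smul_eq_mul] at this
        exact this
      have hnorm : ‖lam.1 ⟨x, hx⟩‖ = 1 := by
        have h1 := linear_char_norm lam hlam1 ⟨x, hx⟩
        rw [Complex.mul_conj, Complex.normSq_eq_norm_sq] at h1
        have h2 : ‖lam.1 ⟨x, hx⟩‖ ^ 2 = 1 := by exact_mod_cast h1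
        have h3 : 0 ≤ ‖lam.1 ⟨x, hx⟩‖ := norm_nonneg _
        nlinarith
      have hn : ‖ρ.character x‖ = (Module.finrank ℂ (Fin d → ℂ) : ℝ) := by
        rw [hval, norm_mul, hnorm, mul_one, Complex.norm_natCast]
      exact (Cfsg.Agent.S0138.result ρ x).mp hn
    -- the subgroup of elements acting centrally
    let S : Subgroup G :=
      { carrier := {g | ∀ h : G, ρ g * ρ h = ρ h * ρ g}
        one_mem' := fun h => by rw [map_one, one_mul, mul_one]
        mul_mem' := fun {a b} ha hb h => by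
          rw [map_mul, mul_assoc, hb h, ← mul_assoc, ha h, mul_assoc]
        inv_mem' := fun {a} ha h => by
          have h1 : ρ a⁻¹ * ρ a = 1 := by rw [← map_mul, inv_mul_cancel, map_one]
          have h2 : ρ a * ρ a⁻¹ = 1 := by rw [← map_mul, mul_inv_cancel, map_one]
          calc ρ a⁻¹ * ρ h = ρ a⁻¹ * ρ h * (ρ a * ρ a⁻¹) := by rw [h2, mul_one]
            _ = ρ a⁻¹ * (ρ h * ρ a) * ρ a⁻¹ := by simp only [mul_assoc]
            _ = ρ a⁻¹ * (ρ a * ρ h) * ρ a⁻¹ := by rw [ha h]
            _ = (ρ a⁻¹ * ρ a) * ρ h * ρ a⁻¹ := by simp only [mul_assoc]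
            _ = ρ h * ρ a⁻¹ := by rw [h1, one_mul] }
    have hNS : MonoidHom.ker ρ ≤ S := by
      intro g hg h
      rw [MonoidHom.mem_ker] at hg
      rw [hg, one_mul, mul_one]
    have hCS : C ≤ S := by
      intro g hg h
      obtain ⟨ω, hω⟩ := hscal g hg
      rw [hω]
      ext v
      simp
    have hsup : MonoidHom.ker ρ ⊔ C ≤ S := sup_le hNS hCS
    have hpg : IsPGroup p (G ⧸ (MonoidHom.ker ρ ⊔ C)) := by
      apply IsPGroup.of_card_dvd_pow (n := k)
      rw [← hk]
      exact Subgroup.index_dvd_of_le le_sup_right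
    have hnilq : Group.IsNilpotent (G ⧸ (MonoidHom.ker ρ ⊔ C)) := hpg.isNilpotent
    have hle : MonoidHom.ker ρ ≤ (MonoidHom.ker ρ ⊔ C).comap (MonoidHom.id G) := by
      intro x hx
      exact (le_sup_left : MonoidHom.ker ρ ≤ MonoidHom.ker ρ ⊔ C) hx
    have hnil : Group.IsNilpotent (G ⧸ MonoidHom.ker ρ) := by
      apply Subgroup.isNilpotent_of_ker_le_center
        (QuotientGroup.map (MonoidHom.ker ρ) (MonoidHom.ker ρ ⊔ C) (MonoidHom.id G) hle)
      intro q hq
      induction q using QuotientGroup.induction_on with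
      | H g =>
        rw [MonoidHom.mem_ker, QuotientGroup.map_mk, MonoidHom.id_apply,
          QuotientGroup.eq_one_iff] at hq
        have hgS := hsup hq
        rw [Subgroup.mem_center_iff]
        intro q'
        induction q' using QuotientGroup.induction_on with
        | H h =>
          rw [← QuotientGroup.mk_mul, ← QuotientGroup.mk_mul, QuotientGroup.eq, MonoidHom.mem_ker]
          have h2 : ρ (h * g) = ρ (g * h) := by
            rw [map_mul, map_mul]; exact (hgS h).symm
          rw [map_mul, ← h2, ← map_mul, inv_mul_cancel, map_one]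
    obtain ⟨H, mu, hmu⟩ := monomial_of_nilpotent_quotient ρ hρirr hnil
    refine ⟨H, fun h => ((mu h : ℂˣ) : ℂ), ?_, isIrrCharacter_of_hom mu, ?_⟩
    · intro hH
      apply h1
      have hidx : H.index = 1 := by rw [hH, Subgroup.index_top]
      rw [← hρχ, hmu, indFun_one, hidx, map_one]
      simp
    · rw [← hρχ, hmu]
  · obtain ⟨ψ, hψ, hind, _⟩ := Cfsg.Agent.S0854.result C lam.1 lam.2 T
      (fun g => mem_inertiaSubgroup hCn lam.1 g) hCT χ hχirr hcon
    exact ⟨T, ψ, hTtop, hψ, hind.symm⟩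

end Cfsg.Agent.Lib.Helper8
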