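import Mathlib
import Cfsg.Prelude.Def_Characters
import Cfsg.Agent.Lib.Helper8.CharInd

set_option autoImplicit false

namespace Cfsg.Agent.Lib.Helper8
open Cfsg

variable {G : Type*} [Group G]

theorem extendByZero_one_apply (H : Subgroup G) [DecidablePred (· ∈ H)] (y : G) :
    extendByZero H (fun _ => (1 : ℂ)) y = if y ∈ H then 1 else 0 := by
  by_cases h : y ∈ H
  · rw [if_pos h, extendByZero_mem H _ h]
  · rw [if_neg h, extendByZero_not_mem H _ h]

theorem permChar_apply [Fintype G] (H : Subgroup G) [DecidablePred (· ∈ H)] (x : G) :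
    indFun H (fun _ => (1 : ℂ)) x =
      (Nat.card H : ℂ)⁻¹ * ((Finset.univ.filter (fun g : G => g⁻¹ * x * g ∈ H)).card : ℂ) := by
  rw [indFun_apply]
  congr 1
  simp_rw [extendByZero_one_apply]
  rw [Finset.sum_boole]

theorem permChar_conj [Fintype G] (H : Subgroup G) (a : G) :
    indFun (H.map (MulAut.conj a).toMonoidHom) (fun _ => (1 : ℂ)) =
      indFun H (fun _ => (1 : ℂ)) := by
  classical
  ext x
  rw [permChar_apply, permChar_apply]
  have hc : Nat.card (H.map (MulAut.conj a).toMonoidHom) = Nat.card H :=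
    Subgroup.card_map_of_injective (MulAut.conj a).injective
  rw [hc]
  congr 2
  apply Finset.card_equiv (Equiv.mulRight a)
  intro g
  simp only [Finset.mem_filter, Finset.mem_univ, true_and, Equiv.coe_mulRight]
  rw [Subgroup.mem_map_equiv, MulAut.conj_symm_apply]
  have : (g * a)⁻¹ * x * (g * a) = a⁻¹ * (g⁻¹ * x * g) * a := by group
  rw [this]

theorem card_fixed_eq_sum {Ω : Type*} [Fintype G] [Fintype Ω] [DecidableEq Ω] [MulAction G Ω]
    (x : G) :
    ((Finset.univ.filter (fun ω : Ω => x • ω = ω)).card : ℂ) =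
      ∑ ω : Ω, (Nat.card (MulAction.stabilizer G ω) : ℂ) / (Nat.card G : ℂ) *
        indFun (MulAction.stabilizer G ω) (fun _ => (1 : ℂ)) x := by
  classical
  have hG : (Nat.card G : ℂ) ≠ 0 := Nat.cast_ne_zero.mpr Nat.card_pos.ne'
  have hterm : ∀ ω : Ω, (Nat.card (MulAction.stabilizer G ω) : ℂ) / (Nat.card G : ℂ) *
        indFun (MulAction.stabilizer G ω) (fun _ => (1 : ℂ)) x =
      (Nat.card G : ℂ)⁻¹ * ∑ g : G, if x • (g • ω) = g • ω then (1 : ℂ) else 0 := by
    intro ω
    rw [permChar_apply]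
    have hS : (Nat.card (MulAction.stabilizer G ω) : ℂ) ≠ 0 :=
      Nat.cast_ne_zero.mpr Nat.card_pos.ne'
    rw [Finset.sum_boole]
    have : (Finset.univ.filter (fun g : G => g⁻¹ * x * g ∈ MulAction.stabilizer G ω)) =
        Finset.univ.filter (fun g : G => x • g • ω = g • ω) := by
      ext g
      simp only [Finset.mem_filter, Finset.mem_univ, true_and, MulAction.mem_stabilizer_iff]
      rw [mul_smul, mul_smul, inv_smul_eq_iff]
    rw [this]
    field_simp
  simp_rw [hterm]
  rw [← Finset.mul_sum, Finset.sum_comm]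
  have hg : ∀ g : G, ∑ ω : Ω, (if x • (g • ω) = g • ω then (1 : ℂ) else 0) =
      ((Finset.univ.filter (fun ω : Ω => x • ω = ω)).card : ℂ) := by
    intro g
    rw [Finset.sum_boole]
    congr 1
    apply Finset.card_equiv (MulAction.toPerm g)
    intro ω
    simp
  simp_rw [hg]
  rw [Finset.sum_const, Finset.card_univ, nsmul_eq_mul, ← Nat.card_eq_fintype_card]
  field_simp

theorem card_fixed_eq_sum_orbits {Ω : Type*} [Fintype G] [Fintype Ω] [DecidableEq Ω]
    [MulAction G Ω] [Fintype (MulAction.orbitRel.Quotient G Ω)] (x : G) :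
    ((Finset.univ.filter (fun ω : Ω => x • ω = ω)).card : ℂ) =
      ∑ O : MulAction.orbitRel.Quotient G Ω,
        indFun (MulAction.stabilizer G O.out) (fun _ => (1 : ℂ)) x := by
  classical
  have hG : (Nat.card G : ℂ) ≠ 0 := Nat.cast_ne_zero.mpr Nat.card_pos.ne'
  rw [card_fixed_eq_sum]
  rw [← Finset.sum_fiberwise (g := fun ω : Ω => (Quotient.mk'' ω : MulAction.orbitRel.Quotient G Ω))]
  apply Finset.sum_congr rfl
  intro O _
  have hconst : ∀ ω ∈ Finset.univ.filter (fun ω : Ω =>
      (Quotient.mk'' ω : MulAction.orbitRel.Quotient G Ω) = O),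
      (Nat.card (MulAction.stabilizer G ω) : ℂ) / (Nat.card G : ℂ) *
        indFun (MulAction.stabilizer G ω) (fun _ => (1 : ℂ)) x =
      (Nat.card (MulAction.stabilizer G O.out) : ℂ) / (Nat.card G : ℂ) *
        indFun (MulAction.stabilizer G O.out) (fun _ => (1 : ℂ)) x := by
    intro ω hω
    rw [Finset.mem_filter] at hω
    have h1 : ω ∈ MulAction.orbit G O.out := by
      rw [← MulAction.orbitRel.Quotient.orbit_eq_orbit_out O Quotient.out_eq']
      exact MulAction.orbitRel.Quotient.mem_orbit.mpr hω.2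
    obtain ⟨g, rfl⟩ := MulAction.mem_orbit_iff.mp h1
    rw [MulAction.stabilizer_smul_eq_stabilizer_map_conj, permChar_conj,
      Subgroup.card_map_of_injective (MulAut.conj g).injective]
  rw [Finset.sum_congr rfl hconst, Finset.sum_const, nsmul_eq_mul]
  have hcard : (Finset.univ.filter (fun ω : Ω =>
      (Quotient.mk'' ω : MulAction.orbitRel.Quotient G Ω) = O)).card =
      (MulAction.stabilizer G O.out).index := by
    rw [MulAction.index_stabilizer, ← Set.ncard_coe_finset]
    congr 1
    ext ω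
    simp only [Finset.coe_filter, Finset.mem_univ, true_and, Set.mem_setOf_eq]
    rw [← MulAction.orbitRel.Quotient.orbit_eq_orbit_out O Quotient.out_eq']
    exact MulAction.orbitRel.Quotient.mem_orbit.symm
  rw [hcard]
  have h2 := Subgroup.card_mul_index (MulAction.stabilizer G O.out)
  have h3 : (Nat.card G : ℂ) = (Nat.card (MulAction.stabilizer G O.out) : ℂ) *
      ((MulAction.stabilizer G O.out).index : ℂ) := by
    rw [← h2]; push_cast; ring
  have hS : (Nat.card (MulAction.stabilizer G O.out) : ℂ) ≠ 0 :=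
    Nat.cast_ne_zero.mpr Nat.card_pos.ne'
  have hI : ((MulAction.stabilizer G O.out).index : ℂ) ≠ 0 := by
    intro h
    rw [h, mul_zero] at h3
    exact hG h3
  rw [h3]
  field_simp

/-- The permutation character counts fixed cosets. -/
theorem permChar_eq_card_fixed [Fintype G] (H : Subgroup G) [Fintype (G ⧸ H)] [DecidableEq (G ⧸ H)]
    (x : G) :
    indFun H (fun _ => (1 : ℂ)) x =
      ((Finset.univ.filter (fun q : G ⧸ H => x • q = q)).card : ℂ) := by
  classical
  rw [card_fixed_eq_sum]
  have hG : (Nat.card G : ℂ) ≠ 0 := Nat.cast_ne_zero.mpr Nat.card_pos.ne'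
  have hH : (Nat.card H : ℂ) ≠ 0 := Nat.cast_ne_zero.mpr Nat.card_pos.ne'
  have hterm : ∀ q : G ⧸ H, (Nat.card (MulAction.stabilizer G q) : ℂ) / (Nat.card G : ℂ) *
        indFun (MulAction.stabilizer G q) (fun _ => (1 : ℂ)) x =
      (Nat.card H : ℂ) / (Nat.card G : ℂ) * indFun H (fun _ => (1 : ℂ)) x := by
    intro q
    induction q using QuotientGroup.induction_on with
    | H g =>
      have : ((g : G) : G ⧸ H) = g • ((1 : G) : G ⧸ H) := by
        rw [MulAction.Quotient.smul_coe, smul_eq_mul, mul_one]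
      rw [this, MulAction.stabilizer_smul_eq_stabilizer_map_conj, MulAction.stabilizer_quotient,
        permChar_conj, Subgroup.card_map_of_injective (MulAut.conj g).injective]
  rw [Finset.sum_congr rfl (fun q _ => hterm q), Finset.sum_const, Finset.card_univ, nsmul_eq_mul]
  have h2 := Subgroup.card_eq_card_quotient_mul_card_subgroup H
  have h3 : (Nat.card G : ℂ) = (Fintype.card (G ⧸ H) : ℂ) * (Nat.card H : ℂ) := by
    rw [h2, Nat.card_eq_fintype_card (α := G ⧸ H)]; push_cast; ring
  have hQ : (Fintype.card (G ⧸ H) : ℂ) ≠ 0 := by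
    intro h
    rw [h, zero_mul] at h3
    exact hG h3
  rw [h3]
  field_simp

end Cfsg.Agent.Lib.Helper8
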