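import Mathlib
import Cfsg.Prelude.Def_Characters
import Cfsg.Agent.Lib.Helper8.BrauerPerm

set_option autoImplicit false

namespace Cfsg.Agent.Lib.Helper8
open Cfsg

variable {G : Type*} [Group G]

/-- `H` is a `p`-quasi-elementary subgroup of `G`. -/
def QESub (p : ℕ) (H : Subgroup G) : Prop :=
  ∃ C : Subgroup G, C ≤ H ∧ H ≤ Subgroup.normalizer (C : Set G) ∧ IsCyclic C ∧
    Nat.Coprime (Nat.card C) p ∧ ∃ k : ℕ, C.relIndex H = p ^ k

theorem qe_pprime_mem {p : ℕ} {H C : Subgroup G} (hCH : C ≤ H)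
    (hHN : H ≤ Subgroup.normalizer (C : Set G)) {k : ℕ} (hk : C.relIndex H = p ^ k) {z : G}
    (hz : z ∈ H) (hzp : Nat.Coprime (orderOf z) p) : z ∈ C := by
  have hn : (C.subgroupOf H).Normal := (Subgroup.normal_subgroupOf_iff_le_normalizer hCH).mpr hHN
  have h1 := Subgroup.pow_index_mem (C.subgroupOf H) ⟨z, hz⟩
  rw [Subgroup.mem_subgroupOf] at h1
  have h2 : z ^ (p ^ k) ∈ C := by
    have : (C.subgroupOf H).index = p ^ k := hk
    rw [this] at h1
    exact h1
  have hcop : (p ^ k).Coprime (orderOf z) := (Nat.Coprime.pow_right k hzp).symm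
  obtain ⟨m, hm⟩ := exists_pow_eq_self_of_coprime hcop
  rw [← hm]
  exact C.pow_mem h2 m

theorem smul_pow_fixed {Ω : Type*} [MulAction G Ω] {x : G} {q : Ω} (h : x • q = q) (j : ℕ) :
    x ^ j • q = q := by
  induction j with
  | zero => rw [pow_zero, one_smul]
  | succ j ih => rw [pow_succ, mul_smul, h, ih]

/-- Lemma A: a subgroup `H` between `C` and its normalizer with `H/C` a Sylow `p`-subgroup. -/
theorem exists_sylow_over [Finite G] (p : ℕ) [Fact p.Prime] (C : Subgroup G) :
    ∃ (H : Subgroup G) (k n : ℕ), C ≤ H ∧ H ≤ Subgroup.normalizer (C : Set G) ∧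
      C.relIndex H = p ^ k ∧ Nat.card (Subgroup.normalizer (C : Set G)) = Nat.card H * n ∧
      ¬ p ∣ n := by
  have hCN : C ≤ Subgroup.normalizer (C : Set G) := Subgroup.le_normalizer
  have hnorm : (C.subgroupOf (Subgroup.normalizer (C : Set G))).Normal :=
    Subgroup.normal_in_normalizer
  obtain ⟨Pbar⟩ : Nonempty (Sylow p ((Subgroup.normalizer (C : Set G)) ⧸
      (C.subgroupOf (Subgroup.normalizer (C : Set G))))) := inferInstance
  have hsurj := QuotientGroup.mk'_surjective (C.subgroupOf (Subgroup.normalizer (C : Set G)))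
  obtain ⟨k, hk⟩ := IsPGroup.exists_card_eq Pbar.isPGroup'
  refine ⟨(Pbar.toSubgroup.comap (QuotientGroup.mk'
      (C.subgroupOf (Subgroup.normalizer (C : Set G))))).map
      (Subgroup.normalizer (C : Set G)).subtype, k, Pbar.toSubgroup.index, ?_, ?_, ?_, ?_, ?_⟩
  · intro c hc
    rw [Subgroup.mem_map]
    refine ⟨⟨c, hCN hc⟩, ?_, rfl⟩
    rw [Subgroup.mem_comap]
    have : QuotientGroup.mk' (C.subgroupOf (Subgroup.normalizer (C : Set G))) ⟨c, hCN hc⟩ = 1 :=
      (QuotientGroup.eq_one_iff _).mpr (Subgroup.mem_subgroupOf.mpr hc)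
    rw [this]; exact Subgroup.one_mem _
  · exact Subgroup.map_subtype_le _
  · have hmapC : (C.subgroupOf (Subgroup.normalizer (C : Set G))).map
        (Subgroup.normalizer (C : Set G)).subtype = C := Subgroup.map_subgroupOf_eq_of_le hCN
    have hker : C.subgroupOf (Subgroup.normalizer (C : Set G)) =
        (⊥ : Subgroup _).comap (QuotientGroup.mk'
          (C.subgroupOf (Subgroup.normalizer (C : Set G)))) :=
      (QuotientGroup.ker_mk' _).symm
    have h1 := congrArg (fun S : Subgroup G => S.relIndex ((Pbar.toSubgroup.comap (QuotientGroup.mk'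
      (C.subgroupOf (Subgroup.normalizer (C : Set G))))).map
      (Subgroup.normalizer (C : Set G)).subtype)) hmapC.symm
    beta_reduce at h1
    rw [h1, Subgroup.relIndex_map_map_of_injective _ _ (Subgroup.subtype_injective _)]
    have h2 := congrArg (fun S : Subgroup (Subgroup.normalizer (C : Set G)) =>
      S.relIndex (Pbar.toSubgroup.comap (QuotientGroup.mk'
      (C.subgroupOf (Subgroup.normalizer (C : Set G)))))) hker
    beta_reduce at h2
    rw [h2, Subgroup.relIndex_comap, Subgroup.map_comap_eq_self_of_surjective hsurj,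
      Subgroup.relIndex_bot_left, hk]
  · rw [Subgroup.card_map_of_injective (Subgroup.subtype_injective _),
      ← Subgroup.index_comap_of_surjective _ hsurj, Subgroup.card_mul_index]
  · exact Pbar.not_dvd_index

/-- Lemma B. -/
theorem conj_mem_iff_mem_normalizer [Finite G] {p : ℕ} (y : G)
    (hycop : Nat.Coprime (orderOf y) p) {H : Subgroup G} (hCH : Subgroup.zpowers y ≤ H)
    (hHN : H ≤ Subgroup.normalizer (Subgroup.zpowers y : Set G)) {k : ℕ}
    (hk : (Subgroup.zpowers y).relIndex H = p ^ k) (g : G) :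
    g⁻¹ * y * g ∈ H ↔ g ∈ Subgroup.normalizer (Subgroup.zpowers y : Set G) := by
  constructor
  · intro hg
    have hord : orderOf (g⁻¹ * y * g) = orderOf y := by
      have := (MulAut.conj g⁻¹).orderOf_eq y
      rw [MulAut.conj_apply, inv_inv] at this
      exact this
    have hzC : g⁻¹ * y * g ∈ Subgroup.zpowers y :=
      qe_pprime_mem hCH hHN hk hg (by rw [hord]; exact hycop)
    have hzp : Subgroup.zpowers (g⁻¹ * y * g) = Subgroup.zpowers y := by
      apply Subgroup.eq_of_le_of_card_ge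
      · rw [Subgroup.zpowers_le]; exact hzC
      · rw [Nat.card_zpowers, Nat.card_zpowers, hord]
    have hmap : (Subgroup.zpowers y).map (MulAut.conj g⁻¹).toMonoidHom = Subgroup.zpowers y := by
      rw [MonoidHom.map_zpowers]
      conv_rhs => rw [← hzp]
      congr 1
      simp [MulAut.conj_apply]
    rw [Subgroup.mem_normalizer_iff'']
    intro h
    constructor
    · intro hh
      rw [← hmap]
      exact ⟨h, hh, by simp [MulAut.conj_apply]⟩
    · intro hh
      rw [← hmap] at hh
      obtain ⟨c, hc, hce⟩ := hh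
      have : c = h := by
        simp only [MulEquiv.coe_toMonoidHom, MulAut.conj_apply, inv_inv] at hce
        exact mul_left_cancel (mul_right_cancel hce)
      rw [← this]; exact hc
  · intro hg
    apply hCH
    exact (Subgroup.mem_normalizer_iff''.mp hg y).mp (Subgroup.mem_zpowers y)

/-- Lemma C: fixed points of `x` and of `x ^ (p ^ a)` are congruent mod `p`. -/
theorem card_fixed_pow_modEq {Ω : Type*} [Fintype Ω] [DecidableEq Ω] [MulAction G Ω] (p : ℕ)
    [Fact p.Prime] (x : G) (a : ℕ) :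
    (Finset.univ.filter (fun q : Ω => x ^ (p ^ a) • q = q)).card ≡
      (Finset.univ.filter (fun q : Ω => x • q = q)).card [MOD p] := by
  have hxy : x * x ^ (p ^ a) = x ^ (p ^ a) * x := by rw [← pow_succ', ← pow_succ]
  let f : Function.End {q : Ω // x ^ (p ^ a) • q = q} := fun q => ⟨x • q.1, by
    rw [smul_smul, ← hxy, ← smul_smul, q.2]⟩
  have hfpow : ∀ j : ℕ, ∀ q : {q : Ω // x ^ (p ^ a) • q = q},
      (((f : {q : Ω // x ^ (p ^ a) • q = q} → {q : Ω // x ^ (p ^ a) • q = q})^[j]) q).1 =
        x ^ j • q.1 := by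
    intro j
    induction j with
    | zero => intro q; rw [Function.iterate_zero, id_eq, pow_zero, one_smul]
    | succ j ih =>
      intro q
      rw [Function.iterate_succ_apply']
      show x • (((f : {q : Ω // x ^ (p ^ a) • q = q} →
        {q : Ω // x ^ (p ^ a) • q = q})^[j]) q).1 = _
      rw [ih, pow_succ', mul_smul]
  have hpowit : ∀ j : ℕ, ((f ^ j : Function.End {q : Ω // x ^ (p ^ a) • q = q}) :
      {q : Ω // x ^ (p ^ a) • q = q} → {q : Ω // x ^ (p ^ a) • q = q}) =
      (f : {q : Ω // x ^ (p ^ a) • q = q} → {q : Ω // x ^ (p ^ a) • q = q})^[j] := fun j =>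
    hom_coe_pow (fun g : Function.End {q : Ω // x ^ (p ^ a) • q = q} =>
      (g : {q : Ω // x ^ (p ^ a) • q = q} → {q : Ω // x ^ (p ^ a) • q = q})) rfl
      (fun g h => rfl) f j
  have hf1 : f ^ p ^ a = 1 := by
    funext q
    apply Subtype.ext
    show ((f ^ p ^ a : Function.End {q : Ω // x ^ (p ^ a) • q = q}) q).1 = q.1
    rw [hpowit, hfpow]
    exact q.2
  have hmod := Equiv.Perm.card_fixedPoints_modEq (f := f) (p := p) (n := a) hf1
  have hcardfix : Fintype.card (Function.fixedPoints f) =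
      (Finset.univ.filter (fun q : Ω => x • q = q)).card := by
    rw [← Fintype.card_subtype]
    apply Fintype.card_congr
    refine ⟨fun q => ⟨q.1.1, congrArg Subtype.val q.2⟩,
      fun q => ⟨⟨q.1, smul_pow_fixed q.2 (p ^ a)⟩, Subtype.ext q.2⟩, ?_, ?_⟩
    · intro q; rfl
    · intro q; rfl
  rw [← hcardfix, ← Fintype.card_subtype]
  exact hmod

theorem exists_qe_permChar [Fintype G] (x : G) (p : ℕ) (hp : p.Prime) :
    ∃ H : Subgroup G, QESub p H ∧
      ∃ n : ℕ, indFun H (fun _ => (1 : ℂ)) x = (n : ℂ) ∧ ¬ p ∣ n := by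
  classical
  have : Fact p.Prime := ⟨hp⟩
  have ho_pos : 0 < orderOf x := orderOf_pos x
  set a := (orderOf x).factorization p with ha
  have hyord : orderOf (x ^ (p ^ a)) = orderOf x / p ^ a := by
    rw [orderOf_pow, Nat.gcd_eq_right (Nat.ordProj_dvd (orderOf x) p)]
  have hycop : Nat.Coprime (orderOf (x ^ (p ^ a))) p := by
    rw [hyord]; exact (Nat.coprime_ordCompl hp ho_pos.ne').symm
  obtain ⟨H, k, n, hCH, hHN, hrel, hcard, hn⟩ :=
    exists_sylow_over p (Subgroup.zpowers (x ^ (p ^ a)))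
  refine ⟨H, ⟨Subgroup.zpowers (x ^ (p ^ a)), hCH, hHN, inferInstance,
    by rw [Nat.card_zpowers]; exact hycop, k, hrel⟩, ?_⟩
  have : Fintype (G ⧸ H) := Fintype.ofFinite _
  refine ⟨(Finset.univ.filter (fun q : G ⧸ H => x • q = q)).card,
    permChar_eq_card_fixed H x, ?_⟩
  have hmod := card_fixed_pow_modEq (Ω := G ⧸ H) p x a
  have hHne : (Nat.card H : ℂ) ≠ 0 := Nat.cast_ne_zero.mpr Nat.card_pos.ne'
  have hy : ((Finset.univ.filter (fun q : G ⧸ H => x ^ (p ^ a) • q = q)).card : ℂ) = n := by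
    rw [← permChar_eq_card_fixed H (x ^ (p ^ a)), permChar_apply]
    have hset : Finset.univ.filter (fun g : G => g⁻¹ * x ^ (p ^ a) * g ∈ H) =
        Finset.univ.filter (fun g : G => g ∈ Subgroup.normalizer
          (Subgroup.zpowers (x ^ (p ^ a)) : Set G)) := by
      ext g
      simp only [Finset.mem_filter, Finset.mem_univ, true_and]
      exact conj_mem_iff_mem_normalizer _ hycop hCH hHN hrel g
    have hc : (Finset.univ.filter (fun g : G => g ∈ Subgroup.normalizer
        (Subgroup.zpowers (x ^ (p ^ a)) : Set G))).card =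
        Nat.card (Subgroup.normalizer (Subgroup.zpowers (x ^ (p ^ a)) : Set G)) := by
      rw [← Nat.card_eq_finsetCard]
      exact Nat.card_congr (Equiv.subtypeEquivRight (by intro g; simp))
    rw [hset, hc, hcard]
    push_cast
    field_simp
  have hy' : (Finset.univ.filter (fun q : G ⧸ H => x ^ (p ^ a) • q = q)).card = n := by
    exact_mod_cast hy
  rw [hy'] at hmod
  intro hdvd
  exact hn (Nat.modEq_zero_iff_dvd.mp (hmod.trans (Nat.modEq_zero_iff_dvd.mpr hdvd)))

end Cfsg.Agent.Lib.Helper8
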