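import Mathlib
import Cfsg.Prelude.Def_Characters
import Cfsg.Agent.Lib.Helper8.BrauerQE
import Cfsg.Agent.S0870

set_option autoImplicit false

namespace Cfsg.Agent.Lib.Helper8
open Cfsg

variable {G : Type*} [Group G]

theorem qeSub_of_le {p : ℕ} (hp : p.Prime) {H U : Subgroup G} (hH : QESub p H) (hUH : U ≤ H) :
    QESub p U := by
  obtain ⟨C, hCH, hHN, hcyc, hcop, k, hk⟩ := hH
  have hn : (C.subgroupOf H).Normal := (Subgroup.normal_subgroupOf_iff_le_normalizer hCH).mpr hHN
  refine ⟨C ⊓ U, inf_le_right, ?_, ?_, ?_, ?_⟩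
  · intro u hu
    have huN := hHN (hUH hu)
    rw [Subgroup.mem_normalizer_iff] at huN ⊢
    intro h
    rw [Subgroup.mem_inf, Subgroup.mem_inf, ← huN h]
    constructor
    · rintro ⟨h1, h2⟩
      exact ⟨h1, U.mul_mem (U.mul_mem hu h2) (U.inv_mem hu)⟩
    · rintro ⟨h1, h2⟩
      refine ⟨h1, ?_⟩
      have : h = u⁻¹ * (u * h * u⁻¹) * u := by group
      rw [this]
      exact U.mul_mem (U.mul_mem (U.inv_mem hu) h2) hu
  · exact Subgroup.isCyclic_of_le (inf_le_left : C ⊓ U ≤ C)
  · exact Nat.Coprime.coprime_dvd_left (Subgroup.card_dvd_of_le inf_le_left) hcop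
  · rw [Subgroup.inf_relIndex_right]
    have h1 : (C.subgroupOf H).relIndex (U.subgroupOf H) ∣ (C.subgroupOf H).index :=
      Subgroup.relIndex_dvd_index_of_normal _ _
    rw [Subgroup.relIndex_subgroupOf hUH] at h1
    have h2 : (C.subgroupOf H).index = p ^ k := hk
    rw [h2] at h1
    obtain ⟨j, -, hj⟩ := (Nat.dvd_prime_pow hp).mp h1
    exact ⟨j, hj⟩

/-- The ℤ-span of the permutation characters of `p`-quasi-elementary subgroups. -/
def qeSpan [Fintype G] (p : ℕ) : Submodule ℤ (G → ℂ) :=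
  Submodule.span ℤ {f | ∃ H : Subgroup G, QESub p H ∧ f = indFun H (fun _ => (1 : ℂ))}

theorem qeSpan_mul_mem [Fintype G] {p : ℕ} (hp : p.Prime) {f g : G → ℂ} (hf : f ∈ qeSpan p)
    (hg : g ∈ qeSpan p) : f * g ∈ qeSpan (G := G) p := by
  classical
  unfold qeSpan at hf hg ⊢
  induction hf using Submodule.span_induction with
  | mem f hf =>
    obtain ⟨H, hH, rfl⟩ := hf
    induction hg using Submodule.span_induction with
    | mem g hg =>
      obtain ⟨K, hK, rfl⟩ := hg
      obtain ⟨a, ha, hmul⟩ := Cfsg.Agent.S0870.result H K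
      rw [hmul]
      apply Submodule.sum_mem
      intro U _
      by_cases hU : a U = 0
      · rw [hU]; simp
      · have : ((a U : ℂ) • indFun U (fun _ => (1 : ℂ))) =
            ((a U : ℤ)) • indFun U (fun _ => (1 : ℂ)) := by
          ext x; simp
        rw [this]
        apply Submodule.smul_mem
        exact Submodule.subset_span ⟨U, qeSub_of_le hp hH (ha U hU), rfl⟩
    | zero => rw [mul_zero]; exact Submodule.zero_mem _
    | add g₁ g₂ _ _ h₁ h₂ => rw [mul_add]; exact Submodule.add_mem _ h₁ h₂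
    | smul n g _ h => rw [mul_smul_comm]; exact Submodule.smul_mem _ n h
  | zero => rw [zero_mul]; exact Submodule.zero_mem _
  | add f₁ f₂ _ _ h₁ h₂ => rw [add_mul]; exact Submodule.add_mem _ h₁ h₂
  | smul n f _ h => rw [smul_mul_assoc]; exact Submodule.smul_mem _ n h

/-- Banaschewski's lemma, local form. -/
theorem banaschewski {S : Type*} [Fintype S] [DecidableEq S] (R : Submodule ℤ (S → ℂ))
    (hmul : ∀ f g : S → ℂ, f ∈ R → g ∈ R → f * g ∈ R) (n : S → ℤ) (f : S → (S → ℂ))
    (hf : ∀ x, f x ∈ R) (hfn : ∀ x, f x x = (n x : ℂ)) :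
    (fun _ : S => ((∏ x : S, (-n x) : ℤ) : ℂ)) ∈ R := by
  have key : ∀ s : Finset S, ∃ r ∈ R, (∏ x ∈ s, (f x - fun _ => (n x : ℂ))) =
      r + fun _ : S => ((∏ x ∈ s, (-n x) : ℤ) : ℂ) := by
    intro s
    induction s using Finset.induction_on with
    | empty =>
      refine ⟨0, Submodule.zero_mem _, ?_⟩
      ext y; simp
    | insert x s hx ih =>
      obtain ⟨r, hr, hprod⟩ := ih
      rw [Finset.prod_insert hx, Finset.prod_insert hx, hprod]
      refine ⟨f x * r + (∏ x ∈ s, (-n x)) • f x + (-n x) • r, ?_, ?_⟩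
      · exact Submodule.add_mem _ (Submodule.add_mem _ (hmul _ _ (hf x) hr)
          (Submodule.smul_mem _ _ (hf x))) (Submodule.smul_mem _ _ hr)
      · ext y
        simp only [Pi.mul_apply, Pi.sub_apply, Pi.add_apply, Pi.smul_apply]
        rw [zsmul_eq_mul, zsmul_eq_mul]
        push_cast
        ring
  obtain ⟨r, hr, hprod⟩ := key Finset.univ
  have hzero : (∏ x ∈ (Finset.univ : Finset S), (f x - fun _ => (n x : ℂ))) = 0 := by
    ext y
    rw [Finset.prod_apply]
    apply Finset.prod_eq_zero (Finset.mem_univ y)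
    rw [Pi.sub_apply, hfn, sub_self]
  rw [hzero] at hprod
  have : (fun _ : S => ((∏ x : S, (-n x) : ℤ) : ℂ)) = -r := by
    rw [eq_neg_iff_add_eq_zero, add_comm]
    exact hprod.symm
  rw [this]
  exact Submodule.neg_mem _ hr

/-- Solomon's theorem, local form. -/
theorem solomon_local [Fintype G] (p : ℕ) (hp : p.Prime) :
    ∃ m : ℤ, ¬ (p : ℤ) ∣ m ∧ (fun _ : G => (m : ℂ)) ∈ qeSpan (G := G) p := by
  classical
  have hex : ∀ x : G, ∃ H : Subgroup G, QESub p H ∧
      ∃ n : ℕ, indFun H (fun _ => (1 : ℂ)) x = (n : ℂ) ∧ ¬ p ∣ n :=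
    fun x => exists_qe_permChar x p hp
  choose H hH n hn hnp using hex
  refine ⟨∏ x : G, (-(n x : ℤ)), ?_, ?_⟩
  · intro hdvd
    have hp' : Prime (p : ℤ) := Nat.prime_iff_prime_int.mp hp
    obtain ⟨x, -, hx⟩ := (Prime.dvd_finset_prod_iff hp' _).mp hdvd
    rw [dvd_neg, Int.natCast_dvd_natCast] at hx
    exact hnp x hx
  · exact banaschewski (qeSpan p) (fun f g => qeSpan_mul_mem hp) (fun x => (n x : ℤ))
      (fun x => indFun (H x) (fun _ => (1 : ℂ)))
      (fun x => Submodule.subset_span ⟨H x, hH x, rfl⟩) (fun x => by rw [hn x]; simp)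

theorem qeSpan_coeffs [Fintype G] [Fintype (Subgroup G)] {p : ℕ} {f : G → ℂ}
    (hf : f ∈ qeSpan (G := G) p) :
    ∃ a : Subgroup G → ℤ, (∀ H, a H ≠ 0 → QESub p H) ∧
      f = ∑ H : Subgroup G, (a H : ℂ) • indFun H (fun _ => (1 : ℂ)) := by
  classical
  unfold qeSpan at hf
  induction hf using Submodule.span_induction with
  | mem f hf =>
    obtain ⟨H, hH, rfl⟩ := hf
    refine ⟨Pi.single H 1, ?_, ?_⟩
    · intro K hK
      by_cases hKH : K = H
      · rw [hKH]; exact hH
      · exfalso; exact hK (Pi.single_eq_of_ne hKH 1)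
    · rw [Finset.sum_eq_single H]
      · simp
      · intro K _ hKH
        rw [Pi.single_eq_of_ne hKH]; simp
      · intro h; exact absurd (Finset.mem_univ H) h
  | zero => exact ⟨0, fun H h => absurd rfl h, by simp⟩
  | add f₁ f₂ _ _ h₁ h₂ =>
    obtain ⟨a₁, ha₁, e₁⟩ := h₁
    obtain ⟨a₂, ha₂, e₂⟩ := h₂
    refine ⟨a₁ + a₂, ?_, ?_⟩
    · intro H hH
      by_cases h1 : a₁ H = 0
      · apply ha₂
        intro h2
        apply hH
        rw [Pi.add_apply, h1, h2, add_zero]
      · exact ha₁ H h1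
    · rw [e₁, e₂, ← Finset.sum_add_distrib]
      apply Finset.sum_congr rfl
      intro H _
      rw [Pi.add_apply]; push_cast; rw [add_smul]
  | smul n f _ h =>
    obtain ⟨a, ha, e⟩ := h
    refine ⟨n • a, ?_, ?_⟩
    · intro H hH
      apply ha
      intro h0
      apply hH
      rw [Pi.smul_apply, h0, smul_zero]
    · rw [e, Finset.smul_sum]
      apply Finset.sum_congr rfl
      intro H _
      ext x
      simp only [Pi.smul_apply, smul_eq_mul, zsmul_eq_mul]
      push_cast
      ring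

end Cfsg.Agent.Lib.Helper8
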