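import Mathlib
import Cfsg.Prelude.Def_Characters
import Cfsg.Agent.Lib.Helper8.BrauerMono
import Cfsg.Agent.Lib.Helper8.BrauerSolomon
import Cfsg.Agent.Lib.Helper8.CharFrobThm
import Cfsg.Agent.Lib.Helper8.CharExtraspecial
import Cfsg.Agent.S0873

set_option autoImplicit false

universe u

namespace Cfsg.Agent.Lib.Helper8
open Cfsg
open scoped ComplexConjugate

/-- `G` is a `p`-quasi-elementary group. -/
def QEGroup (p : ℕ) (G : Type*) [Group G] : Prop :=
  ∃ C : Subgroup G, C.Normal ∧ IsCyclic C ∧ Nat.Coprime (Nat.card C) p ∧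
    ∃ k : ℕ, C.index = p ^ k

theorem qeGroup_subgroup {G : Type*} [Group G] {p : ℕ} (hp : p.Prime) (h : QEGroup p G)
    (T : Subgroup G) : QEGroup p T := by
  obtain ⟨C, hCn, hcyc, hcop, k, hk⟩ := h
  have hinj : Function.Injective (T.subtype.subgroupComap C) := by
    intro x y hxy
    apply Subtype.ext
    apply Subtype.ext
    exact congrArg (fun z : C => (z : G)) hxy
  refine ⟨C.subgroupOf T, hCn.subgroupOf T, isCyclic_of_injective _ hinj, ?_, ?_⟩
  · exact Nat.Coprime.coprime_dvd_left (Subgroup.card_dvd_of_injective _ hinj) hcop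
  · have h1 : C.relIndex T ∣ C.index := Subgroup.relIndex_dvd_index_of_normal C T
    rw [hk] at h1
    obtain ⟨j, -, hj⟩ := (Nat.dvd_prime_pow hp).mp h1
    exact ⟨j, hj⟩

theorem qeGroup_of_qeSub {G : Type*} [Group G] {p : ℕ} {H : Subgroup G} (h : QESub p H) :
    QEGroup p H := by
  obtain ⟨C, hCH, hHN, hcyc, hcop, k, hk⟩ := h
  refine ⟨C.subgroupOf H, (Subgroup.normal_subgroupOf_iff_le_normalizer hCH).mpr hHN, ?_, ?_,
    k, hk⟩
  · exact isCyclic_of_injective (Subgroup.subgroupOfEquivOfLe hCH).toMonoidHom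
      (Subgroup.subgroupOfEquivOfLe hCH).injective
  · rw [Nat.card_congr (Subgroup.subgroupOfEquivOfLe hCH).toEquiv]
    exact hcop

/-- A linear character of a `p`-quasi-elementary group trivial on `C_C(P) P` is trivial. -/
theorem qe_linear_trivial {G : Type*} [Group G] [Fintype G] {p : ℕ} [Fact p.Prime]
    (C : Subgroup G) [hCn : C.Normal] (hcop : Nat.Coprime (Nat.card C) p) (P : Subgroup G)
    (hP : IsPGroup p P) (hCP : C ⊔ P = ⊤) (ψ : IrrCharacter G) (hψ1 : ψ.1 1 = 1)
    (hZ : ∀ z ∈ C ⊓ Subgroup.centralizer (P : Set G), ψ.1 z = 1) (hPψ : ∀ x ∈ P, ψ.1 x = 1) :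
    ψ.1 = fun _ => 1 := by
  have hmul := linear_char_mul ψ hψ1
  have hcf : IsClassFunction G ψ.1 := isClassFunction_of_isCharacter (irr_isCharacter ψ.2)
  have hC : (fun c : C => ψ.1 c) = fun _ => 1 := by
    apply Cfsg.Agent.S0873.lemma811 p C P hP hcop (fun c : C => ψ.1 c)
      ⟨isCharacter_restrict C (irr_isCharacter ψ.2), by simpa using hψ1⟩
    · intro g c
      exact hcf c g
    · intro c hc
      exact hZ c ⟨c.2, hc⟩
  let S : Subgroup G :=
    { carrier := {g | ψ.1 g = 1}
      one_mem' := hψ1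
      mul_mem' := fun {a b} ha hb => by
        show ψ.1 (a * b) = 1
        rw [hmul, ha, hb, mul_one]
      inv_mem' := fun {a} ha => by
        show ψ.1 a⁻¹ = 1
        have : ψ.1 (a⁻¹ * a) = ψ.1 a⁻¹ * ψ.1 a := hmul _ _
        rw [inv_mul_cancel, hψ1, ha, mul_one] at this
        exact this.symm }
  have hCS : C ≤ S := fun c hc => congrFun hC ⟨c, hc⟩
  have hPS : P ≤ S := fun x hx => hPψ x hx
  have htop : S = ⊤ := top_le_iff.mp (hCP ▸ sup_le hCS hPS)
  ext g
  have : g ∈ S := by rw [htop]; exact Subgroup.mem_top g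
  exact this

/-- The subgroup `C_C(P) P` of a quasi-elementary group is elementary. -/
theorem qe_elementary_sub {G : Type*} [Group G] [Fintype G] {p : ℕ} [Fact p.Prime]
    (C : Subgroup G) [hCn : C.Normal] (hcyc : IsCyclic C) (hcop : Nat.Coprime (Nat.card C) p)
    (P : Subgroup G) (hP : IsPGroup p P) (hCP : C ⊔ P = ⊤) :
    IsElementary p ↥((C ⊓ Subgroup.centralizer (P : Set G)) ⊔ P) := by
  classical
  have hZcyc : IsCyclic ↥(C ⊓ Subgroup.centralizer (P : Set G)) :=
    Subgroup.isCyclic_of_le (inf_le_left : C ⊓ Subgroup.centralizer (P : Set G) ≤ C)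
  obtain ⟨⟨z₀, hz₀⟩, hgen⟩ := hZcyc.exists_generator
  have hCcomm : ∀ a ∈ C, ∀ b ∈ C, a * b = b * a := by
    intro a ha b hb
    let _ := IsCyclic.commGroup (α := C)
    have := mul_comm (⟨a, ha⟩ : C) ⟨b, hb⟩
    exact congrArg Subtype.val this
  -- elements of Z are central in G
  have hZcentral : ∀ z ∈ C ⊓ Subgroup.centralizer (P : Set G), ∀ g : G, g * z = z * g := by
    intro z hz g
    have hC' : C ≤ Subgroup.centralizer ({z} : Set G) := by
      intro c hc
      rw [Subgroup.mem_centralizer_iff]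
      intro y hy
      rw [Set.mem_singleton_iff] at hy
      rw [hy]
      exact hCcomm z hz.1 c hc
    have hP' : P ≤ Subgroup.centralizer ({z} : Set G) := by
      intro x hx
      rw [Subgroup.mem_centralizer_iff]
      intro y hy
      rw [Set.mem_singleton_iff] at hy
      rw [hy]
      exact (Subgroup.mem_centralizer_iff.mp hz.2 x hx).symm
    have htop : Subgroup.centralizer ({z} : Set G) = ⊤ :=
      top_le_iff.mp (hCP ▸ sup_le hC' hP')
    have hg : g ∈ Subgroup.centralizer ({z} : Set G) := by rw [htop]; exact Subgroup.mem_top g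
    exact (Subgroup.mem_centralizer_iff.mp hg z rfl).symm
  have hZn : (C ⊓ Subgroup.centralizer (P : Set G)).Normal := by
    constructor
    intro z hz g
    have := hZcentral z hz g
    rw [this, mul_inv_cancel_right]
    exact hz
  have hz₀E : z₀ ∈ (C ⊓ Subgroup.centralizer (P : Set G)) ⊔ P := le_sup_left (a := _) (b := P) hz₀
  refine ⟨⟨z₀, hz₀E⟩, ?_, ?_, ?_⟩
  · rw [Subgroup.mem_center_iff]
    intro y
    apply Subtype.ext
    exact hZcentral z₀ hz₀ y
  · have h1 : orderOf (⟨z₀, hz₀E⟩ : ↥((C ⊓ Subgroup.centralizer (P : Set G)) ⊔ P)) =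
        orderOf (⟨z₀, hz₀.1⟩ : C) := by
      rw [← Subgroup.orderOf_coe, ← Subgroup.orderOf_coe]
    rw [h1]
    exact Nat.Coprime.coprime_dvd_left (orderOf_dvd_natCard _) hcop
  · have hzp : Subgroup.zpowers (⟨z₀, hz₀E⟩ : ↥((C ⊓ Subgroup.centralizer (P : Set G)) ⊔ P)) =
        (C ⊓ Subgroup.centralizer (P : Set G)).subgroupOf
          ((C ⊓ Subgroup.centralizer (P : Set G)) ⊔ P) := by
      ext y
      rw [Subgroup.mem_subgroupOf, Subgroup.mem_zpowers_iff]
      constructor
      · rintro ⟨n, rfl⟩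
        exact Subgroup.zpow_mem _ hz₀ n
      · intro hy
        obtain ⟨n, hn⟩ := Subgroup.mem_zpowers_iff.mp (hgen ⟨(y : G), hy⟩)
        refine ⟨n, ?_⟩
        apply Subtype.ext
        have := congrArg (fun z : ↥(C ⊓ Subgroup.centralizer (P : Set G)) => (z : G)) hn
        simpa using this
    rw [hzp]
    have hrel : ((C ⊓ Subgroup.centralizer (P : Set G)).subgroupOf
        ((C ⊓ Subgroup.centralizer (P : Set G)) ⊔ P)).index =
        (C ⊓ Subgroup.centralizer (P : Set G)).relIndex P := by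
      rw [← Subgroup.relIndex_sup_left (K := C ⊓ Subgroup.centralizer (P : Set G)) (H := P)]
      rfl
    rw [hrel]
    have h1 : (C ⊓ Subgroup.centralizer (P : Set G)).relIndex P ∣ Nat.card P :=
      Subgroup.index_dvd_card _
    obtain ⟨m, hm⟩ := IsPGroup.exists_card_eq hP
    rw [hm] at h1
    obtain ⟨j, -, hj⟩ := (Nat.dvd_prime_pow (Fact.out : p.Prime)).mp h1
    exact ⟨j, hj⟩

theorem one_mem_elSpan_of_qe (p : ℕ) [hp : Fact p.Prime] : ∀ (n : ℕ) (G : Type u) [Group G]
    [Fintype G], Nat.card G = n → QEGroup p G → (fun _ : G => (1 : ℂ)) ∈ elSpan (G := G) p := by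
  intro n
  induction n using Nat.strong_induction_on with
  | _ n ih =>
  intro G _ _ hcard hqe
  classical
  obtain ⟨C, hCn, hcyc, hcop, k, hk⟩ := hqe
  obtain ⟨P⟩ : Nonempty (Sylow p G) := inferInstance
  have hCP : C ⊔ (P : Subgroup G) = ⊤ := by
    rw [← Subgroup.index_eq_one]
    have h1 : (C ⊔ (P : Subgroup G)).index ∣ p ^ k := by
      rw [← hk]; exact Subgroup.index_dvd_of_le le_sup_left
    have h2 : (C ⊔ (P : Subgroup G)).index ∣ (P : Subgroup G).index :=
      Subgroup.index_dvd_of_le le_sup_right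
    obtain ⟨j, -, hj⟩ := (Nat.dvd_prime_pow hp.out).mp h1
    rcases Nat.eq_zero_or_pos j with h0 | hpos
    · rw [hj, h0, pow_zero]
    · exfalso
      apply P.not_dvd_index
      apply dvd_trans _ h2
      rw [hj]
      exact dvd_pow_self p hpos.ne'
  set E : Subgroup G := (C ⊓ Subgroup.centralizer ((P : Subgroup G) : Set G)) ⊔ (P : Subgroup G)
    with hE
  have hEel : IsElementary p E := qe_elementary_sub C hcyc hcop P P.isPGroup' hCP
  have : Fintype E := Fintype.ofFinite E
  have := irr_finite (G := G)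
  have : Fintype (IrrCharacter G) := Fintype.ofFinite _
  have h1E : IsCharacter E (fun _ => (1 : ℂ)) := irr_isCharacter principal_isIrrCharacter
  have hπmem : indFun E (fun _ => (1 : ℂ)) ∈ elSpan (G := G) p :=
    Submodule.subset_span ⟨E, _, hEel, h1E, rfl⟩
  obtain ⟨m, hm⟩ := isCharacter_decomp (isCharacter_indFun E h1E)
  have hπ : indFun E (fun _ => (1 : ℂ)) = fun g => ∑ ψ : IrrCharacter G, (m ψ : ℂ) * ψ.1 g :=
    funext hm
  have hmψ : ∀ ψ : IrrCharacter G, (m ψ : ℂ) =
      classInner (fun _ : E => (1 : ℂ)) (fun e : E => ψ.1 e) := by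
    intro ψ
    rw [← frobenius_reciprocity E _ ψ.1 (isClassFunction_of_isCharacter (irr_isCharacter ψ.2)),
      hπ, classInner_comb_irr (fun ψ => (m ψ : ℂ)) ψ]
  set pr : IrrCharacter G := ⟨fun _ => (1 : ℂ), principal_isIrrCharacter⟩ with hpr
  have hmpr : m pr = 1 := by
    have := hmψ pr
    rw [show (fun e : E => pr.1 e) = fun _ => (1 : ℂ) from rfl, classInner_one_one] at this
    exact_mod_cast this
  -- each other constituent lies in the span
  have hother : ∀ ψ : IrrCharacter G, ψ ≠ pr → m ψ ≠ 0 → ψ.1 ∈ elSpan (G := G) p := by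
    intro ψ hψpr hmne
    have hnonlin : ψ.1 1 ≠ 1 := by
      intro hlin
      apply hψpr
      apply Subtype.ext
      have hres : IsIrrCharacter E (fun e : E => ψ.1 e) :=
        irr_of_degree_one (isCharacter_restrict E (irr_isCharacter ψ.2)) (by simpa using hlin)
      have h3 := hmψ ψ
      rw [irr_classInner principal_isIrrCharacter hres] at h3
      have h4 : (fun _ : E => (1 : ℂ)) = fun e : E => ψ.1 e := by
        by_contra hne
        rw [if_neg hne] at h3
        exact hmne (by exact_mod_cast h3)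
      have hEψ : ∀ e ∈ E, ψ.1 e = 1 := fun e he => (congrFun h4 ⟨e, he⟩).symm
      exact qe_linear_trivial C hcop P P.isPGroup' hCP ψ hlin
        (fun z hz => hEψ z (le_sup_left (a := _) (b := (P : Subgroup G)) hz))
        (fun x hx => hEψ x (le_sup_right (a := C ⊓ Subgroup.centralizer
          ((P : Subgroup G) : Set G)) (b := (P : Subgroup G)) hx))
    obtain ⟨T, ψ', hTtop, hψ', hind⟩ := qe_induced_proper C hcyc hk ψ.1 ψ.2 hnonlin
    have : Fintype T := Fintype.ofFinite T
    have hltT : Nat.card T < n := by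
      rw [← hcard]
      exact lt_of_le_of_ne (Subgroup.card_le_card_group T)
        (fun h => hTtop ((Subgroup.card_eq_iff_eq_top T).mp h))
    have hT1 := ih _ hltT T rfl (qeGroup_subgroup hp.out ⟨C, hCn, hcyc, hcop, k, hk⟩ T)
    have hT2 := elSpan_mul_char hT1 (irr_isCharacter hψ')
    have hT3 : (fun _ : T => (1 : ℂ)) * ψ' = ψ' := by ext t; simp
    rw [hT3] at hT2
    rw [hind]
    exact elSpan_induce T hT2
  -- assemble
  have hone : (fun _ : G => (1 : ℂ)) = indFun E (fun _ => (1 : ℂ)) -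
      ∑ ψ ∈ Finset.univ.erase pr, (m ψ : ℤ) • ψ.1 := by
    ext g
    rw [Pi.sub_apply, hm g, ← Finset.add_sum_erase _ _ (Finset.mem_univ pr), hmpr,
      Finset.sum_apply]
    simp only [Pi.smul_apply, zsmul_eq_mul]
    push_cast
    simp [hpr]
  rw [hone]
  apply Submodule.sub_mem _ hπmem
  apply Submodule.sum_mem
  intro ψ hψ
  by_cases hmz : m ψ = 0
  · rw [hmz]; simp
  · exact Submodule.smul_mem _ _ (hother ψ (Finset.ne_of_mem_erase hψ) hmz)

end Cfsg.Agent.Lib.Helper8
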