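import Mathlib
import Cfsg.Prelude.Def_Characters
import Cfsg.Agent.Lib.Helper8.BrauerLocal

set_option autoImplicit false

universe u

namespace Cfsg.Agent.Lib.Helper8
open Cfsg

theorem qeSpan_le_elSpan {G : Type u} [Group G] [Fintype G] (p : ℕ) [Fact p.Prime] :
    qeSpan (G := G) p ≤ elSpan (G := G) p := by
  classical
  unfold qeSpan
  rw [Submodule.span_le]
  rintro f ⟨H, hH, rfl⟩
  have : Fintype H := Fintype.ofFinite H
  exact elSpan_induce H (one_mem_elSpan_of_qe p _ H rfl (qeGroup_of_qeSub hH))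

/-- Local Brauer induction theorem. -/
theorem brauer_local {G : Type u} [Group G] [Fintype G] (p : ℕ) (hp : p.Prime) :
    ∃ m : ℤ, ¬ (p : ℤ) ∣ m ∧ (fun _ : G => (m : ℂ)) ∈ elSpan (G := G) p := by
  have : Fact p.Prime := ⟨hp⟩
  obtain ⟨m, hm, hmem⟩ := solomon_local (G := G) p hp
  exact ⟨m, hm, qeSpan_le_elSpan p hmem⟩

theorem elSpan_list {G : Type u} [Group G] [Fintype G] {p : ℕ} {f : G → ℂ}
    (hf : f ∈ elSpan (G := G) p) :
    ∃ l : List ((E : Subgroup G) × ((E → ℂ) × ℤ)),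
      (∀ t ∈ l, IsElementary p t.1 ∧ IsCharacter t.1 t.2.1) ∧
      f = (l.map fun t => (t.2.2 : ℂ) • indFun t.1 t.2.1).sum := by
  unfold elSpan at hf
  induction hf using Submodule.span_induction with
  | mem f hf =>
    obtain ⟨E, φ, hE, hφ, rfl⟩ := hf
    refine ⟨[⟨E, (φ, 1)⟩], ?_, ?_⟩
    · intro t ht
      rw [List.mem_singleton] at ht
      rw [ht]
      exact ⟨hE, hφ⟩
    · simp
  | zero => exact ⟨[], by simp, by simp⟩
  | add f₁ f₂ _ _ h₁ h₂ =>
    obtain ⟨l₁, hl₁, e₁⟩ := h₁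
    obtain ⟨l₂, hl₂, e₂⟩ := h₂
    refine ⟨l₁ ++ l₂, ?_, ?_⟩
    · intro t ht
      rcases List.mem_append.mp ht with h | h
      · exact hl₁ t h
      · exact hl₂ t h
    · rw [List.map_append, List.sum_append, ← e₁, ← e₂]
  | smul n f _ h =>
    obtain ⟨l, hl, e⟩ := h
    refine ⟨l.map (fun t => ⟨t.1, (t.2.1, n * t.2.2)⟩), ?_, ?_⟩
    · intro t ht
      obtain ⟨s, hs, rfl⟩ := List.mem_map.mp ht
      exact hl s hs
    · rw [e, List.map_map]
      clear e hl
      induction l with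
      | nil => simp
      | cons a l ih =>
        rw [List.map_cons, List.sum_cons, smul_add, ih, List.map_cons, List.sum_cons]
        congr 1
        ext x
        simp only [Function.comp_apply, Pi.smul_apply, smul_eq_mul, zsmul_eq_mul]
        push_cast
        ring

end Cfsg.Agent.Lib.Helper8
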