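import Mathlib
import Cfsg.Prelude.Def_Characters
import Cfsg.Agent.Lib.Helper8.CharClifford3
import Cfsg.Agent.Lib.Helper8.CharDecomp
import Cfsg.Agent.Lib.Helper8.CharCliffordCorr
import Cfsg.Agent.Lib.Helper8.CharRamified
import Cfsg.Agent.Lib.Helper8.BrauerLocal2

set_option autoImplicit false

universe u

namespace Cfsg.Agent.Lib.Helper8
open Cfsg
open scoped ComplexConjugate

/-- Weighted orbit counting: the sum of an invariant function over the non-fixed points is divisible
by `p` if all non-trivial orbits have size divisible by `p`. -/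
theorem orbit_sum_dvd {A X : Type*} [Group A] [MulAction A X] [Fintype X]
    [DecidablePred fun x : X => ∃ a : A, a • x ≠ x] (p : ℕ) (f : X → ℤ)
    (hf : ∀ (a : A) (x : X), f (a • x) = f x)
    (hp : ∀ x : X, (∃ a : A, a • x ≠ x) → p ∣ (MulAction.stabilizer A x).index) :
    (p : ℤ) ∣ ∑ x ∈ Finset.univ.filter (fun x => ∃ a : A, a • x ≠ x), f x := by
  classical
  set s := Finset.univ.filter (fun x : X => ∃ a : A, a • x ≠ x) with hs
  have : Fintype (MulAction.orbitRel.Quotient A X) := Fintype.ofFinite _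
  rw [← Finset.sum_fiberwise s (fun x => (Quotient.mk'' x : MulAction.orbitRel.Quotient A X)) f]
  apply Finset.dvd_sum
  intro ω _
  induction ω using Quotient.inductionOn' with
  | h x₀ =>
  by_cases hx₀ : ∃ a : A, a • x₀ ≠ x₀
  · have hfib : s.filter (fun x => (Quotient.mk'' x : MulAction.orbitRel.Quotient A X) = Quotient.mk'' x₀)
        = (MulAction.orbit A x₀).toFinset := by
      ext x
      simp only [Finset.mem_filter, Set.mem_toFinset]
      constructor
      · rintro ⟨_, hx⟩
        exact Quotient.exact' hx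
      · intro hx
        refine ⟨?_, Quotient.sound' hx⟩
        rw [hs, Finset.mem_filter]
        refine ⟨Finset.mem_univ _, ?_⟩
        obtain ⟨a, rfl⟩ := hx
        obtain ⟨b, hb⟩ := hx₀
        refine ⟨a * b * a⁻¹, ?_⟩
        intro h
        apply hb
        have : a⁻¹ • ((a * b * a⁻¹) • (a • x₀)) = a⁻¹ • (a • x₀) := by
          show a⁻¹ • ((a * b * a⁻¹) • ((fun m : A => m • x₀) a)) = a⁻¹ • ((fun m : A => m • x₀) a)
          rw [h]
        simpa [smul_smul, mul_assoc] using this
    rw [hfib]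
    have hconst : ∀ x ∈ (MulAction.orbit A x₀).toFinset, f x = f x₀ := by
      intro x hx
      rw [Set.mem_toFinset] at hx
      obtain ⟨a, rfl⟩ := hx
      exact hf a x₀
    rw [Finset.sum_congr rfl hconst, Finset.sum_const, nsmul_eq_mul]
    apply Dvd.dvd.mul_right
    have h1 := hp x₀ hx₀
    rw [MulAction.index_stabilizer, Set.ncard_eq_toFinset_card'] at h1
    exact_mod_cast h1
  · rw [Finset.sum_eq_zero]
    · exact dvd_zero _
    intro x hx
    exfalso
    rw [Finset.mem_filter, hs, Finset.mem_filter] at hx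
    obtain ⟨⟨_, a, ha⟩, hx2⟩ := hx
    have hx3 : x ∈ MulAction.orbit A x₀ := Quotient.exact' hx2
    obtain ⟨b, rfl⟩ := hx3
    push Not at hx₀
    apply ha
    show a • (b • x₀) = b • x₀
    rw [hx₀ b, hx₀ a]

/-- Left action of `E` on the irreducible characters of a normal subgroup. -/
noncomputable def irrConjAction {E : Type*} [Group E] {D : Subgroup E} (hD : D.Normal) :
    MulAction E (IrrCharacter D) where
  smul x φ := ⟨conjChar hD φ.1 x⁻¹, conjChar_irr hD φ.2 x⁻¹⟩
  one_smul φ := by
    apply Subtype.ext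
    show conjChar hD φ.1 (1 : E)⁻¹ = φ.1
    rw [inv_one, conjChar_one]
  mul_smul x y φ := by
    apply Subtype.ext
    show conjChar hD φ.1 (x * y)⁻¹ = conjChar hD (conjChar hD φ.1 y⁻¹) x⁻¹
    rw [conjChar_mul, mul_inv_rev]

theorem irrConjAction_smul {E : Type*} [Group E] {D : Subgroup E} (hD : D.Normal) (x : E)
    (φ : IrrCharacter D) :
    (letI := irrConjAction hD; x • φ).1 = conjChar hD φ.1 x⁻¹ := rfl

/-- A `p`-group quotient: if `[β, α]` is prime to `p` for invariant characters `α, β` of `D ⊴ E`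
with `[E:D]` a power of `p`, then `α` has an invariant irreducible constituent of multiplicity
prime to `p`. -/
theorem exists_invariant_constituent {E : Type*} [Group E] [Fintype E] (p : ℕ) (hp : p.Prime)
    (D : Subgroup E) [Fintype D] (hD : D.Normal) (hind : ∃ k : ℕ, D.index = p ^ k) (α β : D → ℂ)
    (hα : IsCharacter D α) (hβ : IsCharacter D β)
    (hαinv : ∀ x : E, conjChar hD α x = α) (hβinv : ∀ x : E, conjChar hD β x = β)
    (t : ℕ) (ht : classInner β α = t) (hpt : ¬ p ∣ t) :
    ∃ φ : D → ℂ, IsIrrCharacter D φ ∧ (∀ x : E, conjChar hD φ x = φ) ∧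
      ∃ c : ℕ, classInner α φ = c ∧ ¬ p ∣ c := by
  classical
  have := irr_finite (G := D)
  have : Fintype (IrrCharacter D) := Fintype.ofFinite _
  obtain ⟨c, hc⟩ := isCharacter_decomp hα
  obtain ⟨b, hb⟩ := isCharacter_decomp hβ
  have hα' : α = fun g => ∑ ψ : IrrCharacter D, (c ψ : ℂ) * ψ.1 g := funext hc
  have hβ' : β = fun g => ∑ ψ : IrrCharacter D, (b ψ : ℂ) * ψ.1 g := funext hb
  have hcφ : ∀ φ : IrrCharacter D, classInner α φ.1 = c φ := by
    intro φ; rw [hα']; exact classInner_comb_irr _ φ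
  have hbφ : ∀ φ : IrrCharacter D, classInner β φ.1 = b φ := by
    intro φ; rw [hβ']; exact classInner_comb_irr _ φ
  have htsum : (t : ℤ) = ∑ φ : IrrCharacter D, (b φ : ℤ) * (c φ : ℤ) := by
    have h1 : (t : ℂ) = ∑ φ : IrrCharacter D, (c φ : ℂ) * (b φ : ℂ) := by
      rw [← ht]
      conv_lhs => rw [hα']
      rw [classInner_sum_right]
      apply Finset.sum_congr rfl
      intro φ _
      rw [hbφ φ, Complex.conj_natCast]
    have h2 : ((t : ℤ) : ℂ) = ((∑ φ : IrrCharacter D, (b φ : ℤ) * (c φ : ℤ) : ℤ) : ℂ) := by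
      push_cast
      rw [h1]
      apply Finset.sum_congr rfl
      intro φ _
      ring
    exact_mod_cast h2
  letI := irrConjAction hD
  have hcinv : ∀ (x : E) (φ : IrrCharacter D), c (x • φ) = c φ := by
    intro x φ
    have h1 := hcφ (x • φ)
    rw [irrConjAction_smul] at h1
    have h2 := classInner_conjChar hD α φ.1 x⁻¹
    rw [hαinv] at h2
    rw [h2, hcφ φ] at h1
    exact_mod_cast h1.symm
  have hbinv : ∀ (x : E) (φ : IrrCharacter D), b (x • φ) = b φ := by
    intro x φ
    have h1 := hbφ (x • φ)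
    rw [irrConjAction_smul] at h1
    have h2 := classInner_conjChar hD β φ.1 x⁻¹
    rw [hβinv] at h2
    rw [h2, hbφ φ] at h1
    exact_mod_cast h1.symm
  have hstab : ∀ φ : IrrCharacter D, (∃ a : E, a • φ ≠ φ) →
      p ∣ (MulAction.stabilizer E φ).index := by
    intro φ hφ
    have hle : D ≤ MulAction.stabilizer E φ := by
      intro d hd
      rw [MulAction.mem_stabilizer_iff]
      apply Subtype.ext
      rw [irrConjAction_smul]
      have hcf : IsClassFunction D φ.1 := isClassFunction_of_isCharacter (irr_isCharacter φ.2)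
      ext h
      rw [conjChar_apply]
      have := hcf h ⟨d⁻¹, D.inv_mem hd⟩
      rw [← this]
      congr 1
    obtain ⟨k, hk⟩ := hind
    have hdvd : (MulAction.stabilizer E φ).index ∣ p ^ k := by
      rw [← hk]; exact Subgroup.index_dvd_of_le hle
    obtain ⟨j, _, hj⟩ := (Nat.dvd_prime_pow hp).mp hdvd
    rcases Nat.eq_zero_or_pos j with h0 | hpos
    · exfalso
      rw [h0, pow_zero, Subgroup.index_eq_one] at hj
      obtain ⟨a, ha⟩ := hφ
      apply ha
      have : a ∈ MulAction.stabilizer E φ := by rw [hj]; trivial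
      exact MulAction.mem_stabilizer_iff.mp this
    · rw [hj]; exact dvd_pow_self p hpos.ne'
  have hdvd := orbit_sum_dvd (A := E) p (fun φ : IrrCharacter D => (b φ : ℤ) * (c φ : ℤ))
    (by
      intro a φ
      show (b (a • φ) : ℤ) * (c (a • φ) : ℤ) = (b φ : ℤ) * (c φ : ℤ)
      rw [hcinv, hbinv]) hstab
  rw [← Finset.sum_filter_add_sum_filter_not Finset.univ
    (fun φ : IrrCharacter D => ∃ a : E, a • φ ≠ φ)] at htsum
  by_contra hcon
  apply hpt
  have hrest : (p : ℤ) ∣ ∑ φ ∈ Finset.univ.filter (fun φ : IrrCharacter D => ¬ ∃ a : E, a • φ ≠ φ),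
      (b φ : ℤ) * (c φ : ℤ) := by
    apply Finset.dvd_sum
    intro φ hφ
    rw [Finset.mem_filter] at hφ
    have hfix : ∀ a : E, a • φ = φ := by
      have := hφ.2
      push Not at this
      exact this
    apply Dvd.dvd.mul_left
    by_contra hnd
    apply hcon
    refine ⟨φ.1, φ.2, ?_, c φ, hcφ φ, ?_⟩
    · intro x
      have := hfix x⁻¹
      have h2 := congrArg Subtype.val this
      rw [irrConjAction_smul, inv_inv] at h2
      exact h2
    · intro h
      apply hnd
      exact_mod_cast h
  have : (p : ℤ) ∣ (t : ℤ) := by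
    rw [htsum]; exact dvd_add hdvd hrest
  exact_mod_cast this

end Cfsg.Agent.Lib.Helper8
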