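import Mathlib
import Cfsg.Prelude.Def_Characters
import Cfsg.Agent.Lib.Helper8.DadeElem

set_option autoImplicit false

universe u

namespace Cfsg.Agent.Lib.Helper8
open Cfsg
open scoped ComplexConjugate

/-- The natural homomorphism `N.subgroupOf E → N`. -/
def subOfHom {G : Type*} [Group G] (N E : Subgroup G) : ↥(N.subgroupOf E) →* ↥N where
  toFun x := ⟨((x : E) : G), Subgroup.mem_subgroupOf.mp x.2⟩
  map_one' := rfl
  map_mul' _ _ := rfl

theorem subOfFun_eq_comp_hom {G : Type*} [Group G] (N E : Subgroup G) (θ : N → ℂ) :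
    subOfFun N E θ = θ ∘ subOfHom N E := rfl

theorem subOfFun_isCharacter {G : Type*} [Group G] (N E : Subgroup G) {θ : N → ℂ}
    (hθ : IsCharacter N θ) : IsCharacter ↥(N.subgroupOf E) (subOfFun N E θ) := by
  rw [subOfFun_eq_comp_hom]
  exact isCharacter_comp _ hθ

theorem list_dvd_aux {G : Type*} {T : Type*} (p : ℕ) (Φ : (G → ℂ) →ₗ[ℂ] ℂ) (c : ℂ)
    (F : T → G → ℂ) (a : T → ℤ) (l : List T)
    (h : ∀ t ∈ l, ∃ z : ℤ, (p : ℤ) ∣ z ∧ Φ (F t) = c * z) :
    ∃ Z : ℤ, (p : ℤ) ∣ Z ∧ Φ ((l.map fun t => (a t : ℂ) • F t).sum) = c * Z := by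
  induction l with
  | nil => exact ⟨0, dvd_zero _, by simp⟩
  | cons t l ih =>
    obtain ⟨Z, hZ, hZe⟩ := ih (fun s hs => h s (List.mem_cons_of_mem _ hs))
    obtain ⟨z, hz, hze⟩ := h t List.mem_cons_self
    refine ⟨a t * z + Z, dvd_add (Dvd.dvd.mul_left hz _) hZ, ?_⟩
    rw [List.map_cons, List.sum_cons, map_add, map_smul, hze, hZe]
    push_cast
    simp only [smul_eq_mul]
    ring

theorem subOfFun_conj_invariant {G : Type*} [Group G] (N E : Subgroup G) [hN : N.Normal]
    (ϑ : N → ℂ) (hinv : ∀ g : G, conjChar hN ϑ g = ϑ) (x : E) :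
    conjChar (Subgroup.normal_subgroupOf (H := E) (N := N)) (subOfFun N E ϑ) x = subOfFun N E ϑ := by
  ext d
  rw [conjChar_apply]
  have := congrFun (hinv (x : G)) ⟨((d : E) : G), Subgroup.mem_subgroupOf.mp d.2⟩
  rw [conjChar_apply] at this
  exact this

/-- Dade's theorem on `p`-elementary detection. -/
theorem dade_elementary {G : Type u} [Group G] [Fintype G] (p : ℕ) (hp : p.Prime) (N : Subgroup G)
    [hN : N.Normal] (hind : ∃ k : ℕ, N.index = p ^ k) (ϑ : N → ℂ) (hϑ : IsIrrCharacter N ϑ)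
    (hinv : ∀ g : G, conjChar hN ϑ g = ϑ) :
    ∃ (E : Subgroup G), IsElementary p E ∧ E ⊔ N = ⊤ ∧
      ∃ φ : ↥(N.subgroupOf E) → ℂ, IsIrrCharacter ↥(N.subgroupOf E) φ ∧
        (∀ x : E, conjChar (Subgroup.normal_subgroupOf (H := E) (N := N)) φ x = φ) ∧
        ∃ c : ℕ, ¬ p ∣ c ∧ ∀ inst : Fintype ↥(N.subgroupOf E),
          @classInner _ _ inst (subOfFun N E ϑ) φ = c := by
  classical
  by_contra hcon
  obtain ⟨m, hm, hmem⟩ := brauer_local (G := G) p hp
  obtain ⟨l, hl, hsum⟩ := elSpan_list hmem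
  have hϑc := irr_isCharacter hϑ
  set f : N → ℂ := fun n => ϑ n * conj (ϑ n) with hf
  set Θ : G → ℂ := extendByZero N f with hΘ
  have hΘcf : IsClassFunction G Θ := by
    intro g x
    by_cases hg : g ∈ N
    · have hg' : x * g * x⁻¹ ∈ N := hN.conj_mem g hg x
      rw [hΘ, extendByZero_mem N _ hg, extendByZero_mem N _ hg', hf]
      have := congrFun (hinv x) ⟨g, hg⟩
      rw [conjChar_apply] at this
      simp only
      rw [this]
    · have hg' : x * g * x⁻¹ ∉ N := by
        intro h
        apply hg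
        have := hN.conj_mem _ h x⁻¹
        simpa [mul_assoc] using this
      rw [hΘ, extendByZero_not_mem N _ hg, extendByZero_not_mem N _ hg']
  have hΘreal : ∀ g, conj (Θ g) = Θ g := by
    intro g
    by_cases hg : g ∈ N
    · rw [hΘ, extendByZero_mem N _ hg, hf]
      simp only [map_mul, Complex.conj_conj]
      ring
    · rw [hΘ, extendByZero_not_mem N _ hg, map_zero]
  let Φ : (G → ℂ) →ₗ[ℂ] ℂ :=
    { toFun := fun F => ∑ g : G, Θ g * F g
      map_add' := by
        intro F₁ F₂
        simp only [Pi.add_apply, mul_add, Finset.sum_add_distrib]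
      map_smul' := by
        intro c F
        simp only [Pi.smul_apply, smul_eq_mul, RingHom.id_apply, Finset.mul_sum]
        apply Finset.sum_congr rfl
        intro g _
        ring }
  have hΦ : ∀ F, Φ F = ∑ g : G, Θ g * F g := fun _ => rfl
  have hNne : (Nat.card N : ℂ) ≠ 0 := Nat.cast_ne_zero.mpr Nat.card_pos.ne'
  have hΦconst : Φ (fun _ => (m : ℂ)) = (Nat.card N : ℂ) * m := by
    rw [hΦ, hΘ, sum_extendByZero N f (fun _ => (m : ℂ)), ← Finset.sum_mul, hf, irr_norm_sum hϑ]
  have hterm : ∀ t ∈ l, ∃ z : ℤ, (p : ℤ) ∣ z ∧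
      Φ (indFun t.1 t.2.1) = (Nat.card N : ℂ) * z := by
    intro t ht
    obtain ⟨hE, hψ⟩ := hl t ht
    obtain ⟨E, ψ, a⟩ := t
    simp only at hE hψ ⊢
    set D : Subgroup E := N.subgroupOf E with hDdef
    have hD : D.Normal := Subgroup.normal_subgroupOf
    set ϑD : D → ℂ := subOfFun N E ϑ with hϑD
    set ψD : D → ℂ := fun d => ψ d.1 with hψD
    have hαc : IsCharacter D ϑD := subOfFun_isCharacter N E hϑc
    have hψDc : IsCharacter D ψD := isCharacter_restrict D hψ
    have hβc : IsCharacter D (ψD * ϑD) := isCharacter_mul hψDc hαc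
    obtain ⟨k, hk⟩ := classInner_character_nat hβc hαc
    set r : ℕ := (E ⊔ N).index with hr
    have hEne : (Nat.card E : ℂ) ≠ 0 := Nat.cast_ne_zero.mpr Nat.card_pos.ne'
    have hGne : (Nat.card G : ℂ) ≠ 0 := Nat.cast_ne_zero.mpr Nat.card_pos.ne'
    have hDne : (Nat.card D : ℂ) ≠ 0 := Nat.cast_ne_zero.mpr Nat.card_pos.ne'
    -- cardinalities
    have hcard : Nat.card G * Nat.card D = Nat.card N * r * Nat.card E := by
      have h1 : Nat.card D * D.index = Nat.card E := Subgroup.card_mul_index D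
      have h2 : D.index = N.relIndex E := rfl
      have h3 : N.relIndex (E ⊔ N) = N.relIndex E := Subgroup.relIndex_sup_right E N
      have h4 : N.relIndex (E ⊔ N) * (E ⊔ N).index = N.index :=
        Subgroup.relIndex_mul_index le_sup_right
      have h5 : Nat.card N * N.index = Nat.card G := Subgroup.card_mul_index N
      rw [← h5, ← h4, h3, ← h2, ← h1]
      ring
    -- value of Φ
    have hval : Φ (indFun E ψ) = (Nat.card N : ℂ) * ((r * k : ℕ) : ℤ) := by
      have hfr := frobenius_reciprocity E ψ Θ hΘcf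
      unfold classInner at hfr
      have h1 : ∑ g : G, indFun E ψ g * conj (Θ g) = ∑ g : G, Θ g * indFun E ψ g := by
        apply Finset.sum_congr rfl
        intro g _
        rw [hΘreal, mul_comm]
      have hΘE : ∀ x : E, Θ (x : G) = extendByZero D (fun d : D => ϑD d * conj (ϑD d)) x := by
        intro x
        by_cases hx : (x : G) ∈ N
        · rw [hΘ, extendByZero_mem N _ hx, extendByZero_mem D _ (show x ∈ D from hx)]
          rfl
        · rw [hΘ, extendByZero_not_mem N _ hx, extendByZero_not_mem D _ (show x ∉ D from hx)]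
      have h2 : ∑ x : E, ψ x * conj (Θ (x : G)) = (Nat.card D : ℂ) * k := by
        have h3 : ∑ x : E, ψ x * conj (Θ (x : G)) =
            ∑ x : E, extendByZero D (fun d : D => ϑD d * conj (ϑD d)) x * ψ x := by
          apply Finset.sum_congr rfl
          intro x _
          rw [hΘreal, hΘE, mul_comm]
        rw [h3, sum_extendByZero D _ (fun x => ψ x)]
        have h4 := hk
        unfold classInner at h4
        rw [inv_mul_eq_iff_eq_mul₀ hDne] at h4
        rw [← h4]
        apply Finset.sum_congr rfl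
        intro d _
        simp only [Pi.mul_apply, hψD]
        ring
      rw [h1, h2] at hfr
      rw [hΦ]
      have h6 : ∑ g : G, Θ g * indFun E ψ g =
          (Nat.card G : ℂ) * ((Nat.card E : ℂ)⁻¹ * ((Nat.card D : ℂ) * k)) := by
        rw [← hfr]
        field_simp
      rw [h6]
      have hcardC : (Nat.card G : ℂ) * (Nat.card D : ℂ) = (Nat.card N : ℂ) * r * (Nat.card E : ℂ) := by
        exact_mod_cast hcard
      push_cast
      field_simp
      linear_combination (k : ℂ) * hcardC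
    refine ⟨((r * k : ℕ) : ℤ), ?_, hval⟩
    by_contra hnd
    have hnd' : ¬ p ∣ r * k := by
      intro h
      apply hnd
      exact_mod_cast h
    have hpr : ¬ p ∣ r := fun h => hnd' (Dvd.dvd.mul_right h k)
    have hpk : ¬ p ∣ k := fun h => hnd' (Dvd.dvd.mul_left h r)
    obtain ⟨k', hk'⟩ := hind
    have hrdvd : r ∣ p ^ k' := by
      rw [← hk']
      exact Subgroup.index_dvd_of_le le_sup_right
    have hr1 : r = 1 := by
      obtain ⟨j, _, hj⟩ := (Nat.dvd_prime_pow hp).mp hrdvd
      rcases Nat.eq_zero_or_pos j with h0 | hpos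
      · rw [hj, h0, pow_zero]
      · exfalso; apply hpr; rw [hj]; exact dvd_pow_self p hpos.ne'
    have hsup : E ⊔ N = ⊤ := Subgroup.index_eq_one.mp hr1
    have hDind : ∃ j : ℕ, D.index = p ^ j := by
      have hdvd : D.index ∣ p ^ k' := by
        rw [← hk']
        exact Subgroup.relIndex_dvd_index_of_normal N E
      obtain ⟨j, _, hj⟩ := (Nat.dvd_prime_pow hp).mp hdvd
      exact ⟨j, hj⟩
    have hαinv : ∀ x : E, conjChar hD ϑD x = ϑD := subOfFun_conj_invariant N E ϑ hinv
    have hψcf : IsClassFunction E ψ := isClassFunction_of_isCharacter hψ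
    have hβinv : ∀ x : E, conjChar hD (ψD * ϑD) x = ψD * ϑD := by
      intro x
      ext d
      rw [conjChar_apply]
      simp only [Pi.mul_apply]
      have h1 := congrFun (hαinv x) d
      rw [conjChar_apply] at h1
      rw [h1]
      congr 1
      exact hψcf d.1 x
    obtain ⟨φ, hφirr, hφinv, c, hc, hpc⟩ :=
      exists_invariant_constituent p hp D hD hDind ϑD (ψD * ϑD) hαc hβc hαinv hβinv k hk hpk
    refine hcon ⟨E, hE, hsup, φ, hφirr, hφinv, c, hpc, ?_⟩
    intro inst
    rw [← hc]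
    congr 1
    all_goals exact Subsingleton.elim _ _
  obtain ⟨Z, hZ, hZe⟩ := list_dvd_aux p Φ (Nat.card N : ℂ)
    (fun t : (E : Subgroup G) × ((E → ℂ) × ℤ) => indFun t.1 t.2.1) (fun t => t.2.2) l hterm
  rw [← hsum, hΦconst] at hZe
  have : (m : ℂ) = (Z : ℂ) := mul_left_cancel₀ hNne hZe
  have hmZ : m = Z := by exact_mod_cast this
  exact hm (hmZ ▸ hZ)

end Cfsg.Agent.Lib.Helper8
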