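import Mathlib
import Cfsg.Prelude.Def_Characters
import Cfsg.Agent.Lib.Helper8.DadeElem2
import Cfsg.Agent.Lib.Helper8.CharLinHom

set_option autoImplicit false

universe u

namespace Cfsg.Agent.Lib.Helper8
open Cfsg
open scoped ComplexConjugate

/-- Gluing a homomorphism on `Q` and an invariant homomorphism on a normal subgroup `D` when they
agree on `Q ∩ D` and `Q D = E`. -/
theorem glue_hom {E : Type*} [Group E] {A : Type*} [CommGroup A] (Q D : Subgroup E)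
    [hD : D.Normal] (hQD : ∀ x : E, ∃ q ∈ Q, ∃ d ∈ D, x = q * d)
    (ν : Q →* A) (ℓ : D →* A)
    (hinv : ∀ (g : E) (d : D), ℓ ⟨g * d * g⁻¹, hD.conj_mem d d.2 g⟩ = ℓ d)
    (hagree : ∀ (x : E) (hq : x ∈ Q) (hd : x ∈ D), ν ⟨x, hq⟩ = ℓ ⟨x, hd⟩) :
    ∃ μ : E →* A, ∀ d : D, μ d = ℓ d := by
  classical
  choose q hq d hd hx using hQD
  let f : E → A := fun x => ν ⟨q x, hq x⟩ * ℓ ⟨d x, hd x⟩
  have key : ∀ (a : E) (ha : a ∈ Q) (b : E) (hb : b ∈ D), f (a * b) = ν ⟨a, ha⟩ * ℓ ⟨b, hb⟩ := by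
    intro a ha b hb
    have h1 : a * b = q (a * b) * d (a * b) := hx (a * b)
    set a' := q (a * b) with ha'
    set b' := d (a * b) with hb'
    have ha'Q : a' ∈ Q := hq (a * b)
    have hb'D : b' ∈ D := hd (a * b)
    -- w = a'⁻¹ a = b' b⁻¹
    have hw : a'⁻¹ * a = b' * b⁻¹ := by
      have : a'⁻¹ * (a * b) * b⁻¹ = a'⁻¹ * (a' * b') * b⁻¹ := by rw [← h1]
      simpa [mul_assoc] using this
    have hwQ : a'⁻¹ * a ∈ Q := Q.mul_mem (Q.inv_mem ha'Q) ha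
    have hwD : a'⁻¹ * a ∈ D := by rw [hw]; exact D.mul_mem hb'D (D.inv_mem hb)
    have h2 := hagree (a'⁻¹ * a) hwQ hwD
    have h3 : ν ⟨a, ha⟩ = ν ⟨a', ha'Q⟩ * ν ⟨a'⁻¹ * a, hwQ⟩ := by
      rw [← map_mul]
      congr 1
      apply Subtype.ext
      simp
    have h4 : ℓ ⟨b', hb'D⟩ = ℓ ⟨a'⁻¹ * a, hwD⟩ * ℓ ⟨b, hb⟩ := by
      rw [← map_mul]
      congr 1
      apply Subtype.ext
      simp only [Subgroup.coe_mul]
      rw [hw]
      simp
    show ν ⟨a', ha'Q⟩ * ℓ ⟨b', hb'D⟩ = _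
    rw [h3, h4, h2]
    rw [mul_assoc]
  have hmul : ∀ x y : E, f (x * y) = f x * f y := by
    intro x y
    have hxe := hx x
    have hye := hx y
    have h1 : x * y = (q x * q y) * (((q y)⁻¹ * d x * ((q y)⁻¹)⁻¹) * d y) := by
      conv_lhs => rw [hxe, hye]
      group
    have hmemD : (q y)⁻¹ * d x * ((q y)⁻¹)⁻¹ ∈ D := hD.conj_mem _ (hd x) _
    rw [h1, key _ (Q.mul_mem (hq x) (hq y)) _ (D.mul_mem hmemD (hd y))]
    have h2 : (⟨q x * q y, Q.mul_mem (hq x) (hq y)⟩ : Q) = ⟨q x, hq x⟩ * ⟨q y, hq y⟩ := rfl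
    have h3 : (⟨(q y)⁻¹ * d x * ((q y)⁻¹)⁻¹ * d y, D.mul_mem hmemD (hd y)⟩ : D) =
        ⟨(q y)⁻¹ * d x * ((q y)⁻¹)⁻¹, hmemD⟩ * ⟨d y, hd y⟩ := rfl
    rw [h2, h3, map_mul, map_mul]
    have h4 := hinv (q y)⁻¹ ⟨d x, hd x⟩
    rw [h4]
    show _ = (ν ⟨q x, hq x⟩ * ℓ ⟨d x, hd x⟩) * (ν ⟨q y, hq y⟩ * ℓ ⟨d y, hd y⟩)
    rw [mul_mul_mul_comm]
  refine ⟨MonoidHom.mk' f hmul, ?_⟩
  intro b
  show f (b : E) = ℓ b
  have := key 1 Q.one_mem b b.2
  rw [one_mul] at this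
  rw [this]
  have h1 : (⟨1, Q.one_mem⟩ : Q) = 1 := rfl
  rw [h1, map_one, one_mul]

/-- A `p'`-element lies in every normal subgroup of `p`-power index. -/
theorem mem_of_coprime_order {G : Type*} [Group G] [Finite G] (N : Subgroup G) [N.Normal]
    {p k : ℕ} (hind : N.index = p ^ k) (z : G) (hz : (orderOf z).Coprime p) : z ∈ N := by
  have h1 : orderOf (QuotientGroup.mk z : G ⧸ N) ∣ orderOf z :=
    orderOf_map_dvd (QuotientGroup.mk' N) z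
  have h2 : orderOf (QuotientGroup.mk z : G ⧸ N) ∣ p ^ k := by
    rw [← hind, Subgroup.index_eq_card]
    exact orderOf_dvd_natCard _
  have h3 : orderOf (QuotientGroup.mk z : G ⧸ N) = 1 :=
    Nat.eq_one_of_dvd_coprimes (Nat.Coprime.pow_right k hz) h1 h2
  rw [orderOf_eq_one_iff] at h3
  exact (QuotientGroup.eq_one_iff z).mp h3

/-- Structure of `p`-elementary groups. -/
theorem elementary_decomp {E : Type*} [Group E] [Finite E] {p : ℕ} [Fact p.Prime]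
    (z : E) (hzc : z ∈ Subgroup.center E) {j : ℕ} (hzi : (Subgroup.zpowers z).index = p ^ j)
    (Q : Sylow p E) : ∀ x : E, ∃ q ∈ (Q : Subgroup E), ∃ i : ℤ, x = q * z ^ i := by
  have hp : p.Prime := Fact.out
  have hZn : (Subgroup.zpowers z).Normal := by
    constructor
    intro n hn g
    obtain ⟨i, rfl⟩ := hn
    have hc : z ^ i ∈ Subgroup.center E := Subgroup.zpow_mem _ hzc i
    rw [Subgroup.mem_center_iff] at hc
    rw [hc g, mul_inv_cancel_right]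
    exact ⟨i, rfl⟩
  have hsup : (Q : Subgroup E) ⊔ Subgroup.zpowers z = ⊤ := by
    rw [← Subgroup.index_eq_one]
    have h1 : ((Q : Subgroup E) ⊔ Subgroup.zpowers z).index ∣ (Q : Subgroup E).index :=
      Subgroup.index_dvd_of_le le_sup_left
    have h2 : ((Q : Subgroup E) ⊔ Subgroup.zpowers z).index ∣ p ^ j := by
      rw [← hzi]; exact Subgroup.index_dvd_of_le le_sup_right
    obtain ⟨i, _, hi⟩ := (Nat.dvd_prime_pow hp).mp h2
    rcases Nat.eq_zero_or_pos i with h0 | hpos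
    · rw [hi, h0, pow_zero]
    · exfalso
      apply Q.not_dvd_index
      apply dvd_trans _ h1
      rw [hi]; exact dvd_pow_self p hpos.ne'
  intro x
  have hx : x ∈ (Q : Subgroup E) ⊔ Subgroup.zpowers z := by rw [hsup]; trivial
  rw [Subgroup.mem_sup_of_normal_right] at hx
  obtain ⟨q, hq, w, ⟨i, rfl⟩, rfl⟩ := hx
  exact ⟨q, hq, i, rfl⟩

/-- Extension of homomorphisms to `ℂˣ` in finite abelian groups. -/
theorem exists_hom_extension_abelian {K : Type*} [Group K] [Finite K]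
    (hK : ∀ a b : K, a * b = b * a) (R : Subgroup K) (ℓ : R →* ℂˣ) :
    ∃ lam : K →* ℂˣ, ∀ r : R, lam r = ℓ r := by
  letI : CommGroup K := { (inferInstance : Group K) with mul_comm := hK }
  haveI : NeZero (Monoid.exponent K) := ⟨Monoid.exponent_ne_zero_of_finite⟩
  obtain ⟨lam, h⟩ := MonoidHom.domRestrict_surjective (M := ℂ) R ℓ
  refine ⟨lam, fun r => ?_⟩
  rw [← h]
  rfl

/-- Transport of the Sylow hypotheses of Dade's extension theorem to a conjugate. -/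
theorem sylow_conj_hyp {G : Type*} [Group G] (N : Subgroup G) [hN : N.Normal] (P P₁ : Subgroup G)
    (g : G) (hP₁ : ∀ y : G, y ∈ P₁ ↔ g⁻¹ * y * g ∈ P)
    (hcent : ∀ x ∈ P ⊓ N, ∀ y ∈ P, x * y = y * x)
    (hlin : ∀ lam : ↥(P ⊓ N) →* ℂˣ, ∃ m : ↥P →* ℂˣ, ∀ x : ↥(P ⊓ N), m ⟨x, x.2.1⟩ = lam x) :
    (∀ x ∈ P₁ ⊓ N, ∀ y ∈ P₁, x * y = y * x) ∧
    (∀ lam : ↥(P₁ ⊓ N) →* ℂˣ, ∃ m : ↥P₁ →* ℂˣ, ∀ x : ↥(P₁ ⊓ N), m ⟨x, x.2.1⟩ = lam x) := by
  constructor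
  · intro x hx y hy
    have hx' : g⁻¹ * x * g ∈ P ⊓ N := by
      refine ⟨(hP₁ x).mp hx.1, ?_⟩
      have := hN.conj_mem x hx.2 g⁻¹
      rwa [inv_inv] at this
    have hy' : g⁻¹ * y * g ∈ P := (hP₁ y).mp hy
    have := hcent _ hx' _ hy'
    have h2 : g * ((g⁻¹ * x * g) * (g⁻¹ * y * g)) * g⁻¹ = g * ((g⁻¹ * y * g) * (g⁻¹ * x * g)) * g⁻¹ := by
      rw [this]
    simpa [mul_assoc] using h2
  · intro lam
    -- conjugation hom P ⊓ N → P₁ ⊓ N
    have hmem1 : ∀ x : G, x ∈ P → g * x * g⁻¹ ∈ P₁ := by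
      intro x hx
      rw [hP₁]
      have : g⁻¹ * (g * x * g⁻¹) * g = x := by group
      rw [this]; exact hx
    let c1 : ↥(P ⊓ N) →* ↥(P₁ ⊓ N) :=
      { toFun := fun x => ⟨g * x * g⁻¹, ⟨hmem1 x x.2.1, hN.conj_mem x x.2.2 g⟩⟩
        map_one' := by apply Subtype.ext; simp
        map_mul' := by intro a b; apply Subtype.ext; simp [mul_assoc] }
    let c2 : ↥P₁ →* ↥P :=
      { toFun := fun y => ⟨g⁻¹ * y * g, (hP₁ y).mp y.2⟩
        map_one' := by apply Subtype.ext; simp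
        map_mul' := by intro a b; apply Subtype.ext; simp [mul_assoc] }
    obtain ⟨m, hm⟩ := hlin (lam.comp c1)
    refine ⟨m.comp c2, ?_⟩
    intro x
    have hx' : g⁻¹ * (x : G) * g ∈ P ⊓ N := by
      refine ⟨(hP₁ x).mp x.2.1, ?_⟩
      have := hN.conj_mem x x.2.2 g⁻¹
      rwa [inv_inv] at this
    have h1 := hm ⟨g⁻¹ * (x : G) * g, hx'⟩
    simp only [MonoidHom.comp_apply] at h1 ⊢
    have h2 : c1 ⟨g⁻¹ * (x : G) * g, hx'⟩ = x := by
      apply Subtype.ext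
      show g * (g⁻¹ * (x : G) * g) * g⁻¹ = x
      group
    rw [h2] at h1
    rw [← h1]
    rfl

end Cfsg.Agent.Lib.Helper8
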