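import Mathlib
import Cfsg.Prelude.Def_Characters
import Cfsg.Agent.Lib.Helper8.DadeElem
import Cfsg.Agent.Lib.Helper8.DadeExt
import Cfsg.Agent.Lib.Helper8.CharIto
import Cfsg.Agent.Lib.Helper8.CharDegree
import Cfsg.Agent.Lib.Helper8.CharLinHom
import Cfsg.Agent.Lib.Helper8.CharClifford2
import Cfsg.Agent.Lib.Helper8.CharCliffordCorr
import Cfsg.Agent.Lib.Helper8.CharComplete2

set_option autoImplicit false
set_option maxHeartbeats 1000000

universe u

namespace Cfsg.Agent.Lib.Helper8
open Cfsg
open scoped ComplexConjugate commutatorElement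

theorem conjChar_one_apply {G : Type*} [Group G] {N : Subgroup G} (hN : N.Normal) (θ : N → ℂ)
    (g : G) : conjChar hN θ g 1 = θ 1 := by
  rw [conjChar_apply]
  have : (⟨g * ((1 : N) : G) * g⁻¹, hN.conj_mem _ (1 : N).2 g⟩ : N) = 1 := by
    apply Subtype.ext; simp
  rw [this]

theorem irr_stab_dvd' {E : Type*} [Group E] (p : ℕ) (hp : p.Prime) (D : Subgroup E)
    (hD : D.Normal) {k : ℕ} (hk : D.index = p ^ k) (φ : IrrCharacter D) :
    letI := irrConjAction hD
    (∃ a : E, a • φ ≠ φ) → p ∣ (MulAction.stabilizer E φ).index := by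
  letI := irrConjAction hD
  intro hφ
  have hle : D ≤ MulAction.stabilizer E φ := by
    intro d hd
    rw [MulAction.mem_stabilizer_iff]
    apply Subtype.ext
    rw [irrConjAction_smul]
    have hcf : IsClassFunction D φ.1 := isClassFunction_of_isCharacter (irr_isCharacter φ.2)
    ext h
    rw [conjChar_apply]
    have := hcf h ⟨d⁻¹, D.inv_mem hd⟩
    rw [← this]
    congr 1
  have hdvd : (MulAction.stabilizer E φ).index ∣ p ^ k := by
    rw [← hk]; exact Subgroup.index_dvd_of_le hle
  obtain ⟨j, _, hj⟩ := (Nat.dvd_prime_pow hp).mp hdvd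
  rcases Nat.eq_zero_or_pos j with h0 | hpos
  · exfalso
    rw [h0, pow_zero, Subgroup.index_eq_one] at hj
    obtain ⟨a, ha⟩ := hφ
    apply ha
    have : a ∈ MulAction.stabilizer E φ := by rw [hj]; trivial
    exact MulAction.mem_stabilizer_iff.mp this
  · rw [hj]; exact dvd_pow_self p hpos.ne'

/-- Over every irreducible character `θ` of a normal subgroup lies an irreducible character whose
degree is `e · [G : I(θ)] · θ(1)`. -/
theorem exists_over_degree {G : Type u} [Group G] [Fintype G] (N : Subgroup G) (hN : N.Normal)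
    [Fintype N] (θ : IrrCharacter N) :
    letI := irrConjAction hN
    ∃ (χ : IrrCharacter G) (e : ℕ), classInner (fun n : N => χ.1 n) θ.1 ≠ 0 ∧
      charDegree χ.1 = e * (MulAction.stabilizer G θ).index * charDegree θ.1 := by
  classical
  letI := irrConjAction hN
  have := irr_finite (G := G)
  have : Fintype (IrrCharacter G) := Fintype.ofFinite _
  have hθc := irr_isCharacter θ.2
  have hind := isCharacter_indFun N hθc
  obtain ⟨m, hm⟩ := isCharacter_decomp hind
  have hex : ∃ χ : IrrCharacter G, m χ ≠ 0 := by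
    by_contra hcon
    push Not at hcon
    apply indFun_ne_zero N θ
    funext g
    rw [hm g]
    simp [hcon]
  obtain ⟨χ, hχ⟩ := hex
  have hmχ : classInner (indFun N θ.1) χ.1 = m χ := by
    rw [funext hm]
    exact classInner_comb_irr (fun ψ => (m ψ : ℂ)) χ
  have hχcf : IsClassFunction G χ.1 := isClassFunction_of_isCharacter (irr_isCharacter χ.2)
  have hfr := frobenius_reciprocity N θ.1 χ.1 hχcf
  have hcon : classInner (fun n : N => χ.1 n) θ.1 ≠ 0 := by
    rw [classInner_conj_symm, ← hfr, hmχ, Complex.conj_natCast]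
    exact_mod_cast hχ
  obtain ⟨e, he⟩ := classInner_character_nat (isCharacter_restrict N (irr_isCharacter χ.2)) hθc
  refine ⟨χ, e, hcon, ?_⟩
  have hcl := clifford hN χ.2 θ.2 hcon
  set F : Finset (N → ℂ) := Finset.image (fun g : G => conjChar hN θ.1 g) Finset.univ with hF
  have hO : {ψ : N → ℂ | ∃ g : G, ψ = conjChar hN θ.1 g} = ↑F := by
    ext ψ
    simp only [Set.mem_ofPred_eq, hF, Finset.coe_image, Finset.coe_univ, Set.image_univ,
      Set.mem_range]
    constructor
    · rintro ⟨g, rfl⟩; exact ⟨g, rfl⟩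
    · rintro ⟨g, rfl⟩; exact ⟨g, rfl⟩
  rw [hO, finsum_mem_coe_finset, he] at hcl
  have h1 := congrFun hcl 1
  simp only [Pi.smul_apply, Finset.sum_apply, smul_eq_mul] at h1
  have h2 : ∑ ψ ∈ F, ψ 1 = (F.card : ℂ) * θ.1 1 := by
    rw [Finset.sum_congr rfl (g := fun _ => θ.1 1), Finset.sum_const, nsmul_eq_mul]
    intro ψ hψ
    rw [hF, Finset.mem_image] at hψ
    obtain ⟨g, _, rfl⟩ := hψ
    exact conjChar_one_apply hN θ.1 g
  have hcardF : F.card = (MulAction.stabilizer G θ).index := by
    rw [MulAction.index_stabilizer, ← Set.ncard_image_of_injective _ Subtype.val_injective,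
      ← Set.ncard_coe_finset F]
    congr 1
    ext ψ
    simp only [hF, Finset.coe_image, Finset.coe_univ, Set.image_univ, Set.mem_range, Set.mem_image]
    constructor
    · rintro ⟨g, rfl⟩
      refine ⟨g⁻¹ • θ, ⟨g⁻¹, rfl⟩, ?_⟩
      rw [irrConjAction_smul, inv_inv]
    · rintro ⟨φ, ⟨g, rfl⟩, rfl⟩
      exact ⟨g⁻¹, (irrConjAction_smul hN g θ).symm⟩
  rw [h2, hcardF] at h1
  have h3 : χ.1 ((1 : N) : G) = χ.1 1 := by rw [OneMemClass.coe_one]
  rw [h3, irr_one_eq_charDegree χ, irr_one_eq_charDegree θ] at h1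
  have h4 : ((charDegree χ.1 : ℕ) : ℂ) =
      ((e * (MulAction.stabilizer G θ).index * charDegree θ.1 : ℕ) : ℂ) := by
    rw [h1]; push_cast; ring
  exact_mod_cast h4

theorem charDegree_dvd_of_normal {G : Type u} [Group G] [Fintype G] (N : Subgroup G)
    (hN : N.Normal) [Fintype N] (θ : IrrCharacter N) :
    ∃ χ : IrrCharacter G, charDegree θ.1 ∣ charDegree χ.1 := by
  obtain ⟨χ, e, _, h⟩ := exists_over_degree N hN θ
  refine ⟨χ, ?_⟩
  rw [h]
  exact Dvd.intro_left _ rfl

/-- A `p`-element lies in a normal subgroup of index prime to `p`. -/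
theorem mem_of_normal_sylow {G : Type*} [Group G] [Finite G] {p : ℕ} (P : Subgroup G)
    [P.Normal] (hidx : ¬ p ∣ P.index) (hp : p.Prime) (x : G) {k : ℕ} (hx : x ^ p ^ k = 1) :
    x ∈ P := by
  have h1 : orderOf (QuotientGroup.mk x : G ⧸ P) ∣ p ^ k := by
    apply orderOf_dvd_of_pow_eq_one
    rw [← QuotientGroup.mk_pow, hx, QuotientGroup.mk_one]
  have h2 : orderOf (QuotientGroup.mk x : G ⧸ P) ∣ P.index := by
    rw [Subgroup.index_eq_card]
    exact orderOf_dvd_natCard _
  have hcop : Nat.Coprime (p ^ k) P.index :=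
    Nat.Coprime.pow_left k ((Nat.Prime.coprime_iff_not_dvd hp).mpr hidx)
  have h3 : orderOf (QuotientGroup.mk x : G ⧸ P) = 1 := Nat.eq_one_of_dvd_coprimes hcop h1 h2
  rw [orderOf_eq_one_iff] at h3
  exact (QuotientGroup.eq_one_iff x).mp h3

/-- A finite group all of whose irreducible characters are linear is abelian. -/
theorem abelian_of_all_linear {K : Type u} [Group K] [Finite K]
    (h : ∀ θ : IrrCharacter K, charDegree θ.1 = 1) : ∀ a b : K, a * b = b * a := by
  classical
  have := irr_finite (G := K)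
  have : Fintype (IrrCharacter K) := Fintype.ofFinite _
  have h1 : Nat.card K = ∑ ψ : IrrCharacter K, charDegree ψ.1 ^ 2 := card_eq_sum_charDegree_sq
  have h2 : Nat.card K = Nat.card (ConjClasses K) := by
    rw [h1, ← card_irr_eq, Nat.card_eq_fintype_card, Fintype.card]
    rw [Finset.sum_congr rfl (g := fun _ => 1)]
    · simp
    · intro ψ _; rw [h ψ]; norm_num
  have h3 : commProb K = 1 := by
    rw [commProb_def', ← h2]
    have : (Nat.card K : ℚ) ≠ 0 := Nat.cast_ne_zero.mpr Nat.card_pos.ne'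
    field_simp
  have h4 := (commProb_eq_one_iff (M := K)).mp h3
  intro a b
  exact h4.is_comm.comm a b

/-- Homomorphisms to `ℂˣ` separate the points of a finite abelian group. -/
theorem eq_one_of_forall_hom {K : Type*} [Group K] [Finite K] (hK : ∀ a b : K, a * b = b * a)
    (x : K) (h : ∀ lam : K →* ℂˣ, lam x = 1) : x = 1 := by
  letI : CommGroup K := { (inferInstance : Group K) with mul_comm := hK }
  haveI : NeZero (Monoid.exponent K) := ⟨Monoid.exponent_ne_zero_of_finite⟩
  have := (CommGroup.forall_monoidHom_apply_eq_one_iff (M := ℂ) (⊥ : Subgroup K) x).mp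
    (fun φ _ => h φ)
  exact Subgroup.mem_bot.mp this

/-- A nontrivial solvable group has a nontrivial abelian normal subgroup. -/
theorem exists_normal_abelian_of_solvable (G : Type*) [Group G] (hsolv : Group.IsSolvable G)
    [Nontrivial G] : ∃ A : Subgroup G, A.Normal ∧ (∀ a ∈ A, ∀ b ∈ A, a * b = b * a) ∧ A ≠ ⊥ := by
  classical
  obtain ⟨n, hn⟩ := hsolv.solvable
  have hex : ∃ n, derivedSeries G n = ⊥ := ⟨n, hn⟩
  set m := Nat.find hex with hm
  have hm0 : m ≠ 0 := by
    intro h0
    have := Nat.find_spec hex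
    rw [← hm, h0, derivedSeries_zero] at this
    exact top_ne_bot this
  obtain ⟨j, hj⟩ := Nat.exists_eq_succ_of_ne_zero hm0
  have hjne : derivedSeries G j ≠ ⊥ := by
    intro h
    have := Nat.find_min' hex h
    omega
  have hcomm : ⁅derivedSeries G j, derivedSeries G j⁆ = ⊥ := by
    have := Nat.find_spec hex
    rw [← hm, hj] at this
    exact this
  refine ⟨derivedSeries G j, derivedSeries_normal G j, ?_, hjne⟩
  intro a ha b hb
  have : ⁅a, b⁆ ∈ ⁅derivedSeries G j, derivedSeries G j⁆ := Subgroup.commutator_mem_commutator ha hb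
  rw [hcomm, Subgroup.mem_bot, commutatorElement_eq_one_iff_commute] at this
  exact this.eq

end Cfsg.Agent.Lib.Helper8
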