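import Mathlib
import Cfsg.Prelude.Def_Characters
import Cfsg.Agent.Lib.Helper8.CharDecomp
import Cfsg.Agent.Lib.Helper8.CharDegree
import Cfsg.Agent.Lib.Helper8.CharBurnside

set_option autoImplicit false

namespace Cfsg.Agent.Lib.Helper8
open Cfsg
open scoped ComplexConjugate

variable {G : Type*} [Group G]

theorem generalized_decomp [Finite G] [Fintype (IrrCharacter G)] {θ : G → ℂ}
    (hθ : IsGeneralizedCharacter G θ) :
    ∃ m : IrrCharacter G → ℤ, ∀ g, θ g = ∑ ψ : IrrCharacter G, (m ψ : ℂ) * ψ.1 g := by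
  obtain ⟨χ, ψ, hχ, hψ, rfl⟩ := hθ
  obtain ⟨m₁, h₁⟩ := isCharacter_decomp hχ
  obtain ⟨m₂, h₂⟩ := isCharacter_decomp hψ
  refine ⟨fun φ => (m₁ φ : ℤ) - m₂ φ, fun g => ?_⟩
  simp only [Pi.sub_apply, h₁ g, h₂ g]
  rw [← Finset.sum_sub_distrib]
  apply Finset.sum_congr rfl
  intro φ _
  push_cast; ring

theorem norm_two_structure [Fintype G] {θ : G → ℂ} (hθ : IsGeneralizedCharacter G θ)
    (h2 : classInner θ θ = 2) (h1 : θ 1 = 0) :
    ∃ a b : IrrCharacter G, a ≠ b ∧ θ = a.1 - b.1 := by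
  classical
  have := irr_finite (G := G)
  have : Fintype (IrrCharacter G) := Fintype.ofFinite _
  obtain ⟨m, hm⟩ := generalized_decomp hθ
  have hθ' : θ = fun g => ∑ ψ : IrrCharacter G, (m ψ : ℂ) * ψ.1 g := funext hm
  have hnorm : classInner θ θ = ∑ ψ : IrrCharacter G, ((m ψ * m ψ : ℤ) : ℂ) := by
    conv_lhs => rw [hθ']
    rw [classInner_sum_left]
    apply Finset.sum_congr rfl
    intro ψ _
    rw [classInner_conj_symm, classInner_comb_irr (fun ψ => (m ψ : ℂ)) ψ]
    simp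
  rw [h2] at hnorm
  have hint : ∑ ψ : IrrCharacter G, m ψ * m ψ = 2 := by
    have : ((∑ ψ : IrrCharacter G, m ψ * m ψ : ℤ) : ℂ) = 2 := by
      rw [hnorm]; push_cast; rfl
    exact_mod_cast this
  have hunit : ∀ k : ℤ, k ≠ 0 → k * k ≤ 2 → k * k = 1 := by
    intro k hk hle
    have h3 : -1 ≤ k ∧ k ≤ 1 := by constructor <;> nlinarith
    have h4 : k = 1 ∨ k = -1 := by omega
    rcases h4 with h | h <;> rw [h] <;> norm_num
  obtain ⟨ψ₁, h₁⟩ : ∃ ψ₁, m ψ₁ ≠ 0 := by
    by_contra hcon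
    push Not at hcon
    simp [hcon] at hint
  have hsplit₁ := Finset.add_sum_erase Finset.univ (fun ψ => m ψ * m ψ) (Finset.mem_univ ψ₁)
  rw [hint] at hsplit₁
  have hnn₁ : 0 ≤ ∑ ψ ∈ Finset.univ.erase ψ₁, m ψ * m ψ :=
    Finset.sum_nonneg (fun _ _ => mul_self_nonneg _)
  have hsq1 : m ψ₁ * m ψ₁ = 1 := hunit _ h₁ (by linarith)
  have hrest : ∑ ψ ∈ Finset.univ.erase ψ₁, m ψ * m ψ = 1 := by linarith
  obtain ⟨ψ₂, hψ₂mem, h₂⟩ : ∃ ψ₂ ∈ Finset.univ.erase ψ₁, m ψ₂ ≠ 0 := by
    by_contra hcon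
    push Not at hcon
    rw [Finset.sum_eq_zero (fun ψ hψ => by rw [hcon ψ hψ]; ring)] at hrest
    omega
  have hne12 : ψ₂ ≠ ψ₁ := (Finset.mem_erase.mp hψ₂mem).1
  have hsplit₂ := Finset.add_sum_erase (Finset.univ.erase ψ₁) (fun ψ => m ψ * m ψ) hψ₂mem
  rw [hrest] at hsplit₂
  have hnn₂ : 0 ≤ ∑ ψ ∈ (Finset.univ.erase ψ₁).erase ψ₂, m ψ * m ψ :=
    Finset.sum_nonneg (fun _ _ => mul_self_nonneg _)
  have hsq2 : m ψ₂ * m ψ₂ = 1 := hunit _ h₂ (by linarith)
  have hrest2 : ∑ ψ ∈ (Finset.univ.erase ψ₁).erase ψ₂, m ψ * m ψ = 0 := by linarith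
  have hothers : ∀ ψ ∈ (Finset.univ.erase ψ₁).erase ψ₂, m ψ = 0 := by
    intro ψ hψ
    have := (Finset.sum_eq_zero_iff_of_nonneg (fun ψ _ => mul_self_nonneg (m ψ))).mp hrest2 ψ hψ
    exact mul_self_eq_zero.mp this
  have hθeq : ∀ g, θ g = (m ψ₁ : ℂ) * ψ₁.1 g + (m ψ₂ : ℂ) * ψ₂.1 g := by
    intro g
    rw [hm g, ← Finset.add_sum_erase _ _ (Finset.mem_univ ψ₁),
      ← Finset.add_sum_erase _ _ hψ₂mem,
      Finset.sum_eq_zero (fun ψ hψ => by rw [hothers ψ hψ]; simp)]
    ring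
  have hpm : ∀ k : ℤ, k * k = 1 → k = 1 ∨ k = -1 := by
    intro k hk
    have h3 : (k - 1) * (k + 1) = 0 := by ring_nf; linarith
    rcases mul_eq_zero.mp h3 with h | h
    · left; omega
    · right; omega
  have hd₁ := charDegree_pos ψ₁
  have hd₂ := charDegree_pos ψ₂
  have h10 := hθeq 1
  rw [h1, irr_one_eq_charDegree, irr_one_eq_charDegree] at h10
  have h10' : (m ψ₁ : ℤ) * (charDegree ψ₁.1 : ℤ) + m ψ₂ * (charDegree ψ₂.1 : ℤ) = 0 := by
    have : ((m ψ₁ * (charDegree ψ₁.1 : ℤ) + m ψ₂ * (charDegree ψ₂.1 : ℤ) : ℤ) : ℂ) = 0 := by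
      push_cast; exact h10.symm
    exact_mod_cast this
  rcases hpm _ hsq1 with e1 | e1 <;> rcases hpm _ hsq2 with e2 | e2
  · exfalso; rw [e1, e2] at h10'; omega
  · refine ⟨ψ₁, ψ₂, hne12.symm, ?_⟩
    ext g
    rw [hθeq g, e1, e2]; simp; ring
  · refine ⟨ψ₂, ψ₁, hne12, ?_⟩
    ext g
    rw [hθeq g, e1, e2]; simp; ring
  · exfalso; rw [e1, e2] at h10'; omega

theorem classInner_sub_sub [Fintype G] (a b c d : IrrCharacter G) :
    classInner (a.1 - b.1) (c.1 - d.1) =
      (if a = c then (1 : ℂ) else 0) - (if a = d then 1 else 0) - (if b = c then 1 else 0) +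
        (if b = d then 1 else 0) := by
  have key : classInner (a.1 - b.1) (c.1 - d.1) =
      classInner a.1 c.1 - classInner a.1 d.1 - classInner b.1 c.1 + classInner b.1 d.1 := by
    unfold classInner
    simp only [Pi.sub_apply, map_sub, sub_mul, mul_sub, Finset.sum_sub_distrib]
    ring
  rw [key, irr_classInner a.2 c.2, irr_classInner a.2 d.2, irr_classInner b.2 c.2,
    irr_classInner b.2 d.2]
  simp only [Subtype.ext_iff]

theorem ip_one_cases [Fintype G] (a b c d : IrrCharacter G) (hab : a ≠ b) (hcd : c ≠ d)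
    (h : classInner (a.1 - b.1) (c.1 - d.1) = 1) : (a = c ∧ b ≠ d) ∨ (b = d ∧ a ≠ c) := by
  rw [classInner_sub_sub] at h
  by_cases h1 : a = c
  · left
    refine ⟨h1, ?_⟩
    intro h4
    have h2 : a ≠ d := fun e => hcd (h1.symm.trans e)
    have h3 : b ≠ c := fun e => hab (h1.trans e.symm)
    rw [if_pos h1, if_neg h2, if_neg h3, if_pos h4] at h
    norm_num at h
  · right
    refine ⟨?_, h1⟩
    by_contra h4
    rw [if_neg h1, if_neg h4] at h
    by_cases h2 : a = d <;> by_cases h3 : b = c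
    · rw [if_pos h2, if_pos h3] at h; norm_num at h
    · rw [if_pos h2, if_neg h3] at h; norm_num at h
    · rw [if_neg h2, if_pos h3] at h; norm_num at h
    · rw [if_neg h2, if_neg h3] at h; norm_num at h

/-- The isometry lemma behind exceptional characters. -/
theorem isometry_lemma [Fintype G] (n : ℕ) (i₀ : Fin n) (τ : Fin n → (G → ℂ)) (h0 : τ i₀ = 0)
    (hgen : ∀ i, IsGeneralizedCharacter G (τ i)) (hone : ∀ i, τ i 1 = 0)
    (hgram : ∀ i j, i ≠ i₀ → j ≠ i₀ → classInner (τ i) (τ j) = if i = j then 2 else 1) :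
    ∃ ε : ℂ, (ε = 1 ∨ ε = -1) ∧ ∃ μ : Fin n → (G → ℂ), (∀ i, IsIrrCharacter G (μ i)) ∧
      Function.Injective μ ∧ ∀ i, τ i = ε • (μ i - μ i₀) := by
  classical
  set pr : IrrCharacter G := ⟨fun _ => (1 : ℂ), principal_isIrrCharacter⟩ with hpr
  have hdec : ∀ i, ∃ a b : IrrCharacter G, i ≠ i₀ → a ≠ b ∧ τ i = a.1 - b.1 := by
    intro i
    by_cases hi : i = i₀
    · exact ⟨pr, pr, fun h => absurd hi h⟩
    · obtain ⟨a, b, hab, h⟩ := norm_two_structure (hgen i)
        (by rw [hgram i i hi hi, if_pos rfl]) (hone i)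
      exact ⟨a, b, fun _ => ⟨hab, h⟩⟩
  choose a b hab using hdec
  have hpair : ∀ i j, i ≠ i₀ → j ≠ i₀ → i ≠ j →
      (a i = a j ∧ b i ≠ b j) ∨ (b i = b j ∧ a i ≠ a j) := by
    intro i j hi hj hij
    have h := hgram i j hi hj
    rw [if_neg hij, (hab i hi).2, (hab j hj).2] at h
    exact ip_one_cases _ _ _ _ (hab i hi).1 (hab j hj).1 h
  by_cases hex1 : ∃ i₁, i₁ ≠ i₀
  swap
  · push Not at hex1
    refine ⟨1, Or.inl rfl, fun _ => pr.1, fun _ => pr.2, ?_, ?_⟩
    · intro i j _; rw [hex1 i, hex1 j]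
    · intro i; rw [hex1 i, h0]; simp
  obtain ⟨i₁, hi₁⟩ := hex1
  by_cases hex2 : ∃ i₂, i₂ ≠ i₀ ∧ i₂ ≠ i₁
  swap
  · push Not at hex2
    refine ⟨1, Or.inl rfl, fun i => if i = i₀ then (b i₁).1 else (a i₁).1, ?_, ?_, ?_⟩
    · intro i
      by_cases h : i = i₀
      · simp only [h, if_true]; exact (b i₁).2
      · simp only [h, if_false]; exact (a i₁).2
    · intro i j hij
      by_cases hi : i = i₀ <;> by_cases hj : j = i₀
      · rw [hi, hj]
      · exfalso
        simp only [hi, hj, if_true, if_false] at hij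
        exact (hab i₁ hi₁).1 (Subtype.ext hij.symm)
      · exfalso
        simp only [hi, hj, if_true, if_false] at hij
        exact (hab i₁ hi₁).1 (Subtype.ext hij)
      · rw [hex2 i hi, hex2 j hj]
    · intro i
      by_cases hi : i = i₀
      · rw [hi, h0]; simp
      · rw [hex2 i hi, (hab i₁ hi₁).2]; simp [hi₁]
  obtain ⟨i₂, hi₂, hi₂₁⟩ := hex2
  rcases hpair i₁ i₂ hi₁ hi₂ (Ne.symm hi₂₁) with ⟨haa, hbb⟩ | ⟨hbb, haa⟩
  · have hall : ∀ j, j ≠ i₀ → a j = a i₁ := by
      intro j hj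
      by_cases hj1 : j = i₁
      · rw [hj1]
      by_cases hj2 : j = i₂
      · rw [hj2, haa]
      rcases hpair j i₁ hj hi₁ hj1 with ⟨h, _⟩ | ⟨h, _⟩
      · exact h
      · rcases hpair j i₂ hj hi₂ hj2 with ⟨h', _⟩ | ⟨h', _⟩
        · rw [h', haa]
        · exfalso; exact hbb (h.symm.trans h')
    refine ⟨-1, Or.inr rfl, fun i => if i = i₀ then (a i₁).1 else (b i).1, ?_, ?_, ?_⟩
    · intro i
      by_cases h : i = i₀
      · simp only [h, if_true]; exact (a i₁).2
      · simp only [h, if_false]; exact (b i).2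
    · intro i j hij
      by_cases hi : i = i₀ <;> by_cases hj : j = i₀
      · rw [hi, hj]
      · exfalso
        simp only [hi, hj, if_true, if_false] at hij
        have : a j = b j := by rw [hall j hj]; exact Subtype.ext hij
        exact (hab j hj).1 this
      · exfalso
        simp only [hi, hj, if_true, if_false] at hij
        have : a i = b i := by rw [hall i hi]; exact Subtype.ext hij.symm
        exact (hab i hi).1 this
      · by_contra hne
        simp only [hi, hj, if_false] at hij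
        have hbij : b i = b j := Subtype.ext hij
        rcases hpair i j hi hj hne with ⟨_, h⟩ | ⟨_, h⟩
        · exact h hbij
        · exact h ((hall i hi).trans (hall j hj).symm)
    · intro i
      by_cases hi : i = i₀
      · rw [hi, h0]; simp
      · rw [(hab i hi).2, hall i hi]
        simp only [hi, if_false, if_true]
        ext g
        simp
  · have hall : ∀ j, j ≠ i₀ → b j = b i₁ := by
      intro j hj
      by_cases hj1 : j = i₁
      · rw [hj1]
      by_cases hj2 : j = i₂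
      · rw [hj2, hbb]
      rcases hpair j i₁ hj hi₁ hj1 with ⟨h, _⟩ | ⟨h, _⟩
      · rcases hpair j i₂ hj hi₂ hj2 with ⟨h', _⟩ | ⟨h', _⟩
        · exfalso; exact haa (h.symm.trans h')
        · rw [h', hbb]
      · exact h
    refine ⟨1, Or.inl rfl, fun i => if i = i₀ then (b i₁).1 else (a i).1, ?_, ?_, ?_⟩
    · intro i
      by_cases h : i = i₀
      · simp only [h, if_true]; exact (b i₁).2
      · simp only [h, if_false]; exact (a i).2
    · intro i j hij
      by_cases hi : i = i₀ <;> by_cases hj : j = i₀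
      · rw [hi, hj]
      · exfalso
        simp only [hi, hj, if_true, if_false] at hij
        have : a j = b j := by rw [hall j hj]; exact Subtype.ext hij.symm
        exact (hab j hj).1 this
      · exfalso
        simp only [hi, hj, if_true, if_false] at hij
        have : a i = b i := by rw [hall i hi]; exact Subtype.ext hij
        exact (hab i hi).1 this
      · by_contra hne
        simp only [hi, hj, if_false] at hij
        have haij : a i = a j := Subtype.ext hij
        rcases hpair i j hi hj hne with ⟨_, h⟩ | ⟨_, h⟩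
        · exact h ((hall i hi).trans (hall j hj).symm)
        · exact h haij
    · intro i
      by_cases hi : i = i₀
      · rw [hi, h0]; simp
      · rw [(hab i hi).2, hall i hi]
        simp only [hi, if_false, if_true]
        ext g
        simp

end Cfsg.Agent.Lib.Helper8
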