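import Mathlib
import Cfsg.Prelude.Def_Characters
import Cfsg.Agent.Lib.Helper8.CharIsometry
import Cfsg.Agent.Lib.Helper8.CharInd
import Cfsg.Agent.Lib.Helper8.CharClassSum

set_option autoImplicit false

namespace Cfsg.Agent.Lib.Helper8
open Cfsg
open scoped ComplexConjugate

variable {G : Type*} [Group G]

theorem extendByZero_sub (H : Subgroup G) (f g : H → ℂ) (x : G) :
    extendByZero H (f - g) x = extendByZero H f x - extendByZero H g x := by
  by_cases hx : x ∈ H
  · rw [extendByZero_mem H _ hx, extendByZero_mem H _ hx, extendByZero_mem H _ hx]; rfl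
  · rw [extendByZero_not_mem H _ hx, extendByZero_not_mem H _ hx, extendByZero_not_mem H _ hx,
      sub_zero]

theorem indFun_sub [Fintype G] (H : Subgroup G) (f g : H → ℂ) :
    indFun H (f - g) = indFun H f - indFun H g := by
  ext x
  rw [Pi.sub_apply, indFun_apply, indFun_apply, indFun_apply, ← mul_sub, ← Finset.sum_sub_distrib]
  congr 1
  apply Finset.sum_congr rfl
  intro y _
  exact extendByZero_sub H f g _

/-- Induction from the normalizer of a TI-set is the identity on functions supported on the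
nonidentity elements of the set. -/
theorem indFun_TI [Fintype G] (S : Set G)
    (hTI : ∀ g : G, g ∉ Subgroup.normalizer S → ∀ s ∈ S, g * s * g⁻¹ ∈ S → s = 1)
    {β : Subgroup.normalizer S → ℂ} (hβ : IsClassFunction (Subgroup.normalizer S) β)
    (hvan : ∀ x : Subgroup.normalizer S, (x : G) ∉ S → β x = 0)
    (s : Subgroup.normalizer S) (hs : (s : G) ∈ S) (hs1 : s ≠ 1) :
    indFun (Subgroup.normalizer S) β (s : G) = β s := by
  classical
  rw [indFun_apply]
  have hHne : (Nat.card (Subgroup.normalizer S) : ℂ) ≠ 0 := Nat.cast_ne_zero.mpr Nat.card_pos.ne'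
  have hterm : ∀ x : G, extendByZero (Subgroup.normalizer S) β (x⁻¹ * (s : G) * x) =
      if x ∈ Subgroup.normalizer S then β s else 0 := by
    intro x
    by_cases hx : x ∈ Subgroup.normalizer S
    · rw [if_pos hx]
      have e : x⁻¹ * (s : G) * x =
          (((⟨x, hx⟩ : Subgroup.normalizer S)⁻¹ * s * ⟨x, hx⟩ : Subgroup.normalizer S) : G) := by
        simp
      rw [e, extendByZero_coe]
      have := hβ s (⟨x, hx⟩ : Subgroup.normalizer S)⁻¹
      rw [inv_inv] at this
      exact this
    · rw [if_neg hx]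
      by_cases hmem : x⁻¹ * (s : G) * x ∈ Subgroup.normalizer S
      · rw [extendByZero_mem _ _ hmem]
        by_cases hS : x⁻¹ * (s : G) * x ∈ S
        · exfalso
          have hx' : x⁻¹ ∉ Subgroup.normalizer S := fun h => hx (by
            have := Subgroup.inv_mem _ h
            rwa [inv_inv] at this)
          have h1 := hTI x⁻¹ hx' (s : G) hs (by rw [inv_inv]; exact hS)
          exact hs1 (Subtype.ext h1)
        · exact hvan ⟨_, hmem⟩ hS
      · exact extendByZero_not_mem _ _ hmem
  simp_rw [hterm]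
  rw [Finset.sum_ite, Finset.sum_const_zero, add_zero, Finset.sum_const, nsmul_eq_mul]
  have hcard : (Finset.univ.filter (fun x : G => x ∈ Subgroup.normalizer S)).card =
      Nat.card (Subgroup.normalizer S) := by
    rw [← Nat.card_eq_finsetCard]
    exact Nat.card_congr (Equiv.subtypeEquivRight (by intro x; simp))
  rw [hcard]
  field_simp

/-- Exceptional characters. -/
theorem exceptional_characters [Fintype G] (S : Set G)
    (hTI : ∀ g : G, g ∉ Subgroup.normalizer S → ∀ s ∈ S, g * s * g⁻¹ ∈ S → s = 1) (n : ℕ)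
    (hn : 2 ≤ n) (χ : Fin n → (Subgroup.normalizer S → ℂ))
    (hirr : ∀ i, IsIrrCharacter ↥(Subgroup.normalizer S) (χ i)) (hinj : Function.Injective χ)
    (hvan : ∀ i, ∀ x : Subgroup.normalizer S, (x : G) ∉ S → χ i x = 0)
    (hdeg : ∀ i j, χ i 1 = χ j 1) :
    ∃ ε : ℂ, (ε = 1 ∨ ε = -1) ∧ ∃ θ : Fin n → (G → ℂ), (∀ i, IsIrrCharacter G (θ i)) ∧
      Function.Injective θ ∧ ∀ i j, indFun (Subgroup.normalizer S) (χ i) -
        indFun (Subgroup.normalizer S) (χ j) = ε • (θ i - θ j) := by
  classical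
  have : Fintype (Subgroup.normalizer S) := Fintype.ofFinite _
  let i₀ : Fin n := ⟨0, by omega⟩
  set τ : Fin n → (G → ℂ) := fun i => indFun (Subgroup.normalizer S) (χ i) - indFun (Subgroup.normalizer S) (χ i₀) with hτ
  have hcfχ : ∀ i, IsClassFunction (Subgroup.normalizer S) (χ i) :=
    fun i => isClassFunction_of_isCharacter (irr_isCharacter (hirr i))
  have hα : ∀ i, τ i = indFun (Subgroup.normalizer S) (χ i - χ i₀) := fun i => (indFun_sub (Subgroup.normalizer S) _ _).symm
  have hαcf : ∀ i, IsClassFunction (Subgroup.normalizer S) (χ i - χ i₀) := by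
    intro i a b
    simp only [Pi.sub_apply, hcfχ i a b, hcfχ i₀ a b]
  have hαvan : ∀ i, ∀ x : (Subgroup.normalizer S), (x : G) ∉ S → (χ i - χ i₀) x = 0 := by
    intro i x hx
    simp only [Pi.sub_apply, hvan i x hx, hvan i₀ x hx, sub_zero]
  have hα1 : ∀ i, (χ i - χ i₀) 1 = 0 := by
    intro i
    simp only [Pi.sub_apply, hdeg i i₀, sub_self]
  have hgram : ∀ i j, i ≠ i₀ → j ≠ i₀ → classInner (τ i) (τ j) = if i = j then 2 else 1 := by
    intro i j hi hj
    rw [hα i, hα j, frobenius_reciprocity (Subgroup.normalizer S) _ _ (indFun_isClassFunction (Subgroup.normalizer S) _)]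
    have h1 : classInner (χ i - χ i₀) (fun h : (Subgroup.normalizer S) => indFun (Subgroup.normalizer S) (χ j - χ i₀) (h : G)) =
        classInner (χ i - χ i₀) (χ j - χ i₀) := by
      unfold classInner
      congr 1
      apply Finset.sum_congr rfl
      intro x _
      by_cases hx : (x : G) ∈ S ∧ x ≠ 1
      · beta_reduce
        rw [indFun_TI S hTI (hαcf j) (hαvan j) x hx.1 hx.2]
      · have : (χ i - χ i₀) x = 0 := by
          by_cases hxS : (x : G) ∈ S
          · have hx1 : x = 1 := by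
              by_contra h; exact hx ⟨hxS, h⟩
            rw [hx1]; exact hα1 i
          · exact hαvan i x hxS
        rw [this, zero_mul, zero_mul]
    rw [h1]
    have h2 := classInner_sub_sub (⟨χ i, hirr i⟩ : IrrCharacter ↥(Subgroup.normalizer S)) ⟨χ i₀, hirr i₀⟩
      ⟨χ j, hirr j⟩ ⟨χ i₀, hirr i₀⟩
    rw [h2]
    have e1 : ((⟨χ i, hirr i⟩ : IrrCharacter ↥(Subgroup.normalizer S)) = ⟨χ j, hirr j⟩) ↔ i = j := by
      rw [Subtype.mk.injEq]; exact hinj.eq_iff
    have e2 : ¬ ((⟨χ i, hirr i⟩ : IrrCharacter ↥(Subgroup.normalizer S)) = ⟨χ i₀, hirr i₀⟩) := by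
      rw [Subtype.mk.injEq, hinj.eq_iff]; exact hi
    have e3 : ¬ ((⟨χ i₀, hirr i₀⟩ : IrrCharacter ↥(Subgroup.normalizer S)) = ⟨χ j, hirr j⟩) := by
      rw [Subtype.mk.injEq, hinj.eq_iff]; exact fun h => hj h.symm
    rw [if_neg e2, if_neg e3, if_pos rfl]
    by_cases hij : i = j
    · rw [if_pos (e1.mpr hij), if_pos hij]; norm_num
    · rw [if_neg (fun h => hij (e1.mp h)), if_neg hij]; norm_num
  have h0 : τ i₀ = 0 := by simp [hτ]
  have hgen : ∀ i, IsGeneralizedCharacter G (τ i) := fun i =>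
    ⟨indFun (Subgroup.normalizer S) (χ i), indFun (Subgroup.normalizer S) (χ i₀), isCharacter_indFun (Subgroup.normalizer S) (irr_isCharacter (hirr i)),
      isCharacter_indFun (Subgroup.normalizer S) (irr_isCharacter (hirr i₀)), rfl⟩
  have hone : ∀ i, τ i 1 = 0 := by
    intro i
    simp only [hτ, Pi.sub_apply, indFun_one, hdeg i i₀, sub_self]
  obtain ⟨ε, hε, μ, hμirr, hμinj, hμ⟩ := isometry_lemma n i₀ τ h0 hgen hone hgram
  refine ⟨ε, hε, μ, hμirr, hμinj, ?_⟩
  intro i j
  have h1 : indFun (Subgroup.normalizer S) (χ i) - indFun (Subgroup.normalizer S) (χ j) = τ i - τ j := by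
    simp only [hτ]; ring
  rw [h1, hμ i, hμ j, ← smul_sub]
  congr 1
  ring

end Cfsg.Agent.Lib.Helper8
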