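import Mathlib
import Cfsg.Prelude.Def_Characters
import Cfsg.Agent.Lib.Helper8.BrauerLocal2
import Cfsg.Agent.Lib.Helper8.CharExceptional

set_option autoImplicit false

universe u

namespace Cfsg.Agent.Lib.Helper8
open Cfsg

/-! ### Generalized characters -/

section Gen
variable {G : Type*} [Group G]

theorem isGen_of_char {χ : G → ℂ} (h : IsCharacter G χ) : IsGeneralizedCharacter G χ :=
  ⟨χ, 0, h, isCharacter_zero, (sub_zero χ).symm⟩

theorem isGen_zero : IsGeneralizedCharacter G (0 : G → ℂ) := isGen_of_char isCharacter_zero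

theorem isGen_add {θ₁ θ₂ : G → ℂ} (h₁ : IsGeneralizedCharacter G θ₁)
    (h₂ : IsGeneralizedCharacter G θ₂) : IsGeneralizedCharacter G (θ₁ + θ₂) := by
  obtain ⟨α₁, β₁, hα₁, hβ₁, rfl⟩ := h₁
  obtain ⟨α₂, β₂, hα₂, hβ₂, rfl⟩ := h₂
  exact ⟨α₁ + α₂, β₁ + β₂, isCharacter_add hα₁ hα₂, isCharacter_add hβ₁ hβ₂, by abel⟩

theorem isGen_neg {θ : G → ℂ} (h : IsGeneralizedCharacter G θ) :
    IsGeneralizedCharacter G (-θ) := by
  obtain ⟨α, β, hα, hβ, rfl⟩ := h
  exact ⟨β, α, hβ, hα, by abel⟩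

theorem isGen_sub {θ₁ θ₂ : G → ℂ} (h₁ : IsGeneralizedCharacter G θ₁)
    (h₂ : IsGeneralizedCharacter G θ₂) : IsGeneralizedCharacter G (θ₁ - θ₂) := by
  rw [sub_eq_add_neg]; exact isGen_add h₁ (isGen_neg h₂)

theorem isGen_nsmul {θ : G → ℂ} (h : IsGeneralizedCharacter G θ) (n : ℕ) :
    IsGeneralizedCharacter G (n • θ) := by
  induction n with
  | zero => rw [zero_smul]; exact isGen_zero
  | succ n ih => rw [succ_nsmul]; exact isGen_add ih h

theorem isGen_zsmul {θ : G → ℂ} (h : IsGeneralizedCharacter G θ) (n : ℤ) :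
    IsGeneralizedCharacter G (n • θ) := by
  cases n with
  | ofNat n => rw [Int.ofNat_eq_natCast, natCast_zsmul]; exact isGen_nsmul h n
  | negSucc n => rw [negSucc_zsmul]; exact isGen_neg (isGen_nsmul h (n + 1))

theorem isGen_mul_char {θ φ : G → ℂ} (h : IsGeneralizedCharacter G θ) (hφ : IsCharacter G φ) :
    IsGeneralizedCharacter G (θ * φ) := by
  obtain ⟨α, β, hα, hβ, rfl⟩ := h
  exact ⟨α * φ, β * φ, isCharacter_mul hα hφ, isCharacter_mul hβ hφ, by rw [sub_mul]⟩

theorem isGen_indFun [Fintype G] (H : Subgroup G) {θ : H → ℂ} (h : IsGeneralizedCharacter H θ) :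
    IsGeneralizedCharacter G (indFun H θ) := by
  obtain ⟨α, β, hα, hβ, rfl⟩ := h
  exact ⟨indFun H α, indFun H β, isCharacter_indFun H hα, isCharacter_indFun H hβ, indFun_sub H α β⟩

end Gen

/-! ### General spans of induced characters -/

/-- The ℤ-span of the characters induced from characters of the subgroups in `Q`. -/
def indSpan {G : Type*} [Group G] [Fintype G] (Q : Subgroup G → Prop) : Submodule ℤ (G → ℂ) :=
  Submodule.span ℤ {f | ∃ (E : Subgroup G) (φ : E → ℂ), Q E ∧ IsCharacter E φ ∧ f = indFun E φ}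

theorem elSpan_le_indSpan {G : Type*} [Group G] [Fintype G] {p : ℕ} (Q : Subgroup G → Prop)
    (h : ∀ E : Subgroup G, IsElementary p E → Q E) : elSpan (G := G) p ≤ indSpan Q := by
  unfold elSpan indSpan
  apply Submodule.span_mono
  rintro f ⟨E, φ, hE, hφ, rfl⟩
  exact ⟨E, φ, h E hE, hφ, rfl⟩

/-- All elementary subgroups. -/
def IsElem {G : Type*} [Group G] (E : Subgroup G) : Prop := ∃ p : ℕ, p.Prime ∧ IsElementary p E

theorem one_mem_indSpan {G : Type u} [Group G] [Fintype G] :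
    (fun _ : G => (1 : ℂ)) ∈ indSpan (G := G) IsElem := by
  let I : Ideal ℤ :=
    { carrier := {m | (fun _ : G => (m : ℂ)) ∈ indSpan (G := G) IsElem}
      add_mem' := fun {a b} ha hb => by
        show (fun _ : G => ((a + b : ℤ) : ℂ)) ∈ indSpan (G := G) IsElem
        have : (fun _ : G => ((a + b : ℤ) : ℂ)) = (fun _ : G => (a : ℂ)) + fun _ : G => (b : ℂ) := by
          ext g; simp
        rw [this]
        exact Submodule.add_mem _ ha hb
      zero_mem' := by
        show (fun _ : G => ((0 : ℤ) : ℂ)) ∈ indSpan (G := G) IsElem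
        have : (fun _ : G => ((0 : ℤ) : ℂ)) = 0 := by ext g; simp
        rw [this]
        exact Submodule.zero_mem _
      smul_mem' := fun c {m} hm => by
        show (fun _ : G => ((c • m : ℤ) : ℂ)) ∈ indSpan (G := G) IsElem
        have : (fun _ : G => ((c • m : ℤ) : ℂ)) = c • fun _ : G => (m : ℂ) := by
          ext g; simp
        rw [this]
        exact Submodule.smul_mem _ c hm }
  have hgen : ∀ m : ℤ, m ∈ I → Submodule.IsPrincipal.generator I ∣ m := fun m hm =>
    (Submodule.IsPrincipal.mem_iff_generator_dvd I).mp hm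
  have hunit : (Submodule.IsPrincipal.generator I).natAbs = 1 := by
    by_contra hne
    obtain ⟨p, hp, hpd⟩ := Nat.exists_prime_and_dvd hne
    obtain ⟨m, hm, hmem⟩ := brauer_local (G := G) p hp
    have hmI : m ∈ I := elSpan_le_indSpan IsElem (fun E hE => ⟨p, hp, hE⟩) hmem
    apply hm
    exact (Int.natCast_dvd.mpr hpd).trans (hgen m hmI)
  have h1 : (1 : ℤ) ∈ I := by
    rw [Submodule.IsPrincipal.mem_iff_generator_dvd I]
    exact Int.natAbs_dvd_natAbs.mp (by rw [hunit]; exact one_dvd _)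
  have h2 : (fun _ : G => ((1 : ℤ) : ℂ)) ∈ indSpan (G := G) IsElem := h1
  simpa using h2

end Cfsg.Agent.Lib.Helper8
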