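import Mathlib
import Cfsg.Prelude.Def_Characters
import Cfsg.Agent.Lib.Helper8.BrauerGlobal

set_option autoImplicit false

universe u

namespace Cfsg.Agent.Lib.Helper8
open Cfsg

theorem indSpan_mul_gen {G : Type*} [Group G] [Fintype G] (Q : Subgroup G → Prop) {f θ : G → ℂ}
    (hf : f ∈ indSpan Q) (hθcf : IsClassFunction G θ)
    (hθ : ∀ E : Subgroup G, Q E → IsGeneralizedCharacter E (fun e : E => θ e)) :
    IsGeneralizedCharacter G (f * θ) := by
  unfold indSpan at hf
  induction hf using Submodule.span_induction with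
  | mem f hf =>
    obtain ⟨E, φ, hE, hφ, rfl⟩ := hf
    rw [← indFun_mul_restrict E φ hθcf]
    apply isGen_indFun
    have : (fun n : E => φ n * θ n) = (fun e : E => θ e) * φ := by
      ext e; exact mul_comm _ _
    rw [this]
    exact isGen_mul_char (hθ E hE) hφ
  | zero => rw [zero_mul]; exact isGen_zero
  | add f₁ f₂ _ _ h₁ h₂ => rw [add_mul]; exact isGen_add h₁ h₂
  | smul n f _ h => rw [smul_mul_assoc]; exact isGen_zsmul h n

/-- Brauer's characterization of characters. -/
theorem brauer_characterization {G : Type u} [Group G] [Fintype G] (θ : G → ℂ)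
    (hθ : IsClassFunction G θ)
    (hE : ∀ (E : Subgroup G) (p : ℕ), p.Prime → IsElementary p E →
      IsGeneralizedCharacter E (fun e : E => θ e)) : IsGeneralizedCharacter G θ := by
  have h := indSpan_mul_gen IsElem (one_mem_indSpan (G := G)) hθ
    (fun E ⟨p, hp, hEp⟩ => hE E p hp hEp)
  have : (fun _ : G => (1 : ℂ)) * θ = θ := by ext g; simp
  rw [this] at h
  exact h

theorem indSpan_mul_char {G : Type*} [Group G] [Fintype G] (Q : Subgroup G → Prop) {f χ : G → ℂ}
    (hf : f ∈ indSpan Q) (hχ : IsCharacter G χ) : f * χ ∈ indSpan Q := by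
  unfold indSpan at hf ⊢
  induction hf using Submodule.span_induction with
  | mem f hf =>
    obtain ⟨E, φ, hE, hφ, rfl⟩ := hf
    rw [← indFun_mul_restrict E φ (isClassFunction_of_isCharacter hχ)]
    exact Submodule.subset_span ⟨E, _, hE, isCharacter_mul hφ (isCharacter_restrict E hχ), rfl⟩
  | zero => rw [zero_mul]; exact Submodule.zero_mem _
  | add f₁ f₂ _ _ h₁ h₂ => rw [add_mul]; exact Submodule.add_mem _ h₁ h₂
  | smul n f _ h => rw [smul_mul_assoc]; exact Submodule.smul_mem _ n h

theorem isElementary_subgroup {E : Type*} [Group E] {p : ℕ} (hp : p.Prime)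
    (h : IsElementary p E) (H : Subgroup E) : IsElementary p H := by
  obtain ⟨x, hx, hcop, k, hk⟩ := h
  have hZn : (Subgroup.zpowers x).Normal := by
    constructor
    intro z hz g
    have hzc : z ∈ Subgroup.center E := by
      obtain ⟨n, rfl⟩ := Subgroup.mem_zpowers_iff.mp hz
      exact Subgroup.zpow_mem _ hx n
    rw [Subgroup.mem_center_iff.mp hzc g, mul_inv_cancel_right]
    exact hz
  have hinj : Function.Injective (H.subtype.subgroupComap (Subgroup.zpowers x)) := by
    intro a b hab
    apply Subtype.ext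
    apply Subtype.ext
    exact congrArg (fun z : Subgroup.zpowers x => (z : E)) hab
  have hcyc : IsCyclic ((Subgroup.zpowers x).subgroupOf H) := isCyclic_of_injective _ hinj
  obtain ⟨⟨y, hy⟩, hgen⟩ := hcyc.exists_generator
  rw [Subgroup.mem_subgroupOf] at hy
  refine ⟨y, ?_, ?_, ?_⟩
  · rw [Subgroup.mem_center_iff]
    intro h
    apply Subtype.ext
    have hyc : (y : E) ∈ Subgroup.center E := by
      obtain ⟨n, hn⟩ := Subgroup.mem_zpowers_iff.mp hy
      rw [← hn]
      exact Subgroup.zpow_mem _ hx n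
    exact Subgroup.mem_center_iff.mp hyc h
  · rw [← Subgroup.orderOf_coe]
    exact Nat.Coprime.coprime_dvd_left (orderOf_dvd_of_mem_zpowers hy) hcop
  · have hzp : Subgroup.zpowers y = (Subgroup.zpowers x).subgroupOf H := by
      ext z
      constructor
      · intro hz
        obtain ⟨n, rfl⟩ := Subgroup.mem_zpowers_iff.mp hz
        rw [Subgroup.mem_subgroupOf]
        simp only [Subgroup.coe_zpow]
        exact Subgroup.zpow_mem _ hy n
      · intro hz
        obtain ⟨n, hn⟩ := Subgroup.mem_zpowers_iff.mp (hgen ⟨z, hz⟩)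
        rw [Subgroup.mem_zpowers_iff]
        refine ⟨n, ?_⟩
        have := congrArg (fun w : (Subgroup.zpowers x).subgroupOf H => (w : H)) hn
        simpa using this
    rw [hzp]
    have h1 : (Subgroup.zpowers x).relIndex H ∣ (Subgroup.zpowers x).index :=
      Subgroup.relIndex_dvd_index_of_normal _ _
    rw [hk] at h1
    obtain ⟨j, -, hj⟩ := (Nat.dvd_prime_pow hp).mp h1
    exact ⟨j, hj⟩

theorem isElementary_nilpotent {E : Type*} [Group E] [Finite E] {p : ℕ} [Fact p.Prime]
    (h : IsElementary p E) : Group.IsNilpotent E := by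
  obtain ⟨x, hx, hcop, k, hk⟩ := h
  have hZc : Subgroup.zpowers x ≤ Subgroup.center E := by
    rw [Subgroup.zpowers_le]; exact hx
  have hZn : (Subgroup.zpowers x).Normal := by
    constructor
    intro z hz g
    rw [Subgroup.mem_center_iff.mp (hZc hz) g, mul_inv_cancel_right]
    exact hz
  have hpg : IsPGroup p (E ⧸ Subgroup.zpowers x) := by
    apply IsPGroup.of_card (n := k)
    rw [← hk]; rfl
  have hnilq : Group.IsNilpotent (E ⧸ Subgroup.zpowers x) := hpg.isNilpotent
  apply Subgroup.isNilpotent_of_ker_le_center (QuotientGroup.mk' (Subgroup.zpowers x))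
  rw [QuotientGroup.ker_mk']
  exact hZc

theorem indFun_finset_sum {G : Type*} [Group G] [Fintype G] (H : Subgroup G) {ι : Type*}
    (s : Finset ι) (f : ι → H → ℂ) :
    indFun H (∑ i ∈ s, f i) = ∑ i ∈ s, indFun H (f i) := by
  classical
  induction s using Finset.induction_on with
  | empty => rw [Finset.sum_empty, Finset.sum_empty, indFun_zero]
  | insert a s ha ih => rw [Finset.sum_insert ha, Finset.sum_insert ha, indFun_add, ih]

/-- The ℤ-span of characters induced from linear characters of elementary subgroups. -/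
def linSpan {G : Type*} [Group G] [Fintype G] : Submodule ℤ (G → ℂ) :=
  Submodule.span ℤ {f | ∃ (E : Subgroup G) (lam : E →* ℂˣ), IsElem E ∧
    f = indFun E (fun e => ((lam e : ℂˣ) : ℂ))}

theorem indSpan_le_linSpan {G : Type u} [Group G] [Fintype G] :
    indSpan (G := G) IsElem ≤ linSpan (G := G) := by
  classical
  unfold indSpan
  rw [Submodule.span_le]
  rintro f ⟨E, φ, ⟨p, hp, hE⟩, hφ, rfl⟩
  have : Fact p.Prime := ⟨hp⟩
  have : Fintype E := Fintype.ofFinite E
  have := irr_finite (G := E)
  have : Fintype (IrrCharacter E) := Fintype.ofFinite _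
  have hnil : Group.IsNilpotent E := isElementary_nilpotent hE
  obtain ⟨m, hm⟩ := isCharacter_decomp hφ
  have hφ' : φ = ∑ ψ : IrrCharacter E, (m ψ : ℤ) • ψ.1 := by
    ext e
    rw [hm e, Finset.sum_apply]
    apply Finset.sum_congr rfl
    intro ψ _
    simp
  rw [hφ', indFun_finset_sum]
  apply Submodule.sum_mem
  intro ψ _
  rw [indFun_zsmul]
  apply Submodule.smul_mem
  obtain ⟨H', mu, hmu⟩ := monomial_of_nilpotent_aux _ E rfl ψ.1 ψ.2
  rw [hmu, indFun_trans_map]
  refine Submodule.subset_span ⟨H'.map E.subtype,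
    mu.comp (H'.equivMapOfInjective E.subtype E.subtype_injective).symm.toMonoidHom,
    ⟨p, hp, isElementary_of_mulEquiv (H'.equivMapOfInjective E.subtype E.subtype_injective)
      (isElementary_subgroup hp hE H')⟩, rfl⟩

theorem linSpan_list {G : Type u} [Group G] [Fintype G] {f : G → ℂ}
    (hf : f ∈ linSpan (G := G)) :
    ∃ l : List ((E : Subgroup G) × ((E →* ℂˣ) × ℤ)),
      (∀ t ∈ l, ∃ p : ℕ, p.Prime ∧ IsElementary p t.1) ∧
      f = (l.map fun t => (t.2.2 : ℂ) • indFun t.1 (fun e => (t.2.1 e : ℂ))).sum := by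
  unfold linSpan at hf
  induction hf using Submodule.span_induction with
  | mem f hf =>
    obtain ⟨E, lam, hE, rfl⟩ := hf
    refine ⟨[⟨E, (lam, 1)⟩], ?_, ?_⟩
    · intro t ht
      rw [List.mem_singleton] at ht
      rw [ht]
      exact hE
    · simp
  | zero => exact ⟨[], by simp, by simp⟩
  | add f₁ f₂ _ _ h₁ h₂ =>
    obtain ⟨l₁, hl₁, e₁⟩ := h₁
    obtain ⟨l₂, hl₂, e₂⟩ := h₂
    refine ⟨l₁ ++ l₂, ?_, ?_⟩
    · intro t ht
      rcases List.mem_append.mp ht with h | h
      · exact hl₁ t h
      · exact hl₂ t h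
    · rw [List.map_append, List.sum_append, ← e₁, ← e₂]
  | smul n f _ h =>
    obtain ⟨l, hl, e⟩ := h
    refine ⟨l.map (fun t => ⟨t.1, (t.2.1, n * t.2.2)⟩), ?_, ?_⟩
    · intro t ht
      obtain ⟨s, hs, rfl⟩ := List.mem_map.mp ht
      exact hl s hs
    · rw [e, List.map_map]
      clear e hl
      induction l with
      | nil => simp
      | cons a l ih =>
        rw [List.map_cons, List.sum_cons, smul_add, ih, List.map_cons, List.sum_cons]
        congr 1
        ext x
        simp only [Function.comp_apply, Pi.smul_apply, smul_eq_mul, zsmul_eq_mul]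
        push_cast
        ring

/-- Brauer's induction theorem. -/
theorem brauer_induction_thm {G : Type u} [Group G] [Fintype G] (χ : G → ℂ)
    (hχ : IsCharacter G χ) :
    ∃ l : List ((E : Subgroup G) × ((E →* ℂˣ) × ℤ)),
      (∀ t ∈ l, ∃ p : ℕ, p.Prime ∧ IsElementary p t.1) ∧
      χ = (l.map fun t => (t.2.2 : ℂ) • indFun t.1 (fun e => (t.2.1 e : ℂ))).sum := by
  have h1 := indSpan_mul_char IsElem (one_mem_indSpan (G := G)) hχ
  have : (fun _ : G => (1 : ℂ)) * χ = χ := by ext g; simp
  rw [this] at h1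
  exact linSpan_list (indSpan_le_linSpan h1)

end Cfsg.Agent.Lib.Helper8
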