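import Mathlib
import Cfsg.Prelude.Def_Characters
import Cfsg.Agent.Lib.Helper8.BrauerGlobal2
import Cfsg.Agent.Lib.Helper8.CharIntegral
import Cfsg.Agent.Lib.Helper8.CharComplete2

set_option autoImplicit false

universe u

namespace Cfsg.Agent.Lib.Helper8
open Cfsg
open scoped ComplexConjugate

theorem dvd_of_isIntegral_div {a b : ℤ} (hb : b ≠ 0) (h : IsIntegral ℤ ((a : ℂ) / (b : ℂ))) :
    b ∣ a := by
  have hbq : (b : ℚ) ≠ 0 := by exact_mod_cast hb
  have h5 : IsIntegral ℤ (algebraMap ℚ ℂ ((a : ℚ) / (b : ℚ))) := by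
    convert h using 1
    simp
  have h6 : IsIntegral ℤ ((a : ℚ) / (b : ℚ)) :=
    (isIntegral_algebraMap_iff (algebraMap ℚ ℂ).injective).mp h5
  obtain ⟨y, hy⟩ := IsIntegrallyClosed.isIntegral_iff.mp h6
  have h7 : (y : ℚ) * (b : ℚ) = (a : ℚ) := by
    have : (y : ℚ) = (a : ℚ) / (b : ℚ) := hy
    rw [this]
    field_simp
  have h8 : y * b = a := by exact_mod_cast h7
  exact ⟨y, by rw [← h8, mul_comm]⟩

/-- A class function with integral multiplicities is a generalized character. -/
theorem isGen_of_classInner_int {G : Type*} [Group G] [Fintype G] {φ : G → ℂ}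
    (hφ : IsClassFunction G φ) (h : ∀ θ : IrrCharacter G, ∃ k : ℤ, classInner φ θ.1 = k) :
    IsGeneralizedCharacter G φ := by
  classical
  have := irr_finite (G := G)
  have : Fintype (IrrCharacter G) := Fintype.ofFinite _
  choose m hm using h
  have h1 := classFunction_eq_sum hφ
  have h2 : φ = ∑ ψ : IrrCharacter G, (m ψ) • ψ.1 := by
    conv_lhs => rw [h1]
    apply Finset.sum_congr rfl
    intro ψ _
    rw [hm ψ]
    ext g
    simp
  rw [h2]
  have hsum : ∀ s : Finset (IrrCharacter G),
      IsGeneralizedCharacter G (∑ ψ ∈ s, (m ψ) • ψ.1) := by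
    intro s
    induction s using Finset.induction_on with
    | empty => rw [Finset.sum_empty]; exact isGen_zero
    | insert a s ha ih =>
      rw [Finset.sum_insert ha]
      exact isGen_add (isGen_zsmul (isGen_of_char (irr_isCharacter a.2)) _) ih
  exact hsum Finset.univ

/-- Structure of an elementary group relative to a prime `p`. -/
theorem elementary_split {E : Type*} [Group E] [Finite E] {q : ℕ} (hq : q.Prime)
    (hE : IsElementary q E) (p : ℕ) [hp : Fact p.Prime] :
    ∃ (P R : Subgroup E), IsPGroup p P ∧ Nat.Coprime (Nat.card R) p ∧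
      Nat.card P * Nat.card R = Nat.card E ∧ (∀ a ∈ P, ∀ b ∈ R, a * b = b * a) ∧
      (∀ e : E, ¬ p ∣ orderOf e → e ∈ R) := by
  obtain ⟨z, hz, hcop, k, hk⟩ := hE
  have hZc : Subgroup.zpowers z ≤ Subgroup.center E := by
    rw [Subgroup.zpowers_le]; exact hz
  have hZn : (Subgroup.zpowers z).Normal := by
    constructor
    intro w hw g
    rw [Subgroup.mem_center_iff.mp (hZc hw) g, mul_inv_cancel_right]
    exact hw
  have key : ∀ e : E, Nat.Coprime (orderOf e) q → e ∈ Subgroup.zpowers z := by
    intro e he
    have h1 := Subgroup.pow_index_mem (Subgroup.zpowers z) e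
    rw [hk] at h1
    have hcop' : (q ^ k).Coprime (orderOf e) := (Nat.Coprime.pow_right k he).symm
    obtain ⟨m, hm⟩ := exists_pow_eq_self_of_coprime hcop'
    rw [← hm]
    exact Subgroup.pow_mem _ h1 m
  have hcardE : Nat.card E = orderOf z * q ^ k := by
    rw [← Subgroup.card_mul_index (Subgroup.zpowers z), hk, Nat.card_zpowers]
  obtain ⟨P₀⟩ : Nonempty (Sylow p E) := inferInstance
  by_cases hpq : p = q
  · subst hpq
    refine ⟨P₀, Subgroup.zpowers z, P₀.isPGroup', ?_, ?_, ?_, ?_⟩
    · rw [Nat.card_zpowers]; exact hcop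
    · rw [Nat.card_zpowers, P₀.card_eq_multiplicity, hcardE]
      have hndvd : ¬ p ∣ orderOf z := by
        intro h
        have h2 : p ∣ Nat.gcd (orderOf z) p := Nat.dvd_gcd h dvd_rfl
        rw [hcop] at h2
        exact hp.out.one_lt.ne' (Nat.dvd_one.mp h2)
      have hfac : (orderOf z * p ^ k).factorization p = k := by
        rw [Nat.factorization_mul (orderOf_pos z).ne' (pow_pos hp.out.pos k).ne',
          Finsupp.add_apply, Nat.factorization_eq_zero_of_not_dvd hndvd,
          Nat.Prime.factorization_pow hp.out, Finsupp.single_eq_same, zero_add]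
      rw [hfac, mul_comm]
    · intro a _ b hb
      exact (Subgroup.mem_center_iff.mp (hZc hb) a)
    · intro e he
      apply key
      exact ((Nat.Prime.coprime_iff_not_dvd hp.out).mpr he).symm
  · have hP₀Z : (P₀ : Subgroup E) ≤ Subgroup.zpowers z := by
      intro e he
      apply key
      obtain ⟨j, hj⟩ := (IsPGroup.iff_orderOf.mp P₀.isPGroup') ⟨e, he⟩
      have hj' : orderOf e = p ^ j := by
        rw [← hj, Subgroup.orderOf_mk]
      rw [hj']
      apply Nat.Coprime.pow_left
      exact (Nat.coprime_primes hp.out hq).mpr hpq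
    have hP₀c : (P₀ : Subgroup E) ≤ Subgroup.center E := hP₀Z.trans hZc
    have hP₀n : (P₀ : Subgroup E).Normal := by
      constructor
      intro w hw g
      rw [Subgroup.mem_center_iff.mp (hP₀c hw) g, mul_inv_cancel_right]
      exact hw
    obtain ⟨R, hR⟩ := Subgroup.exists_right_complement'_of_coprime P₀.card_coprime_index
    have hcardmul := hR.card_mul_card
    have hRidx : Nat.card R = (P₀ : Subgroup E).index := by
      have h1 := Subgroup.card_mul_index (P₀ : Subgroup E)
      have hpos : 0 < Nat.card (P₀ : Subgroup E) := Nat.card_pos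
      exact Nat.eq_of_mul_eq_mul_left hpos (hcardmul.trans h1.symm)
    have hRcop : Nat.Coprime (Nat.card R) p := by
      rw [hRidx]
      exact ((Nat.Prime.coprime_iff_not_dvd hp.out).mpr P₀.not_dvd_index).symm
    refine ⟨P₀, R, P₀.isPGroup', hRcop, hcardmul, ?_, ?_⟩
    · intro a ha b _
      exact (Subgroup.mem_center_iff.mp (hP₀c ha) b).symm
    · intro e he
      obtain ⟨⟨c, w⟩, hcw⟩ := hR.2 e
      simp only at hcw
      have hcc : (c : E) ∈ Subgroup.center E := hP₀c c.2
      have hcomm : Commute (c : E) (w : E) := (Subgroup.mem_center_iff.mp hcc (w : E)).symm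
      have hpow : e ^ Nat.card R = (c : E) ^ Nat.card R := by
        rw [← hcw, hcomm.mul_pow]
        have : (w : E) ^ Nat.card R = 1 := by
          have h1 : w ^ Nat.card R = 1 := pow_card_eq_one'
          exact_mod_cast congrArg (fun x : R => (x : E)) h1
        rw [this, mul_one]
      -- the order of c ^ card R is a power of p and prime to p
      obtain ⟨j, hj⟩ := (IsPGroup.iff_orderOf.mp P₀.isPGroup') (c ^ Nat.card R)
      have hj' : orderOf ((c : E) ^ Nat.card R) = p ^ j := by
        rw [← hj, ← Subgroup.orderOf_coe]; rfl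
      have hdvd : orderOf ((c : E) ^ Nat.card R) ∣ orderOf e := by
        rw [← hpow]; exact orderOf_pow_dvd _
      have hj0 : j = 0 := by
        by_contra hne
        apply he
        apply dvd_trans _ hdvd
        rw [hj']
        exact dvd_pow_self p hne
      rw [hj0, pow_zero, orderOf_eq_one_iff] at hj'
      -- so the order of c divides card R and is a power of p
      obtain ⟨i, hi⟩ := (IsPGroup.iff_orderOf.mp P₀.isPGroup') c
      have hi' : orderOf (c : E) = p ^ i := by
        rw [← hi, ← Subgroup.orderOf_coe]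
      have hdvd2 : orderOf (c : E) ∣ Nat.card R := orderOf_dvd_of_pow_eq_one hj'
      have hi0 : i = 0 := by
        by_contra hne
        have h1 : p ∣ Nat.card R := dvd_trans (by rw [hi']; exact dvd_pow_self p hne) hdvd2
        have h2 : p ∣ Nat.gcd (Nat.card R) p := Nat.dvd_gcd h1 dvd_rfl
        rw [hRcop] at h2
        exact hp.out.one_lt.ne' (Nat.dvd_one.mp h2)
      rw [hi0, pow_zero, orderOf_eq_one_iff] at hi'
      rw [← hcw, hi', one_mul]
      exact w.2

end Cfsg.Agent.Lib.Helper8
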