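import Mathlib
import Cfsg.Prelude.Def_Characters
import Cfsg.Agent.Lib.Helper8.CharIsometry

set_option autoImplicit false

namespace Cfsg.Agent.Lib.Helper8
open Cfsg
open scoped ComplexConjugate

variable {G : Type*} [Group G]

/-- A generalized character of norm one is an irreducible character up to sign. -/
theorem norm_one_structure [Fintype G] {θ : G → ℂ} (hθ : IsGeneralizedCharacter G θ)
    (h2 : classInner θ θ = 1) :
    ∃ a : IrrCharacter G, θ = a.1 ∨ θ = -a.1 := by
  classical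
  have := irr_finite (G := G)
  have : Fintype (IrrCharacter G) := Fintype.ofFinite _
  obtain ⟨m, hm⟩ := generalized_decomp hθ
  have hθ' : θ = fun g => ∑ ψ : IrrCharacter G, (m ψ : ℂ) * ψ.1 g := funext hm
  have hnorm : classInner θ θ = ∑ ψ : IrrCharacter G, ((m ψ * m ψ : ℤ) : ℂ) := by
    conv_lhs => rw [hθ']
    rw [classInner_sum_left]
    apply Finset.sum_congr rfl
    intro ψ _
    rw [classInner_conj_symm, classInner_comb_irr (fun ψ => (m ψ : ℂ)) ψ]
    simp
  rw [h2] at hnorm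
  have hint : ∑ ψ : IrrCharacter G, m ψ * m ψ = 1 := by
    have : ((∑ ψ : IrrCharacter G, m ψ * m ψ : ℤ) : ℂ) = 1 := by
      rw [hnorm]; push_cast; rfl
    exact_mod_cast this
  have hunit : ∀ k : ℤ, k ≠ 0 → k * k ≤ 1 → k * k = 1 := by
    intro k hk hle
    have h3 : -1 ≤ k ∧ k ≤ 1 := by constructor <;> nlinarith
    have h4 : k = 1 ∨ k = -1 := by omega
    rcases h4 with h | h <;> rw [h] <;> norm_num
  obtain ⟨ψ₁, h₁⟩ : ∃ ψ₁, m ψ₁ ≠ 0 := by
    by_contra hcon
    push Not at hcon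
    simp [hcon] at hint
  have hsplit₁ := Finset.add_sum_erase Finset.univ (fun ψ => m ψ * m ψ) (Finset.mem_univ ψ₁)
  rw [hint] at hsplit₁
  have hnn₁ : 0 ≤ ∑ ψ ∈ Finset.univ.erase ψ₁, m ψ * m ψ :=
    Finset.sum_nonneg (fun _ _ => mul_self_nonneg _)
  have hsq1 : m ψ₁ * m ψ₁ = 1 := hunit _ h₁ (by linarith)
  have hrest : ∑ ψ ∈ Finset.univ.erase ψ₁, m ψ * m ψ = 0 := by linarith
  have hothers : ∀ ψ ∈ Finset.univ.erase ψ₁, m ψ = 0 := by
    intro ψ hψ
    have := (Finset.sum_eq_zero_iff_of_nonneg (fun ψ _ => mul_self_nonneg (m ψ))).mp hrest ψ hψ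
    exact mul_self_eq_zero.mp this
  have hθeq : ∀ g, θ g = (m ψ₁ : ℂ) * ψ₁.1 g := by
    intro g
    rw [hm g, ← Finset.add_sum_erase _ _ (Finset.mem_univ ψ₁),
      Finset.sum_eq_zero (fun ψ hψ => by rw [hothers ψ hψ]; simp)]
    ring
  have hpm : ∀ k : ℤ, k * k = 1 → k = 1 ∨ k = -1 := by
    intro k hk
    have h3 : (k - 1) * (k + 1) = 0 := by ring_nf; linarith
    rcases mul_eq_zero.mp h3 with h | h
    · left; omega
    · right; omega
  refine ⟨ψ₁, ?_⟩
  rcases hpm _ hsq1 with e1 | e1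
  · left; ext g; rw [hθeq g, e1]; simp
  · right; ext g; rw [hθeq g, e1]; simp

/-- Signed irreducible characters in normal form. -/
theorem signed_irr_form {α : G → ℂ} (h : IsIrrCharacter G α ∨ IsIrrCharacter G (-α)) :
    ∃ (ε : ℂ) (χ : IrrCharacter G), (ε = 1 ∨ ε = -1) ∧ α = fun x => ε * χ.1 x := by
  rcases h with h | h
  · exact ⟨1, ⟨α, h⟩, Or.inl rfl, by ext x; simp⟩
  · exact ⟨-1, ⟨-α, h⟩, Or.inr rfl, by ext x; simp⟩

theorem classInner_mul_mul [Fintype G] (a b : ℂ) (f g : G → ℂ) :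
    classInner (fun x => a * f x) (fun x => b * g x) = a * conj b * classInner f g := by
  unfold classInner
  simp only [map_mul]
  rw [Finset.mul_sum, Finset.mul_sum, Finset.mul_sum]
  apply Finset.sum_congr rfl
  intro x _
  ring

theorem classInner_signed [Fintype G] (a b : ℂ) (hb : b = 1 ∨ b = -1) (χ ψ : IrrCharacter G) :
    classInner (fun x => a * χ.1 x) (fun x => b * ψ.1 x) = if χ = ψ then a * b else 0 := by
  rw [classInner_mul_mul, irr_classInner χ.2 ψ.2]
  have hb' : conj b = b := by rcases hb with rfl | rfl <;> simp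
  rw [hb']
  by_cases h : χ = ψ
  · rw [if_pos h, if_pos (congrArg Subtype.val h), mul_one]
  · rw [if_neg h, if_neg (fun e => h (Subtype.ext e)), mul_zero]

theorem classInner_expand4 [Fintype G] (α β γ δ : G → ℂ) (u v : ℝ) :
    classInner (α - β) ((u : ℂ) • γ - (v : ℂ) • δ) =
      u * classInner α γ - v * classInner α δ - u * classInner β γ + v * classInner β δ := by
  unfold classInner
  simp only [Pi.sub_apply, Pi.smul_apply, smul_eq_mul, map_sub, map_mul, Complex.conj_ofReal]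
  have : ∀ g, (α g - β g) * ((u : ℂ) * conj (γ g) - v * conj (δ g)) =
      u * (α g * conj (γ g)) - v * (α g * conj (δ g)) - u * (β g * conj (γ g)) +
        v * (β g * conj (δ g)) := by intro g; ring
  simp_rw [this]
  rw [Finset.sum_add_distrib, Finset.sum_sub_distrib, Finset.sum_sub_distrib, ← Finset.mul_sum,
    ← Finset.mul_sum, ← Finset.mul_sum, ← Finset.mul_sum]
  ring

end Cfsg.Agent.Lib.Helper8
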