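import Mathlib
import Cfsg.Prelude.Def_Characters
import Cfsg.Agent.Lib.Helper8.CharLinHom

set_option autoImplicit false

namespace Cfsg.Agent.Lib.Helper8
open Cfsg

variable {G : Type*} [Group G] {A : Type*} [CommGroup A]

theorem hom_pow_card_eq_one' [Finite G] (f : G →* A) : f ^ Nat.card G = 1 := by
  apply MonoidHom.ext
  intro x
  rw [MonoidHom.pow_apply, ← map_pow, pow_card_eq_one', map_one, MonoidHom.one_apply]

theorem orderOf_hom_pos' [Finite G] (f : G →* A) : 0 < orderOf f := by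
  apply orderOf_pos_iff.mpr
  exact isOfFinOrder_iff_pow_eq_one.mpr ⟨Nat.card G, Nat.card_pos, hom_pow_card_eq_one' f⟩

/-- `G`-invariance of a homomorphism on a normal subgroup. -/
def IsInvHom (N : Subgroup G) [hN : N.Normal] (ℓ : N →* A) : Prop :=
  ∀ (g : G) (n : N), ℓ (MulAut.conjNormal g n) = ℓ n

theorem IsInvHom.zpow {N : Subgroup G} [hN : N.Normal] {ℓ : N →* A} (h : IsInvHom N ℓ) (z : ℤ) :
    IsInvHom N (ℓ ^ z) := by
  intro g n
  rw [MonoidHom.zpow_apply, MonoidHom.zpow_apply, h g n]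

theorem zpow_orderOf_mul {A : Type*} [Group A] (a : A) (z : ℤ) : a ^ ((orderOf a : ℤ) * z) = 1 := by
  rw [zpow_mul, zpow_natCast, pow_orderOf_eq_one, one_zpow]

theorem zpow_eq_one_of_dvd {A : Type*} [Group A] (a : A) {k : ℕ} (hk : a ^ k = 1) (z : ℤ) :
    a ^ ((k : ℤ) * z) = 1 := by
  rw [zpow_mul, zpow_natCast, hk, one_zpow]

/-- Extension of invariant linear characters from subgroups of index prime to `p`, for every
prime `p` dividing the order. -/
theorem exists_extension_of_sylow [Finite G] (N : Subgroup G) [hN : N.Normal] :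
    ∀ (k : ℕ) (ℓ : N →* A), orderOf ℓ = k → IsInvHom N ℓ →
    (∀ p : ℕ, p.Prime → p ∣ orderOf ℓ → ∃ (H : Subgroup G) (hNH : N ≤ H) (ν : H →* A),
      Nat.Coprime H.index p ∧ ∀ n : N, ν ⟨(n : G), hNH n.2⟩ = ℓ n) →
    ∃ μ : G →* A, ∀ n : N, μ n = ℓ n := by
  intro k
  induction k using Nat.strong_induction_on with
  | _ k ih =>
    intro ℓ hk hinv hsyl
    have hkpos : 0 < k := hk ▸ orderOf_hom_pos' ℓ
    by_cases hk1 : k = 1
    · refine ⟨1, fun n => ?_⟩
      have : ℓ = 1 := orderOf_eq_one_iff.mp (hk.trans hk1)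
      rw [this]; rfl
    obtain ⟨p, hp, hpk⟩ := Nat.exists_prime_and_dvd hk1
    set e := k.factorization p with he
    set P := p ^ e with hP
    set m' := k / P with hm'
    have hPm : P * m' = k := Nat.ordProj_mul_ordCompl_eq_self k p
    have hcop : Nat.Coprime P m' := Nat.Coprime.pow_left e (Nat.coprime_ordCompl hp hkpos.ne')
    have hepos : 0 < e := hp.factorization_pos_of_dvd hkpos.ne' hpk
    have hP2 : 2 ≤ P := by
      calc 2 ≤ p := hp.two_le
        _ = p ^ 1 := (pow_one p).symm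
        _ ≤ p ^ e := Nat.pow_le_pow_right hp.pos hepos
    have hm'pos : 0 < m' := by
      rcases Nat.eq_zero_or_pos m' with h | h
      · rw [h, mul_zero] at hPm; omega
      · exact h
    have hm'lt : m' < k := by
      rw [← hPm]
      nlinarith
    -- Bezout
    have hbez : (1 : ℤ) = (P : ℤ) * Int.gcdA P m' + (m' : ℤ) * Int.gcdB P m' := by
      have := Int.gcd_eq_gcd_ab P m'
      rw [Int.gcd_natCast_natCast, hcop.gcd_eq_one] at this
      exact_mod_cast this
    set u := Int.gcdA P m' with hu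
    set v := Int.gcdB P m' with hv
    have hℓk : ℓ ^ k = 1 := hk ▸ pow_orderOf_eq_one ℓ
    -- the two parts
    set ℓ₁ := ℓ ^ ((m' : ℤ) * v) with hℓ₁
    set ℓ₂ := ℓ ^ ((P : ℤ) * u) with hℓ₂
    have hprod : ℓ₁ * ℓ₂ = ℓ := by
      rw [hℓ₁, hℓ₂, ← zpow_add, add_comm, ← hbez, zpow_one]
    have hℓ₁P : ℓ₁ ^ P = 1 := by
      rw [hℓ₁, ← zpow_natCast, ← zpow_mul]
      have : (m' : ℤ) * v * (P : ℤ) = ((k : ℕ) : ℤ) * v := by
        rw [← hPm]; push_cast; ring
      rw [this]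
      exact zpow_eq_one_of_dvd ℓ hℓk v
    have hℓ₂m : ℓ₂ ^ m' = 1 := by
      rw [hℓ₂, ← zpow_natCast, ← zpow_mul]
      have : (P : ℤ) * u * (m' : ℤ) = ((k : ℕ) : ℤ) * u := by
        rw [← hPm]; push_cast; ring
      rw [this]
      exact zpow_eq_one_of_dvd ℓ hℓk u
    -- extension of ℓ₂ by induction
    have hk2dvd : orderOf ℓ₂ ∣ m' := orderOf_dvd_of_pow_eq_one hℓ₂m
    have hk2lt : orderOf ℓ₂ < k := lt_of_le_of_lt (Nat.le_of_dvd hm'pos hk2dvd) hm'lt
    obtain ⟨μ₂, hμ₂⟩ := ih (orderOf ℓ₂) hk2lt ℓ₂ rfl (hinv.zpow _) (by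
      intro q hq hqd
      have hqk : q ∣ orderOf ℓ := by
        rw [hk, ← hPm]
        exact Dvd.dvd.mul_left (hqd.trans hk2dvd) P
      obtain ⟨H, hNH, ν, hHq, hν⟩ := hsyl q hq hqk
      refine ⟨H, hNH, ν ^ ((P : ℤ) * u), hHq, ?_⟩
      intro n
      rw [MonoidHom.zpow_apply, hν n, hℓ₂, MonoidHom.zpow_apply])
    -- extension of ℓ₁ by transfer
    obtain ⟨H, hNH, ν, hHp, hν⟩ := hsyl p hp (hk ▸ hpk)
    set ν₁ := ν ^ ((m' : ℤ) * v) with hν₁
    have hν₁N : ∀ n : N, ν₁ ⟨(n : G), hNH n.2⟩ = ℓ₁ n := by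
      intro n
      rw [hν₁, MonoidHom.zpow_apply, hν n, hℓ₁, MonoidHom.zpow_apply]
    have hℓ₁inv : IsInvHom N ℓ₁ := hinv.zpow _
    have htr : ∀ n : N, MonoidHom.transfer ν₁ (n : G) = ℓ₁ n ^ H.index := by
      intro n
      rw [transfer_of_invariant H N hNH ν₁ (by
        intro g x
        rw [hν₁N, hν₁N]
        exact hℓ₁inv g x) n, hν₁N]
    have hcop2 : Nat.Coprime H.index P := Nat.Coprime.pow_right e hHp
    have hbez2 : (1 : ℤ) = (H.index : ℤ) * Int.gcdA H.index P + (P : ℤ) * Int.gcdB H.index P := by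
      have := Int.gcd_eq_gcd_ab H.index P
      rw [Int.gcd_natCast_natCast, hcop2.gcd_eq_one] at this
      exact_mod_cast this
    set a := Int.gcdA H.index P with ha
    set b := Int.gcdB H.index P with hb
    set μ₁ := (MonoidHom.transfer ν₁) ^ a with hμ₁
    have hμ₁N : ∀ n : N, μ₁ n = ℓ₁ n := by
      intro n
      rw [hμ₁, MonoidHom.zpow_apply, htr, ← zpow_natCast, ← zpow_mul]
      have h1 : (ℓ₁ n) ^ ((P : ℤ) * b) = 1 := by
        have h2 : ℓ₁ n ^ P = 1 := by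
          rw [← MonoidHom.pow_apply, hℓ₁P]; rfl
        exact zpow_eq_one_of_dvd _ h2 b
      have h3 : ((H.index : ℤ) * a) = 1 - (P : ℤ) * b := by linarith
      rw [h3, zpow_sub, zpow_one, h1]
      simp
    refine ⟨μ₁ * μ₂, ?_⟩
    intro n
    rw [MonoidHom.mul_apply, hμ₁N, hμ₂, ← MonoidHom.mul_apply, hprod]

/-- Existence of an extension of the same order, in the coprime case. -/
theorem exists_extension_coprime [Finite G] (N : Subgroup G) [hN : N.Normal] (ℓ : N →* A)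
    (hinv : IsInvHom N ℓ) (hcop : Nat.Coprime N.index (orderOf ℓ)) :
    ∃ μ : G →* A, (∀ n : N, μ n = ℓ n) ∧ orderOf μ = orderOf ℓ := by
  obtain ⟨μ₀, hμ₀⟩ := exists_extension_of_sylow N (orderOf ℓ) ℓ rfl hinv (by
    intro p hp hpd
    refine ⟨N, le_refl N, ℓ, ?_, fun n => rfl⟩
    exact Nat.Coprime.coprime_dvd_right hpd hcop)
  set o := orderOf ℓ with ho
  set m := N.index with hm
  have hbez : (1 : ℤ) = (m : ℤ) * Int.gcdA m o + (o : ℤ) * Int.gcdB m o := by
    have := Int.gcd_eq_gcd_ab m o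
    rw [Int.gcd_natCast_natCast, hcop.gcd_eq_one] at this
    exact_mod_cast this
  set u := Int.gcdA m o with hu
  set v := Int.gcdB m o with hv
  set μ := μ₀ ^ ((m : ℤ) * u) with hμ
  have hℓo : ∀ n : N, ℓ n ^ o = 1 := by
    intro n
    rw [← MonoidHom.pow_apply, ho, pow_orderOf_eq_one]; rfl
  have hμN : ∀ n : N, μ n = ℓ n := by
    intro n
    rw [hμ, MonoidHom.zpow_apply, hμ₀]
    have h3 : ((m : ℤ) * u) = 1 - (o : ℤ) * v := by linarith
    rw [h3, zpow_sub, zpow_one, zpow_eq_one_of_dvd _ (hℓo n) v]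
    simp
  refine ⟨μ, hμN, ?_⟩
  -- μ₀ ^ o is trivial on N, so μ₀ ^ (o * m) = 1
  have h1 : (μ₀ ^ o) ^ m = 1 := by
    apply hom_pow_index_eq_one N
    intro n hn
    rw [MonoidHom.pow_apply]
    have := hμ₀ ⟨n, hn⟩
    simp only at this
    rw [this]
    exact hℓo ⟨n, hn⟩
  have h2 : μ ^ o = 1 := by
    rw [hμ, ← zpow_natCast, ← zpow_mul]
    have : (m : ℤ) * u * (o : ℤ) = ((o * m : ℕ) : ℤ) * u := by push_cast; ring
    rw [this]
    apply zpow_eq_one_of_dvd
    rw [pow_mul]; exact h1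
  apply Nat.dvd_antisymm (orderOf_dvd_of_pow_eq_one h2)
  apply orderOf_dvd_of_pow_eq_one
  apply MonoidHom.ext
  intro n
  rw [MonoidHom.pow_apply, ← hμN, ← MonoidHom.pow_apply, pow_orderOf_eq_one]
  rfl

/-- Uniqueness of the extension of order coprime to the index. -/
theorem extension_unique_coprime [Finite G] (N : Subgroup G) [hN : N.Normal] (μ μ' : G →* A)
    (hres : ∀ n : N, μ n = μ' n) (h1 : Nat.Coprime N.index (orderOf μ))
    (h2 : Nat.Coprime N.index (orderOf μ')) : μ = μ' := by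
  have hδ1 : (μ / μ') ^ N.index = 1 := by
    apply hom_pow_index_eq_one N
    intro n hn
    rw [MonoidHom.div_apply, hres ⟨n, hn⟩, div_self']
  have hδ2 : (μ / μ') ^ (orderOf μ * orderOf μ') = 1 := by
    rw [div_pow, pow_mul, pow_orderOf_eq_one, one_pow, mul_comm, pow_mul, pow_orderOf_eq_one,
      one_pow, div_one]
  have hd1 := orderOf_dvd_of_pow_eq_one hδ1
  have hd2 := orderOf_dvd_of_pow_eq_one hδ2
  have hcop : Nat.Coprime N.index (orderOf μ * orderOf μ') := Nat.Coprime.mul_right h1 h2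
  have : orderOf (μ / μ') = 1 := Nat.eq_one_of_dvd_coprimes hcop hd1 hd2
  have h3 : μ / μ' = 1 := orderOf_eq_one_iff.mp this
  exact div_eq_one.mp h3

end Cfsg.Agent.Lib.Helper8
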