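import Mathlib
import Cfsg.Agent.Lib.Helper8.CharDecomp

set_option autoImplicit false

namespace Cfsg.Agent.Lib.Helper8
open Cfsg
open scoped ComplexConjugate

universe u v w
variable {G : Type*} [Group G]

theorem character_prod {V W : Type*} [AddCommGroup V] [Module ℂ V] [FiniteDimensional ℂ V]
    [AddCommGroup W] [Module ℂ W] [FiniteDimensional ℂ W]
    (ρ : Representation ℂ G V) (σ : Representation ℂ G W) :
    (ρ.prod σ).character = ρ.character + σ.character := by
  ext g
  simp only [Representation.character, Pi.add_apply]
  exact LinearMap.trace_prodMap' (ρ g) (σ g)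

/-- Product of equivalences. -/
noncomputable def prodEquivRight {U V W : Type*} [AddCommGroup U] [Module ℂ U] [AddCommGroup V] [Module ℂ V]
    [AddCommGroup W] [Module ℂ W] (τ : Representation ℂ G U) {ρ : Representation ℂ G V}
    {σ : Representation ℂ G W} (φ : ρ.Equiv σ) : (τ.prod ρ).Equiv (τ.prod σ) :=
  Representation.Equiv.mk (LinearEquiv.prodCongr (LinearEquiv.refl ℂ U) φ.toLinearEquiv) (by
    intro g
    ext x
    · simp
    · simp
    · simp
    · simp [Representation.IntertwiningMap.isIntertwining _ _ φ.toIntertwiningMap])

theorem classInner_eq_finrank_intertwining [Fintype G] {V U : Type*} [AddCommGroup V] [Module ℂ V]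
    [FiniteDimensional ℂ V] [AddCommGroup U] [Module ℂ U] [FiniteDimensional ℂ U]
    (ρ : Representation ℂ G V) (τ : Representation ℂ G U) :
    classInner ρ.character τ.character = (Module.finrank ℂ (Representation.IntertwiningMap τ ρ) : ℂ) := by
  have hcard : (Nat.card G : ℂ) ≠ 0 := Nat.cast_ne_zero.mpr Nat.card_pos.ne'
  have : Invertible (Nat.card G : ℂ) := invertibleOfNonzero hcard
  rw [← Representation.card_inv_mul_sum_char_mul_char_eq_finrank]
  unfold classInner
  congr 1
  apply Finset.sum_congr rfl
  intro g _
  rw [character_inv']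

/-- Peel off an irreducible constituent. -/
theorem peel [Fintype G] {V U : Type*} [AddCommGroup V] [Module ℂ V] [FiniteDimensional ℂ V]
    [AddCommGroup U] [Module ℂ U] [FiniteDimensional ℂ U]
    (ρ : Representation ℂ G V) (τ : Representation ℂ G U) (hτ : τ.IsIrreducible)
    (hne : classInner ρ.character τ.character ≠ 0) :
    ∃ C : Subrepresentation ρ, Nonempty ((τ.prod C.toRepresentation).Equiv ρ) := by
  rw [classInner_eq_finrank_intertwining] at hne
  have hfr : Module.finrank ℂ (Representation.IntertwiningMap τ ρ) ≠ 0 := by
    intro h; apply hne; rw [h]; simp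
  have hex : ∃ f : Representation.IntertwiningMap τ ρ, f ≠ 0 := by
    by_contra hcon
    push Not at hcon
    apply hfr
    have : Subsingleton (Representation.IntertwiningMap τ ρ) :=
      ⟨fun a b => by rw [hcon a, hcon b]⟩
    exact Module.finrank_zero_of_subsingleton
  obtain ⟨f, hf⟩ := hex
  have hinj : Function.Injective f := by
    rcases Representation.IsIrreducible.injective_or_eq_zero f with h | h
    · exact h
    · exact absurd h hf
  set R : Subrepresentation ρ := ⟨LinearMap.range f.toLinearMap, by
    intro g v hv
    obtain ⟨u, rfl⟩ := hv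
    exact ⟨τ g u, Representation.IntertwiningMap.isIntertwining τ ρ f g u⟩⟩ with hR
  have hcardne : NeZero (Nat.card G : ℂ) := ⟨Nat.cast_ne_zero.mpr Nat.card_pos.ne'⟩
  obtain ⟨C, hC⟩ := exists_isCompl R
  have hsup : R.toSubmodule ⊔ C.toSubmodule = ⊤ := congrArg Subrepresentation.toSubmodule hC.sup_eq_top
  have hinf : R.toSubmodule ⊓ C.toSubmodule = ⊥ := congrArg Subrepresentation.toSubmodule hC.inf_eq_bot
  refine ⟨C, ⟨?_⟩⟩
  set L : (U × C.toSubmodule) →ₗ[ℂ] V := f.toLinearMap.coprod C.toSubmodule.subtype with hL
  have hLapp : ∀ x : U × C.toSubmodule, L x = f x.1 + (x.2 : V) := by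
    intro x; simp [hL]
  have hLinj : Function.Injective L := by
    rw [← LinearMap.ker_eq_bot, LinearMap.ker_eq_bot']
    intro x hx
    rw [hLapp] at hx
    have h1 : f x.1 ∈ R.toSubmodule ⊓ C.toSubmodule := by
      refine ⟨⟨x.1, rfl⟩, ?_⟩
      have : f x.1 = -(x.2 : V) := eq_neg_of_add_eq_zero_left hx
      rw [this]
      exact C.toSubmodule.neg_mem x.2.2
    rw [hinf, Submodule.mem_bot] at h1
    have h2 : x.1 = 0 := hinj (by rw [h1, map_zero])
    have h3 : (x.2 : V) = 0 := by rw [h1, zero_add] at hx; exact hx
    exact Prod.ext h2 (Subtype.ext h3)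
  have hLsurj : Function.Surjective L := by
    intro v
    have hv : v ∈ R.toSubmodule ⊔ C.toSubmodule := by rw [hsup]; trivial
    obtain ⟨r, ⟨u, rfl⟩, c, hc, rfl⟩ := Submodule.mem_sup.mp hv
    exact ⟨(u, ⟨c, hc⟩), by rw [hLapp]; rfl⟩
  refine Representation.Equiv.mk (LinearEquiv.ofBijective L ⟨hLinj, hLsurj⟩) ?_
  intro g
  apply LinearMap.ext
  intro x
  show L ((τ.prod C.toRepresentation) g x) = ρ g (L x)
  rw [hLapp, hLapp, map_add]
  congr 1
  exact Representation.IntertwiningMap.isIntertwining τ ρ f g x.1


theorem equiv_of_character_eq_aux [Finite G] :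
    ∀ (n : ℕ) (V : Type u) (W : Type v) [AddCommGroup V] [Module ℂ V] [FiniteDimensional ℂ V]
      [AddCommGroup W] [Module ℂ W] [FiniteDimensional ℂ W]
      (ρ : Representation ℂ G V) (σ : Representation ℂ G W), Module.finrank ℂ V = n →
      ρ.character = σ.character → Nonempty (ρ.Equiv σ) := by
  classical
  have : Fintype G := Fintype.ofFinite G
  have := irr_finite (G := G)
  have : Fintype (IrrCharacter G) := Fintype.ofFinite _
  intro n
  induction n using Nat.strong_induction_on with
  | _ n ih =>
    intro V W _ _ _ _ _ _ ρ σ hn hχ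
    have hdim : Module.finrank ℂ W = Module.finrank ℂ V := by
      have h1 := congrFun hχ 1
      rw [Representation.char_one, Representation.char_one] at h1
      exact_mod_cast h1.symm
    by_cases hn0 : n = 0
    · -- both spaces are trivial
      have hV : Subsingleton V := Module.finrank_zero_iff.mp (by rw [hn, hn0])
      have hW : Subsingleton W := Module.finrank_zero_iff.mp (by rw [hdim, hn, hn0])
      refine ⟨Representation.Equiv.mk (LinearEquiv.ofSubsingleton V W) ?_⟩
      intro g
      ext x
      exact Subsingleton.elim _ _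
    · -- find an irreducible constituent
      obtain ⟨m, hm⟩ := character_decomp_aux _ V ρ rfl
      have hex : ∃ ψ, m ψ ≠ 0 := by
        by_contra hcon
        push Not at hcon
        have h1 := hm 1
        simp only [hcon, Nat.cast_zero, zero_mul, Finset.sum_const_zero] at h1
        rw [Representation.char_one] at h1
        have : Module.finrank ℂ V = 0 := by exact_mod_cast h1
        exact hn0 (by rw [← hn, this])
      obtain ⟨ψ, hψ⟩ := hex
      obtain ⟨d, τ, hτ, hτψ⟩ := ψ.2
      have hinner : classInner ρ.character τ.character = (m ψ : ℂ) := by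
        have : ρ.character = fun g => ∑ ψ : IrrCharacter G, (m ψ : ℂ) * ψ.1 g := funext hm
        rw [this, hτψ]
        exact classInner_comb_irr (fun ψ => (m ψ : ℂ)) ψ
      have hne : classInner ρ.character τ.character ≠ 0 := by
        rw [hinner]; exact Nat.cast_ne_zero.mpr hψ
      have hne' : classInner σ.character τ.character ≠ 0 := by rw [← hχ]; exact hne
      obtain ⟨C, ⟨e1⟩⟩ := peel ρ τ hτ hne
      obtain ⟨D, ⟨e2⟩⟩ := peel σ τ hτ hne'
      have hc1 : τ.character + C.toRepresentation.character = ρ.character := by
        rw [← character_prod]; exact Representation.char_iso e1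
      have hc2 : τ.character + D.toRepresentation.character = σ.character := by
        rw [← character_prod]; exact Representation.char_iso e2
      have hCD : C.toRepresentation.character = D.toRepresentation.character := by
        have : τ.character + C.toRepresentation.character = τ.character + D.toRepresentation.character := by
          rw [hc1, hc2, hχ]
        exact add_left_cancel this
      have hτnt : Nontrivial (Fin d → ℂ) := irreducible_nontrivial hτ
      have hlt : Module.finrank ℂ C.toSubmodule < n := by
        have h1 := congrFun hc1 1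
        simp only [Pi.add_apply, Representation.char_one] at h1
        have h2 : Module.finrank ℂ (Fin d → ℂ) + Module.finrank ℂ C.toSubmodule = Module.finrank ℂ V := by
          exact_mod_cast h1
        have h3 : 0 < Module.finrank ℂ (Fin d → ℂ) := Module.finrank_pos
        omega
      obtain ⟨e3⟩ := ih _ hlt C.toSubmodule D.toSubmodule C.toRepresentation D.toRepresentation rfl hCD
      exact ⟨e1.symm.trans ((prodEquivRight τ e3).trans e2)⟩

theorem equiv_of_character_eq [Finite G] {V : Type u} {W : Type v} [AddCommGroup V] [Module ℂ V]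
    [FiniteDimensional ℂ V] [AddCommGroup W] [Module ℂ W] [FiniteDimensional ℂ W]
    (ρ : Representation ℂ G V) (σ : Representation ℂ G W) (h : ρ.character = σ.character) :
    Nonempty (ρ.Equiv σ) :=
  equiv_of_character_eq_aux _ V W ρ σ rfl h

end Cfsg.Agent.Lib.Helper8
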