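import Mathlib
import Cfsg.Prelude.Def_Characters
import Cfsg.Prelude.Def_CharExt
import Cfsg.Agent.Lib.Helper8.CharEquiv
import Cfsg.Agent.Lib.Helper8.CharLinHom
import Cfsg.Agent.Lib.Helper8.CharDegree
import Cfsg.Agent.Lib.Helper8.CharDecomp

set_option autoImplicit false

namespace Cfsg.Agent.Lib.Helper8
open Cfsg

universe u v

variable {G : Type u} [Group G]

/-- Equivalent representations have equal determinants. -/
theorem det_eq_of_equiv {V : Type*} {W : Type*} [AddCommGroup V] [Module ℂ V]
    [AddCommGroup W] [Module ℂ W]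
    {ρ : Representation ℂ G V} {σ : Representation ℂ G W} (φ : ρ.Equiv σ) (g : G) :
    LinearMap.det (ρ g) = LinearMap.det (σ g) := by
  have h1 : σ g = φ.toLinearEquiv.conj (ρ g) := by
    apply LinearMap.ext
    intro w
    rw [LinearEquiv.conj_apply]
    have := LinearMap.congr_fun (φ.isIntertwining' g) (φ.toLinearEquiv.symm w)
    simp only [LinearMap.coe_comp, Function.comp_apply, LinearEquiv.coe_coe] at this ⊢
    have h2 : φ.toLinearEquiv (φ.toLinearEquiv.symm w) = w := LinearEquiv.apply_symm_apply _ _
    calc σ g w = σ g (φ.toLinearEquiv (φ.toLinearEquiv.symm w)) := by rw [h2]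
      _ = φ.toLinearEquiv (ρ g (φ.toLinearEquiv.symm w)) := this.symm
  rw [h1]
  exact (LinearMap.det_conj (ρ g) φ.toLinearEquiv).symm

/-- The determinantal character is computed by any representation affording the character. -/
theorem detChar_eq_det [Finite G] {V : Type v} [AddCommGroup V] [Module ℂ V] [FiniteDimensional ℂ V]
    (ρ : Representation ℂ G V) (g : G) : detChar ρ.character g = LinearMap.det (ρ g) := by
  have h : IsCharacter G ρ.character := isCharacter_of_rep ρ
  unfold detChar
  rw [dif_pos h]
  have hspec := Classical.choose_spec (Classical.choose_spec h)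
  obtain ⟨φ⟩ := equiv_of_character_eq (Classical.choose (Classical.choose_spec h)) ρ hspec
  exact det_eq_of_equiv φ g

/-- The determinantal character is a homomorphism to `ℂˣ`. -/
theorem exists_detHom [Finite G] {χ : G → ℂ} (hχ : IsCharacter G χ) :
    ∃ δ : G →* ℂˣ, detChar χ = linFun δ := by
  obtain ⟨n, ρ, rfl⟩ := hχ
  let f : G →* ℂ := (LinearMap.det : Module.End ℂ (Fin n → ℂ) →* ℂ).comp ρ
  refine ⟨f.toHomUnits, ?_⟩
  ext g
  rw [detChar_eq_det]
  rfl

/-- The determinantal character of a linear character is itself. -/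
theorem detChar_linFun [Finite G] (f : G →* ℂˣ) : detChar (linFun f) = linFun f := by
  let ρ : Representation ℂ G (Fin 1 → ℂ) :=
    { toFun := fun g => ((f g : ℂˣ) : ℂ) • (1 : Module.End ℂ (Fin 1 → ℂ))
      map_one' := by simp
      map_mul' := fun a b => by
        rw [map_mul, Units.val_mul, smul_mul_smul_comm, mul_one] }
  have hchar : ρ.character = linFun f := by
    ext g
    show LinearMap.trace ℂ _ (((f g : ℂˣ) : ℂ) • (1 : Module.End ℂ (Fin 1 → ℂ))) = _
    rw [map_smul, LinearMap.trace_one]
    simp
  ext g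
  rw [← hchar, detChar_eq_det, hchar]
  show LinearMap.det (((f g : ℂˣ) : ℂ) • (1 : Module.End ℂ (Fin 1 → ℂ))) = _
  rw [LinearMap.det_smul, map_one]
  simp

/-- The determinantal character of a product with a linear character. -/
theorem detChar_linFun_mul [Finite G] (f : G →* ℂˣ) {χ : G → ℂ} (hχ : IsCharacter G χ) :
    detChar (linFun f * χ) = linFun (f ^ charDegree χ) * detChar χ := by
  have hdeg := isCharacter_one_eq_charDegree hχ
  obtain ⟨n, ρ, rfl⟩ := hχ
  have hn : charDegree ρ.character = n := by
    rw [Representation.char_one] at hdeg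
    have : ((Module.finrank ℂ (Fin n → ℂ) : ℕ) : ℂ) = (charDegree ρ.character : ℂ) := hdeg
    have h2 : Module.finrank ℂ (Fin n → ℂ) = charDegree ρ.character := by exact_mod_cast this
    rw [← h2]; simp
  let ρ' : Representation ℂ G (Fin n → ℂ) :=
    { toFun := fun g => ((f g : ℂˣ) : ℂ) • ρ g
      map_one' := by simp
      map_mul' := fun a b => by
        rw [map_mul, map_mul, Units.val_mul, smul_mul_smul_comm] }
  have hchar : ρ'.character = linFun f * ρ.character := by
    ext g
    show LinearMap.trace ℂ _ (((f g : ℂˣ) : ℂ) • ρ g) = _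
    rw [map_smul]
    rfl
  ext g
  rw [← hchar, detChar_eq_det, Pi.mul_apply, detChar_eq_det, hn]
  show LinearMap.det (((f g : ℂˣ) : ℂ) • ρ g) = _
  rw [LinearMap.det_smul]
  simp

/-- Compatibility of the determinantal character with composition by a homomorphism. -/
theorem detChar_comp [Finite G] {H : Type v} [Group H] [Finite H] (φ : H →* G) {χ : G → ℂ}
    (hχ : IsCharacter G χ) : detChar (χ ∘ φ) = detChar χ ∘ φ := by
  obtain ⟨n, ρ, rfl⟩ := hχ
  let ρ' : Representation ℂ H (Fin n → ℂ) := ρ.comp φ
  have hchar : ρ'.character = ρ.character ∘ φ := rfl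
  ext h
  rw [← hchar, detChar_eq_det, Function.comp_apply, detChar_eq_det]
  rfl

theorem detChar_one_eq [Finite G] {χ : G → ℂ} (hχ : IsCharacter G χ) : detChar χ 1 = 1 := by
  obtain ⟨δ, hδ⟩ := exists_detHom hχ
  rw [hδ]; simp

end Cfsg.Agent.Lib.Helper8
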