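import Mathlib
import Cfsg.Agent.Lib.Helper8.FinOrdEnd

set_option autoImplicit false

namespace Cfsg.Agent.Lib.Helper8

open Polynomial

variable {V : Type*} [AddCommGroup V] [Module ℂ V] [FiniteDimensional ℂ V]

omit [FiniteDimensional ℂ V] in
theorem pow_apply_of_eigen {f : Module.End ℂ V} {μ : ℂ} {v : V} (hv : f v = μ • v) (k : ℕ) :
    (f ^ k) v = μ ^ k • v := by
  induction k with
  | zero => simp
  | succ n ih => rw [pow_succ, Module.End.mul_apply, hv, map_smul, ih, smul_smul, pow_succ, mul_comm]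

/-- Traces of powers of an endomorphism of finite order are power sums of roots of unity. -/
theorem trace_pow_eq_sum {f : Module.End ℂ V} {m : ℕ} (hm : 0 < m) (hf : f ^ m = 1) :
    ∃ (S : Finset ℂ) (c : ℂ → ℕ), (∀ μ ∈ S, μ ^ m = 1) ∧
      ∀ k : ℕ, LinearMap.trace ℂ V (f ^ k) = ∑ μ ∈ S, (c μ : ℂ) * μ ^ k := by
  classical
  have hss := isSemisimple_of_pow_eq_one hm hf
  have htop := hss.iSup_eigenspace_eq_top
  have hind := Module.End.eigenspaces_iSupIndep f
  have hds := DirectSum.isInternal_submodule_of_iSupIndep_of_iSup_eq_top hind htop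
  have hfin : {μ | f.eigenspace μ ≠ ⊥}.Finite :=
    WellFoundedGT.finite_ne_bot_of_iSupIndep hind
  refine ⟨hfin.toFinset, fun μ => Module.finrank ℂ (f.eigenspace μ), ?_, ?_⟩
  · intro μ hμ
    rw [Set.Finite.mem_toFinset] at hμ
    exact eigenvalue_pow_eq_one hf (Module.End.hasEigenvalue_iff.mpr hμ)
  · intro k
    have hmaps : ∀ μ, Set.MapsTo (f ^ k) (f.eigenspace μ) (f.eigenspace μ) := by
      intro μ v hv
      have hv' : f v = μ • v := Module.End.mem_eigenspace_iff.mp hv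
      have : (f ^ k) v = μ ^ k • v := pow_apply_of_eigen hv' k
      rw [this]
      exact Submodule.smul_mem _ _ hv
    rw [LinearMap.trace_eq_sum_trace_restrict' hds hfin hmaps]
    apply Finset.sum_congr rfl
    intro μ _
    have : (f ^ k).restrict (hmaps μ) = (μ ^ k) • LinearMap.id := by
      apply LinearMap.ext
      intro ⟨v, hv⟩
      apply Subtype.ext
      have hv' : f v = μ • v := Module.End.mem_eigenspace_iff.mp hv
      have : (f ^ k) v = μ ^ k • v := pow_apply_of_eigen hv' k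
      show (f ^ k) v = ((μ ^ k • LinearMap.id : Module.End ℂ (f.eigenspace μ)) ⟨v, hv⟩ : V)
      rw [this]
      simp
    rw [this, map_smul, LinearMap.trace_id, smul_eq_mul, mul_comm]


/-- Galois conjugates of a sum of roots of unity: norm is a nonzero integer. -/
theorem cyclotomic_key_aux (N : ℕ) [NeZero N] (K : Type) [Field K] [NumberField K]
    [IsCyclotomicExtension {N} ℚ K] (S : Finset ℂ) (c : ℂ → ℕ) (hS : ∀ μ ∈ S, μ ^ N = 1) :
    (∑ μ ∈ S, (c μ : ℂ) * μ = 0 → ∀ u : (ZMod N)ˣ, ∑ μ ∈ S, (c μ : ℂ) * μ ^ (u : ZMod N).val = 0) ∧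
    (∑ μ ∈ S, (c μ : ℂ) * μ ≠ 0 →
      1 ≤ ∏ u : (ZMod N)ˣ, ‖∑ μ ∈ S, (c μ : ℂ) * μ ^ (u : ZMod N).val‖) := by
  classical
  let φ : K →ₐ[ℚ] ℂ := IsAlgClosed.lift
  let ζ : K := IsCyclotomicExtension.zeta N ℚ K
  have hζ : IsPrimitiveRoot ζ N := IsCyclotomicExtension.zeta_spec N ℚ K
  have hω : IsPrimitiveRoot (φ ζ) N := hζ.map_of_injective φ.injective
  have hex : ∀ μ : ℂ, ∃ e : ℕ, μ ∈ S → (φ ζ) ^ e = μ := by
    intro μ
    by_cases hμ : μ ∈ S
    · obtain ⟨i, -, hi⟩ := hω.eq_pow_of_pow_eq_one (hS μ hμ)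
      exact ⟨i, fun _ => hi⟩
    · exact ⟨0, fun h => absurd h hμ⟩
  choose e he using hex
  set α : K := ∑ μ ∈ S, (c μ : K) * ζ ^ (e μ) with hα
  have hgal : IsGalois ℚ K := IsCyclotomicExtension.isGalois {N} ℚ K
  have hσ : ∀ σ : Gal(K/ℚ), φ (σ α) = ∑ μ ∈ S, (c μ : ℂ) * μ ^ ((IsCyclotomicExtension.Rat.galEquivZMod N K σ : (ZMod N)ˣ) : ZMod N).val := by
    intro σ
    rw [hα, map_sum, map_sum]
    apply Finset.sum_congr rfl
    intro μ hμ
    rw [map_mul, map_mul, map_natCast, map_natCast]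
    congr 1
    have h1 : (ζ ^ e μ) ^ N = 1 := by rw [← pow_mul, mul_comm, pow_mul, hζ.pow_eq_one, one_pow]
    rw [IsCyclotomicExtension.Rat.galEquivZMod_apply_of_pow_eq N K σ h1, map_pow, map_pow, he μ hμ]
  have hφα : φ α = ∑ μ ∈ S, (c μ : ℂ) * μ := by
    rw [hα, map_sum]
    apply Finset.sum_congr rfl
    intro μ hμ
    rw [map_mul, map_natCast, map_pow, he μ hμ]
  constructor
  · intro h0 u
    have hα0 : α = 0 := by
      apply φ.injective
      show φ α = φ 0
      rw [hφα, h0, map_zero]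
    have := hσ ((IsCyclotomicExtension.Rat.galEquivZMod N K).symm u)
    rw [MulEquiv.apply_symm_apply, hα0, map_zero, map_zero] at this
    exact this.symm
  · intro hne
    have hα0 : α ≠ 0 := by
      intro h
      apply hne
      rw [← hφα, h, map_zero]
    have hint : IsIntegral ℤ α := by
      rw [hα]
      apply IsIntegral.sum
      intro μ _
      apply IsIntegral.mul
      · exact isIntegral_natCast _
      · exact (hζ.isIntegral (NeZero.pos N)).pow _
    have hnint : IsIntegral ℤ (Algebra.norm ℚ α) := Algebra.isIntegral_norm ℚ hint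
    obtain ⟨n, hn⟩ := IsIntegrallyClosed.isIntegral_iff.mp hnint
    have hn0 : n ≠ 0 := by
      intro h
      rw [h] at hn
      have : Algebra.norm ℚ α = 0 := by rw [← hn]; simp
      exact hα0 (Algebra.norm_eq_zero_iff.mp this)
    have hprod := Algebra.norm_eq_prod_automorphisms ℚ α
    have h2 : φ (algebraMap ℚ K (Algebra.norm ℚ α)) = (n : ℂ) := by
      rw [AlgHom.commutes, ← hn]
      simp
    rw [hprod, map_prod] at h2
    have h3 : ∏ σ : Gal(K/ℚ), φ (σ α) = ∏ u : (ZMod N)ˣ, ∑ μ ∈ S, (c μ : ℂ) * μ ^ (u : ZMod N).val := by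
      apply Fintype.prod_equiv (IsCyclotomicExtension.Rat.galEquivZMod N K).toEquiv
      intro σ
      rw [hσ σ]
      rfl
    rw [h3] at h2
    rw [← norm_prod, h2]
    rw [Complex.norm_intCast]
    have : (1 : ℤ) ≤ |n| := Int.one_le_abs hn0
    exact_mod_cast this

set_option backward.isDefEq.respectTransparency false in
theorem cyclotomic_key (N : ℕ) [NeZero N] (S : Finset ℂ) (c : ℂ → ℕ) (hS : ∀ μ ∈ S, μ ^ N = 1) :
    (∑ μ ∈ S, (c μ : ℂ) * μ = 0 → ∀ u : (ZMod N)ˣ, ∑ μ ∈ S, (c μ : ℂ) * μ ^ (u : ZMod N).val = 0) ∧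
    (∑ μ ∈ S, (c μ : ℂ) * μ ≠ 0 →
      1 ≤ ∏ u : (ZMod N)ˣ, ‖∑ μ ∈ S, (c μ : ℂ) * μ ^ (u : ZMod N).val‖) := by
  have := CyclotomicField.isCyclotomicExtension N ℚ
  exact cyclotomic_key_aux N (CyclotomicField N ℚ) S c hS


theorem card_le_sum_sq_of_one_le_prod {ι : Type*} [Fintype ι] (z : ι → ℝ) (hz : ∀ i, 0 ≤ z i)
    (hprod : 1 ≤ ∏ i, z i) : (Fintype.card ι : ℝ) ≤ ∑ i, z i ^ 2 := by
  have hpos : ∀ i, 0 < z i := by
    intro i
    rcases (hz i).lt_or_eq with h | h
    · exact h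
    · exfalso
      have : ∏ i, z i = 0 := Finset.prod_eq_zero (Finset.mem_univ i) h.symm
      rw [this] at hprod
      linarith
  have h1 : ∀ i, Real.log (z i ^ 2) ≤ z i ^ 2 - 1 := fun i =>
    Real.log_le_sub_one_of_pos (pow_pos (hpos i) 2)
  have h2 : ∑ i, Real.log (z i ^ 2) = Real.log (∏ i, z i ^ 2) := by
    rw [Real.log_prod]
    intro i _
    exact (pow_pos (hpos i) 2).ne'
  have h3 : 0 ≤ Real.log (∏ i, z i ^ 2) := by
    apply Real.log_nonneg
    rw [Finset.prod_pow]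
    exact one_le_pow₀ hprod
  have h4 : ∑ i, Real.log (z i ^ 2) ≤ ∑ i, (z i ^ 2 - 1) := Finset.sum_le_sum (fun i _ => h1 i)
  rw [Finset.sum_sub_distrib] at h4
  simp only [Finset.sum_const, Finset.card_univ, nsmul_eq_mul, mul_one] at h4
  linarith

theorem pow_unit_inv {G : Type*} [Group G] [Fintype G] (x : G) (u : (ZMod (Fintype.card G))ˣ) :
    (x ^ (u : ZMod (Fintype.card G)).val) ^ ((u⁻¹ : (ZMod (Fintype.card G))ˣ) : ZMod (Fintype.card G)).val = x := by
  rw [← pow_mul]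
  have h1 : (((u : ZMod (Fintype.card G)).val * ((u⁻¹ : (ZMod (Fintype.card G))ˣ) : ZMod (Fintype.card G)).val : ℕ) : ZMod (Fintype.card G)) = ((1 : ℕ) : ZMod (Fintype.card G)) := by
    push_cast
    rw [ZMod.natCast_zmod_val, ZMod.natCast_zmod_val]
    simp
  have h2 := (ZMod.natCast_eq_natCast_iff _ _ _).mp h1
  have h3 : orderOf x ∣ Fintype.card G := orderOf_dvd_card
  have h4 := h2.of_dvd h3
  conv_rhs => rw [← pow_one x]
  exact pow_eq_pow_iff_modEq.mpr h4

variable {G : Type*} [Group G] {V : Type*} [AddCommGroup V] [Module ℂ V]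

theorem character_pow_units [Fintype G] [FiniteDimensional ℂ V] (ρ : Representation ℂ G V) (x : G) :
    (ρ.character x = 0 → ∀ u : (ZMod (Fintype.card G))ˣ, ρ.character (x ^ (u : ZMod (Fintype.card G)).val) = 0) ∧
    (ρ.character x ≠ 0 → (Fintype.card (ZMod (Fintype.card G))ˣ : ℝ) ≤
      ∑ u : (ZMod (Fintype.card G))ˣ, ‖ρ.character (x ^ (u : ZMod (Fintype.card G)).val)‖ ^ 2) := by
  have hN : NeZero (Fintype.card G) := ⟨Fintype.card_ne_zero⟩
  have hf : (ρ x) ^ (Fintype.card G) = 1 := by rw [← map_pow, pow_card_eq_one, map_one]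
  obtain ⟨S, c, hS, htr⟩ := trace_pow_eq_sum (Fintype.card_pos) hf
  have hchar : ∀ k : ℕ, ρ.character (x ^ k) = ∑ μ ∈ S, (c μ : ℂ) * μ ^ k := by
    intro k
    rw [← htr k, Representation.character, map_pow]
  have hchar1 : ρ.character x = ∑ μ ∈ S, (c μ : ℂ) * μ := by
    have := hchar 1
    simpa using this
  obtain ⟨hk0, hk1⟩ := cyclotomic_key (Fintype.card G) S c hS
  constructor
  · intro h0 u
    rw [hchar]
    exact hk0 (by rw [← hchar1]; exact h0) u
  · intro hne
    have := hk1 (by rw [← hchar1]; exact hne)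
    have h2 := card_le_sum_sq_of_one_le_prod
      (fun u : (ZMod (Fintype.card G))ˣ => ‖∑ μ ∈ S, (c μ : ℂ) * μ ^ (u : ZMod (Fintype.card G)).val‖)
      (fun u => norm_nonneg _) this
    simp_rw [hchar]
    exact h2

theorem card_nonvanishing_le_sum [Fintype G] [DecidableEq G] [FiniteDimensional ℂ V]
    (ρ : Representation ℂ G V) (T : Finset G)
    (hT : ∀ x ∈ T, ∀ k : ℕ, k.Coprime (Fintype.card G) → x ^ k ∈ T) :
    ((T.filter (fun x => ρ.character x ≠ 0)).card : ℝ) ≤ ∑ x ∈ T, ‖ρ.character x‖ ^ 2 := by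
  classical
  have hN : NeZero (Fintype.card G) := ⟨Fintype.card_ne_zero⟩
  set U := (ZMod (Fintype.card G))ˣ with hU
  have hUpos : (0 : ℝ) < Fintype.card U := by
    have : 0 < Fintype.card U := Fintype.card_pos
    exact_mod_cast this
  -- step 2
  have hstep2 : ∀ u : U, ∑ x ∈ T, ‖ρ.character (x ^ (u : ZMod (Fintype.card G)).val)‖ ^ 2 =
      ∑ x ∈ T, ‖ρ.character x‖ ^ 2 := by
    intro u
    apply Finset.sum_nbij' (fun x => x ^ (u : ZMod (Fintype.card G)).val)
      (fun x => x ^ ((u⁻¹ : U) : ZMod (Fintype.card G)).val)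
    · intro x hx
      exact hT x hx _ (ZMod.val_coe_unit_coprime u)
    · intro x hx
      exact hT x hx _ (ZMod.val_coe_unit_coprime u⁻¹)
    · intro x _
      exact pow_unit_inv x u
    · intro x _
      have := pow_unit_inv x u⁻¹
      rw [inv_inv] at this
      exact this
    · intro x _
      rfl
  have hstep3 : (Fintype.card U : ℝ) * ∑ x ∈ T, ‖ρ.character x‖ ^ 2 =
      ∑ x ∈ T, ∑ u : U, ‖ρ.character (x ^ (u : ZMod (Fintype.card G)).val)‖ ^ 2 := by
    rw [Finset.sum_comm]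
    rw [Finset.sum_congr rfl (fun u _ => hstep2 u)]
    simp [Finset.sum_const, Finset.card_univ]
  have hstep1 : ∀ x ∈ T, (if ρ.character x ≠ 0 then (Fintype.card U : ℝ) else 0) ≤
      ∑ u : U, ‖ρ.character (x ^ (u : ZMod (Fintype.card G)).val)‖ ^ 2 := by
    intro x _
    by_cases hx : ρ.character x ≠ 0
    · rw [if_pos hx]
      exact (character_pow_units ρ x).2 hx
    · rw [if_neg hx]
      exact Finset.sum_nonneg (fun u _ => by positivity)
  have h4 := Finset.sum_le_sum hstep1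
  rw [← hstep3, ← Finset.sum_filter, Finset.sum_const, nsmul_eq_mul, mul_comm] at h4
  exact le_of_mul_le_mul_left h4 hUpos


/-- Rationality of a sum of roots of unity is equivalent to invariance under all Galois twists. -/
theorem cyclotomic_rational_aux (N : ℕ) [NeZero N] (K : Type) [Field K] [NumberField K]
    [IsCyclotomicExtension {N} ℚ K] (S : Finset ℂ) (c : ℂ → ℕ) (hS : ∀ μ ∈ S, μ ^ N = 1) :
    (∃ q : ℚ, ∑ μ ∈ S, (c μ : ℂ) * μ = (q : ℂ)) ↔
      ∀ u : (ZMod N)ˣ, ∑ μ ∈ S, (c μ : ℂ) * μ ^ (u : ZMod N).val = ∑ μ ∈ S, (c μ : ℂ) * μ := by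
  classical
  let φ : K →ₐ[ℚ] ℂ := IsAlgClosed.lift
  let ζ : K := IsCyclotomicExtension.zeta N ℚ K
  have hζ : IsPrimitiveRoot ζ N := IsCyclotomicExtension.zeta_spec N ℚ K
  have hω : IsPrimitiveRoot (φ ζ) N := hζ.map_of_injective φ.injective
  have hex : ∀ μ : ℂ, ∃ e : ℕ, μ ∈ S → (φ ζ) ^ e = μ := by
    intro μ
    by_cases hμ : μ ∈ S
    · obtain ⟨i, -, hi⟩ := hω.eq_pow_of_pow_eq_one (hS μ hμ)
      exact ⟨i, fun _ => hi⟩
    · exact ⟨0, fun h => absurd h hμ⟩
  choose e he using hex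
  set α : K := ∑ μ ∈ S, (c μ : K) * ζ ^ (e μ) with hα
  have hgal : IsGalois ℚ K := IsCyclotomicExtension.isGalois {N} ℚ K
  have hσ : ∀ σ : Gal(K/ℚ), φ (σ α) = ∑ μ ∈ S, (c μ : ℂ) * μ ^ ((IsCyclotomicExtension.Rat.galEquivZMod N K σ : (ZMod N)ˣ) : ZMod N).val := by
    intro σ
    rw [hα, map_sum, map_sum]
    apply Finset.sum_congr rfl
    intro μ hμ
    rw [map_mul, map_mul, map_natCast, map_natCast]
    congr 1
    have h1 : (ζ ^ e μ) ^ N = 1 := by rw [← pow_mul, mul_comm, pow_mul, hζ.pow_eq_one, one_pow]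
    rw [IsCyclotomicExtension.Rat.galEquivZMod_apply_of_pow_eq N K σ h1, map_pow, map_pow, he μ hμ]
  have hφα : φ α = ∑ μ ∈ S, (c μ : ℂ) * μ := by
    rw [hα, map_sum]
    apply Finset.sum_congr rfl
    intro μ hμ
    rw [map_mul, map_natCast, map_pow, he μ hμ]
  constructor
  · rintro ⟨q, hq⟩ u
    have hαq : α = algebraMap ℚ K q := by
      apply φ.injective
      show φ α = φ (algebraMap ℚ K q)
      rw [hφα, hq, AlgHom.commutes]
      simp
    have := hσ ((IsCyclotomicExtension.Rat.galEquivZMod N K).symm u)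
    rw [MulEquiv.apply_symm_apply] at this
    rw [← this, hαq, AlgEquiv.commutes, ← hαq, hφα]
  · intro h
    have hfix : ∀ σ : Gal(K/ℚ), σ α = α := by
      intro σ
      apply φ.injective
      show φ (σ α) = φ α
      rw [hσ σ, hφα]
      exact h _
    obtain ⟨q, hq⟩ := (IsGalois.mem_range_algebraMap_iff_fixed α).mpr hfix
    refine ⟨q, ?_⟩
    rw [← hφα, ← hq, AlgHom.commutes]
    simp

set_option backward.isDefEq.respectTransparency false in
theorem cyclotomic_rational (N : ℕ) [NeZero N] (S : Finset ℂ) (c : ℂ → ℕ) (hS : ∀ μ ∈ S, μ ^ N = 1) :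
    (∃ q : ℚ, ∑ μ ∈ S, (c μ : ℂ) * μ = (q : ℂ)) ↔
      ∀ u : (ZMod N)ˣ, ∑ μ ∈ S, (c μ : ℂ) * μ ^ (u : ZMod N).val = ∑ μ ∈ S, (c μ : ℂ) * μ := by
  have := CyclotomicField.isCyclotomicExtension N ℚ
  exact cyclotomic_rational_aux N (CyclotomicField N ℚ) S c hS


section
variable {G : Type*} [Group G] {V : Type*} [AddCommGroup V] [Module ℂ V]

theorem character_rational_iff [Fintype G] [FiniteDimensional ℂ V] (ρ : Representation ℂ G V) (x : G) :
    (∃ q : ℚ, ρ.character x = (q : ℂ)) ↔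
      ∀ u : (ZMod (Fintype.card G))ˣ, ρ.character (x ^ (u : ZMod (Fintype.card G)).val) = ρ.character x := by
  have hN : NeZero (Fintype.card G) := ⟨Fintype.card_ne_zero⟩
  have hf : (ρ x) ^ (Fintype.card G) = 1 := by rw [← map_pow, pow_card_eq_one, map_one]
  obtain ⟨S, c, hS, htr⟩ := trace_pow_eq_sum (Fintype.card_pos) hf
  have hchar : ∀ k : ℕ, ρ.character (x ^ k) = ∑ μ ∈ S, (c μ : ℂ) * μ ^ k := by
    intro k
    rw [← htr k, Representation.character, map_pow]
  have hchar1 : ρ.character x = ∑ μ ∈ S, (c μ : ℂ) * μ := by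
    have := hchar 1
    simpa using this
  have := cyclotomic_rational (Fintype.card G) S c hS
  simp_rw [hchar, hchar1]
  exact this

theorem pow_unitOfCoprime [Fintype G] (x : G) {m : ℕ} (hm : m.Coprime (Fintype.card G)) :
    x ^ ((ZMod.unitOfCoprime m hm : (ZMod (Fintype.card G))ˣ) : ZMod (Fintype.card G)).val = x ^ m := by
  rw [ZMod.coe_unitOfCoprime, ZMod.val_natCast, pow_mod_card]

end


/-- Rational polynomial identities at a primitive root of unity persist at its coprime powers. -/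
theorem aeval_pow_eq_zero_of_coprime {N : ℕ} (hN : 0 < N) {ω : ℂ} (hω : IsPrimitiveRoot ω N)
    (Q : ℚ[X]) (hQ : aeval ω Q = 0) {k : ℕ} (hk : k.Coprime N) : aeval (ω ^ k) Q = 0 := by
  have hmin : minpoly ℚ ω ∣ Q := minpoly.dvd ℚ ω hQ
  rw [← cyclotomic_eq_minpoly_rat hω hN] at hmin
  obtain ⟨R, hR⟩ := hmin
  have hωk : IsPrimitiveRoot (ω ^ k) N := hω.pow_of_coprime k hk
  have hroot : aeval (ω ^ k) (cyclotomic N ℚ) = 0 := by
    have := hωk.isRoot_cyclotomic hN
    rw [aeval_def, eval₂_eq_eval_map, map_cyclotomic]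
    exact this
  rw [hR, map_mul, hroot, zero_mul]

variable {G : Type*} [Group G] {V : Type*} [AddCommGroup V] [Module ℂ V]

/-- Character values along powers of `x` are values of one rational polynomial at powers of `ω`. -/
theorem character_poly [Fintype G] [FiniteDimensional ℂ V] (ρ : Representation ℂ G V) {ω : ℂ}
    (hω : IsPrimitiveRoot ω (Fintype.card G)) (x : G) :
    ∃ p : ℚ[X], ∀ k : ℕ, aeval (ω ^ k) p = ρ.character (x ^ k) := by
  classical
  have hf : (ρ x) ^ (Fintype.card G) = 1 := by rw [← map_pow, pow_card_eq_one, map_one]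
  obtain ⟨S, c, hS, htr⟩ := trace_pow_eq_sum (Fintype.card_pos) hf
  have hex : ∀ μ : ℂ, ∃ e : ℕ, μ ∈ S → ω ^ e = μ := by
    intro μ
    by_cases hμ : μ ∈ S
    · obtain ⟨i, -, hi⟩ := hω.eq_pow_of_pow_eq_one (hS μ hμ)
      exact ⟨i, fun _ => hi⟩
    · exact ⟨0, fun h => absurd h hμ⟩
  choose e he using hex
  refine ⟨∑ μ ∈ S, C (c μ : ℚ) * X ^ (e μ), ?_⟩
  intro k
  rw [map_sum, Representation.character, map_pow, htr k]
  apply Finset.sum_congr rfl
  intro μ hμ
  rw [map_mul, aeval_C, map_pow, aeval_X, ← pow_mul, mul_comm k, pow_mul, he μ hμ]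
  simp



section

variable {V : Type*} [AddCommGroup V] [Module ℂ V] [FiniteDimensional ℂ V]

theorem trace_isIntegral_of_pow_eq_one {g : Module.End ℂ V} {m : ℕ} (hm : 0 < m) (hg : g ^ m = 1) :
    IsIntegral ℤ (LinearMap.trace ℂ V g) := by
  obtain ⟨S, c, hS, htr⟩ := trace_pow_eq_sum hm hg
  have := htr 1
  rw [pow_one] at this
  rw [this]
  apply IsIntegral.sum
  intro μ hμ
  apply IsIntegral.mul (isIntegral_natCast _)
  rw [pow_one]
  apply IsIntegral.of_pow hm
  rw [hS μ hμ]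
  exact isIntegral_one

/-- Commuting finite-order operators `f`, `g` with `f ^ p = 1`: `tr (f g) - tr g` is divisible by
`1 - ε` in the algebraic integers. -/
theorem trace_mul_sub_trace {f g : Module.End ℂ V} {p m : ℕ} (hp : 0 < p) (hm : 0 < m) (hf : f ^ p = 1)
    (hg : g ^ m = 1) (hfg : f * g = g * f) {ε : ℂ} (hε : IsPrimitiveRoot ε p) :
    ∃ ω : ℂ, IsIntegral ℤ ω ∧ LinearMap.trace ℂ V (f * g) - LinearMap.trace ℂ V g = (1 - ε) * ω := by
  classical
  have : NeZero p := ⟨hp.ne'⟩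
  have hss := isSemisimple_of_pow_eq_one hp hf
  have htop := hss.iSup_eigenspace_eq_top
  have hind := Module.End.eigenspaces_iSupIndep f
  have hds := DirectSum.isInternal_submodule_of_iSupIndep_of_iSup_eq_top hind htop
  have hfin : {μ | f.eigenspace μ ≠ ⊥}.Finite :=
    WellFoundedGT.finite_ne_bot_of_iSupIndep hind
  have hcomm : ∀ v, f (g v) = g (f v) := by
    intro v
    have := LinearMap.congr_fun hfg v
    simpa [Module.End.mul_apply] using this
  have hmaps_g : ∀ μ, Set.MapsTo g (f.eigenspace μ) (f.eigenspace μ) := by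
    intro μ v hv
    have hv' : f v = μ • v := Module.End.mem_eigenspace_iff.mp hv
    apply Module.End.mem_eigenspace_iff.mpr
    rw [hcomm, hv', map_smul]
  have hmaps_fg : ∀ μ, Set.MapsTo (f * g) (f.eigenspace μ) (f.eigenspace μ) := by
    intro μ v hv
    have h1 := hmaps_g μ hv
    have h2 : f (g v) = μ • g v := Module.End.mem_eigenspace_iff.mp h1
    rw [Module.End.mul_apply, h2]
    exact Submodule.smul_mem _ _ h1
  rw [LinearMap.trace_eq_sum_trace_restrict' hds hfin hmaps_g,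
    LinearMap.trace_eq_sum_trace_restrict' hds hfin hmaps_fg, ← Finset.sum_sub_distrib]
  -- per-eigenvalue
  have hterm : ∀ μ ∈ hfin.toFinset, ∃ w : ℂ, IsIntegral ℤ w ∧
      LinearMap.trace ℂ _ ((f * g).restrict (hmaps_fg μ)) - LinearMap.trace ℂ _ (g.restrict (hmaps_g μ)) =
        (1 - ε) * w := by
    intro μ hμ
    rw [Set.Finite.mem_toFinset] at hμ
    have hμp : μ ^ p = 1 := eigenvalue_pow_eq_one hf (Module.End.hasEigenvalue_iff.mpr hμ)
    obtain ⟨a, -, ha⟩ := hε.eq_pow_of_pow_eq_one hμp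
    have hrestr : (f * g).restrict (hmaps_fg μ) = μ • g.restrict (hmaps_g μ) := by
      apply LinearMap.ext
      intro ⟨v, hv⟩
      apply Subtype.ext
      have h1 := hmaps_g μ hv
      have h2 : f (g v) = μ • g v := Module.End.mem_eigenspace_iff.mp h1
      show (f * g) v = ((μ • g.restrict (hmaps_g μ)) ⟨v, hv⟩ : f.eigenspace μ)
      rw [Module.End.mul_apply, h2]
      rfl
    have hint : IsIntegral ℤ (LinearMap.trace ℂ _ (g.restrict (hmaps_g μ))) := by
      apply trace_isIntegral_of_pow_eq_one hm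
      rw [Module.End.pow_restrict m (hmaps_g μ)]
      apply LinearMap.ext
      intro ⟨v, hv⟩
      apply Subtype.ext
      show (g ^ m) v = v
      rw [hg]; rfl
    refine ⟨-(∑ i ∈ Finset.range a, ε ^ i) * LinearMap.trace ℂ _ (g.restrict (hmaps_g μ)), ?_, ?_⟩
    · apply IsIntegral.mul _ hint
      apply IsIntegral.neg
      apply IsIntegral.sum
      intro i _
      exact (hε.isIntegral hp).pow i
    · rw [hrestr, map_smul, smul_eq_mul]
      set t := LinearMap.trace ℂ _ (g.restrict (hmaps_g μ))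
      have h3 := geom_sum_mul ε a
      rw [ha] at h3
      linear_combination (-t) * h3
  choose! w hw_int hw_eq using hterm
  refine ⟨∑ μ ∈ hfin.toFinset, w μ, IsIntegral.sum _ hw_int, ?_⟩
  rw [Finset.mul_sum]
  apply Finset.sum_congr rfl
  intro μ hμ
  exact hw_eq μ hμ


end

end Cfsg.Agent.Lib.Helper8
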