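import Mathlib
import Cfsg.Agent.Lib.Helper8.CharVanish
import Cfsg.Agent.Lib.Helper8.CharAvg
import Cfsg.Agent.Lib.Helper8.CharDegree
import Cfsg.Agent.Lib.Helper8.CharDecomp

set_option autoImplicit false

namespace Cfsg.Agent.Lib.Helper8
open Cfsg
open Polynomial
open scoped ComplexConjugate

variable {G : Type*} [Group G]

theorem irr_convolution_twist [Fintype G] (ψ φ : IrrCharacter G) {k : ℕ}
    (hk : k.Coprime (Fintype.card G)) (g : G) :
    ∑ z : G, ψ.1 (z ^ k) * φ.1 ((z⁻¹ * g) ^ k) =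
      if ψ = φ then (Nat.card G : ℂ) * ψ.1 (g ^ k) / ψ.1 1 else 0 := by
  classical
  have hN : 0 < Fintype.card G := Fintype.card_pos
  set ω : ℂ := Complex.exp (2 * Real.pi * Complex.I / (Fintype.card G : ℂ)) with hωdef
  have hω : IsPrimitiveRoot ω (Fintype.card G) := Complex.isPrimitiveRoot_exp _ hN.ne'
  obtain ⟨n, ρ, hρ, hρψ⟩ := ψ.2
  obtain ⟨m, τ, hτ, hτφ⟩ := φ.2
  have hp := fun z : G => character_poly ρ hω z
  have hq := fun z : G => character_poly τ hω (z⁻¹ * g)
  choose p hp using hp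
  choose q hq using hq
  obtain ⟨r, hr⟩ := character_poly ρ hω g
  have hd : ψ.1 1 = (n : ℂ) := by rw [← hρψ, Representation.char_one]; simp
  have hn0 : (n : ℂ) ≠ 0 := by rw [← hd]; exact irr_one_ne_zero ψ
  set Q : ℚ[X] := ∑ z : G, p z * q z -
    (if ψ = φ then C ((Fintype.card G : ℚ) / (n : ℚ)) * r else 0) with hQ
  have haeval : ∀ j : ℕ, aeval (ω ^ j) Q = ∑ z : G, ψ.1 (z ^ j) * φ.1 ((z⁻¹ * g) ^ j) -
      (if ψ = φ then (Nat.card G : ℂ) * ψ.1 (g ^ j) / ψ.1 1 else 0) := by
    intro j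
    rw [hQ, map_sub, map_sum]
    congr 1
    · apply Finset.sum_congr rfl
      intro z _
      rw [map_mul, hp z j, hq z j, hρψ, hτφ]
    · by_cases h : ψ = φ
      · rw [if_pos h, if_pos h, map_mul, aeval_C, hr j, hρψ, hd, Nat.card_eq_fintype_card]
        simp only [eq_ratCast, Rat.cast_div, Rat.cast_natCast]
        field_simp
      · rw [if_neg h, if_neg h, map_zero]
  have h1 : aeval ω Q = 0 := by
    have := haeval 1
    simp only [pow_one] at this
    rw [this, irr_convolution ψ φ g, sub_self]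
  have h2 := aeval_pow_eq_zero_of_coprime hN hω Q h1 hk
  rw [haeval k] at h2
  exact sub_eq_zero.mp h2


theorem galois_conj_irr [Fintype G] {k : ℕ} (hk : k.Coprime (Fintype.card G)) (ψ₀ : IrrCharacter G) :
    IsIrrCharacter G (fun g => ψ₀.1 (g ^ k)) := by
  classical
  have := irr_finite (G := G)
  have : Fintype (IrrCharacter G) := Fintype.ofFinite _
  have hGne : (Nat.card G : ℂ) ≠ 0 := Nat.cast_ne_zero.mpr Nat.card_pos.ne'
  set f : IrrCharacter G → G → ℂ := fun ψ g => ψ.1 (g ^ k) with hf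
  have hfcf : ∀ ψ, IsClassFunction G (f ψ) := by
    intro ψ g h
    simp only [hf]
    rw [conj_pow]
    exact isClassFunction_of_isCharacter (irr_isCharacter ψ.2) _ _
  set a : IrrCharacter G → IrrCharacter G → ℂ := fun ψ θ => classInner (f ψ) θ.1 with ha
  have hexp : ∀ ψ g, f ψ g = ∑ θ : IrrCharacter G, a ψ θ * θ.1 g := by
    intro ψ g
    have := congrFun (classFunction_eq_sum (hfcf ψ)) g
    simpa [Finset.sum_apply] using this
  -- convolution, computed two ways
  have hconv : ∀ ψ φ g, ∑ z : G, f ψ z * f φ (z⁻¹ * g) =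
      ∑ θ : IrrCharacter G, (a ψ θ * a φ θ * (Nat.card G : ℂ) / θ.1 1) * θ.1 g := by
    intro ψ φ g
    simp_rw [hexp ψ, hexp φ, Finset.sum_mul_sum]
    rw [Finset.sum_comm]
    apply Finset.sum_congr rfl
    intro θ _
    rw [Finset.sum_comm]
    have : ∀ θ' : IrrCharacter G, ∑ z : G, a ψ θ * θ.1 z * (a φ θ' * θ'.1 (z⁻¹ * g)) =
        a ψ θ * a φ θ' * (if θ = θ' then (Nat.card G : ℂ) * θ.1 g / θ.1 1 else 0) := by
      intro θ'
      rw [← irr_convolution θ θ' g, Finset.mul_sum]
      apply Finset.sum_congr rfl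
      intro z _
      ring
    simp_rw [this]
    rw [Finset.sum_eq_single θ]
    · rw [if_pos rfl]; ring
    · intro θ' _ hne
      rw [if_neg (fun h => hne h.symm), mul_zero]
    · intro h; exact absurd (Finset.mem_univ _) h
  have htw : ∀ ψ φ g, ∑ z : G, f ψ z * f φ (z⁻¹ * g) =
      if ψ = φ then (Nat.card G : ℂ) * f ψ g / ψ.1 1 else 0 := by
    intro ψ φ g
    exact irr_convolution_twist ψ φ hk g
  have hkey : ∀ ψ φ θ₀, a ψ θ₀ * a φ θ₀ * (Nat.card G : ℂ) / θ₀.1 1 =
      if ψ = φ then (Nat.card G : ℂ) / ψ.1 1 * a ψ θ₀ else 0 := by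
    intro ψ φ θ₀
    have h1 := classInner_comb_irr (fun θ => a ψ θ * a φ θ * (Nat.card G : ℂ) / θ.1 1) θ₀
    have h2 : (fun g => ∑ θ : IrrCharacter G, (a ψ θ * a φ θ * (Nat.card G : ℂ) / θ.1 1) * θ.1 g) =
        fun g => if ψ = φ then (Nat.card G : ℂ) * f ψ g / ψ.1 1 else 0 := by
      ext g
      rw [← hconv, htw]
    rw [h2] at h1
    rw [← h1]
    by_cases h : ψ = φ
    · simp only [if_pos h]
      have h3 : (fun g => (Nat.card G : ℂ) * f ψ g / ψ.1 1) =
          fun g => ∑ θ : IrrCharacter G, ((Nat.card G : ℂ) / ψ.1 1 * a ψ θ) * θ.1 g := by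
        ext g
        rw [hexp ψ g, Finset.mul_sum, Finset.sum_div]
        apply Finset.sum_congr rfl
        intro θ _
        ring
      rw [h3, classInner_comb_irr]
    · simp only [if_neg h]
      unfold classInner
      simp
  -- supports
  set S : IrrCharacter G → Finset (IrrCharacter G) := fun ψ => Finset.univ.filter (fun θ => a ψ θ ≠ 0) with hS
  have hdisj : ∀ ψ φ, ψ ≠ φ → Disjoint (S ψ) (S φ) := by
    intro ψ φ hne
    rw [Finset.disjoint_left]
    intro θ h1 h2
    simp only [hS, Finset.mem_filter, Finset.mem_univ, true_and] at h1 h2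
    have := hkey ψ φ θ
    rw [if_neg hne] at this
    have hθ1 := irr_one_ne_zero θ
    have h3 : a ψ θ * a φ θ * (Nat.card G : ℂ) = 0 := by
      have := (div_eq_zero_iff.mp this).resolve_right hθ1
      exact this
    have h4 : a ψ θ * a φ θ = 0 := (mul_eq_zero.mp h3).resolve_right hGne
    rcases mul_eq_zero.mp h4 with h | h
    · exact h1 h
    · exact h2 h
  have hne : ∀ ψ, (S ψ).Nonempty := by
    intro ψ
    by_contra hemp
    rw [Finset.not_nonempty_iff_eq_empty] at hemp
    have h1 := hexp ψ 1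
    have h2 : ∀ θ : IrrCharacter G, a ψ θ = 0 := by
      intro θ
      by_contra h
      have : θ ∈ S ψ := by simp only [hS, Finset.mem_filter, Finset.mem_univ, true_and]; exact h
      rw [hemp] at this
      exact absurd this (Finset.notMem_empty _)
    simp only [h2, zero_mul, Finset.sum_const_zero] at h1
    simp only [hf, one_pow] at h1
    exact irr_one_ne_zero ψ h1
  have hcard1 : ∀ ψ, (S ψ).card = 1 := by
    have hbi : (Finset.univ.biUnion S).card = ∑ ψ : IrrCharacter G, (S ψ).card := by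
      apply Finset.card_biUnion
      intro ψ _ φ _ hne
      exact hdisj ψ φ hne
    have hle : ∑ ψ : IrrCharacter G, (S ψ).card ≤ Fintype.card (IrrCharacter G) := by
      rw [← hbi, ← Finset.card_univ]
      exact Finset.card_le_card (Finset.subset_univ _)
    intro ψ
    by_contra hne1
    have hpos : ∀ φ, 1 ≤ (S φ).card := fun φ => Finset.card_pos.mpr (hne φ)
    have h2 : 1 < (S ψ).card := by
      have := hpos ψ
      omega
    have hlt : ∑ φ : IrrCharacter G, 1 < ∑ φ : IrrCharacter G, (S φ).card := by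
      apply Finset.sum_lt_sum
      · intro φ _; exact hpos φ
      · exact ⟨ψ, Finset.mem_univ _, h2⟩
    simp only [Finset.sum_const, Finset.card_univ, smul_eq_mul, mul_one] at hlt
    omega
  obtain ⟨θ₁, hθ₁⟩ := Finset.card_eq_one.mp (hcard1 ψ₀)
  have hzero : ∀ θ, θ ≠ θ₁ → a ψ₀ θ = 0 := by
    intro θ hne'
    by_contra h
    have : θ ∈ S ψ₀ := by simp only [hS, Finset.mem_filter, Finset.mem_univ, true_and]; exact h
    rw [hθ₁, Finset.mem_singleton] at this
    exact hne' this
  have ha1 : a ψ₀ θ₁ ≠ 0 := by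
    have : θ₁ ∈ S ψ₀ := by rw [hθ₁]; exact Finset.mem_singleton_self _
    simp only [hS, Finset.mem_filter, Finset.mem_univ, true_and] at this
    exact this
  have hfeq : ∀ g, f ψ₀ g = a ψ₀ θ₁ * θ₁.1 g := by
    intro g
    rw [hexp ψ₀ g, Finset.sum_eq_single θ₁]
    · intro θ _ hne'
      rw [hzero θ hne', zero_mul]
    · intro h; exact absurd (Finset.mem_univ _) h
  have hval : a ψ₀ θ₁ = θ₁.1 1 / ψ₀.1 1 := by
    have := hkey ψ₀ ψ₀ θ₁
    rw [if_pos rfl] at this
    have hθ1 := irr_one_ne_zero θ₁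
    have hψ1 := irr_one_ne_zero ψ₀
    field_simp at this
    field_simp
    linear_combination this
  have hdeg : θ₁.1 1 = ψ₀.1 1 := by
    have h1 := hfeq 1
    simp only [hf, one_pow] at h1
    rw [hval] at h1
    have hψ1 := irr_one_ne_zero ψ₀
    have h2 : ψ₀.1 1 * ψ₀.1 1 = θ₁.1 1 * θ₁.1 1 := by
      field_simp at h1
      linear_combination h1
    rw [irr_one_eq_charDegree θ₁, irr_one_eq_charDegree ψ₀] at h2 ⊢
    have h3 : charDegree ψ₀.1 * charDegree ψ₀.1 = charDegree θ₁.1 * charDegree θ₁.1 := by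
      exact_mod_cast h2
    have h4 : charDegree ψ₀.1 = charDegree θ₁.1 := Nat.mul_self_inj.mp h3
    rw [h4]
  have hone : a ψ₀ θ₁ = 1 := by
    rw [hval, hdeg]
    exact div_self (irr_one_ne_zero ψ₀)
  have : (fun g => ψ₀.1 (g ^ k)) = θ₁.1 := by
    ext g
    have := hfeq g
    simp only [hf] at this
    rw [this, hone, one_mul]
  rw [this]
  exact θ₁.2


theorem galois_conj_isIrrCharacter [Finite G] {k : ℕ} (hk : k.Coprime (Nat.card G)) {χ : G → ℂ}
    (hχ : IsIrrCharacter G χ) : IsIrrCharacter G (fun g => χ (g ^ k)) := by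
  classical
  have : Fintype G := Fintype.ofFinite G
  rw [Nat.card_eq_fintype_card] at hk
  exact galois_conj_irr hk ⟨χ, hχ⟩

theorem galois_conj_isCharacter [Finite G] {k : ℕ} (hk : k.Coprime (Nat.card G)) {χ : G → ℂ}
    (hχ : IsCharacter G χ) : IsCharacter G (fun g => χ (g ^ k)) := by
  classical
  have : Fintype G := Fintype.ofFinite G
  have := irr_finite (G := G)
  have : Fintype (IrrCharacter G) := Fintype.ofFinite _
  obtain ⟨m, hm⟩ := isCharacter_decomp hχ
  have h1 : (fun g => χ (g ^ k)) = fun g => ∑ ψ : IrrCharacter G, (m ψ : ℂ) * ψ.1 (g ^ k) := by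
    ext g
    exact hm (g ^ k)
  rw [h1]
  apply isCharacter_sum
  intro ψ _
  exact isCharacter_nsmul (irr_isCharacter (galois_conj_isIrrCharacter hk ψ.2)) (m ψ)

end Cfsg.Agent.Lib.Helper8
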