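import Mathlib
import Cfsg.Prelude.Def_Characters
import Cfsg.Prelude.Def_CharExt
import Cfsg.Agent.Lib.Helper8.CharDet
import Cfsg.Agent.Lib.Helper8.CharGalois
import Cfsg.Agent.Lib.Helper8.CharIto
import Cfsg.Agent.Lib.Helper8.CharDegree

set_option autoImplicit false
set_option maxHeartbeats 1000000

universe u

namespace Cfsg.Agent.Lib.Helper8
open Cfsg
open scoped ComplexConjugate

variable {G : Type u} [Group G]

theorem detChar_zero [Finite G] : detChar (0 : G → ℂ) = fun _ => 1 := by
  let ρ : Representation ℂ G (Fin 0 → ℂ) := 1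
  have hchar : ρ.character = 0 := by
    ext g
    have h0 : ρ g = 0 := LinearMap.ext fun v => Subsingleton.elim _ _
    show LinearMap.trace ℂ _ (ρ g) = 0
    rw [h0, map_zero]
  rw [← hchar]
  ext g
  rw [detChar_eq_det]
  exact LinearMap.det_eq_one_of_finrank_eq_zero (by simp) _

theorem detChar_add [Finite G] {α β : G → ℂ} (hα : IsCharacter G α) (hβ : IsCharacter G β) :
    detChar (α + β) = detChar α * detChar β := by
  obtain ⟨n, ρ, rfl⟩ := hα
  obtain ⟨m, σ, rfl⟩ := hβ
  have hchar : (ρ.prod σ).character = ρ.character + σ.character := by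
    ext g
    simp only [Representation.character, Pi.add_apply]
    exact LinearMap.trace_prodMap' (ρ g) (σ g)
  ext g
  rw [← hchar, detChar_eq_det, Pi.mul_apply, detChar_eq_det, detChar_eq_det]
  exact LinearMap.det_prodMap (ρ g) (σ g)

theorem detChar_nsmul [Finite G] {α : G → ℂ} (hα : IsCharacter G α) (k : ℕ) :
    detChar (fun g => (k : ℂ) * α g) = fun g => detChar α g ^ k := by
  induction k with
  | zero =>
    have : (fun g => ((0 : ℕ) : ℂ) * α g) = 0 := by ext g; simp
    rw [this, detChar_zero]
    ext g; simp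
  | succ k ih =>
    have : (fun g => ((k + 1 : ℕ) : ℂ) * α g) = (fun g => (k : ℂ) * α g) + α := by
      ext g; simp only [Pi.add_apply]; push_cast; ring
    rw [this, detChar_add (isCharacter_nsmul hα k) hα, ih]
    ext g
    simp [pow_succ]

theorem detChar_sum [Finite G] {ι : Type*} (s : Finset ι) (m : ι → ℕ) (f : ι → G → ℂ)
    (h : ∀ i ∈ s, IsCharacter G (f i)) :
    detChar (fun g => ∑ i ∈ s, (m i : ℂ) * f i g) = fun g => ∏ i ∈ s, detChar (f i) g ^ m i := by
  classical
  induction s using Finset.induction_on with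
  | empty =>
    have : (fun g => ∑ i ∈ (∅ : Finset ι), (m i : ℂ) * f i g) = (0 : G → ℂ) := by ext g; simp
    rw [this, detChar_zero]
    ext g; simp
  | insert a s ha ih =>
    have hs : ∀ i ∈ s, IsCharacter G (f i) := fun i hi => h i (Finset.mem_insert_of_mem hi)
    have : (fun g => ∑ i ∈ insert a s, (m i : ℂ) * f i g) =
        (fun g => (m a : ℂ) * f a g) + (fun g => ∑ i ∈ s, (m i : ℂ) * f i g) := by
      ext g; simp only [Pi.add_apply]; rw [Finset.sum_insert ha]
    rw [this, detChar_add (isCharacter_nsmul (h a (Finset.mem_insert_self a s)) (m a))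
      (isCharacter_sum s _ (fun i hi => isCharacter_nsmul (hs i hi) (m i))),
      detChar_nsmul (h a (Finset.mem_insert_self a s)), ih hs]
    ext g
    simp only [Pi.mul_apply]
    rw [Finset.prod_insert ha]

/-- Irreducible characters of an abelian group are linear. -/
theorem irr_linear_of_comm [Finite G] (hG : ∀ a b : G, a * b = b * a) (μ : IrrCharacter G) :
    μ.1 1 = 1 := by
  classical
  have : Fintype G := Fintype.ofFinite G
  have h1 := ito_character (G := G) ⊤ (by intro a _ b _; exact hG a b) μ
  rw [Subgroup.index_top, Nat.dvd_one] at h1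
  rw [irr_one_eq_charDegree μ, h1, Nat.cast_one]

/-- The determinant of the `k`-th power conjugate of a character of an abelian group. -/
theorem detChar_galois_comm [Finite G] (hG : ∀ a b : G, a * b = b * a) {k : ℕ}
    (hk : k.Coprime (Nat.card G)) {α : G → ℂ} (hα : IsCharacter G α) (a : G) :
    detChar (fun g => α (g ^ k)) a = detChar α (a ^ k) := by
  classical
  have : Fintype G := Fintype.ofFinite G
  have := irr_finite (G := G)
  have : Fintype (IrrCharacter G) := Fintype.ofFinite _
  obtain ⟨m, hm⟩ := isCharacter_decomp hα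
  have hlin : ∀ μ : IrrCharacter G, ∃ f : G →* ℂˣ, μ.1 = linFun f :=
    fun μ => exists_linFun (irr_isCharacter μ.2) (irr_linear_of_comm hG μ)
  choose f hf using hlin
  have h1 : α = fun g => ∑ μ ∈ (Finset.univ : Finset (IrrCharacter G)), (m μ : ℂ) * linFun (f μ) g := by
    ext g
    rw [hm g]
    apply Finset.sum_congr rfl
    intro μ _
    rw [hf μ]
  have h2 : (fun g => α (g ^ k)) =
      fun g => ∑ μ ∈ (Finset.univ : Finset (IrrCharacter G)), (m μ : ℂ) * linFun (f μ ^ k) g := by
    ext g
    rw [hm (g ^ k)]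
    apply Finset.sum_congr rfl
    intro μ _
    rw [hf μ]
    simp [map_pow]
  rw [h2, detChar_sum _ _ _ (fun μ _ => linFun_isCharacter _)]
  conv_rhs => rw [h1, detChar_sum _ _ _ (fun μ _ => linFun_isCharacter _)]
  simp only [detChar_linFun]
  apply Finset.prod_congr rfl
  intro μ _
  simp [map_pow]

/-- The determinant of the `k`-th power conjugate of a character. -/
theorem detChar_galois [Finite G] {k : ℕ} (hk : k.Coprime (Nat.card G)) {χ : G → ℂ}
    (hχ : IsCharacter G χ) (x : G) :
    detChar (fun g => χ (g ^ k)) x = detChar χ (x ^ k) := by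
  classical
  set A := Subgroup.zpowers x with hA
  have hAcomm : ∀ a b : A, a * b = b * a := by
    intro a b
    apply Subtype.ext
    obtain ⟨i, hi⟩ := a.2
    obtain ⟨j, hj⟩ := b.2
    show (a : G) * b = b * a
    rw [← hi, ← hj, ← zpow_add, ← zpow_add, add_comm]
  have hkA : k.Coprime (Nat.card A) :=
    Nat.Coprime.coprime_dvd_right (Subgroup.card_subgroup_dvd_card A) hk
  have hχk : IsCharacter G (fun g => χ (g ^ k)) := galois_conj_isCharacter hk hχ
  have h1 := congrFun (detChar_comp A.subtype hχk) ⟨x, Subgroup.mem_zpowers x⟩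
  have h2 := congrFun (detChar_comp A.subtype hχ) (⟨x, Subgroup.mem_zpowers x⟩ ^ k)
  simp only [Function.comp_apply, Subgroup.subtype_apply, Subgroup.coe_pow] at h1 h2
  rw [← h1, ← h2]
  have h3 : ((fun g => χ (g ^ k)) ∘ A.subtype) = fun a : A => (χ ∘ A.subtype) (a ^ k) := by
    ext a
    simp
  rw [h3]
  exact detChar_galois_comm hAcomm hkA (isCharacter_comp A.subtype hχ) _

end Cfsg.Agent.Lib.Helper8
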