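import Mathlib
import Cfsg.Prelude.Def_Characters
import Cfsg.Agent.Lib.Helper8.CharLinHom
import Cfsg.Agent.Lib.Helper8.CharCosetAvg
import Cfsg.Agent.Lib.Helper8.CharDecomp
import Cfsg.Agent.S0856

set_option autoImplicit false

namespace Cfsg.Agent.Lib.Helper8
open Cfsg
open scoped ComplexConjugate

universe u

variable {G : Type u} [Group G]

theorem irr_linFun_mul [Fintype G] (b : G →* ℂˣ) {η : G → ℂ} (hη : IsIrrCharacter G η) :
    IsIrrCharacter G (linFun b * η) := by
  apply isIrrCharacter_of_norm_one (isCharacter_mul (linFun_isCharacter b) (irr_isCharacter hη))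
  have := classInner_mul_linear ⟨linFun b, linFun_isIrr b⟩ (linFun_one_eq b) η η
  simp only at this
  rw [this, irr_classInner hη hη, if_pos rfl]

/-- Gallagher: two extensions of an irreducible character of a normal subgroup differ by a linear
character of the quotient. -/
theorem gallagher_extension [Fintype G] (N : Subgroup G) [hN : N.Normal] [Fintype N]
    (η χ' : G → ℂ) (hη : IsIrrCharacter G η) (hχ' : IsIrrCharacter G χ')
    (hηN : IsIrrCharacter N (fun n : N => η n)) (hres : ∀ n : N, χ' n = η n) :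
    ∃ b : G →* ℂˣ, (∀ n : N, b n = 1) ∧ χ' = linFun b * η := by
  classical
  have hηcf : IsClassFunction G η := isClassFunction_of_isCharacter (irr_isCharacter hη)
  have h1irr : IsIrrCharacter N (fun _ => (1 : ℂ)) := principal_isIrrCharacter
  have hprodeq : (fun _ : N => (1 : ℂ)) * (fun n : N => η n) = fun n : N => η n := by
    ext n
    simp
  have hbij := Cfsg.Agent.S0856.result N (fun _ => (1 : ℂ)) (fun n : N => η n) h1irr hηN
    (fun _ _ => rfl)
    (fun g n => by
      show η (g * n * g⁻¹) = _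
      exact hηcf n g)
    (by rw [hprodeq]; exact hηN) η hη (fun n => rfl)
  have hmem : χ' ∈ {ψ' : G → ℂ | IsIrrCharacter G ψ' ∧
      classInner (indFun N ((fun _ : N => (1 : ℂ)) * (fun n : N => η n))) ψ' ≠ 0} := by
    refine ⟨hχ', ?_⟩
    rw [hprodeq, frobenius_reciprocity N _ _ (isClassFunction_of_isCharacter (irr_isCharacter hχ'))]
    have : (fun h : N => χ' h) = fun n : N => η n := funext hres
    rw [this, irr_classInner hηN hηN, if_pos rfl]
    exact one_ne_zero
  obtain ⟨β, ⟨hβirr, hβne⟩, hβeq⟩ := hbij.surjOn hmem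
  simp only at hβeq
  have hker := ker_of_over_principal hN ⟨β, hβirr⟩ hβne
  have hη1 : η 1 ≠ 0 := irr_one_ne_zero ⟨η, hη⟩
  have hβ1 : β 1 = 1 := by
    have h1 := congrFun hβeq 1
    rw [Pi.mul_apply] at h1
    have h2 := hres 1
    rw [OneMemClass.coe_one] at h2
    rw [h2] at h1
    have h3 : β 1 * η 1 = 1 * η 1 := by rw [h1, one_mul]
    exact mul_right_cancel₀ hη1 h3
  obtain ⟨b, rfl⟩ := exists_linFun (irr_isCharacter hβirr) hβ1
  refine ⟨b, ?_, hβeq.symm⟩
  intro n
  apply Units.ext
  have := hker n n.2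
  simp only at this
  show linFun b n = ((1 : ℂˣ) : ℂ)
  rw [this, hβ1]; rfl

end Cfsg.Agent.Lib.Helper8
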