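import Mathlib
import Cfsg.Prelude.Def_Characters
import Cfsg.Prelude.Def_CharExt
import Cfsg.Agent.Lib.Helper8.GlaubDet
import Cfsg.Agent.Lib.Helper8.CharLinExt
import Cfsg.Agent.S0862

set_option autoImplicit false
set_option maxHeartbeats 1000000

universe u

namespace Cfsg.Agent.Lib.Helper8
open Cfsg
open scoped ComplexConjugate

/-- Uniqueness of the extension whose determinantal order is prime to the index. -/
theorem canonical_ext_unique {Γ : Type u} [Group Γ] [Finite Γ] (G : Subgroup Γ) [hG : G.Normal]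
    (hcop : Nat.Coprime (Nat.card G) G.index)
    (χ₁ χ₂ : Γ → ℂ) (h₁ : IsIrrCharacter Γ χ₁) (h₂ : IsIrrCharacter Γ χ₂)
    (hirr : IsIrrCharacter G (fun g : G => χ₁ g))
    (hres : ∀ g : G, χ₁ g = χ₂ g) (hd₁ : Nat.Coprime (detOrder χ₁) G.index)
    (hd₂ : Nat.Coprime (detOrder χ₂) G.index) : χ₁ = χ₂ := by
  classical
  obtain ⟨δ₁, hδ₁⟩ := exists_detHom (irr_isCharacter h₁)
  obtain ⟨δ₂, hδ₂⟩ := exists_detHom (irr_isCharacter h₂)
  have hdetres : ∀ (ξ : Γ → ℂ), IsCharacter Γ ξ → ∀ n : G,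
      detChar ξ n = detChar (fun n : G => ξ n) n := by
    intro ξ hξ n
    have := detChar_comp G.subtype hξ
    exact (congrFun this n).symm
  have hfun : (fun g : G => χ₁ g) = fun g : G => χ₂ g := funext hres
  have hδδ : δ₁ = δ₂ := by
    apply extension_unique_coprime G δ₁ δ₂
    · intro n
      apply Units.ext
      have e1 : linFun δ₁ (n : Γ) = linFun δ₂ (n : Γ) := by
        rw [← hδ₁, ← hδ₂, hdetres χ₁ (irr_isCharacter h₁) n, hdetres χ₂ (irr_isCharacter h₂) n,
          hfun]
      exact e1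
    · have : orderOf δ₁ = detOrder χ₁ := by
        unfold detOrder; rw [hδ₁, orderOf_linFun]
      rw [this]; exact hd₁.symm
    · have : orderOf δ₂ = detOrder χ₂ := by
        unfold detOrder; rw [hδ₂, orderOf_linFun]
      rw [this]; exact hd₂.symm
  have hdeg : charDegree (fun g : G => χ₁ g) ∣ Nat.card G :=
    charDegree_dvd_card ⟨_, hirr⟩
  have huniq := Cfsg.Agent.S0862.result G (fun n : G => χ₁ n) hirr
    (charDegree (fun g : G => χ₁ g))
    (irr_one_eq_charDegree ⟨_, hirr⟩)
    (Nat.Coprime.coprime_dvd_right hdeg hcop.symm) ⟨χ₁, h₁, fun n => rfl⟩ (detChar χ₁)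
    ⟨by rw [hδ₁]; exact linFun_isCharacter δ₁, by rw [hδ₁]; exact linFun_one_eq δ₁⟩
    (fun n => hdetres χ₁ (irr_isCharacter h₁) n)
  apply huniq.unique
  · exact ⟨h₁, fun n => rfl, rfl⟩
  · refine ⟨h₂, fun n => (hres n).symm, ?_⟩
    rw [hδ₁, hδ₂, hδδ]

/-- The canonical extension is stable under the power maps `x ↦ x ^ k` with `k ≡ 1 mod |G|`. -/
theorem canonical_ext_pow_invariant {Γ : Type u} [Group Γ] [Finite Γ] (G : Subgroup Γ)
    [hG : G.Normal] (hcop : Nat.Coprime (Nat.card G) G.index)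
    (χh : Γ → ℂ) (hχh : IsIrrCharacter Γ χh) (hirr : IsIrrCharacter G (fun g : G => χh g))
    (hd : Nat.Coprime (detOrder χh) G.index)
    (k : ℕ) (hk : k.Coprime (Nat.card Γ)) (hk1 : k ≡ 1 [MOD Nat.card G]) :
    ∀ x, χh (x ^ k) = χh x := by
  classical
  have h₂ : IsIrrCharacter Γ (fun x => χh (x ^ k)) := galois_conj_isIrrCharacter hk hχh
  have hres : ∀ g : G, χh g = (fun x => χh (x ^ k)) g := by
    intro g
    show χh g = χh ((g : Γ) ^ k)
    have : (g : Γ) ^ k = g := by
      have h1 : g ^ k = g ^ 1 := by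
        rw [pow_eq_pow_iff_modEq]
        exact Nat.ModEq.of_dvd (orderOf_dvd_natCard g) hk1
      rw [pow_one] at h1
      have := congrArg Subtype.val h1
      simpa using this
    rw [this]
  have hd₂ : Nat.Coprime (detOrder (fun x => χh (x ^ k))) G.index := by
    obtain ⟨δ, hδ⟩ := exists_detHom (irr_isCharacter hχh)
    have h1 : detChar (fun x => χh (x ^ k)) = linFun (δ ^ k) := by
      ext x
      rw [detChar_galois hk (irr_isCharacter hχh), hδ]
      simp [map_pow]
    have h2 : orderOf δ ∣ Nat.card Γ := orderOf_dvd_of_pow_eq_one (hom_pow_card_eq_one δ)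
    have h3 : (orderOf δ).Coprime k := (Nat.Coprime.coprime_dvd_right h2 hk).symm
    have h4 : detOrder (fun x => χh (x ^ k)) = detOrder χh := by
      unfold detOrder
      rw [h1, hδ, orderOf_linFun, orderOf_linFun, h3.orderOf_pow]
    rw [h4]; exact hd
  have := canonical_ext_unique G hcop χh (fun x => χh (x ^ k)) hχh h₂ hirr hres hd hd₂
  intro x
  exact (congrFun this x).symm

end Cfsg.Agent.Lib.Helper8
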