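import Mathlib
import Cfsg.Prelude.Def_Characters

set_option autoImplicit false
set_option maxHeartbeats 1000000

universe u

namespace Cfsg.Agent.Lib.Helper8
open Cfsg

variable {Γ : Type u} [Group Γ]

/-- An exponent killing `G` and fixing `s`. -/
theorem exists_zpow_split [Finite Γ] (G : Subgroup Γ) (s : Γ)
    (hcop : Nat.Coprime (Nat.card G) (orderOf s)) :
    ∃ a : ℤ, (∀ c ∈ G, c ^ a = 1) ∧ s ^ a = s := by
  have hb := Int.gcd_eq_gcd_ab (Nat.card G) (orderOf s)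
  have hg : Int.gcd (Nat.card G : ℤ) (orderOf s : ℤ) = 1 := by
    rw [Int.gcd_natCast_natCast]; exact hcop
  rw [hg] at hb
  refine ⟨(Nat.card G : ℤ) * Int.gcdA (Nat.card G) (orderOf s), ?_, ?_⟩
  · intro c hc
    rw [zpow_mul, zpow_natCast]
    have : (⟨c, hc⟩ : G) ^ Nat.card G = 1 := pow_card_eq_one'
    have h2 := congrArg Subtype.val this
    simp only [Subgroup.coe_pow, OneMemClass.coe_one] at h2
    rw [h2, one_zpow]
  · have h1 : (Nat.card G : ℤ) * Int.gcdA (Nat.card G) (orderOf s) =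
        1 - (orderOf s : ℤ) * Int.gcdB (Nat.card G) (orderOf s) := by
      push_cast at hb
      linarith
    rw [h1, zpow_sub, zpow_one, zpow_mul, zpow_natCast, pow_orderOf_eq_one, one_zpow, inv_one,
      mul_one]

/-- If `c, c₀ ∈ G` commute with `s` and `z (c s) z⁻¹ = c₀ s`, then `z` commutes with `s`. -/
theorem commute_of_conj_eq [Finite Γ] (G : Subgroup Γ) (s : Γ)
    (hcop : Nat.Coprime (Nat.card G) (orderOf s)) {c c₀ z : Γ} (hc : c ∈ G) (hc₀ : c₀ ∈ G)
    (hcs : c * s = s * c) (hc₀s : c₀ * s = s * c₀) (h : z * (c * s) * z⁻¹ = c₀ * s) :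
    z * s * z⁻¹ = s := by
  obtain ⟨a, ha, hsa⟩ := exists_zpow_split G s hcop
  have h1 : (z * (c * s) * z⁻¹) ^ a = (c₀ * s) ^ a := by rw [h]
  have hc1 : Commute c s := hcs
  have hc2 : Commute c₀ s := hc₀s
  rw [conj_zpow, hc1.mul_zpow, hc2.mul_zpow, ha c hc, ha c₀ hc₀, hsa, one_mul] at h1
  try rw [one_mul] at h1
  exact h1

/-- Coset sum formula: for a class function `F`, the sum over the coset `G s` is `|G|/|C|` times
the sum over `C s`. -/
theorem coset_sum_formula [Fintype Γ] (G : Subgroup Γ) [hG : G.Normal] (s : Γ)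
    (hcop : Nat.Coprime (Nat.card G) (orderOf s)) (C : Subgroup Γ)
    (hC : ∀ x, x ∈ C ↔ x ∈ G ∧ x * s = s * x) [Fintype G] [Fintype C]
    (F : Γ → ℂ) (hF : IsClassFunction Γ F) :
    (Nat.card C : ℂ) * ∑ g : G, F ((g : Γ) * s) = (Nat.card G : ℂ) * ∑ c : C, F ((c : Γ) * s) := by
  classical
  have hCG : ∀ c : C, (c : Γ) ∈ G := fun c => ((hC c).mp c.2).1
  have hCs : ∀ c : C, (c : Γ) * s = s * c := fun c => ((hC c).mp c.2).2
  let Φ : G × C → G := fun p =>
    ⟨(p.1 : Γ) * p.2 * (s * (p.1 : Γ)⁻¹ * s⁻¹),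
      G.mul_mem (G.mul_mem p.1.2 (hCG p.2)) (hG.conj_mem _ (G.inv_mem p.1.2) s)⟩
  have hΦ : ∀ p : G × C, ((Φ p : G) : Γ) * s = (p.1 : Γ) * ((p.2 : Γ) * s) * (p.1 : Γ)⁻¹ := by
    intro p
    show (p.1 : Γ) * p.2 * (s * (p.1 : Γ)⁻¹ * s⁻¹) * s = _
    group
  -- fibre bound
  have hfib : ∀ g' : G, (Finset.univ.filter (fun p : G × C => Φ p = g')).card ≤ Nat.card C := by
    intro g'
    by_cases hne : (Finset.univ.filter (fun p : G × C => Φ p = g')).Nonempty
    swap
    · rw [Finset.not_nonempty_iff_eq_empty] at hne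
      rw [hne]; simp
    obtain ⟨p₀, hp₀⟩ := hne
    rw [Finset.mem_filter] at hp₀
    have hkey : ∀ p : G × C, Φ p = g' →
        ((p₀.1 : Γ)⁻¹ * p.1) ∈ C ∧
          (p.2 : Γ) = ((p₀.1 : Γ)⁻¹ * p.1)⁻¹ * p₀.2 * ((p₀.1 : Γ)⁻¹ * p.1) := by
      intro p hp
      have h1 : (p.1 : Γ) * ((p.2 : Γ) * s) * (p.1 : Γ)⁻¹ =
          (p₀.1 : Γ) * ((p₀.2 : Γ) * s) * (p₀.1 : Γ)⁻¹ := by
        rw [← hΦ p, ← hΦ p₀, hp, hp₀.2]
      set z : Γ := (p₀.1 : Γ)⁻¹ * p.1 with hz
      have h2 : z * ((p.2 : Γ) * s) * z⁻¹ = (p₀.2 : Γ) * s := by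
        have : z * ((p.2 : Γ) * s) * z⁻¹ =
            (p₀.1 : Γ)⁻¹ * ((p.1 : Γ) * ((p.2 : Γ) * s) * (p.1 : Γ)⁻¹) * (p₀.1 : Γ) := by
          rw [hz]; group
        rw [this, h1]; group
      have h3 : z * s * z⁻¹ = s :=
        commute_of_conj_eq G s hcop (hCG p.2) (hCG p₀.2) (hCs p.2) (hCs p₀.2) h2
      have hzG : z ∈ G := G.mul_mem (G.inv_mem p₀.1.2) p.1.2
      have hzs : z * s = s * z := by
        have : z * s = (z * s * z⁻¹) * z := by group
        rw [this, h3]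
      refine ⟨(hC z).mpr ⟨hzG, hzs⟩, ?_⟩
      have h4 : z * (p.2 : Γ) * z⁻¹ = p₀.2 := by
        have : z * ((p.2 : Γ) * s) * z⁻¹ = (z * (p.2 : Γ) * z⁻¹) * (z * s * z⁻¹) := by group
        rw [this, h3] at h2
        exact mul_right_cancel h2
      rw [← h4]; group
    let f : G × C → C := fun p =>
      if h : ((p₀.1 : Γ)⁻¹ * p.1) ∈ C then ⟨_, h⟩ else 1
    have hinj : Set.InjOn f ↑(Finset.univ.filter (fun p : G × C => Φ p = g')) := by
      intro p hp q hq hpq
      simp only [Finset.coe_filter, Finset.mem_univ, true_and, Set.mem_ofPred_eq] at hp hq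
      obtain ⟨hp1, hp2⟩ := hkey p hp
      obtain ⟨hq1, hq2⟩ := hkey q hq
      simp only [f, dif_pos hp1, dif_pos hq1] at hpq
      have h5 : (p₀.1 : Γ)⁻¹ * p.1 = (p₀.1 : Γ)⁻¹ * q.1 := congrArg Subtype.val hpq
      have h6 : (p.1 : Γ) = q.1 := mul_left_cancel h5
      apply Prod.ext
      · exact Subtype.ext h6
      · apply Subtype.ext
        rw [hp2, hq2, h5]
    calc (Finset.univ.filter (fun p : G × C => Φ p = g')).card
        ≤ (Finset.univ : Finset C).card :=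
          Finset.card_le_card_of_injOn f (fun _ _ => Finset.mem_univ _) hinj
      _ = Nat.card C := by rw [Finset.card_univ, Nat.card_eq_fintype_card]
  -- all fibres have exactly |C| elements
  have htotal : ∑ g' : G, (Finset.univ.filter (fun p : G × C => Φ p = g')).card =
      ∑ _g' : G, Nat.card C := by
    rw [← Finset.card_eq_sum_card_fiberwise (f := Φ) (s := Finset.univ) (t := Finset.univ)
      (fun _ _ => Finset.mem_univ _)]
    simp [Finset.card_univ, Nat.card_eq_fintype_card, Fintype.card_prod]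
  have hfibeq : ∀ g' : G, (Finset.univ.filter (fun p : G × C => Φ p = g')).card = Nat.card C := by
    have := (Finset.sum_eq_sum_iff_of_le (s := (Finset.univ : Finset G))
      (f := fun g' => (Finset.univ.filter (fun p : G × C => Φ p = g')).card)
      (g := fun _ => Nat.card C) (fun g' _ => hfib g')).mp htotal
    intro g'
    exact this g' (Finset.mem_univ _)
  -- double counting
  have h1 : ∑ p : G × C, F ((Φ p : Γ) * s) = (Nat.card G : ℂ) * ∑ c : C, F ((c : Γ) * s) := by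
    rw [Fintype.sum_prod_type]
    simp_rw [hΦ]
    have : ∀ (g : G) (c : C), F ((g : Γ) * ((c : Γ) * s) * (g : Γ)⁻¹) = F ((c : Γ) * s) :=
      fun g c => hF _ _
    simp_rw [this]
    rw [Finset.sum_const, Finset.card_univ, nsmul_eq_mul, Nat.card_eq_fintype_card]
  have h2 : ∑ p : G × C, F ((Φ p : Γ) * s) = (Nat.card C : ℂ) * ∑ g : G, F ((g : Γ) * s) := by
    rw [← Finset.sum_fiberwise (Finset.univ : Finset (G × C)) Φ (fun p => F ((Φ p : Γ) * s))]
    rw [Finset.mul_sum]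
    apply Finset.sum_congr rfl
    intro g' _
    rw [Finset.sum_congr rfl (g := fun _ => F ((g' : Γ) * s))]
    · rw [Finset.sum_const, nsmul_eq_mul, hfibeq g']
    · intro p hp
      rw [Finset.mem_filter] at hp
      rw [hp.2]
  rw [← h1, ← h2]

end Cfsg.Agent.Lib.Helper8
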