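import Mathlib

set_option autoImplicit false
set_option maxHeartbeats 1000000

namespace Cfsg.Agent.Lib.Helper8

open Polynomial in
/-- If an integer polynomial takes the same value `a` at all primitive `n`-th roots of unity,
then `a` is an integer. -/
theorem int_of_const_on_primitiveRoots (n : ℕ) (hn : 0 < n) (P : ℤ[X]) (a : ℂ)
    (h : ∀ η : ℂ, IsPrimitiveRoot η n → (P.map (Int.castRingHom ℂ)).eval η = a) :
    ∃ k : ℤ, a = k := by
  set Φ := cyclotomic n ℤ with hΦ
  have hmonic : Φ.Monic := cyclotomic.monic n ℤ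
  set R := P %ₘ Φ with hR
  have hdiv : R + Φ * (P /ₘ Φ) = P := modByMonic_add_div P Φ
  have hRη : ∀ η : ℂ, IsPrimitiveRoot η n → (R.map (Int.castRingHom ℂ)).eval η = a := by
    intro η hη
    have h1 := h η hη
    rw [← hdiv, Polynomial.map_add, Polynomial.map_mul, eval_add, eval_mul, hΦ,
      map_cyclotomic_int] at h1
    have h2 : (cyclotomic n ℂ).eval η = 0 := (isRoot_cyclotomic_iff_charZero hn).mpr hη
    rw [h2, zero_mul, add_zero] at h1
    exact h1
  have hdeg : R.natDegree < Nat.totient n ∨ R = 0 := by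
    by_cases hR0 : R = 0
    · exact Or.inr hR0
    · left
      have hne1 : Φ ≠ 1 := by
        intro h1
        have := natDegree_cyclotomic n ℤ
        rw [← hΦ, h1, natDegree_one] at this
        exact (Nat.totient_pos.mpr hn).ne this
      have := natDegree_modByMonic_lt P hmonic hne1
      rw [hΦ, natDegree_cyclotomic] at this
      exact this
  set Q : ℂ[X] := R.map (Int.castRingHom ℂ) - C a with hQ
  have hQ0 : Q = 0 := by
    apply eq_zero_of_natDegree_lt_card_of_eval_eq_zero' Q (primitiveRoots n ℂ)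
    · intro η hη
      rw [mem_primitiveRoots hn] at hη
      rw [hQ, eval_sub, eval_C, hRη η hη, sub_self]
    · rw [Complex.card_primitiveRoots]
      rcases hdeg with hd | hd
      · calc Q.natDegree ≤ max (R.map (Int.castRingHom ℂ)).natDegree (C a).natDegree :=
              natDegree_sub_le _ _
          _ ≤ R.natDegree := by
              rw [natDegree_C]
              exact max_le natDegree_map_le (Nat.zero_le _)
          _ < Nat.totient n := hd
      · rw [hQ, hd, Polynomial.map_zero, zero_sub, natDegree_neg, natDegree_C]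
        exact Nat.totient_pos.mpr hn
  refine ⟨R.coeff 0, ?_⟩
  have h1 : (R.map (Int.castRingHom ℂ)).coeff 0 = (C a).coeff 0 := by
    rw [sub_eq_zero.mp hQ0]
  rw [coeff_map, coeff_C_zero] at h1
  exact h1.symm

open Polynomial in
/-- Integrality of a combination of powers of roots of unity that is constant along the Galois
orbit. -/
theorem int_of_galois_stable_sum (n : ℕ) (hn : 0 < n) {ι : Type*} (s : Finset ι) (m : ι → ℤ)
    (z : ι → ℂ) (hz : ∀ i ∈ s, z i ^ n = 1) (a : ℂ)
    (h : ∀ j : ℕ, j.Coprime n → ∑ i ∈ s, (m i : ℂ) * z i ^ j = a) : ∃ k : ℤ, a = k := by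
  classical
  haveI : NeZero n := ⟨hn.ne'⟩
  set ζ : ℂ := Complex.exp (2 * Real.pi * Complex.I / n) with hζdef
  have hζ : IsPrimitiveRoot ζ n := Complex.isPrimitiveRoot_exp n hn.ne'
  have hex : ∀ i : ι, ∃ e : ℕ, i ∈ s → ζ ^ e = z i := by
    intro i
    by_cases hi : i ∈ s
    · obtain ⟨e, _, he⟩ := hζ.eq_pow_of_pow_eq_one (hz i hi)
      exact ⟨e, fun _ => he⟩
    · exact ⟨0, fun h => absurd h hi⟩
  choose e he using hex
  set P : ℤ[X] := ∑ i ∈ s, C (m i) * X ^ e i with hP
  apply int_of_const_on_primitiveRoots n hn P a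
  intro η hη
  obtain ⟨j, _, hj⟩ := hζ.eq_pow_of_pow_eq_one hη.pow_eq_one
  have hjcop : j.Coprime n := by
    rw [← hζ.pow_iff_coprime hn j, hj]; exact hη
  rw [← h j hjcop, hP, Polynomial.map_sum, eval_finset_sum]
  apply Finset.sum_congr rfl
  intro i hi
  rw [Polynomial.map_mul, Polynomial.map_pow, map_C, map_X, eval_mul, eval_C, eval_pow, eval_X,
    ← hj, ← he i hi]
  simp only [eq_intCast]
  rw [← pow_mul, ← pow_mul, mul_comm (e i) j]
  try ring

end Cfsg.Agent.Lib.Helper8
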