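import Mathlib
import Cfsg.Prelude.Def_Blocks
import Cfsg.Agent.Lib.Helper8.CharCosetAvg

set_option autoImplicit false

namespace Cfsg.Agent.Lib.Helper8
open Cfsg
open scoped ComplexConjugate

variable {G : Type*} [Group G]

/-- Average of a function over the cosets of a subgroup. -/
noncomputable def cosetAvg (N : Subgroup G) [Fintype N] (Ψ : G → ℂ) : G → ℂ :=
  fun g => (Nat.card N : ℂ)⁻¹ * ∑ n : N, Ψ ((n : G) * g)

theorem cosetAvg_classFunction (N : Subgroup G) [hN : N.Normal] [Fintype N] {Ψ : G → ℂ}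
    (hΨ : IsClassFunction G Ψ) : IsClassFunction G (cosetAvg N Ψ) := by
  intro g h
  unfold cosetAvg
  congr 1
  apply Fintype.sum_equiv (@MulAut.conjNormal G _ N hN h⁻¹).toEquiv
  intro n
  have h1 : (((@MulAut.conjNormal G _ N hN h⁻¹).toEquiv n : N) : G) = h⁻¹ * n * h := by
    simp
  rw [h1]
  have h2 : (n : G) * (h * g * h⁻¹) = h * ((h⁻¹ * n * h) * g) * h⁻¹ := by group
  rw [h2, hΨ]

theorem cosetAvg_right_invariant (N : Subgroup G) [hN : N.Normal] [Fintype N] (Ψ : G → ℂ) :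
    ∀ g : G, ∀ n ∈ N, cosetAvg N Ψ (g * n) = cosetAvg N Ψ g := by
  intro g n₀ hn₀
  unfold cosetAvg
  congr 1
  apply Fintype.sum_equiv (Equiv.mulRight (⟨g * n₀ * g⁻¹, hN.conj_mem n₀ hn₀ g⟩ : N))
  intro n
  simp only [Equiv.coe_mulRight, Subgroup.coe_mul]
  congr 1
  group

theorem irr_left_invariant [Finite G] (N : Subgroup G) [hN : N.Normal] [Fintype N] (β : IrrCharacter G)
    (hβ : ∀ x ∈ N, β.1 x = β.1 1) (n : N) (g : G) : β.1 ((n : G) * g) = β.1 g := by
  have := (irr_normal_avg β N).1 hβ g (g⁻¹ * n * g) (by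
    have := hN.conj_mem (n : G) n.2 g⁻¹
    rwa [inv_inv] at this)
  rw [← this]
  congr 1
  group

theorem classInner_cosetAvg [Fintype G] (N : Subgroup G) [hN : N.Normal] [Fintype N] (Ψ : G → ℂ)
    (β : IrrCharacter G) (hβ : ∀ x ∈ N, β.1 x = β.1 1) :
    classInner (cosetAvg N Ψ) β.1 = classInner Ψ β.1 := by
  have hNne : (Nat.card N : ℂ) ≠ 0 := Nat.cast_ne_zero.mpr Nat.card_pos.ne'
  unfold classInner
  congr 1
  have h1 : ∀ g : G, cosetAvg N Ψ g * conj (β.1 g) =
      (Nat.card N : ℂ)⁻¹ * ∑ n : N, (Ψ ((n : G) * g) * conj (β.1 ((n : G) * g))) := by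
    intro g
    unfold cosetAvg
    rw [mul_assoc, Finset.sum_mul]
    congr 1
    apply Finset.sum_congr rfl
    intro n _
    rw [irr_left_invariant N β hβ n g]
  rw [Finset.sum_congr rfl (fun g _ => h1 g), ← Finset.mul_sum, Finset.sum_comm]
  have h2 : ∀ n : N, ∑ g : G, Ψ ((n : G) * g) * conj (β.1 ((n : G) * g)) =
      ∑ x : G, Ψ x * conj (β.1 x) := by
    intro n
    exact Equiv.sum_comp (Equiv.mulLeft (n : G)) (fun x => Ψ x * conj (β.1 x))
  rw [Finset.sum_congr rfl (fun n _ => h2 n), Finset.sum_const, Finset.card_univ, nsmul_eq_mul,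
    ← Nat.card_eq_fintype_card, ← mul_assoc, inv_mul_cancel₀ hNne, one_mul]

theorem cosetAvg_isCharacter [Fintype G] (N : Subgroup G) [hN : N.Normal] [Fintype N] {Ψ : G → ℂ}
    (hΨ : IsCharacter G Ψ) : IsCharacter G (cosetAvg N Ψ) := by
  classical
  have hΨcf : IsClassFunction G Ψ := isClassFunction_of_isCharacter hΨ
  apply isCharacter_of_classInner_nat (cosetAvg_classFunction N hΨcf)
  intro β
  by_cases hβ : ∀ x ∈ N, β.1 x = β.1 1
  · rw [classInner_cosetAvg N Ψ β hβ]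
    exact classInner_character_irr_nat hΨ β.2
  · push Not at hβ
    refine ⟨0, ?_⟩
    rw [classInner_coset_invariant (cosetAvg_right_invariant N Ψ) β hβ]
    simp

theorem sum_cosetAvg [Fintype G] (N : Subgroup G) [Fintype N] (Ψ : G → ℂ) :
    ∑ g : G, cosetAvg N Ψ g = ∑ g : G, Ψ g := by
  have hNne : (Nat.card N : ℂ) ≠ 0 := Nat.cast_ne_zero.mpr Nat.card_pos.ne'
  unfold cosetAvg
  rw [← Finset.mul_sum, Finset.sum_comm]
  have h2 : ∀ n : N, ∑ g : G, Ψ ((n : G) * g) = ∑ x : G, Ψ x := by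
    intro n
    exact Equiv.sum_comp (Equiv.mulLeft (n : G)) Ψ
  rw [Finset.sum_congr rfl (fun n _ => h2 n), Finset.sum_const, Finset.card_univ, nsmul_eq_mul,
    ← Nat.card_eq_fintype_card, ← mul_assoc, inv_mul_cancel₀ hNne, one_mul]

theorem card_le_sum_of_one_le_prod {ι : Type*} [Fintype ι] (z : ι → ℝ) (hz : ∀ i, 0 ≤ z i)
    (hprod : 1 ≤ ∏ i, z i) : (Fintype.card ι : ℝ) ≤ ∑ i, z i := by
  have hpos : ∀ i, 0 < z i := by
    intro i
    rcases (hz i).lt_or_eq with h | h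
    · exact h
    · exfalso
      have : ∏ i, z i = 0 := Finset.prod_eq_zero (Finset.mem_univ i) h.symm
      rw [this] at hprod
      linarith
  have h1 : ∀ i, Real.log (z i) ≤ z i - 1 := fun i =>
    Real.log_le_sub_one_of_pos (hpos i)
  have h2 : ∑ i, Real.log (z i) = Real.log (∏ i, z i) := by
    rw [Real.log_prod]
    intro i _
    exact (hpos i).ne'
  have h3 : 0 ≤ Real.log (∏ i, z i) := Real.log_nonneg hprod
  have h4 : ∑ i, Real.log (z i) ≤ ∑ i, (z i - 1) := Finset.sum_le_sum (fun i _ => h1 i)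
  rw [Finset.sum_sub_distrib] at h4
  simp only [Finset.sum_const, Finset.card_univ, nsmul_eq_mul, mul_one] at h4
  linarith

end Cfsg.Agent.Lib.Helper8
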