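import Mathlib
import Cfsg.Prelude.Def_Characters
import Cfsg.Agent.Lib.Helper8.CharGallExt
import Cfsg.Agent.Lib.Helper8.CharCosetAvg
import Cfsg.Agent.Lib.Helper8.CharCosetAvg2
import Cfsg.Agent.Lib.Helper8.CharAbelQuot

set_option autoImplicit false
set_option maxHeartbeats 1000000

universe u

namespace Cfsg.Agent.Lib.Helper8
open Cfsg
open scoped ComplexConjugate

variable {Γ : Type u} [Group Γ]

/-- Gallagher injectivity: `β χ = χ` for a linear `β` trivial on `N` forces `β = 1`. -/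
theorem gallagher_injective [Fintype Γ] (N : Subgroup Γ) [hN : N.Normal] [Fintype N]
    (η : Γ → ℂ) (hη : IsIrrCharacter Γ η) (hηN : IsIrrCharacter N (fun n : N => η n))
    (β : IrrCharacter Γ) (hβ : ∀ x ∈ N, β.1 x = β.1 1) (h : β.1 * η = η) :
    β.1 = fun _ => 1 := by
  classical
  have hηcf : IsClassFunction Γ η := isClassFunction_of_isCharacter (irr_isCharacter hη)
  have h1irr : IsIrrCharacter N (fun _ => (1 : ℂ)) := principal_isIrrCharacter
  have hprodeq : (fun _ : N => (1 : ℂ)) * (fun n : N => η n) = fun n : N => η n := by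
    ext n
    simp
  have hbij := Cfsg.Agent.S0856.result N (fun _ => (1 : ℂ)) (fun n : N => η n) h1irr hηN
    (fun _ _ => rfl)
    (fun g n => by
      show η (g * n * g⁻¹) = _
      exact hηcf n g)
    (by rw [hprodeq]; exact hηN) η hη (fun n => rfl)
  have h1 : β.1 ∈ {β : Γ → ℂ | IsIrrCharacter Γ β ∧
      classInner (indFun N (fun _ : N => (1 : ℂ))) β ≠ 0} :=
    ⟨β.2, over_principal_of_ker β hβ⟩
  have h2 : (fun _ : Γ => (1 : ℂ)) ∈ {β : Γ → ℂ | IsIrrCharacter Γ β ∧
      classInner (indFun N (fun _ : N => (1 : ℂ))) β ≠ 0} :=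
    ⟨principal_isIrrCharacter, over_principal_of_ker ⟨_, principal_isIrrCharacter⟩ (fun _ _ => rfl)⟩
  apply hbij.injOn h1 h2
  show β.1 * η = (fun _ => (1 : ℂ)) * η
  rw [h]
  ext x
  simp

/-- Core of the coset orthogonality relation. -/
theorem coset_orth_core [Fintype Γ] [Fintype (IrrCharacter Γ)] (G : Subgroup Γ) [hG : G.Normal]
    [Fintype G] (χh ψh : Γ → ℂ) (hχh : IsClassFunction Γ χh) (hψh : IsClassFunction Γ ψh)
    [DecidablePred (fun β : IrrCharacter Γ => ∀ x ∈ G, β.1 x = β.1 1)] (x₀ : Γ) :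
    ∑ g : G, χh ((g : Γ) * x₀) * conj (ψh ((g : Γ) * x₀)) =
      ∑ β ∈ Finset.univ.filter (fun β : IrrCharacter Γ => ∀ x ∈ G, β.1 x = β.1 1),
        ((Nat.card G : ℂ) * classInner χh (β.1 * ψh)) * β.1 x₀ := by
  classical
  set K : Γ → ℂ := fun y => χh y * conj (ψh y) with hK
  have hKcf : IsClassFunction Γ K := by
    intro y h
    simp only [hK]
    rw [hχh y h, hψh y h]
  set A : Γ → ℂ := fun x => ∑ g : G, K ((g : Γ) * x) with hA
  have hAcf : IsClassFunction Γ A := by
    intro x y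
    simp only [hA]
    apply Fintype.sum_equiv (@MulAut.conjNormal Γ _ G hG y⁻¹).toEquiv
    intro g
    have : (((@MulAut.conjNormal Γ _ G hG y⁻¹) g : G) : Γ) * x =
        y⁻¹ * ((g : Γ) * (y * x * y⁻¹)) * (y⁻¹)⁻¹ := by
      rw [MulAut.conjNormal_apply]
      group
    simp only [MulEquiv.toEquiv_eq_coe, EquivLike.coe_coe]
    rw [this, hKcf]
  have hAinv : ∀ x : Γ, ∀ n ∈ G, A (x * n) = A x := by
    intro x n hn
    simp only [hA]
    apply Fintype.sum_equiv (Equiv.mulRight (⟨x * n * x⁻¹, hG.conj_mem n hn x⟩ : G))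
    intro g
    simp only [Equiv.coe_mulRight, Subgroup.coe_mul]
    congr 1
    group
  have hexp := classFunction_coset_expansion (N := G) hAcf hAinv
  have hcoef : ∀ β : IrrCharacter Γ, (∀ x ∈ G, β.1 x = β.1 1) →
      classInner A β.1 = (Nat.card G : ℂ) * classInner χh (β.1 * ψh) := by
    intro β hβ
    unfold classInner
    have h1 : ∑ x : Γ, A x * conj (β.1 x) = ∑ g : G, ∑ y : Γ, K y * conj (β.1 y) := by
      simp only [hA]
      simp_rw [Finset.sum_mul]
      rw [Finset.sum_comm]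
      apply Finset.sum_congr rfl
      intro g _
      apply Fintype.sum_equiv (Equiv.mulLeft (g : Γ))
      intro x
      simp only [Equiv.coe_mulLeft]
      rw [irr_left_invariant G β hβ g x]
    rw [h1, Finset.sum_const, Finset.card_univ, nsmul_eq_mul, ← Nat.card_eq_fintype_card]
    have h2 : ∑ y : Γ, K y * conj (β.1 y) = ∑ y : Γ, χh y * conj ((β.1 * ψh) y) := by
      apply Finset.sum_congr rfl
      intro y _
      simp only [hK, Pi.mul_apply, map_mul]
      ring
    rw [h2]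
    ring
  have := congrFun hexp x₀
  simp only [hA] at this
  rw [this, Finset.sum_apply]
  apply Finset.sum_congr rfl
  intro β hβ
  rw [Finset.mem_filter] at hβ
  rw [Pi.smul_apply, smul_eq_mul]
  congr 1
  exact hcoef β hβ.2

theorem linear_mul_irr [Fintype Γ] (G : Subgroup Γ) [hG : G.Normal] [Fintype G]
    (hab : ∀ x y : Γ, x * y * x⁻¹ * y⁻¹ ∈ G) (β : IrrCharacter Γ)
    (hβ : ∀ x ∈ G, β.1 x = β.1 1) {ψh : Γ → ℂ} (hψh : IsIrrCharacter Γ ψh) :
    IsIrrCharacter Γ (β.1 * ψh) ∧ ∀ g : G, (β.1 * ψh) g = ψh g := by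
  have hβ1 : β.1 1 = 1 := linear_of_over_principal hG hab β (over_principal_of_ker β hβ)
  obtain ⟨b, hb⟩ := exists_linFun (irr_isCharacter β.2) hβ1
  refine ⟨by rw [hb]; exact irr_linFun_mul b hψh, ?_⟩
  intro g
  rw [Pi.mul_apply, hβ g g.2, hβ1, one_mul]

theorem coset_orth_ne [Fintype Γ] (G : Subgroup Γ) [hG : G.Normal] [Fintype G]
    (hab : ∀ x y : Γ, x * y * x⁻¹ * y⁻¹ ∈ G)
    (χh ψh : Γ → ℂ) (hχh : IsIrrCharacter Γ χh) (hψh : IsIrrCharacter Γ ψh)
    (hne : (fun g : G => χh g) ≠ (fun g : G => ψh g)) (x₀ : Γ) :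
    ∑ g : G, χh ((g : Γ) * x₀) * conj (ψh ((g : Γ) * x₀)) = 0 := by
  classical
  have := irr_finite (G := Γ)
  have : Fintype (IrrCharacter Γ) := Fintype.ofFinite _
  rw [coset_orth_core G χh ψh (isClassFunction_of_isCharacter (irr_isCharacter hχh))
    (isClassFunction_of_isCharacter (irr_isCharacter hψh)) x₀]
  apply Finset.sum_eq_zero
  intro β hβ
  rw [Finset.mem_filter] at hβ
  obtain ⟨h1, h2⟩ := linear_mul_irr G hab β hβ.2 hψh
  rw [irr_classInner hχh h1, if_neg, mul_zero, zero_mul]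
  intro heq
  apply hne
  ext g
  rw [heq, h2 g]

theorem coset_orth_self [Fintype Γ] (G : Subgroup Γ) [hG : G.Normal] [Fintype G]
    (hab : ∀ x y : Γ, x * y * x⁻¹ * y⁻¹ ∈ G)
    (χh : Γ → ℂ) (hχh : IsIrrCharacter Γ χh) (hχ : IsIrrCharacter G (fun g : G => χh g))
    (x₀ : Γ) :
    ∑ g : G, χh ((g : Γ) * x₀) * conj (χh ((g : Γ) * x₀)) = (Nat.card G : ℂ) := by
  classical
  have := irr_finite (G := Γ)
  have : Fintype (IrrCharacter Γ) := Fintype.ofFinite _
  rw [coset_orth_core G χh χh (isClassFunction_of_isCharacter (irr_isCharacter hχh))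
    (isClassFunction_of_isCharacter (irr_isCharacter hχh)) x₀]
  rw [Finset.sum_eq_single (⟨fun _ => 1, principal_isIrrCharacter⟩ : IrrCharacter Γ)]
  · have : ((fun _ : Γ => (1 : ℂ)) * χh) = χh := by ext x; simp
    simp only [this]
    rw [irr_classInner hχh hχh, if_pos rfl]
    ring
  · intro β hβ hne
    rw [Finset.mem_filter] at hβ
    obtain ⟨h1, h2⟩ := linear_mul_irr G hab β hβ.2 hχh
    rw [irr_classInner hχh h1, if_neg, mul_zero, zero_mul]
    intro heq
    apply hne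
    apply Subtype.ext
    exact gallagher_injective G χh hχh hχ β hβ.2 heq.symm
  · intro h
    exfalso
    apply h
    rw [Finset.mem_filter]
    exact ⟨Finset.mem_univ _, fun _ _ => rfl⟩

end Cfsg.Agent.Lib.Helper8
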