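import Mathlib

set_option autoImplicit false

namespace Cfsg.Agent.Lib.Helper8

/-- Extending a homomorphism from a normal subgroup with cyclic quotient. -/
theorem ext_hom_cyclic {G H : Type*} [Group G] [Group H] (N : Subgroup G) [hN : N.Normal] (g₀ : G)
    (m : ℕ) (hm : ∀ i : ℤ, g₀ ^ i ∈ N ↔ (m : ℤ) ∣ i)
    (hgen : ∀ x : G, ∃ i : ℤ, x * g₀ ^ (-i) ∈ N)
    (φ : N →* H) (M : H)
    (hconj : ∀ n : N, M * φ n * M⁻¹ = φ ⟨g₀ * n * g₀⁻¹, hN.conj_mem n n.2 g₀⟩)
    (hmem : g₀ ^ m ∈ N) (hpow : M ^ m = φ ⟨g₀ ^ m, hmem⟩) :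
    ∃ Φ : G →* H, (∀ n : N, Φ n = φ n) ∧ Φ g₀ = M := by
  -- the action
  let α : Multiplicative ℤ →* MulAut N := (MulAut.conjNormal (H := N)).comp (zpowersHom G g₀)
  have hα : ∀ (i : ℤ) (n : N), ((α (Multiplicative.ofAdd i) n : N) : G) = g₀ ^ i * n * g₀ ^ (-i) := by
    intro i n
    simp only [α, MonoidHom.comp_apply, zpowersHom_apply, toAdd_ofAdd, MulAut.conjNormal_apply, zpow_neg]
  -- conjugation compatibility for all powers
  have hconjz : ∀ (i : ℤ) (n : N), φ (α (Multiplicative.ofAdd i) n) = M ^ i * φ n * M ^ (-i) := by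
    intro i
    induction i using Int.induction_on with
    | zero =>
      intro n
      have : α (Multiplicative.ofAdd (0 : ℤ)) = 1 := by
        rw [ofAdd_zero, map_one]
      rw [this]
      simp
    | succ i ih =>
      intro n
      have h1 : α (Multiplicative.ofAdd ((i : ℤ) + 1)) n =
          ⟨g₀ * (α (Multiplicative.ofAdd (i : ℤ)) n : N) * g₀⁻¹,
            hN.conj_mem _ (α (Multiplicative.ofAdd (i : ℤ)) n).2 g₀⟩ := by
        apply Subtype.ext
        rw [hα]
        simp only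
        rw [hα, zpow_add, zpow_one, neg_add, zpow_add, zpow_neg_one]
        group
      rw [h1, ← hconj, ih n, zpow_add, zpow_one, neg_add, zpow_add, zpow_neg_one]
      group
    | pred i ih =>
      intro n
      set n' := α (Multiplicative.ofAdd (-(i : ℤ) - 1)) n with hn'
      have h1 : α (Multiplicative.ofAdd (-(i : ℤ))) n =
          ⟨g₀ * (n' : N) * g₀⁻¹, hN.conj_mem _ n'.2 g₀⟩ := by
        apply Subtype.ext
        rw [hα]
        simp only
        rw [hn', hα]
        have : (-(i : ℤ)) = (-(i : ℤ) - 1) + 1 := by ring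
        conv_lhs => rw [this, zpow_add, zpow_one, neg_add, zpow_add, zpow_neg_one]
        group
      have h2 := ih n
      rw [h1, ← hconj] at h2
      have h3 : φ n' = M⁻¹ * (M ^ (-(i : ℤ)) * φ n * M ^ (-(-(i : ℤ)))) * M := by
        rw [← h2]; group
      rw [h3]
      group
  -- the two lifts
  have hπc : ∀ g : Multiplicative ℤ, (N.subtype).comp (α g).toMonoidHom =
      (MulAut.conj (zpowersHom G g₀ g)).toMonoidHom.comp N.subtype := by
    intro g
    ext n
    simp only [α, MonoidHom.comp_apply, MulEquiv.coe_toMonoidHom, Subgroup.coe_subtype,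
      MulAut.conjNormal_apply, MulAut.conj_apply]
  let π : SemidirectProduct N (Multiplicative ℤ) α →* G :=
    SemidirectProduct.lift N.subtype (zpowersHom G g₀) hπc
  have hΨc : ∀ g : Multiplicative ℤ, φ.comp (α g).toMonoidHom =
      (MulAut.conj (zpowersHom H M g)).toMonoidHom.comp φ := by
    intro g
    ext n
    simp only [MonoidHom.comp_apply, MulEquiv.coe_toMonoidHom, MulAut.conj_apply, zpowersHom_apply]
    have := hconjz (Multiplicative.toAdd g) n
    rw [ofAdd_toAdd] at this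
    rw [this, zpow_neg]
  let Ψ : SemidirectProduct N (Multiplicative ℤ) α →* H :=
    SemidirectProduct.lift φ (zpowersHom H M) hΨc
  have hπapp : ∀ a : SemidirectProduct N (Multiplicative ℤ) α,
      π a = (a.left : G) * g₀ ^ (Multiplicative.toAdd a.right) := by
    intro a
    simp [π, SemidirectProduct.lift]
  have hΨapp : ∀ a : SemidirectProduct N (Multiplicative ℤ) α,
      Ψ a = φ a.left * M ^ (Multiplicative.toAdd a.right) := by
    intro a
    simp [Ψ, SemidirectProduct.lift]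
  have hsurj : Function.Surjective π := by
    intro x
    obtain ⟨i, hi⟩ := hgen x
    refine ⟨⟨⟨x * g₀ ^ (-i), hi⟩, Multiplicative.ofAdd i⟩, ?_⟩
    rw [hπapp]
    simp
  have hφpow : ∀ t : ℤ, φ (⟨g₀ ^ m, hmem⟩ ^ t) = M ^ ((m : ℤ) * t) := by
    intro t
    rw [map_zpow, ← hpow, zpow_mul, zpow_natCast]
  have hker : π.ker ≤ Ψ.ker := by
    intro a ha
    rw [MonoidHom.mem_ker] at ha ⊢
    rw [hπapp] at ha
    rw [hΨapp]
    set i := Multiplicative.toAdd a.right with hi
    have h1 : g₀ ^ i = ((a.left⁻¹ : N) : G) := by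
      rw [Subgroup.coe_inv]
      exact eq_inv_of_mul_eq_one_right ha
    have h2 : g₀ ^ i ∈ N := by rw [h1]; exact (a.left⁻¹).2
    obtain ⟨t, ht⟩ := (hm i).mp h2
    have h3 : a.left⁻¹ = (⟨g₀ ^ m, hmem⟩ : N) ^ t := by
      apply Subtype.ext
      rw [← h1, ht, Subgroup.coe_zpow]
      simp only
      rw [zpow_mul, zpow_natCast]
    have h4 : φ a.left = (M ^ ((m : ℤ) * t))⁻¹ := by
      rw [← hφpow t, ← h3, map_inv, inv_inv]
    rw [h4, ht, inv_mul_cancel]
  let Φ : G →* H := MonoidHom.liftOfSurjective π hsurj ⟨Ψ, hker⟩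
  have hΦ : ∀ a, Φ (π a) = Ψ a := fun a =>
    MonoidHom.liftOfRightInverse_comp_apply π _ (Function.rightInverse_surjInv hsurj) ⟨Ψ, hker⟩ a
  refine ⟨Φ, ?_, ?_⟩
  · intro n
    have h1 : π (SemidirectProduct.inl n) = (n : G) := by
      simp [π]
    have h2 : Ψ (SemidirectProduct.inl n) = φ n := by
      simp [Ψ]
    rw [← h1, hΦ, h2]
  · have h1 : π (SemidirectProduct.inr (Multiplicative.ofAdd 1)) = g₀ := by
      simp [π]
    have h2 : Ψ (SemidirectProduct.inr (Multiplicative.ofAdd 1)) = M := by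
      simp [Ψ]
    rw [← h1, hΦ, h2]

end Cfsg.Agent.Lib.Helper8
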