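import Mathlib
import Cfsg.Prelude.Def_Blocks
import Cfsg.Agent.Lib.Helper8.CyclicExt
import Cfsg.Agent.Lib.Helper8.CharEquiv
import Cfsg.Agent.Lib.Helper8.CharClifford

set_option autoImplicit false

namespace Cfsg.Agent.Lib.Helper8
open Cfsg
open scoped ComplexConjugate

variable {G : Type*} [Group G]

/-- An invariant irreducible representation of a normal subgroup with cyclic quotient extends. -/
theorem extend_cyclic [Finite G] (N : Subgroup G) [hN : N.Normal] (hcyc : IsCyclic (G ⧸ N)) {d : ℕ}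
    (ρ : Representation ℂ N (Fin d → ℂ)) (hρ : ρ.IsIrreducible)
    (hinv : ∀ g : G, conjChar hN ρ.character g = ρ.character) :
    ∃ σ : Representation ℂ G (Fin d → ℂ), σ.IsIrreducible ∧ ∀ n : N, σ (n : G) = ρ n := by
  classical
  set V := Fin d → ℂ with hV
  have hnt : Nontrivial V := irreducible_nontrivial hρ
  obtain ⟨q, hq⟩ := hcyc.exists_generator
  obtain ⟨g₀, rfl⟩ := QuotientGroup.mk_surjective q
  set m := orderOf (QuotientGroup.mk g₀ : G ⧸ N) with hmdef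
  have hmpos : 0 < m := orderOf_pos _
  have hm : ∀ i : ℤ, g₀ ^ i ∈ N ↔ (m : ℤ) ∣ i := by
    intro i
    rw [← QuotientGroup.eq_one_iff, QuotientGroup.mk_zpow, orderOf_dvd_iff_zpow_eq_one]
  have hgen : ∀ x : G, ∃ i : ℤ, x * g₀ ^ (-i) ∈ N := by
    intro x
    obtain ⟨i, hi⟩ := Subgroup.mem_zpowers_iff.mp (hq (QuotientGroup.mk x))
    refine ⟨i, ?_⟩
    rw [← QuotientGroup.eq_one_iff, QuotientGroup.mk_mul, QuotientGroup.mk_zpow, ← hi, zpow_neg,
      mul_inv_cancel]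
  have hmem : g₀ ^ m ∈ N := by
    have := (hm (m : ℤ)).mpr dvd_rfl
    rwa [zpow_natCast] at this
  -- the conjugate representation
  let β : N ≃* N := @MulAut.conjNormal G _ N hN g₀
  have hβ : ∀ n : N, ((β n : N) : G) = g₀ * n * g₀⁻¹ := fun n => rfl
  let ρ' : Representation ℂ N V := ρ.comp β.toMonoidHom
  have hchar : ρ.character = ρ'.character := by
    have h1 := hinv g₀
    ext n
    have h2 := congrFun h1 n
    rw [conjChar_apply] at h2
    rw [← h2]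
    rfl
  obtain ⟨A⟩ := equiv_of_character_eq ρ ρ' hchar
  have hA : ∀ (n : N) (v : V), A.toLinearEquiv (ρ n v) = ρ (β n) (A.toLinearEquiv v) := by
    intro n v
    have := A.isIntertwining' n
    exact LinearMap.congr_fun this v
  -- units
  let A₀ : (V →ₗ[ℂ] V)ˣ := ⟨A.toLinearEquiv.toLinearMap, A.toLinearEquiv.symm.toLinearMap,
    LinearMap.ext (fun v => A.toLinearEquiv.apply_symm_apply v),
    LinearMap.ext (fun v => A.toLinearEquiv.symm_apply_apply v)⟩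
  let φ : N →* (V →ₗ[ℂ] V)ˣ := ρ.asGroupHom
  have hφ : ∀ n : N, ((φ n : (V →ₗ[ℂ] V)ˣ) : V →ₗ[ℂ] V) = ρ n := fun n => ρ.asGroupHom_apply n
  have hA₀ : ∀ n : N, A₀ * φ n * A₀⁻¹ = φ (β n) := by
    intro n
    rw [mul_inv_eq_iff_eq_mul]
    apply Units.ext
    apply LinearMap.ext
    intro v
    simp only [Units.val_mul, Module.End.mul_apply, hφ]
    exact hA n v
  -- powers
  have hA₀pow : ∀ (k : ℕ) (n : N), A₀ ^ k * φ n * (A₀ ^ k)⁻¹ = φ ((β ^ k) n) := by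
    intro k
    induction k with
    | zero => intro n; simp
    | succ k ih =>
      intro n
      rw [pow_succ', pow_succ' β, MulAut.mul_apply, ← hA₀, ← ih n]
      group
  have hβpow : ∀ (k : ℕ) (n : N), (((β ^ k) n : N) : G) = g₀ ^ k * n * (g₀ ^ k)⁻¹ := by
    intro k n
    have : β ^ k = @MulAut.conjNormal G _ N hN (g₀ ^ k) := by
      rw [map_pow]
    rw [this]
    rfl
  set c : N := ⟨g₀ ^ m, hmem⟩ with hc
  have hcomm : ∀ n : N, (φ c)⁻¹ * A₀ ^ m * φ n = φ n * ((φ c)⁻¹ * A₀ ^ m) := by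
    intro n
    have h1 := hA₀pow m n
    have h2 : (β ^ m) n = c * n * c⁻¹ := by
      apply Subtype.ext
      rw [hβpow]
      simp [hc]
    rw [h2, map_mul, map_mul, map_inv] at h1
    have h3 : A₀ ^ m * φ n = φ c * φ n * (φ c)⁻¹ * A₀ ^ m := by
      rw [← h1]; group
    calc (φ c)⁻¹ * A₀ ^ m * φ n = (φ c)⁻¹ * (A₀ ^ m * φ n) := by group
      _ = (φ c)⁻¹ * (φ c * φ n * (φ c)⁻¹ * A₀ ^ m) := by rw [h3]
      _ = φ n * ((φ c)⁻¹ * A₀ ^ m) := by group
  set T : (V →ₗ[ℂ] V)ˣ := (φ c)⁻¹ * A₀ ^ m with hT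
  obtain ⟨c₀, hc₀⟩ := schur_scalar hρ (T : V →ₗ[ℂ] V) (by
    intro n v
    have := congrArg (fun u : (V →ₗ[ℂ] V)ˣ => (u : V →ₗ[ℂ] V) v) (hcomm n)
    simp only [Units.val_mul, Module.End.mul_apply, hφ] at this
    exact this)
  have hc₀ne : c₀ ≠ 0 := by
    intro h0
    obtain ⟨v, hv⟩ := exists_ne (0 : V)
    have h1 : (T : V →ₗ[ℂ] V) v = 0 := by rw [hc₀ v, h0, zero_smul]
    have h2 : ((T⁻¹ * T : (V →ₗ[ℂ] V)ˣ) : V →ₗ[ℂ] V) v = v := by
      rw [inv_mul_cancel]; rfl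
    rw [Units.val_mul, Module.End.mul_apply, h1, map_zero] at h2
    exact hv h2.symm
  obtain ⟨c₁, hc₁⟩ := IsAlgClosed.exists_pow_nat_eq c₀ hmpos
  have hc₁ne : c₁ ≠ 0 := by
    intro h0
    rw [h0, zero_pow hmpos.ne'] at hc₁
    exact hc₀ne hc₁.symm
  -- the scalar unit
  let s : (V →ₗ[ℂ] V)ˣ := Units.map (algebraMap ℂ (V →ₗ[ℂ] V)).toMonoidHom (Units.mk0 c₁⁻¹ (inv_ne_zero hc₁ne))
  have hs : ∀ u : (V →ₗ[ℂ] V)ˣ, s * u = u * s := by
    intro u
    apply Units.ext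
    simp only [Units.val_mul, s, Units.coe_map, RingHom.toMonoidHom_eq_coe, MonoidHom.coe_coe,
      Units.val_mk0]
    exact Algebra.commutes _ _
  have hsm : s ^ m * A₀ ^ m = φ c := by
    have h1 : A₀ ^ m = φ c * T := by rw [hT]; group
    rw [h1]
    apply Units.ext
    apply LinearMap.ext
    intro v
    simp only [Units.val_mul, Units.val_pow_eq_pow_val, Module.End.mul_apply, s, Units.coe_map,
      RingHom.toMonoidHom_eq_coe, MonoidHom.coe_coe, Units.val_mk0]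
    rw [hc₀ v, map_smul, ← map_pow, Module.algebraMap_end_apply, smul_smul, inv_pow, hc₁,
      inv_mul_cancel₀ hc₀ne, one_smul]
  set M : (V →ₗ[ℂ] V)ˣ := s * A₀ with hM
  have hMconj : ∀ n : N, M * φ n * M⁻¹ = φ ⟨g₀ * n * g₀⁻¹, hN.conj_mem n n.2 g₀⟩ := by
    intro n
    have h1 : M * φ n * M⁻¹ = A₀ * φ n * A₀⁻¹ := by
      rw [hM, mul_inv_rev]
      calc s * A₀ * φ n * (A₀⁻¹ * s⁻¹) = s * (A₀ * φ n * A₀⁻¹) * s⁻¹ := by group
        _ = (A₀ * φ n * A₀⁻¹) * s * s⁻¹ := by rw [hs]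
        _ = A₀ * φ n * A₀⁻¹ := by group
    rw [h1, hA₀]
    rfl
  have hMpow : M ^ m = φ ⟨g₀ ^ m, hmem⟩ := by
    rw [hM, (show Commute s A₀ from hs A₀).mul_pow, hsm]
  obtain ⟨Φ, hΦ, -⟩ := ext_hom_cyclic N g₀ m hm hgen φ M hMconj hmem hMpow
  let σ : Representation ℂ G V := (Units.coeHom (V →ₗ[ℂ] V)).comp Φ
  have hσ : ∀ n : N, σ (n : G) = ρ n := by
    intro n
    show ((Φ (n : G) : (V →ₗ[ℂ] V)ˣ) : V →ₗ[ℂ] V) = ρ n
    rw [hΦ n, hφ]
  refine ⟨σ, ?_, hσ⟩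
  refine { exists_pair_ne := ⟨⊥, ⊤, ?_⟩, eq_bot_or_eq_top := ?_ }
  · intro heq
    have h1 : (⊥ : Submodule ℂ V) = ⊤ := congrArg Subrepresentation.toSubmodule heq
    exact bot_ne_top h1
  · intro W
    have hW := irreducible_submodule hρ W.toSubmodule (by
      intro n v hv
      rw [← hσ n]
      exact W.apply_mem_toSubmodule (n : G) hv)
    rcases hW with hW | hW
    · left; exact Subrepresentation.toSubmodule_injective hW
    · right; exact Subrepresentation.toSubmodule_injective hW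

end Cfsg.Agent.Lib.Helper8
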