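import Mathlib
import Cfsg.Prelude.Def_Characters
import Cfsg.Agent.Lib.Helper8.BrauerDefect

set_option autoImplicit false

universe u

namespace Cfsg.Agent.Lib.Helper8
open Cfsg
open scoped ComplexConjugate

theorem defect_zero_restrict {G : Type u} [Group G] [Fintype G] {V : Type*} [AddCommGroup V]
    [Module ℂ V] [FiniteDimensional ℂ V] (ρ : Representation ℂ G V) (hρ : ρ.IsIrreducible)
    (p n : ℕ) [hp : Fact p.Prime] (hn : p ^ n ∣ Nat.card G) (hn' : ¬ p ^ (n + 1) ∣ Nat.card G)
    (hdeg : p ^ n ∣ Module.finrank ℂ V) (E : Subgroup G) (q : ℕ) (hq : q.Prime)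
    (hE : IsElementary q E) :
    IsGeneralizedCharacter E (fun e : E => if p ∣ orderOf (e : G) then 0 else ρ.character e) := by
  classical
  have : Fintype E := Fintype.ofFinite E
  obtain ⟨P, R, hP, hRcop, hcard, hcomm, hreg⟩ := elementary_split hq hE p
  have : Fintype R := Fintype.ofFinite R
  obtain ⟨m, hm⟩ := hn
  have hpm : ¬ p ∣ m := by
    rintro ⟨m', hm'⟩
    apply hn'
    rw [hm, hm', pow_succ]
    exact ⟨m', by ring⟩
  obtain ⟨d, hd⟩ := hdeg
  have hnt : Nontrivial V := irreducible_nontrivial hρ
  have hfpos : 0 < Module.finrank ℂ V := Module.finrank_pos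
  have hdpos : 0 < d := by
    rcases Nat.eq_zero_or_pos d with h | h
    · rw [h, mul_zero] at hd; omega
    · exact h
  have hχ : IsCharacter G ρ.character := isCharacter_of_rep ρ
  have hχcf := isClassFunction_of_isCharacter hχ
  have hnotdvdR : ¬ p ∣ Nat.card R := by
    intro h
    have h2 : p ∣ Nat.gcd (Nat.card R) p := Nat.dvd_gcd h dvd_rfl
    rw [hRcop] at h2
    exact hp.out.one_lt.ne' (Nat.dvd_one.mp h2)
  have hRiff : ∀ e : E, e ∈ R ↔ ¬ p ∣ orderOf (e : G) := by
    intro e
    rw [Subgroup.orderOf_coe]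
    constructor
    · intro he hdvd
      apply hnotdvdR
      have h1 : orderOf (⟨e, he⟩ : R) ∣ Nat.card R := orderOf_dvd_natCard _
      rw [← Subgroup.orderOf_coe] at h1
      exact hdvd.trans h1
    · exact hreg e
  set θE : E → ℂ := fun e : E => if p ∣ orderOf (e : G) then 0 else ρ.character e with hθE
  have hθE' : θE = extendByZero R (fun r : R => ρ.character ((r : E) : G)) := by
    ext e
    by_cases he : e ∈ R
    · rw [extendByZero_mem R _ he, hθE]
      simp only
      rw [if_neg ((hRiff e).mp he)]
    · rw [extendByZero_not_mem R _ he, hθE]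
      simp only
      rw [if_pos (by by_contra h; exact he ((hRiff e).mpr h))]
  apply isGen_of_classInner_int
  · intro e h
    rw [hθE]
    simp only
    have h1 : ((h * e * h⁻¹ : E) : G) = (h : G) * (e : G) * (h : G)⁻¹ := by simp
    have h2 : orderOf ((h : G) * (e : G) * (h : G)⁻¹) = orderOf (e : G) := by
      have := (MulAut.conj (h : G)).orderOf_eq (e : G)
      rwa [MulAut.conj_apply] at this
    rw [h1, h2, hχcf]
  · intro ψ
    have hχR : IsCharacter R (fun r : R => ρ.character ((r : E) : G)) :=
      isCharacter_comp (E.subtype.comp R.subtype) hχ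
    have hψR : IsCharacter R (fun r : R => ψ.1 (r : E)) :=
      isCharacter_restrict R (irr_isCharacter ψ.2)
    obtain ⟨a, ha⟩ := classInner_character_nat hχR hψR
    have hEne : (Nat.card E : ℂ) ≠ 0 := Nat.cast_ne_zero.mpr Nat.card_pos.ne'
    have hRne : (Nat.card R : ℂ) ≠ 0 := Nat.cast_ne_zero.mpr Nat.card_pos.ne'
    have hPne : (Nat.card P : ℂ) ≠ 0 := Nat.cast_ne_zero.mpr Nat.card_pos.ne'
    have hsumR : ∑ r : R, ρ.character ((r : E) : G) * conj (ψ.1 (r : E)) =
        (Nat.card R : ℂ) * (a : ℂ) := by
      rw [← ha]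
      unfold classInner
      field_simp
    have hinner : classInner θE ψ.1 = (a : ℂ) / (Nat.card P : ℂ) := by
      unfold classInner
      rw [hθE', sum_extendByZero R _ (fun e => conj (ψ.1 e)), hsumR]
      have : (Nat.card E : ℂ) = (Nat.card P : ℂ) * (Nat.card R : ℂ) := by
        rw [← hcard]; push_cast; ring
      rw [this]
      field_simp
    -- integrality
    have hβ : ∀ r : R, ∃ β : ℂ, IsIntegral ℤ β ∧
        (m : ℂ) * ρ.character ((r : E) : G) = (Nat.card P : ℂ) * β := by
      intro r
      set e : G := ((r : E) : G) with he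
      have hPC : P.map E.subtype ≤ Subgroup.centralizer ({e} : Set G) := by
        rintro x ⟨a', ha', rfl⟩
        rw [Subgroup.mem_centralizer_iff]
        intro y hy
        rw [Set.mem_singleton_iff] at hy
        rw [hy]
        have := hcomm a' ha' (r : E) r.2
        have h2 := congrArg (fun z : E => (z : G)) this
        simp only [Subgroup.coe_mul] at h2
        exact h2.symm
      have hcardP' : Nat.card (P.map E.subtype) = Nat.card P :=
        Subgroup.card_map_of_injective E.subtype_injective
      obtain ⟨c, hc⟩ : Nat.card P ∣ Nat.card (Subgroup.centralizer ({e} : Set G)) := by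
        rw [← hcardP']; exact Subgroup.card_dvd_of_le hPC
      have hω := class_mul_char_div_degree_isIntegral hρ e
      have hidx := Subgroup.card_mul_index (Subgroup.centralizer ({e} : Set G))
      refine ⟨(c : ℂ) * (d : ℂ) * (((Subgroup.centralizer ({e} : Set G)).index : ℂ) *
        ρ.character e / (Module.finrank ℂ V : ℂ)), ?_, ?_⟩
      · have hc1 : IsIntegral ℤ ((c : ℕ) : ℂ) := by
          have := isIntegral_algebraMap (R := ℤ) (A := ℂ) (x := (c : ℤ))
          simpa using this
        have hd1 : IsIntegral ℤ ((d : ℕ) : ℂ) := by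
          have := isIntegral_algebraMap (R := ℤ) (A := ℂ) (x := (d : ℤ))
          simpa using this
        exact (hc1.mul hd1).mul hω
      · have hf : (Module.finrank ℂ V : ℂ) = (p : ℂ) ^ n * (d : ℂ) := by
          rw [hd]; push_cast; ring
        have hG : ((Nat.card (Subgroup.centralizer ({e} : Set G)) : ℂ)) *
            ((Subgroup.centralizer ({e} : Set G)).index : ℂ) = (p : ℂ) ^ n * (m : ℂ) := by
          rw [← Nat.cast_mul, hidx, hm]; push_cast; ring
        have hpn : ((p : ℂ) ^ n) ≠ 0 := pow_ne_zero _ (Nat.cast_ne_zero.mpr hp.out.pos.ne')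
        have hdne : (d : ℂ) ≠ 0 := Nat.cast_ne_zero.mpr hdpos.ne'
        rw [hf]
        have hc' : (Nat.card (Subgroup.centralizer ({e} : Set G)) : ℂ) =
            (Nat.card P : ℂ) * (c : ℂ) := by rw [hc]; push_cast; ring
        rw [hc'] at hG
        field_simp
        linear_combination (-(ρ.character e)) * hG
    choose β hβint hβeq using hβ
    have hB : IsIntegral ℤ (∑ r : R, β r * conj (ψ.1 (r : E))) := by
      apply IsIntegral.sum
      intro r _
      apply (hβint r).mul
      exact map_isIntegral_int (starRingEnd ℂ)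
        (isCharacter_isIntegral (irr_isCharacter ψ.2) (r : E))
    have hBeq : (Nat.card P : ℂ) * ∑ r : R, β r * conj (ψ.1 (r : E)) =
        (m : ℂ) * ((Nat.card R : ℂ) * (a : ℂ)) := by
      rw [← hsumR, Finset.mul_sum, Finset.mul_sum]
      apply Finset.sum_congr rfl
      intro r _
      rw [← mul_assoc, ← hβeq r, mul_assoc]
    have hBval : ∑ r : R, β r * conj (ψ.1 (r : E)) =
        (((m * Nat.card R * a : ℕ) : ℤ) : ℂ) / ((Nat.card P : ℤ) : ℂ) := by
      rw [eq_div_iff (by exact_mod_cast hPne)]
      push_cast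
      rw [mul_comm, hBeq]
      ring
    rw [hBval] at hB
    have hdvd : ((Nat.card P : ℕ) : ℤ) ∣ ((m * Nat.card R * a : ℕ) : ℤ) :=
      dvd_of_isIntegral_div (by exact_mod_cast (Nat.card_pos (α := P)).ne') hB
    have hdvd' : Nat.card P ∣ m * Nat.card R * a := Int.natCast_dvd_natCast.mp hdvd
    obtain ⟨b, hb⟩ := IsPGroup.exists_card_eq hP
    have hcop : Nat.Coprime (Nat.card P) (m * Nat.card R) := by
      rw [hb]
      apply Nat.Coprime.pow_left
      rw [Nat.Prime.coprime_iff_not_dvd hp.out]
      intro h
      rcases (Nat.Prime.dvd_mul hp.out).mp h with h | h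
      · exact hpm h
      · exact hnotdvdR h
    obtain ⟨k, hk⟩ := hcop.dvd_of_dvd_mul_left hdvd'
    refine ⟨(k : ℤ), ?_⟩
    rw [hinner, hk]
    push_cast
    field_simp

theorem defect_zero_vanish {G : Type u} [Group G] [Fintype G] {V : Type*} [AddCommGroup V]
    [Module ℂ V] [FiniteDimensional ℂ V] (ρ : Representation ℂ G V) (hρ : ρ.IsIrreducible)
    (p n : ℕ) [hp : Fact p.Prime] (hn : p ^ n ∣ Nat.card G) (hn' : ¬ p ^ (n + 1) ∣ Nat.card G)
    (hdeg : p ^ n ∣ Module.finrank ℂ V) (x : G) (hx : p ∣ orderOf x) : ρ.character x = 0 := by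
  classical
  have := irr_finite (G := G)
  have : Fintype (IrrCharacter G) := Fintype.ofFinite _
  have hirr : IsIrrCharacter G ρ.character := isIrrCharacter_of_irreducible hρ
  have hχcf := isClassFunction_of_isCharacter (irr_isCharacter hirr)
  set θ : G → ℂ := fun g => if p ∣ orderOf g then 0 else ρ.character g with hθ
  have hθcf : IsClassFunction G θ := by
    intro g h
    rw [hθ]
    simp only
    have h2 : orderOf (h * g * h⁻¹) = orderOf g := by
      have := (MulAut.conj h).orderOf_eq g
      rwa [MulAut.conj_apply] at this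
    rw [h2, hχcf]
  have hgen : IsGeneralizedCharacter G θ :=
    brauer_characterization θ hθcf
      (fun E q hq hE => defect_zero_restrict ρ hρ p n hn hn' hdeg E q hq hE)
  obtain ⟨mm, hmm⟩ := generalized_decomp hgen
  have hθsum : θ = fun g => ∑ ψ : IrrCharacter G, (mm ψ : ℂ) * ψ.1 g := funext hmm
  have hk : classInner θ ρ.character = (mm ⟨ρ.character, hirr⟩ : ℂ) := by
    rw [hθsum]
    exact classInner_comb_irr (fun ψ => (mm ψ : ℂ)) ⟨ρ.character, hirr⟩
  set k := mm ⟨ρ.character, hirr⟩ with hkdef
  have hGne : (Nat.card G : ℂ) ≠ 0 := Nat.cast_ne_zero.mpr Nat.card_pos.ne'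
  have hGpos : (0 : ℝ) < (Nat.card G : ℝ) := Nat.cast_pos.mpr Nat.card_pos
  -- real sums
  have hreg : (k : ℝ) * (Nat.card G : ℝ) =
      ∑ g : G, if p ∣ orderOf g then 0 else Complex.normSq (ρ.character g) := by
    have h1 : (k : ℂ) * (Nat.card G : ℂ) = ∑ g : G, θ g * conj (ρ.character g) := by
      rw [← hk]
      unfold classInner
      field_simp
    have h2 : ∑ g : G, θ g * conj (ρ.character g) =
        ((∑ g : G, if p ∣ orderOf g then 0 else Complex.normSq (ρ.character g) : ℝ) : ℂ) := by
      push_cast
      apply Finset.sum_congr rfl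
      intro g _
      rw [hθ]
      simp only
      split_ifs
      · simp
      · rw [Complex.mul_conj]
    rw [h2] at h1
    exact_mod_cast h1
  have hall : (Nat.card G : ℝ) = ∑ g : G, Complex.normSq (ρ.character g) := by
    have h3 := irr_classInner hirr hirr
    rw [if_pos rfl] at h3
    unfold classInner at h3
    have h4 : ∑ g : G, ρ.character g * conj (ρ.character g) = (Nat.card G : ℂ) := by
      field_simp at h3
      exact h3
    have h5 : ∑ g : G, ρ.character g * conj (ρ.character g) =
        ((∑ g : G, Complex.normSq (ρ.character g) : ℝ) : ℂ) := by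
      push_cast
      apply Finset.sum_congr rfl
      intro g _
      rw [Complex.mul_conj]
    rw [h5] at h4
    exact_mod_cast h4.symm
  have hsplit : ∑ g : G, Complex.normSq (ρ.character g) =
      (∑ g : G, if p ∣ orderOf g then 0 else Complex.normSq (ρ.character g)) +
      ∑ g : G, if p ∣ orderOf g then Complex.normSq (ρ.character g) else 0 := by
    rw [← Finset.sum_add_distrib]
    apply Finset.sum_congr rfl
    intro g _
    split_ifs <;> simp
  have hsing_nonneg : 0 ≤ ∑ g : G, if p ∣ orderOf g then Complex.normSq (ρ.character g) else 0 := by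
    apply Finset.sum_nonneg
    intro g _
    split_ifs
    · exact Complex.normSq_nonneg _
    · exact le_refl _
  have hreg_pos : 0 < ∑ g : G, if p ∣ orderOf g then 0 else Complex.normSq (ρ.character g) := by
    have hterm : ∀ g ∈ (Finset.univ : Finset G),
        0 ≤ (if p ∣ orderOf g then 0 else Complex.normSq (ρ.character g)) := by
      intro g _
      split_ifs
      · exact le_refl _
      · exact Complex.normSq_nonneg _
    have h1 := Finset.single_le_sum hterm (Finset.mem_univ (1 : G))
    have h2 : ¬ p ∣ orderOf (1 : G) := by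
      rw [orderOf_one]
      exact hp.out.one_lt.ne' ∘ Nat.dvd_one.mp
    rw [if_neg h2] at h1
    have h3 : 0 < Complex.normSq (ρ.character 1) := by
      rw [Complex.normSq_pos]
      exact irr_one_ne_zero ⟨ρ.character, hirr⟩
    linarith
  have hkpos : (0 : ℝ) < k := by
    by_contra hcon
    push Not at hcon
    have : (k : ℝ) * (Nat.card G : ℝ) ≤ 0 := mul_nonpos_of_nonpos_of_nonneg hcon hGpos.le
    linarith
  have hkle : (k : ℝ) ≤ 1 := by
    by_contra hcon
    push Not at hcon
    have : (Nat.card G : ℝ) < (k : ℝ) * (Nat.card G : ℝ) := by nlinarith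
    linarith
  have hk1 : k = 1 := by
    have h1 : 0 < k := by exact_mod_cast hkpos
    have h2 : k ≤ 1 := by exact_mod_cast hkle
    omega
  have hsing0 : ∑ g : G, (if p ∣ orderOf g then Complex.normSq (ρ.character g) else 0) = 0 := by
    rw [hk1] at hreg
    push_cast at hreg
    linarith
  have hterm0 := (Finset.sum_eq_zero_iff_of_nonneg (fun g _ => by
    split_ifs
    · exact Complex.normSq_nonneg _
    · exact le_refl _)).mp hsing0 x (Finset.mem_univ x)
  rw [if_pos hx] at hterm0
  exact Complex.normSq_eq_zero.mp hterm0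

end Cfsg.Agent.Lib.Helper8
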