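import Mathlib
import Cfsg.Prelude.Def_Characters
import Cfsg.Agent.Lib.Helper8.BrauerDefect2
import Cfsg.Agent.Lib.Helper8.CharSmallDegree
import Cfsg.Agent.Lib.Helper8.CharDegree

set_option autoImplicit false

universe u

namespace Cfsg.Agent.Lib.Helper8
open Cfsg
open scoped ComplexConjugate

/-- Facts about the kernel of an irreducible character, obtained by passing to the quotient. -/
theorem irr_quotient_facts {G : Type u} [Group G] [Fintype G] (χ : IrrCharacter G) :
    ∃ K : Subgroup G, K.Normal ∧ (∀ g, g ∈ K ↔ χ.1 g = χ.1 1) ∧ charDegree χ.1 ∣ K.index ∧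
      ∀ (p : ℕ) [Fact p.Prime] (x : G), ¬ p ∣ K.index / charDegree χ.1 → x ∉ K → x ^ p ∈ K →
        χ.1 x = 0 := by
  classical
  obtain ⟨d, ρ, hρirr, hρχ⟩ := χ.2
  have hfr : Module.finrank ℂ (Fin d → ℂ) = charDegree χ.1 := by
    have h1 : ((Module.finrank ℂ (Fin d → ℂ) : ℕ) : ℂ) = (charDegree χ.1 : ℂ) := by
      rw [← irr_one_eq_charDegree χ, ← hρχ, Representation.char_one]
    exact_mod_cast h1
  have hKn : (MonoidHom.ker ρ).Normal := inferInstance
  have : Fintype (G ⧸ MonoidHom.ker ρ) := Fintype.ofFinite _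
  let ρbar : Representation ℂ (G ⧸ MonoidHom.ker ρ) (Fin d → ℂ) :=
    QuotientGroup.lift (MonoidHom.ker ρ) ρ (fun x hx => hx)
  have hcomp : (ρbar.comp (QuotientGroup.mk' (MonoidHom.ker ρ)) :
      Representation ℂ G (Fin d → ℂ)) = ρ := by
    apply MonoidHom.ext
    intro g
    rfl
  have hρbar : ρbar.IsIrreducible := by
    apply irreducible_of_comp (QuotientGroup.mk' (MonoidHom.ker ρ))
    rw [hcomp]; exact hρirr
  have hchar : ∀ g : G, ρbar.character (QuotientGroup.mk' (MonoidHom.ker ρ) g) = χ.1 g := by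
    intro g
    rw [← hρχ]; rfl
  refine ⟨MonoidHom.ker ρ, hKn, ?_, ?_, ?_⟩
  · intro g
    rw [MonoidHom.mem_ker, ← hρχ, Representation.char_one, character_eq_degree_iff]
    rfl
  · rw [← hfr]
    exact degree_dvd_card hρbar
  · intro p hp x hpc hxK hxp
    rw [← hchar x]
    set n := (Nat.card (G ⧸ MonoidHom.ker ρ)).factorization p with hn
    have hqpos : 0 < Nat.card (G ⧸ MonoidHom.ker ρ) := Nat.card_pos
    have hidx : (MonoidHom.ker ρ).index = Nat.card (G ⧸ MonoidHom.ker ρ) := rfl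
    have hfdvd : Module.finrank ℂ (Fin d → ℂ) ∣ Nat.card (G ⧸ MonoidHom.ker ρ) :=
      degree_dvd_card hρbar
    obtain ⟨c, hc⟩ := hfdvd
    have hfpos : 0 < Module.finrank ℂ (Fin d → ℂ) := by rw [hfr]; exact charDegree_pos χ
    have hcdiv : (MonoidHom.ker ρ).index / charDegree χ.1 = c := by
      rw [hidx, hc, ← hfr, Nat.mul_div_cancel_left _ hfpos]
    rw [hcdiv] at hpc
    apply defect_zero_vanish ρbar hρbar p n (Nat.ordProj_dvd _ p)
      (Nat.pow_succ_factorization_not_dvd hqpos.ne' hp.out)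
    · -- p ^ n ∣ finrank
      have h1 : p ^ n ∣ Module.finrank ℂ (Fin d → ℂ) * c := by
        rw [← hc]; exact Nat.ordProj_dvd _ p
      exact (Nat.Coprime.pow_left n ((Nat.Prime.coprime_iff_not_dvd hp.out).mpr hpc)).dvd_of_dvd_mul_right h1
    · -- order of the image of x
      have h1 : (QuotientGroup.mk' (MonoidHom.ker ρ) x) ^ p = 1 := by
        rw [← map_pow]
        exact (QuotientGroup.eq_one_iff _).mpr hxp
      have h2 : QuotientGroup.mk' (MonoidHom.ker ρ) x ≠ 1 := by
        intro h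
        exact hxK ((QuotientGroup.eq_one_iff _).mp h)
      rw [orderOf_eq_prime h1 h2]

theorem card_eq_card_of_iff {G : Type*} [Group G] (K : Subgroup G) (P : G → Prop)
    (h : ∀ g, g ∈ K ↔ P g) : Nat.card {g : G // P g} = Nat.card K :=
  Nat.card_congr (Equiv.subtypeEquivRight (fun g => (h g).symm))

end Cfsg.Agent.Lib.Helper8
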