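import Mathlib
import Cfsg.Prelude.Def_Characters
import Cfsg.Agent.Lib.Helper8.CharKernel
import Cfsg.Agent.Lib.Helper8.CharLinear

set_option autoImplicit false

universe u

namespace Cfsg.Agent.Lib.Helper8
open Cfsg
open scoped ComplexConjugate

/-- The kernel of an irreducible character, together with the induced irreducible character
of the quotient. -/
theorem irr_quotient_char {G : Type u} [Group G] [Fintype G] (χ : IrrCharacter G) :
    ∃ (K : Subgroup G) (hK : K.Normal), (∀ g, g ∈ K ↔ χ.1 g = χ.1 1) ∧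
      ∃ ψ : (G ⧸ K) → ℂ, IsIrrCharacter (G ⧸ K) ψ ∧ ∀ g : G, ψ (QuotientGroup.mk' K g) = χ.1 g := by
  classical
  obtain ⟨d, ρ, hρirr, hρχ⟩ := χ.2
  have hKn : (MonoidHom.ker ρ).Normal := inferInstance
  let ρbar : Representation ℂ (G ⧸ MonoidHom.ker ρ) (Fin d → ℂ) :=
    QuotientGroup.lift (MonoidHom.ker ρ) ρ (fun x hx => hx)
  have hcomp : (ρbar.comp (QuotientGroup.mk' (MonoidHom.ker ρ)) :
      Representation ℂ G (Fin d → ℂ)) = ρ := by
    apply MonoidHom.ext
    intro g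
    rfl
  have hρbar : ρbar.IsIrreducible := by
    apply irreducible_of_comp (QuotientGroup.mk' (MonoidHom.ker ρ))
    rw [hcomp]; exact hρirr
  refine ⟨MonoidHom.ker ρ, hKn, ?_, ρbar.character, ⟨d, ρbar, hρbar, rfl⟩, ?_⟩
  · intro g
    rw [MonoidHom.mem_ker, ← hρχ, Representation.char_one, character_eq_degree_iff]
    rfl
  · intro g
    rw [← hρχ]; rfl

/-- For an irreducible character with kernel `K`: `χ(1)^2 < [G:K]` unless `K = ⊤`. -/
theorem irr_degree_sq_lt_index {G : Type u} [Group G] [Fintype G] (χ : IrrCharacter G) :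
    ∃ (K : Subgroup G), K.Normal ∧ (∀ g, g ∈ K ↔ χ.1 g = χ.1 1) ∧ charDegree χ.1 ∣ K.index ∧
      (K = ⊤ ∨ charDegree χ.1 ^ 2 < K.index) := by
  classical
  obtain ⟨K, hKn, hK, ψ, hψ, hψχ⟩ := irr_quotient_char χ
  have hfin := irr_finite (G := G ⧸ K)
  have : Fintype (IrrCharacter (G ⧸ K)) := Fintype.ofFinite _
  have hdeg : charDegree ψ = charDegree χ.1 := by
    have h1 := irr_one_eq_charDegree (⟨ψ, hψ⟩ : IrrCharacter (G ⧸ K))
    have h2 := irr_one_eq_charDegree χ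
    have h3 : ψ 1 = χ.1 1 := by
      have := hψχ 1
      rwa [map_one] at this
    simp only at h1
    rw [h3, h2] at h1
    exact_mod_cast h1.symm
  have hdvd : charDegree χ.1 ∣ K.index := by
    rw [← hdeg]
    exact charDegree_dvd_card (⟨ψ, hψ⟩ : IrrCharacter (G ⧸ K))
  refine ⟨K, hKn, hK, hdvd, ?_⟩
  by_cases hKtop : K = ⊤
  · left; exact hKtop
  right
  have hsum := card_eq_sum_charDegree_sq (G := G ⧸ K)
  have hidx : K.index = Nat.card (G ⧸ K) := rfl
  rw [hidx, hsum, ← hdeg]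
  -- the principal character differs from ψ
  have hne : (⟨fun _ => (1 : ℂ), principal_isIrrCharacter⟩ : IrrCharacter (G ⧸ K)) ≠ ⟨ψ, hψ⟩ := by
    intro h
    apply hKtop
    rw [eq_top_iff]
    intro g _
    rw [hK]
    have h1 : ψ = fun _ => (1 : ℂ) := (congrArg Subtype.val h).symm
    rw [← hψχ g, ← hψχ 1, h1]
  have h2 : ∑ φ ∈ ({⟨fun _ => (1 : ℂ), principal_isIrrCharacter⟩, ⟨ψ, hψ⟩} :
      Finset (IrrCharacter (G ⧸ K))), charDegree φ.1 ^ 2 ≤
      ∑ φ : IrrCharacter (G ⧸ K), charDegree φ.1 ^ 2 :=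
    Finset.sum_le_sum_of_subset (Finset.subset_univ _)
  rw [Finset.sum_pair hne] at h2
  have h3 := charDegree_pos (⟨fun _ => (1 : ℂ), principal_isIrrCharacter⟩ : IrrCharacter (G ⧸ K))
  have h4 : 0 < charDegree (fun _ : G ⧸ K => (1 : ℂ)) ^ 2 := pow_pos h3 2
  simp only at h2
  omega

end Cfsg.Agent.Lib.Helper8
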