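import Mathlib

set_option autoImplicit false

namespace Cfsg.Agent.Lib.Helper8
open scoped commutatorElement

/-- In a group of order `p * f` with `0 < f < p`, a Sylow `p`-subgroup has order `p` and is
normal. -/
theorem sylow_normal_of_card_eq {Q : Type*} [Group Q] [Finite Q] (p f : ℕ) [Fact p.Prime]
    (hf0 : 0 < f) (hfp : f < p) (hcard : Nat.card Q = p * f) (P : Sylow p Q) :
    (P : Subgroup Q).Normal ∧ Nat.card (P : Subgroup Q) = p ∧ (P : Subgroup Q).index = f := by
  have hp : p.Prime := Fact.out
  have hpf : ¬ p ∣ f := fun h => absurd (Nat.le_of_dvd hf0 h) (by omega)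
  have hPcard : Nat.card (P : Subgroup Q) = p := by
    rw [Sylow.card_eq_multiplicity, hcard, Nat.factorization_mul hp.ne_zero hf0.ne']
    simp [hp.factorization_self, Nat.factorization_eq_zero_of_not_dvd hpf]
  have hidx : (P : Subgroup Q).index = f := by
    have h1 := Subgroup.card_mul_index (P : Subgroup Q)
    rw [hPcard, hcard] at h1
    exact Nat.eq_of_mul_eq_mul_left hp.pos h1
  have h1 : Nat.card (Sylow p Q) ≡ 1 [MOD p] := card_sylow_modEq_one p Q
  have h2 : Nat.card (Sylow p Q) ∣ f := hidx ▸ Sylow.card_dvd_index P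
  have h3 : Nat.card (Sylow p Q) ≤ f := Nat.le_of_dvd hf0 h2
  have h4 : Nat.card (Sylow p Q) = 1 := by
    have h5 : Nat.card (Sylow p Q) % p = 1 % p := h1
    rw [Nat.mod_eq_of_lt (by omega), Nat.mod_eq_of_lt hp.one_lt] at h5
    exact h5
  have : Subsingleton (Sylow p Q) := (Nat.card_eq_one_iff_unique.mp h4).1
  exact ⟨Sylow.normal_of_subsingleton P, hPcard, hidx⟩

/-- A normal subgroup of prime order in a perfect group is central. -/
theorem central_of_normal_prime_card_of_perfect {Q : Type*} [Group Q] [Finite Q] (p : ℕ)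
    [Fact p.Prime] (N : Subgroup Q) [hN : N.Normal] (hcard : Nat.card N = p)
    (hperf : commutator Q = ⊤) : N ≤ Subgroup.center Q := by
  have hcyc : IsCyclic N := isCyclic_of_prime_card hcard
  have hcomm : ∀ a b : MulAut N, a * b = b * a := by
    intro a b
    apply (IsCyclic.mulAutMulEquiv N).injective
    rw [map_mul, map_mul, mul_comm]
  have hker : commutator Q ≤ (MulAut.conjNormal (H := N)).ker := by
    rw [commutator_def, Subgroup.commutator_le]
    intro g _ h _
    rw [MonoidHom.mem_ker, map_commutatorElement, commutatorElement_eq_one_iff_commute]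
    exact hcomm _ _
  rw [hperf] at hker
  intro n hn
  rw [Subgroup.mem_center_iff]
  intro g
  have h1 : g ∈ (MulAut.conjNormal (H := N)).ker := hker (Subgroup.mem_top g)
  rw [MonoidHom.mem_ker] at h1
  have h2 : (MulAut.conjNormal (H := N) g) ⟨n, hn⟩ = ⟨n, hn⟩ := by rw [h1]; rfl
  have h3 := congrArg Subtype.val h2
  rw [MulAut.conjNormal_apply] at h3
  simp only at h3
  calc g * n = g * n * g⁻¹ * g := by group
    _ = n * g := by rw [h3]

/-- A group of order `p * f` with `0 < f < p` is not perfect. -/
theorem not_perfect_of_card_eq {Q : Type*} [Group Q] [Finite Q] (p f : ℕ) [Fact p.Prime]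
    (hf0 : 0 < f) (hfp : f < p) (hcard : Nat.card Q = p * f) (hperf : commutator Q = ⊤) :
    False := by
  have hp : p.Prime := Fact.out
  obtain ⟨P⟩ : Nonempty (Sylow p Q) := inferInstance
  obtain ⟨hPn, hPcard, hidx⟩ := sylow_normal_of_card_eq p f hf0 hfp hcard P
  have hcen : (P : Subgroup Q) ≤ Subgroup.center Q :=
    central_of_normal_prime_card_of_perfect p (P : Subgroup Q) hPcard hperf
  have hP : Subgroup.normalizer ((P : Subgroup Q) : Set Q) ≤
      Subgroup.centralizer ((P : Subgroup Q) : Set Q) := by
    intro g _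
    rw [Subgroup.mem_centralizer_iff]
    intro h hh
    exact ((Subgroup.mem_center_iff.mp (hcen hh)) g).symm
  have hnd := MonoidHom.not_dvd_card_ker_transferSylow P hP
  have hker : commutator Q ≤ (MonoidHom.transferSylow P hP).ker := by
    rw [commutator_def, Subgroup.commutator_le]
    intro g _ h _
    rw [MonoidHom.mem_ker, map_commutatorElement, commutatorElement_eq_one_iff_commute]
    have hc : ∀ a b : (P : Subgroup Q), a * b = b * a := by
      intro a b
      apply Subtype.ext
      exact ((Subgroup.mem_center_iff.mp (hcen a.2)) b).symm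
    exact hc _ _
  rw [hperf, top_le_iff] at hker
  apply hnd
  rw [hker, Subgroup.card_top, hcard]
  exact dvd_mul_right p f

end Cfsg.Agent.Lib.Helper8
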