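import Mathlib
import Cfsg.Prelude.Def_Characters
import Cfsg.Prelude.Def_CharExt
import Cfsg.Agent.Lib.Helper8.CharDet
import Cfsg.Agent.Lib.Helper8.CharCliffordCorr
import Cfsg.Agent.Lib.Helper8.CharCyclicExt
import Cfsg.Agent.S0862
import Cfsg.Agent.S4797

set_option autoImplicit false

namespace Cfsg.Agent.Lib.Helper8
open Cfsg

universe u

theorem solvable_subquotient {G : Type u} [Group G] (N M : Subgroup G) [hN : N.Normal]
    (hsolv : Group.IsSolvable (G ⧸ N)) : Group.IsSolvable (M ⧸ N.subgroupOf M) := by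
  let f : M ⧸ N.subgroupOf M →* G ⧸ N :=
    QuotientGroup.map (N.subgroupOf M) N M.subtype (fun x hx => hx)
  have hf : Function.Injective f := by
    rw [injective_iff_map_eq_one]
    intro q
    induction q using QuotientGroup.induction_on with
    | H x =>
      intro hx
      have h1 : f (QuotientGroup.mk x) = QuotientGroup.mk (x : G) := rfl
      rw [h1, QuotientGroup.eq_one_iff] at hx
      exact (QuotientGroup.eq_one_iff x).mpr hx
  haveI := hsolv
  exact solvable_of_solvable_injective hf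

/-- The determinant criterion for extendibility, solvable quotient. -/
theorem det_extension_solvable : ∀ (n : ℕ) (G : Type u) [Group G] [Finite G] (N : Subgroup G)
    [hN : N.Normal], N.index = n → Group.IsSolvable (G ⧸ N) → ∀ (ϑ : N → ℂ), IsIrrCharacter N ϑ →
    (∀ (g : G) (k : N), ϑ (MulAut.conjNormal g k) = ϑ k) → ∀ d : ℕ, ϑ 1 = d → Nat.Coprime n d →
    ∀ m : G →* ℂˣ, (∀ k : N, linFun m k = detChar ϑ k) →
    ∃ χ : G → ℂ, IsIrrCharacter G χ ∧ ∀ k : N, χ k = ϑ k := by
  intro n
  induction n using Nat.strong_induction_on with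
  | _ n ih =>
    intro G _ _ N hN hidx hsolv ϑ hϑ hinv d hd hcop m hm
    classical
    by_cases hn1 : n = 1
    · -- N = ⊤
      have hNtop : N = ⊤ := Subgroup.index_eq_one.mp (hidx.trans hn1)
      let φ : G →* N := MonoidHom.codRestrict (MonoidHom.id G) N (fun g => hNtop ▸ Subgroup.mem_top g)
      have hφ : Function.Surjective φ := fun k => ⟨k.1, Subtype.ext rfl⟩
      refine ⟨ϑ ∘ φ, isIrrCharacter_comp_surjective φ hφ hϑ, ?_⟩
      intro k
      show ϑ (φ k) = ϑ k
      congr 1
    · have hnpos : 0 < n := by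
        rw [← hidx]; exact Nat.pos_of_ne_zero Subgroup.index_ne_zero_of_finite
      have hnt : Nontrivial (G ⧸ N) := by
        have h1 : 1 < Nat.card (G ⧸ N) := by
          have : Nat.card (G ⧸ N) = n := hidx
          omega
        exact Finite.one_lt_card_iff_nontrivial.mp h1
      have hcomm : commutator (G ⧸ N) ≠ ⊤ := by
        haveI := hsolv
        exact ne_of_lt (Group.IsSolvable.commutator_lt_top_of_nontrivial (G ⧸ N))
      obtain ⟨Mbar, hMbarn, hMbarp⟩ := Cfsg.Agent.S4797.exists_normal_prime_index hcomm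
      set M : Subgroup G := Mbar.comap (QuotientGroup.mk' N) with hMdef
      have hMn : M.Normal := hMbarn.comap _
      have hNM : N ≤ M := by
        intro k hk
        show QuotientGroup.mk' N k ∈ Mbar
        have : QuotientGroup.mk' N k = 1 := (QuotientGroup.eq_one_iff k).mpr hk
        rw [this]; exact Mbar.one_mem
      have hMidx : M.index = Mbar.index :=
        Mbar.index_comap_of_surjective (QuotientGroup.mk'_surjective N)
      set p := Mbar.index with hp
      have hpp : p.Prime := hMbarp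
      have hrel : N.relIndex M * p = n := by
        rw [← hMidx, Subgroup.relIndex_mul_index hNM, hidx]
      set n' := N.relIndex M with hn'
      have hn'pos : 0 < n' := by
        rcases Nat.eq_zero_or_pos n' with h | h
        · rw [h, zero_mul] at hrel; omega
        · exact h
      have hlt : n' < n := by
        rw [← hrel]
        have := hpp.two_le
        nlinarith
      -- data on M
      have hN'n : (N.subgroupOf M).Normal := inferInstance
      have hsolv' : Group.IsSolvable (M ⧸ N.subgroupOf M) := solvable_subquotient N M hsolv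
      have hϑ' : IsIrrCharacter (N.subgroupOf M) (subOfFun N M ϑ) := subOfFun_irr hNM hϑ
      have hinv' : ∀ (g : M) (k : N.subgroupOf M),
          subOfFun N M ϑ (MulAut.conjNormal g k) = subOfFun N M ϑ k := by
        intro g k
        have h1 := hinv g.1 ⟨k.1.1, Subgroup.mem_subgroupOf.mp k.2⟩
        show ϑ ⟨((MulAut.conjNormal g k : N.subgroupOf M) : M), _⟩ = ϑ ⟨(k : M), _⟩
        rw [← h1]
        congr 1
      have hd' : subOfFun N M ϑ 1 = d := hd
      have hcop' : Nat.Coprime n' d := by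
        rw [← hrel] at hcop
        exact Nat.Coprime.coprime_mul_right hcop
      have hm' : ∀ k : N.subgroupOf M, linFun (m.comp M.subtype) k = detChar (subOfFun N M ϑ) k := by
        intro k
        rw [subOfFun_eq_comp hNM]
        have h1 := detChar_comp (Subgroup.subgroupOfEquivOfLe hNM).toMonoidHom (irr_isCharacter hϑ)
        have h2 : detChar (ϑ ∘ (Subgroup.subgroupOfEquivOfLe hNM)) k =
            detChar ϑ ((Subgroup.subgroupOfEquivOfLe hNM) k) := congrFun h1 k
        rw [h2, ← hm]
        rfl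
      obtain ⟨ψ₀, hψ₀, hψ₀N⟩ := ih n' hlt ↥M (N.subgroupOf M) rfl hsolv' (subOfFun N M ϑ) hϑ'
        hinv' d hd' hcop' (m.comp M.subtype) hm'
      obtain ⟨ψ, ⟨hψirr, hψN, hψdet⟩, huniq⟩ := Cfsg.Agent.S0862.result (N.subgroupOf M)
        (subOfFun N M ϑ) hϑ' d hd' hcop' ⟨ψ₀, hψ₀, hψ₀N⟩ (linFun (m.comp M.subtype))
        ⟨linFun_isCharacter _, linFun_one_eq _⟩ hm'
      -- invariance of ψ
      have hψinv : ∀ g : G, conjChar hMn ψ g = ψ := by
        intro g
        apply huniq
        refine ⟨conjChar_irr hMn hψirr g, ?_, ?_⟩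
        · intro k
          rw [conjChar_apply]
          have hmem : (⟨g * (k : M) * g⁻¹, hMn.conj_mem (k : M) (k : M).2 g⟩ : M) ∈
              N.subgroupOf M := by
            rw [Subgroup.mem_subgroupOf]
            exact hN.conj_mem _ (Subgroup.mem_subgroupOf.mp k.2) g
          have h1 := hψN ⟨_, hmem⟩
          rw [h1]
          have h2 := hinv g ⟨k.1.1, Subgroup.mem_subgroupOf.mp k.2⟩
          show ϑ ⟨g * (k : M) * g⁻¹, _⟩ = ϑ ⟨(k : M), _⟩
          rw [← h2]
          congr 1
        · have h3 := detChar_comp (@MulAut.conjNormal G _ M hMn g).toMonoidHom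
            (irr_isCharacter hψirr)
          rw [conjChar_eq_comp]
          show detChar (ψ ∘ ⇑((@MulAut.conjNormal G _ M hMn g).toMonoidHom)) = _
          rw [h3, hψdet]
          ext x
          show linFun (m.comp M.subtype) (@MulAut.conjNormal G _ M hMn g x) = _
          show ((m ((@MulAut.conjNormal G _ M hMn g x : M) : G) : ℂˣ) : ℂ) = ((m (x : G) : ℂˣ) : ℂ)
          rw [MulAut.conjNormal_apply, map_mul, map_mul, map_inv]
          simp
      -- cyclic extension
      obtain ⟨d', ρ, hρ, hρψ⟩ := hψirr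
      have : Fact (Nat.card (G ⧸ M)).Prime := ⟨by
        have : Nat.card (G ⧸ M) = M.index := rfl
        rw [this, hMidx]; exact hpp⟩
      have hcyc : IsCyclic (G ⧸ M) := isCyclic_of_prime_card rfl
      obtain ⟨σ, hσ, hσM⟩ := extend_cyclic M hcyc ρ hρ (by rw [hρψ]; exact hψinv)
      refine ⟨σ.character, ⟨d', σ, hσ, rfl⟩, ?_⟩
      intro k
      have h1 : σ.character (k : G) = ρ.character ⟨(k : G), hNM k.2⟩ := by
        show LinearMap.trace ℂ _ (σ (k : G)) = LinearMap.trace ℂ _ (ρ ⟨(k : G), hNM k.2⟩)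
        rw [← hσM ⟨(k : G), hNM k.2⟩]
      rw [h1, hρψ]
      have h2 := hψN ⟨⟨(k : G), hNM k.2⟩, Subgroup.mem_subgroupOf.mpr k.2⟩
      rw [h2]
      rfl

end Cfsg.Agent.Lib.Helper8

namespace Cfsg.Agent.Lib.Helper8
open Cfsg

universe u

/-- The determinant criterion applied to an intermediate subgroup with solvable quotient. -/
theorem det_extension_sub {G : Type u} [Group G] [Finite G] (N : Subgroup G) [hN : N.Normal]
    (M : Subgroup G) (hNM : N ≤ M) (hsolv : Group.IsSolvable (M ⧸ N.subgroupOf M))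
    (ϑ : N → ℂ) (hϑ : IsIrrCharacter N ϑ)
    (hinv : ∀ (g : G) (k : N), ϑ (MulAut.conjNormal g k) = ϑ k) (d : ℕ) (hd : ϑ 1 = d)
    (hcop : Nat.Coprime (N.relIndex M) d) (m : G →* ℂˣ)
    (hm : ∀ k : N, linFun m k = detChar ϑ k) :
    ∃ η : M → ℂ, IsIrrCharacter M η ∧ ∀ k : N, η ⟨k, hNM k.2⟩ = ϑ k := by
  have hϑ' : IsIrrCharacter (N.subgroupOf M) (subOfFun N M ϑ) := subOfFun_irr hNM hϑ
  have hinv' : ∀ (g : M) (k : N.subgroupOf M),
      subOfFun N M ϑ (MulAut.conjNormal g k) = subOfFun N M ϑ k := by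
    intro g k
    have h1 := hinv g.1 ⟨k.1.1, Subgroup.mem_subgroupOf.mp k.2⟩
    show ϑ ⟨((MulAut.conjNormal g k : N.subgroupOf M) : M), _⟩ = ϑ ⟨(k : M), _⟩
    rw [← h1]
    congr 1
  have hd' : subOfFun N M ϑ 1 = d := hd
  have hm' : ∀ k : N.subgroupOf M, linFun (m.comp M.subtype) k = detChar (subOfFun N M ϑ) k := by
    intro k
    rw [subOfFun_eq_comp hNM]
    have h1 := detChar_comp (Subgroup.subgroupOfEquivOfLe hNM).toMonoidHom (irr_isCharacter hϑ)
    have h2 : detChar (ϑ ∘ (Subgroup.subgroupOfEquivOfLe hNM)) k =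
        detChar ϑ ((Subgroup.subgroupOfEquivOfLe hNM) k) := congrFun h1 k
    rw [h2, ← hm]
    rfl
  obtain ⟨η, hη, hηN⟩ := det_extension_solvable (N.relIndex M) ↥M (N.subgroupOf M) rfl hsolv
    (subOfFun N M ϑ) hϑ' hinv' d hd' hcop (m.comp M.subtype) hm'
  refine ⟨η, hη, ?_⟩
  intro k
  have := hηN ⟨⟨(k : G), hNM k.2⟩, Subgroup.mem_subgroupOf.mpr k.2⟩
  rw [this]
  rfl

/-- The forward direction: the determinant of an extension extends the determinant. -/
theorem det_extends_of_extends {G : Type u} [Group G] [Finite G] (N : Subgroup G)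
    (ϑ : N → ℂ) (χ : G → ℂ) (hχ : IsCharacter G χ) (hres : ∀ n : N, χ n = ϑ n) :
    ∃ m : G →* ℂˣ, ∀ n : N, linFun m n = detChar ϑ n := by
  obtain ⟨δ, hδ⟩ := exists_detHom hχ
  refine ⟨δ, ?_⟩
  intro n
  have h1 : (fun n : N => χ n) = ϑ := funext hres
  rw [← h1, ← hδ]
  exact (congrFun (detChar_comp N.subtype hχ) n).symm

end Cfsg.Agent.Lib.Helper8
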