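import Mathlib
import Cfsg.Prelude.Def_Characters
import Cfsg.Agent.Lib.Helper8.CharEquiv
import Cfsg.Agent.Lib.Helper8.CharSchur
import Cfsg.Agent.Lib.Helper8.CharLinear
import Cfsg.Agent.Lib.Helper8.CharMonomial

set_option autoImplicit false

namespace Cfsg.Agent.Lib.Helper8
open Cfsg

universe u v

variable {G : Type u} [Group G] {V : Type v} [AddCommGroup V] [Module ℂ V]

/-- The coercion of linear automorphisms to endomorphisms, as a monoid hom. -/
noncomputable def toEndHom (V : Type v) [AddCommGroup V] [Module ℂ V] :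
    (V ≃ₗ[ℂ] V) →* Module.End ℂ V where
  toFun e := e.toLinearMap
  map_one' := rfl
  map_mul' _ _ := rfl

@[simp] theorem toEndHom_apply (e : V ≃ₗ[ℂ] V) (v : V) : toEndHom V e v = e v := rfl

/-- A representation as a homomorphism into the group of linear automorphisms. -/
noncomputable def repEquiv {N : Type*} [Group N] (Y : Representation ℂ N V) : N →* (V ≃ₗ[ℂ] V) where
  toFun n := LinearEquiv.ofLinear (Y n) (Y n⁻¹)
    (by rw [← Module.End.mul_eq_comp, ← map_mul, mul_inv_cancel, map_one]; rfl)
    (by rw [← Module.End.mul_eq_comp, ← map_mul, inv_mul_cancel, map_one]; rfl)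
  map_one' := by
    ext v
    simp
  map_mul' a b := by
    ext v
    simp

@[simp] theorem repEquiv_apply {N : Type*} [Group N] (Y : Representation ℂ N V) (n : N) (v : V) :
    repEquiv Y n v = Y n v := rfl

/-- The lifting group: pairs `(g, A)` with `A` intertwining `Y` and its `g`-conjugate, with
determinant of order dividing `L`. -/
def liftGroup (N : Subgroup G) [hN : N.Normal] (Y : Representation ℂ N V) (L : ℕ) :
    Subgroup (G × (V ≃ₗ[ℂ] V)) where
  carrier := {x | (∀ (n : N) (v : V), x.2 (Y n v) = Y (MulAut.conjNormal x.1 n) (x.2 v)) ∧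
    (LinearMap.det (toEndHom V x.2)) ^ L = 1}
  mul_mem' := by
    rintro x y ⟨hx1, hx2⟩ ⟨hy1, hy2⟩
    refine ⟨?_, ?_⟩
    · intro n v
      rw [Prod.snd_mul, Prod.fst_mul, LinearEquiv.mul_apply, LinearEquiv.mul_apply, hy1, hx1,
        map_mul, MulAut.mul_apply]
    · rw [Prod.snd_mul, map_mul, map_mul, mul_pow, hx2, hy2, one_mul]
  one_mem' := by
    refine ⟨?_, ?_⟩
    · intro n v
      rw [Prod.snd_one, Prod.fst_one, map_one, MulAut.one_apply]
      rfl
    · rw [Prod.snd_one, map_one, map_one, one_pow]
  inv_mem' := by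
    rintro x ⟨hx1, hx2⟩
    refine ⟨?_, ?_⟩
    · intro n v
      rw [Prod.snd_inv, Prod.fst_inv]
      apply x.2.injective
      rw [hx1, ← MulAut.mul_apply, ← map_mul, mul_inv_cancel, map_one, MulAut.one_apply,
        ← LinearEquiv.mul_apply, ← LinearEquiv.mul_apply, mul_inv_cancel]
      rfl
    · rw [Prod.snd_inv]
      have h1 : LinearMap.det (toEndHom V x.2) * LinearMap.det ((toEndHom V x.2⁻¹)) = 1 := by
        rw [← map_mul, ← map_mul, mul_inv_cancel, map_one, map_one]
      have h2 : (LinearMap.det (toEndHom V x.2)) ^ L * (LinearMap.det ((toEndHom V x.2⁻¹))) ^ L = 1 := by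
        rw [← mul_pow, h1, one_pow]
      rw [hx2, one_mul] at h2
      exact h2

variable (N : Subgroup G) [hN : N.Normal] (Y : Representation ℂ N V) (L : ℕ)

theorem mem_liftGroup (x : G × (V ≃ₗ[ℂ] V)) : x ∈ liftGroup N Y L ↔
    (∀ (n : N) (v : V), x.2 (Y n v) = Y (MulAut.conjNormal x.1 n) (x.2 v)) ∧
      (LinearMap.det (toEndHom V x.2)) ^ L = 1 := Iff.rfl

/-- The projection of the lifting group to `G`. -/
def liftProj : liftGroup N Y L →* G := (MonoidHom.fst G _).comp (liftGroup N Y L).subtype

/-- The tautological representation of the lifting group. -/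
noncomputable def liftRep : Representation ℂ (liftGroup N Y L) V :=
  (toEndHom V).comp ((MonoidHom.snd G _).comp (liftGroup N Y L).subtype)

@[simp] theorem liftProj_apply (x : liftGroup N Y L) : liftProj N Y L x = x.1.1 := rfl
@[simp] theorem liftRep_apply (x : liftGroup N Y L) (v : V) : liftRep N Y L x v = x.1.2 v := rfl

theorem conjNormal_self (n m : N) : MulAut.conjNormal (n : G) m = n * m * n⁻¹ := by
  apply Subtype.ext
  rw [MulAut.conjNormal_apply]
  rfl

/-- The embedding of `N` in the lifting group. -/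
noncomputable def liftIncl (hL : ∀ n : N, n ^ L = 1) : N →* liftGroup N Y L where
  toFun n := ⟨((n : G), repEquiv Y n), by
    refine ⟨?_, ?_⟩
    · intro m v
      show Y n (Y m v) = Y (MulAut.conjNormal (n : G) m) (Y n v)
      rw [conjNormal_self, ← Module.End.mul_apply, ← Module.End.mul_apply, ← map_mul, ← map_mul]
      congr 2
      group
    · show LinearMap.det (toEndHom V (repEquiv Y n)) ^ L = 1
      rw [← map_pow, ← map_pow, ← map_pow, hL n, map_one, map_one, map_one]⟩
  map_one' := by
    apply Subtype.ext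
    show ((((1 : N) : G)), repEquiv Y 1) = 1
    rw [map_one]; rfl
  map_mul' a b := by
    apply Subtype.ext
    show ((((a * b : N) : G)), repEquiv Y (a * b)) = ((a : G), repEquiv Y a) * ((b : G), repEquiv Y b)
    rw [map_mul]; rfl

theorem liftProj_liftIncl (hL : ∀ n : N, n ^ L = 1) (n : N) :
    liftProj N Y L (liftIncl N Y L hL n) = n := rfl

theorem liftRep_liftIncl (hL : ∀ n : N, n ^ L = 1) (n : N) :
    liftRep N Y L (liftIncl N Y L hL n) = Y n := by
  ext v; rfl

theorem liftIncl_injective (hL : ∀ n : N, n ^ L = 1) : Function.Injective (liftIncl N Y L hL) := by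
  intro a b hab
  have := congrArg (liftProj N Y L) hab
  rw [liftProj_liftIncl, liftProj_liftIncl] at this
  exact Subtype.ext this

/-- The tautological representation is irreducible if `Y` is. -/
theorem liftRep_irreducible (hL : ∀ n : N, n ^ L = 1) (hY : Y.IsIrreducible) :
    (liftRep N Y L).IsIrreducible := by
  apply irreducible_of_comp (liftIncl N Y L hL)
  have : ((liftRep N Y L).comp (liftIncl N Y L hL) : Representation ℂ N V) = Y := by
    apply MonoidHom.ext
    intro n
    exact liftRep_liftIncl N Y L hL n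
  rw [this]; exact hY

/-- Elements of the lifting group over `1` are scalars. -/
theorem liftGroup_ker_scalar [FiniteDimensional ℂ V] (hY : Y.IsIrreducible) (x : liftGroup N Y L)
    (hx : x.1.1 = 1) : ∃ c : ℂ, (∀ v : V, x.1.2 v = c • v) ∧ c ^ (Module.finrank ℂ V * L) = 1 := by
  obtain ⟨h1, h2⟩ := x.2
  obtain ⟨c, hc⟩ := schur_scalar hY (toEndHom V x.1.2) (by
    intro n v
    have := h1 n v
    rw [hx, map_one, MulAut.one_apply] at this
    exact this)
  refine ⟨c, hc, ?_⟩
  have h3 : toEndHom V x.1.2 = c • (1 : Module.End ℂ V) := by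
    ext v
    rw [hc v]; rfl
  rw [h3, LinearMap.det_smul, map_one, mul_one] at h2
  rw [pow_mul]; exact h2

/-- The projection from the lifting group is surjective when the character of `Y` is invariant. -/
theorem liftProj_surjective [Finite N] [FiniteDimensional ℂ V] (hY : Y.IsIrreducible)
    (hinv : ∀ (g : G) (n : N), Y.character (MulAut.conjNormal g n) = Y.character n) :
    Function.Surjective (liftProj N Y L) := by
  intro g
  have hnt : Nontrivial V := irreducible_nontrivial hY
  let Yg : Representation ℂ N V := Y.comp (MulAut.conjNormal g : MulAut N).toMonoidHom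
  have hchar : Y.character = Yg.character := by
    ext n
    exact (hinv g n).symm
  obtain ⟨φ⟩ := equiv_of_character_eq Y Yg hchar
  set A₀ : V ≃ₗ[ℂ] V := φ.toLinearEquiv with hA₀
  have hint : ∀ (n : N) (v : V), A₀ (Y n v) = Y (MulAut.conjNormal g n) (A₀ v) := by
    intro n v
    have := φ.isIntertwining' n
    exact LinearMap.congr_fun this v
  have hdetne : LinearMap.det (toEndHom V A₀) ≠ 0 := by
    have h1 : LinearMap.det (toEndHom V A₀) * LinearMap.det (toEndHom V A₀⁻¹) = 1 := by
      rw [← map_mul, ← map_mul, mul_inv_cancel, map_one, map_one]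
    intro h0
    rw [h0, zero_mul] at h1
    exact zero_ne_one h1
  have hdpos : 0 < Module.finrank ℂ V := Module.finrank_pos
  obtain ⟨c, hc⟩ := IsAlgClosed.exists_pow_nat_eq (LinearMap.det (toEndHom V A₀))⁻¹ hdpos
  have hcne : c ≠ 0 := by
    intro h0
    rw [h0, zero_pow hdpos.ne'] at hc
    exact inv_ne_zero hdetne hc.symm
  let cu : ℂˣ := Units.mk0 c hcne
  let S : V ≃ₗ[ℂ] V := DistribMulAction.toLinearEquiv ℂ V cu
  have hS : ∀ v, S v = c • v := fun v => rfl
  refine ⟨⟨(g, S * A₀), ?_, ?_⟩, rfl⟩
  · intro n v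
    show S (A₀ (Y n v)) = Y (MulAut.conjNormal g n) (S (A₀ v))
    rw [hS, hS, hint, map_smul]
  · have h1 : toEndHom V (S * A₀) = c • toEndHom V A₀ := by
      ext v
      show S (A₀ v) = c • A₀ v
      rw [hS]
    show LinearMap.det (toEndHom V (S * A₀)) ^ L = 1
    rw [h1, LinearMap.det_smul, hc, inv_mul_cancel₀ hdetne, one_pow]

/-- The lifting group is finite. -/
theorem liftGroup_finite [Finite G] [FiniteDimensional ℂ V] (hY : Y.IsIrreducible) (hLpos : 0 < L) :
    Finite (liftGroup N Y L) := by
  classical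
  have hnt : Nontrivial V := irreducible_nontrivial hY
  have hdpos : 0 < Module.finrank ℂ V := Module.finrank_pos
  set M := Module.finrank ℂ V * L with hM
  have hMpos : 0 < M := Nat.mul_pos hdpos hLpos
  -- the kernel is finite
  let S : Set (Module.End ℂ V) :=
    (fun z : ℂ => z • (1 : Module.End ℂ V)) '' (↑(Polynomial.nthRootsFinset M (1 : ℂ)) : Set ℂ)
  have hSfin : S.Finite := Set.Finite.image _ (Finset.finite_toSet _)
  have : Finite S := hSfin
  have hkerfin : Finite (liftProj N Y L).ker := by
    apply Finite.of_injective (fun x : (liftProj N Y L).ker => (⟨toEndHom V x.1.1.2, by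
      obtain ⟨c, hc1, hc2⟩ := liftGroup_ker_scalar N Y L hY x.1 (MonoidHom.mem_ker.mp x.2)
      refine ⟨c, ?_, ?_⟩
      · rw [Finset.mem_coe, Polynomial.mem_nthRootsFinset hMpos]
        exact hc2
      · ext v
        rw [toEndHom_apply, hc1 v]; rfl⟩ : S))
    intro x y hxy
    have h1 : toEndHom V x.1.1.2 = toEndHom V y.1.1.2 := congrArg Subtype.val hxy
    apply Subtype.ext
    apply Subtype.ext
    apply Prod.ext
    · have hx := MonoidHom.mem_ker.mp x.2
      have hy := MonoidHom.mem_ker.mp y.2
      rw [liftProj_apply] at hx hy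
      rw [hx, hy]
    · apply LinearEquiv.ext
      intro v
      exact LinearMap.congr_fun h1 v
  have hidx : (liftProj N Y L).ker.index ≠ 0 := by
    rw [Subgroup.index_ker]
    exact Nat.card_pos.ne'
  have hcard : Nat.card (liftProj N Y L).ker ≠ 0 := Nat.card_pos.ne'
  have h1 := Subgroup.card_mul_index (liftProj N Y L).ker
  have h2 : Nat.card (liftGroup N Y L) ≠ 0 := by
    rw [← h1]
    exact Nat.mul_ne_zero hcard hidx
  exact Nat.finite_of_card_ne_zero h2

end Cfsg.Agent.Lib.Helper8
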