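import Mathlib
import Cfsg.Prelude.Def_Characters
import Cfsg.Agent.Lib.Helper8.ProjLift
import Cfsg.Agent.Lib.Helper8.CharLinExt
import Cfsg.Agent.Lib.Helper8.CharComplete

set_option autoImplicit false

namespace Cfsg.Agent.Lib.Helper8
open Cfsg

universe u v

variable {G : Type u} [Group G] {V : Type v} [AddCommGroup V] [Module ℂ V]

theorem smul_rep_cancel [Nontrivial V] {Q : Type*} [Group Q] (Z : Representation ℂ Q V) (q : Q)
    {c c' : ℂ} (h : ∀ v : V, c • Z q v = c' • Z q v) : c = c' := by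
  obtain ⟨v, hv⟩ := exists_ne (0 : V)
  have h1 := h (Z q⁻¹ v)
  rw [← Module.End.mul_apply, ← map_mul, mul_inv_cancel, map_one, Module.End.one_apply] at h1
  by_contra hne
  have h2 : (c - c') • v = 0 := by rw [sub_smul, h1, sub_self]
  rcases smul_eq_zero.mp h2 with h3 | h3
  · exact hne (sub_eq_zero.mp h3)
  · exact hv h3

/-- The ratio homomorphism: elements of the lifting group over `Q` differ from a representation
`Z` of `Q` extending `Y` by a scalar, and the scalar is multiplicative. -/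
theorem exists_ratio_hom [FiniteDimensional ℂ V] (N : Subgroup G) [hN : N.Normal]
    (Y : Representation ℂ N V) (L : ℕ) (hY : Y.IsIrreducible) (Q : Subgroup G) (hNQ : N ≤ Q)
    (Z : Representation ℂ Q V) (hZN : ∀ n : N, Z ⟨n, hNQ n.2⟩ = Y n) :
    ∃ r : (Q.comap (liftProj N Y L)) →* ℂˣ, ∀ (a : Q.comap (liftProj N Y L)) (v : V),
      a.1.1.2 v = ((r a : ℂˣ) : ℂ) • Z ((liftProj N Y L).subgroupComap Q a) v := by
  classical
  have hnt : Nontrivial V := irreducible_nontrivial hY
  have key : ∀ a : Q.comap (liftProj N Y L), ∃ c : ℂ, ∀ v : V,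
      a.1.1.2 v = c • Z ((liftProj N Y L).subgroupComap Q a) v := by
    intro a
    set q : Q := (liftProj N Y L).subgroupComap Q a with hq
    have hqa : (q : G) = a.1.1.1 := rfl
    let T : V →ₗ[ℂ] V := (toEndHom V a.1.1.2) ∘ₗ (Z q⁻¹)
    have hT : ∀ (n : N) (v : V), T (Y n v) = Y n (T v) := by
      intro n v
      show a.1.1.2 (Z q⁻¹ (Y n v)) = Y n (a.1.1.2 (Z q⁻¹ v))
      -- q⁻¹ n q ∈ N
      set n' : N := MulAut.conjNormal (q : G)⁻¹ n with hn'
      have h1 : Z q⁻¹ (Y n v) = Y n' (Z q⁻¹ v) := by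
        rw [← hZN n, ← hZN n', ← Module.End.mul_apply, ← Module.End.mul_apply, ← map_mul, ← map_mul]
        congr 2
        apply Subtype.ext
        show ((q⁻¹ : Q) : G) * (n : G) = ((n' : N) : G) * ((q⁻¹ : Q) : G)
        rw [hn', MulAut.conjNormal_apply]
        simp
      rw [h1, a.1.2.1 n' (Z q⁻¹ v)]
      congr 2
      apply Subtype.ext
      rw [MulAut.conjNormal_apply, hn', MulAut.conjNormal_apply, ← hqa]
      group
    obtain ⟨c, hc⟩ := schur_scalar hY T hT
    refine ⟨c, ?_⟩
    intro v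
    have h2 := hc (Z q v)
    have h3 : T (Z q v) = a.1.1.2 v := by
      show a.1.1.2 (Z q⁻¹ (Z q v)) = a.1.1.2 v
      rw [← Module.End.mul_apply, ← map_mul, inv_mul_cancel, map_one, Module.End.one_apply]
    rw [h3] at h2
    exact h2
  choose c hc using key
  have hcne : ∀ a, c a ≠ 0 := by
    intro a h0
    obtain ⟨v, hv⟩ := exists_ne (0 : V)
    have h1 := hc a v
    rw [h0, zero_smul] at h1
    have h2 : a.1.1.2 v = a.1.1.2 0 := by rw [h1, map_zero]
    exact hv (a.1.1.2.injective h2)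
  have hone : c 1 = 1 := by
    apply smul_rep_cancel Z ((liftProj N Y L).subgroupComap Q 1)
    intro v
    rw [← hc 1 v, map_one, map_one, Module.End.one_apply, one_smul]
    rfl
  have hmul : ∀ a b, c (a * b) = c a * c b := by
    intro a b
    apply smul_rep_cancel Z ((liftProj N Y L).subgroupComap Q (a * b))
    intro v
    rw [← hc (a * b) v, map_mul, map_mul, Module.End.mul_apply, mul_smul, ← map_smul, ← hc b v, ← hc a]
    rfl
  refine ⟨{ toFun := fun a => Units.mk0 (c a) (hcne a)
            map_one' := Units.ext hone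
            map_mul' := fun a b => Units.ext (hmul a b) }, ?_⟩
  intro a v
  exact hc a v

/-- Scalar linear equivalences. -/
noncomputable def scalarEquiv (V : Type v) [AddCommGroup V] [Module ℂ V] (c : ℂˣ) : V ≃ₗ[ℂ] V :=
  DistribMulAction.toLinearEquiv ℂ V c

@[simp] theorem scalarEquiv_apply (c : ℂˣ) (w : V) : scalarEquiv V c w = (c : ℂ) • w := rfl

/-- Main extension theorem: an invariant irreducible representation of a normal subgroup
extends to `G` as soon as, for every prime `p`, it extends to a subgroup of index prime to `p`. -/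
theorem extends_of_sylow [Finite G] [FiniteDimensional ℂ V] (N : Subgroup G) [hN : N.Normal]
    (Y : Representation ℂ N V) (hY : Y.IsIrreducible)
    (hinv : ∀ (g : G) (n : N), Y.character (MulAut.conjNormal g n) = Y.character n)
    (hsyl : ∀ p : ℕ, p.Prime → ∃ (P : Subgroup G) (hNP : N ≤ P) (Z : Representation ℂ P V),
      Nat.Coprime P.index p ∧ ∀ n : N, Z ⟨n, hNP n.2⟩ = Y n) :
    ∃ Z : Representation ℂ G V, ∀ n : N, Z n = Y n := by
  classical
  have hnt : Nontrivial V := irreducible_nontrivial hY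
  set L := Nat.card N with hLdef
  have hL : ∀ n : N, n ^ L = 1 := fun n => pow_card_eq_one'
  have hLpos : 0 < L := Nat.card_pos
  have hfin : Finite (liftGroup N Y L) := liftGroup_finite N Y L hY hLpos
  have hπ : Function.Surjective (liftProj N Y L) := liftProj_surjective N Y L hY hinv
  -- the subgroup A and its character
  set A : Subgroup (liftGroup N Y L) := N.comap (liftProj N Y L) with hA
  have hAn : A.Normal := inferInstance
  obtain ⟨lam, hlam⟩ := exists_ratio_hom N Y L hY N (le_refl N) Y (fun n => rfl)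
  have hlam' : ∀ (a : A) (v : V), a.1.1.2 v =
      ((lam a : ℂˣ) : ℂ) • Y ⟨a.1.1.1, a.2⟩ v := fun a v => hlam a v
  -- invariance
  have hlaminv : IsInvHom A lam := by
    intro x a
    apply Units.ext
    set b : A := MulAut.conjNormal x a with hb
    have hb1 : b.1 = x * a.1 * x⁻¹ := by rw [hb, MulAut.conjNormal_apply]
    apply smul_rep_cancel Y ⟨b.1.1.1, b.2⟩
    intro v
    rw [← hlam' b v]
    have h1 : b.1.1.2 v = x.1.2 (a.1.1.2 (x.1.2⁻¹ v)) := by
      rw [hb1]; rfl
    rw [h1, hlam' a, map_smul, x.2.1, ← LinearEquiv.mul_apply, mul_inv_cancel]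
    congr 2
  -- Sylow data
  obtain ⟨ν, hν⟩ := exists_extension_of_sylow A (orderOf lam) lam rfl hlaminv (by
    intro p hp _
    obtain ⟨P, hNP, Z, hcop, hZN⟩ := hsyl p hp
    obtain ⟨r, hr⟩ := exists_ratio_hom N Y L hY P hNP Z hZN
    have hAP : A ≤ P.comap (liftProj N Y L) := Subgroup.comap_mono hNP
    refine ⟨P.comap (liftProj N Y L), hAP, r, ?_, ?_⟩
    · rw [P.index_comap_of_surjective hπ]; exact hcop
    · intro a
      apply Units.ext
      apply smul_rep_cancel Y ⟨a.1.1.1, a.2⟩
      intro v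
      rw [← hlam' a v, hr ⟨a.1, hAP a.2⟩ v, ← hZN]
      rfl)
  -- the representation of the lifting group trivial on the kernel
  let X' : liftGroup N Y L →* (V ≃ₗ[ℂ] V) :=
    { toFun := fun a => scalarEquiv V (ν a)⁻¹ * a.1.2
      map_one' := by
        rw [map_one, inv_one]
        apply LinearEquiv.ext
        intro v
        show ((1 : ℂˣ) : ℂ) • ((1 : liftGroup N Y L).1.2 v) = v
        rw [Units.val_one, one_smul]; rfl
      map_mul' := fun a b => by
        apply LinearEquiv.ext
        intro v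
        show (((ν (a * b))⁻¹ : ℂˣ) : ℂ) • ((a * b).1.2 v) =
          (((ν a)⁻¹ : ℂˣ) : ℂ) • a.1.2 ((((ν b)⁻¹ : ℂˣ) : ℂ) • b.1.2 v)
        rw [map_mul, mul_inv, Units.val_mul, mul_smul, map_smul]
        rfl }
  have hX'ker : (liftProj N Y L).ker ≤ X'.ker := by
    intro w hw
    rw [MonoidHom.mem_ker] at hw ⊢
    have hwA : w ∈ A := by
      show liftProj N Y L w ∈ N
      rw [hw]; exact N.one_mem
    apply LinearEquiv.ext
    intro v
    show (((ν w)⁻¹ : ℂˣ) : ℂ) • (w.1.2 v) = v
    have h1 := hlam' ⟨w, hwA⟩ v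
    have h2 : (⟨w.1.1, hwA⟩ : N) = 1 := Subtype.ext hw
    simp only at h1
    rw [h2, map_one, Module.End.one_apply] at h1
    rw [h1, ← hν ⟨w, hwA⟩, smul_smul, ← Units.val_mul, inv_mul_cancel, Units.val_one, one_smul]
  let ZG : G →* (V ≃ₗ[ℂ] V) := (liftProj N Y L).liftOfSurjective hπ ⟨X', hX'ker⟩
  have hZG : ∀ a : liftGroup N Y L, ZG (liftProj N Y L a) = X' a := fun a =>
    MonoidHom.liftOfRightInverse_comp_apply _ _ _ ⟨X', hX'ker⟩ a
  refine ⟨(toEndHom V).comp ZG, ?_⟩
  intro n
  ext v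
  show ZG (n : G) v = Y n v
  have h1 : (n : G) = liftProj N Y L (liftIncl N Y L hL n) := rfl
  rw [h1, hZG]
  show (((ν (liftIncl N Y L hL n))⁻¹ : ℂˣ) : ℂ) • (Y n v) = Y n v
  have hmem : liftIncl N Y L hL n ∈ A := by
    show liftProj N Y L (liftIncl N Y L hL n) ∈ N
    exact n.2
  have h2 : lam ⟨liftIncl N Y L hL n, hmem⟩ = 1 := by
    apply Units.ext
    apply smul_rep_cancel Y n
    intro w
    have := hlam' ⟨liftIncl N Y L hL n, hmem⟩ w
    rw [Units.val_one, one_smul]
    exact this.symm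
  rw [← hν ⟨liftIncl N Y L hL n, hmem⟩] at h2
  simp only at h2
  rw [h2, inv_one, Units.val_one, one_smul]

end Cfsg.Agent.Lib.Helper8
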