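import Mathlib
import Cfsg.Prelude.Def_Characters
import Cfsg.Prelude.Def_CharExt
import Cfsg.Agent.Lib.Helper8.GlaubCanon
import Cfsg.Agent.Lib.Helper8.GlaubCoset
import Cfsg.Agent.Lib.Helper8.GlaubOrth
import Cfsg.Agent.Lib.Helper8.GlaubInt
import Cfsg.Agent.Lib.Helper8.CharSigned
import Cfsg.Agent.Lib.Helper8.BrauerGlobal
import Cfsg.Agent.S0867
import Cfsg.Agent.Lib.Helper8.BrauerDefect

set_option autoImplicit false
set_option maxHeartbeats 1000000

universe u

namespace Cfsg.Agent.Lib.Helper8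
open Cfsg
open scoped ComplexConjugate

variable {Γ : Type u} [Group Γ]

/-- The index of `G` is the order of `s`. -/
theorem glaub_index [Finite Γ] (G : Subgroup Γ) [hG : G.Normal] (s : Γ)
    (hcop : Nat.Coprime (Nat.card G) (orderOf s)) (hgen : G ⊔ Subgroup.zpowers s = ⊤) :
    G.index = orderOf s := by
  have h1 : G ⊓ Subgroup.zpowers s = ⊥ :=
    (Subgroup.disjoint_of_coprime_natCard (by rwa [Nat.card_zpowers])).eq_bot
  rw [← Subgroup.relIndex_top_right, ← hgen, Subgroup.relIndex_sup_left,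
    ← Subgroup.inf_relIndex_right, h1, Subgroup.relIndex_bot_left, Nat.card_zpowers]

/-- The quotient by `G` is abelian. -/
theorem glaub_comm_mem (G : Subgroup Γ) [hG : G.Normal] (s : Γ)
    (hgen : G ⊔ Subgroup.zpowers s = ⊤) (x y : Γ) : x * y * x⁻¹ * y⁻¹ ∈ G := by
  have key : ∀ x : Γ, ∃ i : ℤ, (QuotientGroup.mk' G) x = (QuotientGroup.mk' G) s ^ i := by
    intro x
    have hx : x ∈ G ⊔ Subgroup.zpowers s := by rw [hgen]; trivial
    rw [Subgroup.mem_sup_of_normal_left] at hx
    obtain ⟨g, hg, z, hz, rfl⟩ := hx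
    obtain ⟨i, rfl⟩ := Subgroup.mem_zpowers_iff.mp hz
    refine ⟨i, ?_⟩
    rw [map_mul, map_zpow]
    have : (QuotientGroup.mk' G) g = 1 := (QuotientGroup.eq_one_iff g).mpr hg
    rw [this, one_mul]
  obtain ⟨i, hi⟩ := key x
  obtain ⟨j, hj⟩ := key y
  have h1 : (QuotientGroup.mk' G) (x * y * x⁻¹ * y⁻¹) = 1 := by
    rw [map_mul, map_mul, map_mul, map_inv, map_inv, hi, hj]
    rw [← zpow_add, ← zpow_neg, ← zpow_add, ← zpow_neg, ← zpow_add]
    have : i + j + -i + -j = 0 := by ring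
    rw [this, zpow_zero]
  exact (QuotientGroup.eq_one_iff _).mp h1

/-- The canonical extension takes the same value at `c s^j` for all `j` prime to the order
of `s`. -/
theorem glaub_pow_invariant [Finite Γ] (G : Subgroup Γ) [hG : G.Normal] (s : Γ)
    (hcop : Nat.Coprime (Nat.card G) (orderOf s)) (hgen : G ⊔ Subgroup.zpowers s = ⊤)
    (χh : Γ → ℂ) (hχh : IsIrrCharacter Γ χh) (hirr : IsIrrCharacter G (fun g : G => χh g))
    (hd : Nat.Coprime (detOrder χh) (orderOf s))
    (c : Γ) (hc : c ∈ G) (hcs : c * s = s * c) (j : ℕ) (hj : j.Coprime (orderOf s)) :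
    χh (c * s ^ j) = χh (c * s) := by
  have hidx := glaub_index G s hcop hgen
  obtain ⟨k, hk1, hk2⟩ := Nat.chineseRemainder hcop 1 j
  have hkG : k.Coprime (Nat.card G) := by
    have := hk1.gcd_eq
    rw [Nat.gcd_one_left] at this
    exact this
  have hkn : k.Coprime (orderOf s) := by
    have := hk2.gcd_eq
    rw [Nat.Coprime] at hj
    rw [hj] at this
    exact this
  have hcard : Nat.card Γ = Nat.card G * orderOf s := by
    rw [← hidx]; exact (Subgroup.card_mul_index G).symm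
  have hkΓ : k.Coprime (Nat.card Γ) := by
    rw [hcard]; exact Nat.Coprime.mul_right hkG hkn
  have h := canonical_ext_pow_invariant G (by rw [hidx]; exact hcop) χh hχh hirr
    (by rw [hidx]; exact hd) k hkΓ hk1 (c * s)
  have hcomm : Commute c s := hcs
  have hck : c ^ k = c := by
    have h1 : c ^ k = c ^ 1 := by
      rw [pow_eq_pow_iff_modEq]
      have hdvd : orderOf c ∣ Nat.card G := by
        have := orderOf_dvd_natCard (⟨c, hc⟩ : G)
        rwa [Subgroup.orderOf_mk] at this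
      exact hk1.of_dvd hdvd
    rw [h1, pow_one]
  have hsk : s ^ k = s ^ j := by
    rw [pow_eq_pow_iff_modEq]; exact hk2
  rw [hcomm.mul_pow, hck, hsk] at h
  exact h

/-- `c ↦ F (c s)` is a class function on `C`. -/
theorem glaub_classFunction (s : Γ) (C : Subgroup Γ) (hC : ∀ x ∈ C, x * s = s * x)
    (F : Γ → ℂ) (hF : IsClassFunction Γ F) :
    IsClassFunction C (fun c : C => F ((c : Γ) * s)) := by
  intro c d
  show F (((d * c * d⁻¹ : C) : Γ) * s) = F ((c : Γ) * s)
  have hd := hC d d.2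
  have : ((d * c * d⁻¹ : C) : Γ) * s = (d : Γ) * ((c : Γ) * s) * (d : Γ)⁻¹ := by
    push_cast
    have h2 : (d : Γ)⁻¹ * s = s * (d : Γ)⁻¹ := by
      have := congrArg (fun t => (d : Γ)⁻¹ * t * (d : Γ)⁻¹) hd
      simp only [mul_assoc, inv_mul_cancel_left, mul_inv_cancel, mul_one] at this
      exact this.symm
    rw [mul_assoc _ _ s, h2]
    simp only [mul_assoc]
  rw [this, hF]

/-- Orthogonality of the functions `c ↦ χh (c s)` on `C`. -/
theorem glaub_orth [Fintype Γ] (G : Subgroup Γ) [hG : G.Normal] [Fintype G] (s : Γ)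
    (hcop : Nat.Coprime (Nat.card G) (orderOf s)) (hgen : G ⊔ Subgroup.zpowers s = ⊤)
    (C : Subgroup Γ) [Fintype C] (hC : ∀ x, x ∈ C ↔ x ∈ G ∧ x * s = s * x)
    (χh ψh : Γ → ℂ) (hχh : IsIrrCharacter Γ χh) (hψh : IsIrrCharacter Γ ψh)
    (hχ : IsIrrCharacter G (fun g : G => χh g)) :
    classInner (fun c : C => χh ((c : Γ) * s)) (fun c : C => ψh ((c : Γ) * s)) =
      if (fun g : G => χh g) = (fun g : G => ψh g) ∧ χh = ψh then 1
      else if (fun g : G => χh g) ≠ (fun g : G => ψh g) then 0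
      else classInner (fun c : C => χh ((c : Γ) * s)) (fun c : C => ψh ((c : Γ) * s)) := by
  classical
  have hab := glaub_comm_mem G s hgen
  have hF : IsClassFunction Γ (fun x => χh x * conj (ψh x)) := by
    intro g h
    show χh _ * conj (ψh _) = _
    rw [isClassFunction_of_isCharacter (irr_isCharacter hχh) g h,
      isClassFunction_of_isCharacter (irr_isCharacter hψh) g h]
  have hsum := coset_sum_formula G s hcop C hC _ hF
  have hCne : (Nat.card C : ℂ) ≠ 0 := Nat.cast_ne_zero.mpr Nat.card_pos.ne'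
  have hGne : (Nat.card G : ℂ) ≠ 0 := Nat.cast_ne_zero.mpr Nat.card_pos.ne'
  have hval : classInner (fun c : C => χh ((c : Γ) * s)) (fun c : C => ψh ((c : Γ) * s)) =
      (Nat.card G : ℂ)⁻¹ * ∑ g : G, χh ((g : Γ) * s) * conj (ψh ((g : Γ) * s)) := by
    unfold classInner
    rw [inv_mul_eq_iff_eq_mul₀ hCne, ← mul_assoc, mul_comm (Nat.card C : ℂ), mul_assoc, hsum,
      ← mul_assoc, inv_mul_cancel₀ hGne, one_mul]
  split_ifs with h1 h2
  · obtain ⟨-, rfl⟩ := h1
    rw [hval, coset_orth_self G hab χh hχh hχ s, inv_mul_cancel₀ hGne]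
  · rw [hval, coset_orth_ne G hab χh ψh hχh hψh h2 s, mul_zero]
  · rfl

/-- Expansion of the partial inner product along a commuting cyclic subgroup. -/
theorem commuting_mult_expansion [Finite Γ] (s : Γ) (C : Subgroup Γ) [Fintype C]
    (hC : ∀ x ∈ C, x * s = s * x) (χh : Γ → ℂ) (hχh : IsCharacter Γ χh) (β : C → ℂ)
    (hβ : IsCharacter C β) [Fintype (IrrCharacter (Subgroup.zpowers s))] :
    ∃ m : IrrCharacter (Subgroup.zpowers s) → ℕ, ∀ z : Subgroup.zpowers s,
      (Nat.card C : ℂ)⁻¹ * ∑ c : C, χh ((c : Γ) * z) * conj (β c) =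
        ∑ μ : IrrCharacter (Subgroup.zpowers s), (m μ : ℂ) * μ.1 z := by
  classical
  haveI : Fintype (Subgroup.zpowers s) := Fintype.ofFinite _
  have comm : ∀ (c : C) (z : Subgroup.zpowers s),
      Commute (C.subtype c) ((Subgroup.zpowers s).subtype z) := by
    intro c z
    obtain ⟨i, hi⟩ := Subgroup.mem_zpowers_iff.mp z.2
    show Commute (c : Γ) (z : Γ)
    rw [← hi]
    exact Commute.zpow_right (hC c c.2) i
  let ι : C × Subgroup.zpowers s →* Γ :=
    MonoidHom.noncommCoprod C.subtype (Subgroup.zpowers s).subtype comm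
  have hι : ∀ c z, ι (c, z) = (c : Γ) * (z : Γ) := fun c z => rfl
  have hΘ : IsCharacter (C × Subgroup.zpowers s) (χh ∘ ι) := isCharacter_comp ι hχh
  have hβμ : ∀ μ : IrrCharacter (Subgroup.zpowers s), IsCharacter (C × Subgroup.zpowers s)
      ((β ∘ MonoidHom.fst C (Subgroup.zpowers s)) * (μ.1 ∘ MonoidHom.snd C (Subgroup.zpowers s))) :=
    fun μ => isCharacter_mul (isCharacter_comp _ hβ) (isCharacter_comp _ (irr_isCharacter μ.2))
  choose m hm using fun μ => classInner_character_nat hΘ (hβμ μ)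
  refine ⟨m, ?_⟩
  set a : Subgroup.zpowers s → ℂ :=
    fun z => (Nat.card C : ℂ)⁻¹ * ∑ c : C, χh ((c : Γ) * z) * conj (β c) with ha
  have hacf : IsClassFunction (Subgroup.zpowers s) a := by
    intro g h
    have : h * g * h⁻¹ = g := by
      obtain ⟨i, hi⟩ := Subgroup.mem_zpowers_iff.mp g.2
      obtain ⟨j, hj⟩ := Subgroup.mem_zpowers_iff.mp h.2
      apply Subtype.ext
      push_cast
      rw [← hi, ← hj, ← zpow_add, ← zpow_neg, ← zpow_add]
      congr 1; ring
    rw [this]
  have hexp := classFunction_eq_sum hacf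
  have hcoef : ∀ μ : IrrCharacter (Subgroup.zpowers s), classInner a μ.1 = m μ := by
    intro μ
    rw [← hm μ]
    unfold classInner
    rw [Nat.card_prod, Fintype.sum_prod_type]
    have hterm : ∀ (c : C) (z : Subgroup.zpowers s), (χh ∘ ι) (c, z) *
        conj (((β ∘ MonoidHom.fst C (Subgroup.zpowers s)) *
          (μ.1 ∘ MonoidHom.snd C (Subgroup.zpowers s))) (c, z)) =
        (χh ((c : Γ) * z) * conj (β c)) * conj (μ.1 z) := by
      intro c z
      show χh (ι (c, z)) * conj (β c * μ.1 z) = _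
      rw [hι, map_mul, mul_assoc]
    simp_rw [hterm]
    rw [Finset.sum_comm]
    push_cast
    rw [mul_inv, mul_comm ((Nat.card C : ℂ)⁻¹), mul_assoc]
    congr 1
    rw [Finset.mul_sum]
    apply Finset.sum_congr rfl
    intro z _
    show (Nat.card C : ℂ)⁻¹ * (∑ c : C, χh ((c : Γ) * z) * conj (β c)) * conj (μ.1 z) = _
    rw [mul_assoc, Finset.sum_mul]
  intro z
  have h1 := congrFun hexp z
  simp only [Finset.sum_apply, Pi.smul_apply, smul_eq_mul] at h1
  show a z = _
  rw [h1]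
  apply Finset.sum_congr rfl
  intro μ _
  rw [hcoef]

/-- Irreducible characters of `zpowers s` are multiplicative. -/
theorem zpowers_irr_pow [Finite Γ] (s : Γ) (μ : IrrCharacter (Subgroup.zpowers s)) (j : ℕ) :
    μ.1 ((⟨s, Subgroup.mem_zpowers s⟩ : Subgroup.zpowers s) ^ j) =
      μ.1 ⟨s, Subgroup.mem_zpowers s⟩ ^ j := by
  have hcomm : ∀ a b : Subgroup.zpowers s, a * b = b * a := by
    intro g h
    obtain ⟨i, hi⟩ := Subgroup.mem_zpowers_iff.mp g.2
    obtain ⟨j, hj⟩ := Subgroup.mem_zpowers_iff.mp h.2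
    apply Subtype.ext
    push_cast
    rw [← hi, ← hj, ← zpow_add, ← zpow_add, add_comm]
  have h1 : μ.1 1 = 1 := irr_linear_of_comm hcomm μ
  obtain ⟨b, hb⟩ := exists_linFun (irr_isCharacter μ.2) h1
  rw [hb]
  show ((b (_ ^ j) : ℂˣ) : ℂ) = ((b _ : ℂˣ) : ℂ) ^ j
  rw [map_pow, Units.val_pow_eq_pow_val]

/-- Integrality of the multiplicities. -/
theorem glaub_integral [Fintype Γ] (G : Subgroup Γ) [hG : G.Normal] (s : Γ)
    (hcop : Nat.Coprime (Nat.card G) (orderOf s)) (hgen : G ⊔ Subgroup.zpowers s = ⊤)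
    (C : Subgroup Γ) [Fintype C] (hC : ∀ x, x ∈ C ↔ x ∈ G ∧ x * s = s * x)
    (χh : Γ → ℂ) (hχh : IsIrrCharacter Γ χh) (hirr : IsIrrCharacter G (fun g : G => χh g))
    (hd : Nat.Coprime (detOrder χh) (orderOf s)) (β : C → ℂ) (hβ : IsCharacter C β) :
    ∃ k : ℤ, classInner (fun c : C => χh ((c : Γ) * s)) β = k := by
  classical
  haveI : Fintype (Subgroup.zpowers s) := Fintype.ofFinite _
  haveI := irr_finite (G := Subgroup.zpowers s)
  haveI : Fintype (IrrCharacter (Subgroup.zpowers s)) := Fintype.ofFinite _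
  obtain ⟨m, hm⟩ := commuting_mult_expansion s C (fun x hx => ((hC x).mp hx).2) χh
    (irr_isCharacter hχh) β hβ
  have hn : 0 < orderOf s := orderOf_pos s
  have hcomm : ∀ a b : Subgroup.zpowers s, a * b = b * a := by
    intro g h
    obtain ⟨i, hi⟩ := Subgroup.mem_zpowers_iff.mp g.2
    obtain ⟨j, hj⟩ := Subgroup.mem_zpowers_iff.mp h.2
    apply Subtype.ext
    push_cast
    rw [← hi, ← hj, ← zpow_add, ← zpow_add, add_comm]
  apply int_of_galois_stable_sum (orderOf s) hn Finset.univ (fun μ => (m μ : ℤ))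
    (fun μ : IrrCharacter (Subgroup.zpowers s) => μ.1 ⟨s, Subgroup.mem_zpowers s⟩)
  · intro μ _
    show μ.1 ⟨s, Subgroup.mem_zpowers s⟩ ^ orderOf s = 1
    rw [← zpowers_irr_pow]
    have : (⟨s, Subgroup.mem_zpowers s⟩ : Subgroup.zpowers s) ^ orderOf s = 1 :=
      Subtype.ext (pow_orderOf_eq_one s)
    rw [this]; exact irr_linear_of_comm hcomm μ
  · intro j hj
    have h1 := hm ((⟨s, Subgroup.mem_zpowers s⟩ : Subgroup.zpowers s) ^ j)
    simp_rw [zpowers_irr_pow] at h1
    push_cast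
    rw [← h1]
    unfold classInner
    congr 1
    apply Finset.sum_congr rfl
    intro c _
    have hc := (hC c).mp c.2
    show χh ((c : Γ) * s ^ j) * _ = _
    rw [glaub_pow_invariant G s hcop hgen χh hχh hirr hd c hc.1 hc.2 j hj]

theorem detOrder_dvd_card {G : Type u} [Group G] [Finite G] {χ : G → ℂ} (hχ : IsCharacter G χ) :
    detOrder χ ∣ Nat.card G := by
  obtain ⟨ℓ, hℓ⟩ := exists_detHom hχ
  unfold detOrder
  rw [hℓ, orderOf_linFun]
  exact orderOf_dvd_of_pow_eq_one (hom_pow_card_eq_one ℓ)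

/-- A signed irreducible character determines the sign and the character. -/
theorem signed_irr_unique {G : Type u} [Group G] (β β' : IrrCharacter G) (ε ε' : ℤ)
    (hε : ε = 1 ∨ ε = -1) (hε' : ε' = 1 ∨ ε' = -1)
    (h : ∀ c : G, (ε : ℂ) * β.1 c = (ε' : ℂ) * β'.1 c) : β = β' ∧ ε = ε' := by
  have h1 := h 1
  rw [irr_one_eq_charDegree, irr_one_eq_charDegree] at h1
  have hp := charDegree_pos β
  have hp' := charDegree_pos β'
  have h2 : ε * (charDegree β.1 : ℤ) = ε' * (charDegree β'.1 : ℤ) := by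
    exact_mod_cast h1
  have hεε : ε = ε' := by
    rcases hε with rfl | rfl <;> rcases hε' with rfl | rfl
    · rfl
    · exfalso; omega
    · exfalso; omega
    · rfl
  refine ⟨?_, hεε⟩
  apply Subtype.ext
  ext c
  have h3 := h c
  rw [hεε] at h3
  have hne : (ε' : ℂ) ≠ 0 := by
    rcases hε' with rfl | rfl <;> norm_num
  exact mul_left_cancel₀ hne h3

/-- Existence of the Glauberman correspondent (cyclic case). -/
theorem glaub_exists [Fintype Γ] (G : Subgroup Γ) [hG : G.Normal] [Fintype G] (s : Γ)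
    (hcop : Nat.Coprime (Nat.card G) (orderOf s)) (hgen : G ⊔ Subgroup.zpowers s = ⊤)
    (C : Subgroup Γ) [Fintype C] (hC : ∀ x, x ∈ C ↔ x ∈ G ∧ x * s = s * x)
    (χh : Γ → ℂ) (hχh : IsIrrCharacter Γ χh) (hirr : IsIrrCharacter G (fun g : G => χh g))
    (hd : Nat.Coprime (detOrder χh) (orderOf s)) :
    ∃ (β : IrrCharacter C) (ε : ℤ), (ε = 1 ∨ ε = -1) ∧
      ∀ c : C, χh ((c : Γ) * s) = (ε : ℂ) * β.1 c := by
  classical
  have hcf : IsClassFunction C (fun c : C => χh ((c : Γ) * s)) :=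
    glaub_classFunction s C (fun x hx => ((hC x).mp hx).2) χh
      (isClassFunction_of_isCharacter (irr_isCharacter hχh))
  have hgen' : IsGeneralizedCharacter C (fun c : C => χh ((c : Γ) * s)) :=
    isGen_of_classInner_int hcf (fun θ =>
      glaub_integral G s hcop hgen C hC χh hχh hirr hd θ.1 (irr_isCharacter θ.2))
  have hnorm := glaub_orth G s hcop hgen C hC χh χh hχh hχh hirr
  rw [if_pos ⟨rfl, rfl⟩] at hnorm
  obtain ⟨a, ha | ha⟩ := norm_one_structure hgen' hnorm
  · refine ⟨a, 1, Or.inl rfl, fun c => ?_⟩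
    have := congrFun ha c
    rw [this]; simp
  · refine ⟨a, -1, Or.inr rfl, fun c => ?_⟩
    have := congrFun ha c
    simp only [Pi.neg_apply] at this
    rw [this]; simp

/-- Injectivity of the correspondence. -/
theorem glaub_injective [Fintype Γ] (G : Subgroup Γ) [hG : G.Normal] [Fintype G] (s : Γ)
    (hcop : Nat.Coprime (Nat.card G) (orderOf s)) (hgen : G ⊔ Subgroup.zpowers s = ⊤)
    (C : Subgroup Γ) [Fintype C] (hC : ∀ x, x ∈ C ↔ x ∈ G ∧ x * s = s * x)
    (χh χh' : Γ → ℂ) (hχh : IsIrrCharacter Γ χh) (hχh' : IsIrrCharacter Γ χh')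
    (hirr : IsIrrCharacter G (fun g : G => χh g))
    (β : IrrCharacter C) (ε ε' : ℤ) (hε : ε = 1 ∨ ε = -1) (hε' : ε' = 1 ∨ ε' = -1)
    (h : ∀ c : C, χh ((c : Γ) * s) = (ε : ℂ) * β.1 c)
    (h' : ∀ c : C, χh' ((c : Γ) * s) = (ε' : ℂ) * β.1 c) :
    (fun g : G => χh g) = (fun g : G => χh' g) := by
  classical
  by_contra hne
  have horth := glaub_orth G s hcop hgen C hC χh χh' hχh hχh' hirr
  rw [if_neg (fun hh => hne hh.1), if_pos hne] at horth
  have h1 : (fun c : C => χh ((c : Γ) * s)) = fun c => (ε : ℂ) * β.1 c := funext h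
  have h2 : (fun c : C => χh' ((c : Γ) * s)) = fun c => (ε' : ℂ) * β.1 c := funext h'
  rw [h1, h2, classInner_signed _ _ (by rcases hε' with rfl | rfl <;> simp) β β, if_pos rfl]
    at horth
  rcases hε with rfl | rfl <;> rcases hε' with rfl | rfl <;> norm_num at horth

theorem zpowers_comm (s : Γ) : ∀ a b : Subgroup.zpowers s, a * b = b * a := by
  intro g h
  obtain ⟨i, hi⟩ := Subgroup.mem_zpowers_iff.mp g.2
  obtain ⟨j, hj⟩ := Subgroup.mem_zpowers_iff.mp h.2
  apply Subtype.ext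
  push_cast
  rw [← hi, ← hj, ← zpow_add, ← zpow_add, add_comm]

/-- The correspondent is a constituent of the restriction. -/
theorem glaub_constituent [Fintype Γ] (s : Γ) (C : Subgroup Γ) [Fintype C]
    (hC : ∀ x ∈ C, x * s = s * x) (χh : Γ → ℂ) (hχh : IsCharacter Γ χh)
    (β : IrrCharacter C) (ε : ℤ) (hε : ε = 1 ∨ ε = -1)
    (h : ∀ c : C, χh ((c : Γ) * s) = (ε : ℂ) * β.1 c) :
    classInner (fun c : C => χh (c : Γ)) β.1 ≠ 0 := by
  classical
  haveI : Fintype (Subgroup.zpowers s) := Fintype.ofFinite _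
  haveI := irr_finite (G := Subgroup.zpowers s)
  haveI : Fintype (IrrCharacter (Subgroup.zpowers s)) := Fintype.ofFinite _
  obtain ⟨m, hm⟩ := commuting_mult_expansion s C hC χh hχh β.1 (irr_isCharacter β.2)
  have h1 := hm 1
  have hs := hm ⟨s, Subgroup.mem_zpowers s⟩
  have has : (Nat.card C : ℂ)⁻¹ * ∑ c : C, χh ((c : Γ) * s) * conj (β.1 c) = (ε : ℂ) := by
    have h2 := classInner_signed (ε : ℂ) 1 (Or.inl rfl) β β
    rw [if_pos rfl, mul_one] at h2
    rw [← h2]
    unfold classInner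
    congr 1
    apply Finset.sum_congr rfl
    intro c _
    show _ = (ε : ℂ) * β.1 c * conj (1 * β.1 c)
    rw [h c, one_mul]
  intro h0
  have h3 : (∑ μ : IrrCharacter (Subgroup.zpowers s), (m μ : ℂ)) = 0 := by
    rw [← h0]
    unfold classInner
    simp only [Subgroup.coe_one, mul_one] at h1
    rw [h1]
    apply Finset.sum_congr rfl
    intro μ _
    rw [irr_linear_of_comm (zpowers_comm s) μ, mul_one]
  have h4 : ∀ μ : IrrCharacter (Subgroup.zpowers s), m μ = 0 := by
    have h5 : (∑ μ : IrrCharacter (Subgroup.zpowers s), m μ) = 0 := by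
      have : ((∑ μ : IrrCharacter (Subgroup.zpowers s), m μ : ℕ) : ℂ) = 0 := by
        rw [Nat.cast_sum]; exact h3
      exact_mod_cast this
    intro μ
    exact (Finset.sum_eq_zero_iff.mp h5) μ (Finset.mem_univ _)
  have h6 : (ε : ℂ) = 0 := by
    rw [← has]
    show (Nat.card C : ℂ)⁻¹ * ∑ c : C, χh ((c : Γ) * ((⟨s, Subgroup.mem_zpowers s⟩ :
      Subgroup.zpowers s) : Γ)) * conj (β.1 c) = 0
    rw [hs]
    apply Finset.sum_eq_zero
    intro μ _
    rw [h4 μ]; simp
  rcases hε with rfl | rfl <;> norm_num at h6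

/-- An irreducible character of `Γ` whose restriction to `G` is reducible vanishes on the
coset `G s`. -/
theorem glaub_vanish [Fintype Γ] (G : Subgroup Γ) [hG : G.Normal] [Fintype G] (s : Γ)
    (hgen : G ⊔ Subgroup.zpowers s = ⊤) (ψ : Γ → ℂ) (hψ : IsIrrCharacter Γ ψ)
    (hred : ¬ IsIrrCharacter G (fun g : G => ψ g)) (g : Γ) (hg : g ∈ G) : ψ (g * s) = 0 := by
  classical
  have hab := glaub_comm_mem G s hgen
  haveI := irr_finite (G := Γ)
  haveI : Fintype (IrrCharacter Γ) := Fintype.ofFinite _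
  have hψcf := isClassFunction_of_isCharacter (irr_isCharacter hψ)
  by_contra hne
  apply hred
  apply isIrrCharacter_of_norm_one (isCharacter_restrict G (irr_isCharacter hψ))
  have hcore := coset_orth_core G ψ ψ hψcf hψcf 1
  simp only [mul_one] at hcore
  let P : IrrCharacter Γ := ⟨fun _ => 1, principal_isIrrCharacter⟩
  have hP : P ∈ Finset.univ.filter (fun β : IrrCharacter Γ => ∀ x ∈ G, β.1 x = β.1 1) := by
    simp [P]
  have hGne : (Nat.card G : ℂ) ≠ 0 := Nat.cast_ne_zero.mpr Nat.card_pos.ne'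
  rw [Finset.sum_eq_single_of_mem P hP] at hcore
  · have hPψ : P.1 * ψ = ψ := by ext x; simp [P]
    rw [hPψ, irr_classInner hψ hψ, if_pos rfl] at hcore
    unfold classInner
    rw [hcore]
    simp only [P, mul_one]
    exact inv_mul_cancel₀ hGne
  · intro β hβ hβP
    rw [Finset.mem_filter] at hβ
    obtain ⟨hirr, -⟩ := linear_mul_irr G hab β hβ.2 hψ
    rw [irr_classInner hψ hirr, if_neg, mul_zero, zero_mul]
    intro heq
    have hβ1 : β.1 1 = 1 := linear_of_over_principal hG hab β (over_principal_of_ker β hβ.2)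
    obtain ⟨b, hb⟩ := exists_linFun (irr_isCharacter β.2) hβ1
    have hbG : ∀ x ∈ G, b x = 1 := by
      intro x hx
      have := hβ.2 x hx
      rw [hβ1, hb] at this
      exact Units.ext this
    have hbs : b s ≠ 1 := by
      intro h1
      apply hβP
      have hle : G ⊔ Subgroup.zpowers s ≤ b.ker := by
        rw [sup_le_iff]
        refine ⟨fun x hx => MonoidHom.mem_ker.mpr (hbG x hx), ?_⟩
        rw [Subgroup.zpowers_le]
        exact MonoidHom.mem_ker.mpr h1
      rw [hgen] at hle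
      apply Subtype.ext
      rw [hb]
      ext x
      have := MonoidHom.mem_ker.mp (hle (Subgroup.mem_top x))
      simp [P, linFun, this]
    have h2 := congrFun heq (g * s)
    rw [Pi.mul_apply, hb] at h2
    have h3 : linFun b (g * s) = ((b s : ℂˣ) : ℂ) := by
      show ((b (g * s) : ℂˣ) : ℂ) = _
      rw [map_mul, hbG g hg, one_mul]
    rw [h3] at h2
    have h4 : (1 - ((b s : ℂˣ) : ℂ)) * ψ (g * s) = 0 := by
      rw [sub_mul, one_mul, ← h2, sub_self]
    rcases mul_eq_zero.mp h4 with h5 | h5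
    · apply hbs
      apply Units.ext
      rw [sub_eq_zero] at h5
      exact h5.symm
    · exact hne h5

/-- Surjectivity of the correspondence. -/
theorem glaub_surjective [Fintype Γ] (G : Subgroup Γ) [hG : G.Normal] [Fintype G] (s : Γ)
    (hcop : Nat.Coprime (Nat.card G) (orderOf s)) (hgen : G ⊔ Subgroup.zpowers s = ⊤)
    (C : Subgroup Γ) [Fintype C] (hC : ∀ x, x ∈ C ↔ x ∈ G ∧ x * s = s * x)
    (β : IrrCharacter C) :
    ∃ χh : Γ → ℂ, IsIrrCharacter Γ χh ∧ IsIrrCharacter G (fun g : G => χh g) ∧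
      Nat.Coprime (detOrder χh) (orderOf s) ∧ ∃ ε : ℤ, (ε = 1 ∨ ε = -1) ∧
        ∀ c : C, χh ((c : Γ) * s) = (ε : ℂ) * β.1 c := by
  classical
  haveI := irr_finite (G := Γ)
  haveI : Fintype (IrrCharacter Γ) := Fintype.ofFinite _
  have hidx := glaub_index G s hcop hgen
  by_contra hcon
  have hA : ∀ χh : Γ → ℂ, IsIrrCharacter Γ χh → IsIrrCharacter G (fun g : G => χh g) →
      Nat.Coprime (detOrder χh) (orderOf s) →
      classInner (fun c : C => χh ((c : Γ) * s)) β.1 = 0 := by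
    intro χh hχh hirr hd
    obtain ⟨β', ε', hε', hf⟩ := glaub_exists G s hcop hgen C hC χh hχh hirr hd
    have hne : β' ≠ β := by
      rintro rfl
      exact hcon ⟨χh, hχh, hirr, hd, ε', hε', hf⟩
    have h1 : (fun c : C => χh ((c : Γ) * s)) = fun c => (ε' : ℂ) * β'.1 c := funext hf
    have h2 := classInner_signed (ε' : ℂ) 1 (Or.inl rfl) β' β
    rw [if_neg hne] at h2
    rw [h1]
    convert h2 using 2
    ext c; simp
  have hB : ∀ ψ : IrrCharacter Γ, ∑ c : C, ψ.1 ((c : Γ) * s) * conj (β.1 c) = 0 := by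
    intro ψ
    by_cases hirr : IsIrrCharacter G (fun g : G => ψ.1 g)
    · have hψcf := isClassFunction_of_isCharacter (irr_isCharacter ψ.2)
      have hinv : ∀ (x : Γ) (n : G),
          (fun g : G => ψ.1 g) ⟨x * n * x⁻¹, hG.conj_mem (n : Γ) n.2 x⟩ =
            (fun g : G => ψ.1 g) n := by
        intro x n; exact hψcf n x
      have hcop' : Nat.Coprime G.index
          (detOrder (fun g : G => ψ.1 g) * charDegree (fun g : G => ψ.1 g)) := by
        rw [hidx]
        apply Nat.Coprime.mul_right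
        · exact Nat.Coprime.coprime_dvd_right (detOrder_dvd_card (irr_isCharacter hirr)) hcop.symm
        · exact Nat.Coprime.coprime_dvd_right (charDegree_dvd_card ⟨_, hirr⟩) hcop.symm
      obtain ⟨χc, ⟨hχc, hres, hdet⟩, -⟩ := Cfsg.Agent.S0867.result G (fun g : G => ψ.1 g) hirr
        hinv (charDegree (fun g : G => ψ.1 g))
        (isCharacter_one_eq_charDegree (χ := fun g : G => ψ.1 g) (irr_isCharacter hirr)) hcop'
      have hirr' : IsIrrCharacter G (fun g : G => χc g) := by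
        have : (fun g : G => χc g) = fun g : G => ψ.1 g := funext hres
        rw [this]; exact hirr
      obtain ⟨b, hb1, hb2⟩ := gallagher_extension G χc ψ.1 hχc ψ.2 hirr'
        (fun n => (hres n).symm)
      have hd : Nat.Coprime (detOrder χc) (orderOf s) := by
        rw [hdet]
        exact Nat.Coprime.coprime_dvd_left (detOrder_dvd_card (irr_isCharacter hirr)) hcop
      have h0 := hA χc hχc hirr' hd
      unfold classInner at h0
      have hCne : (Nat.card C : ℂ)⁻¹ ≠ 0 :=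
        inv_ne_zero (Nat.cast_ne_zero.mpr Nat.card_pos.ne')
      have h0' := (mul_eq_zero.mp h0).resolve_left hCne
      have hterm : ∀ c : C, ψ.1 ((c : Γ) * s) * conj (β.1 c) =
          ((b s : ℂˣ) : ℂ) * (χc ((c : Γ) * s) * conj (β.1 c)) := by
        intro c
        rw [hb2]
        show ((b ((c : Γ) * s) : ℂˣ) : ℂ) * χc _ * _ = _
        have hcG : (c : Γ) ∈ G := ((hC c).mp c.2).1
        rw [map_mul, hb1 ⟨c, hcG⟩, one_mul, mul_assoc]
      simp_rw [hterm]
      rw [← Finset.mul_sum, h0', mul_zero]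
    · apply Finset.sum_eq_zero
      intro c _
      rw [glaub_vanish G s hgen ψ.1 ψ.2 hirr c ((hC c).mp c.2).1, zero_mul]
  have hC1 : ∑ c : C, conj (β.1 c) *
      ∑ ψ : IrrCharacter Γ, ψ.1 ((c : Γ) * s) * conj (ψ.1 s) = 0 := by
    simp_rw [Finset.mul_sum]
    rw [Finset.sum_comm]
    apply Finset.sum_eq_zero
    intro ψ _
    have : ∀ c : C, conj (β.1 c) * (ψ.1 ((c : Γ) * s) * conj (ψ.1 s)) =
        conj (ψ.1 s) * (ψ.1 ((c : Γ) * s) * conj (β.1 c)) := by intro c; ring
    simp_rw [this]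
    rw [← Finset.mul_sum, hB ψ, mul_zero]
  simp_rw [irr_sum_mul_conj] at hC1
  rw [Finset.sum_eq_single (1 : C)] at hC1
  · simp only [Subgroup.coe_one, one_mul] at hC1
    rw [if_pos (IsConj.refl s)] at hC1
    rcases mul_eq_zero.mp hC1 with h | h
    · exact irr_one_ne_zero β ((map_eq_zero _).mp h)
    · exact (Nat.cast_ne_zero.mpr Nat.card_pos.ne') h
  · intro c _ hc1
    rw [if_neg, mul_zero]
    intro hconj
    apply hc1
    rw [isConj_iff] at hconj
    obtain ⟨z, hz⟩ := hconj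
    have hcc := (hC c).mp c.2
    have hz' : z * ((c : Γ) * s) * z⁻¹ = 1 * s := by rw [one_mul]; exact hz
    have hzs := commute_of_conj_eq G s hcop hcc.1 (one_mem G) hcc.2 (by simp) hz'
    have h7 : z * (c : Γ) * z⁻¹ = 1 := by
      have h5 : z * ((c : Γ) * s) * z⁻¹ = (z * c * z⁻¹) * (z * s * z⁻¹) := by group
      rw [h5, hzs] at hz
      exact mul_eq_right.mp hz
    apply Subtype.ext
    have h6 : (c : Γ) = z⁻¹ * (z * c * z⁻¹) * z := by group
    rw [h6, h7]; simp
  · intro h; exact absurd (Finset.mem_univ _) h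

end Cfsg.Agent.Lib.Helper8
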