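import Mathlib
import Cfsg.Prelude.Def_Characters
import Cfsg.Prelude.Def_CharExt
import Cfsg.Agent.Lib.Helper8.GlaubMain
import Cfsg.Agent.Lib.Helper8.CharSchur

set_option autoImplicit false
set_option maxHeartbeats 1000000

universe u

namespace Cfsg.Agent.Lib.Helper8
open Cfsg
open scoped ComplexConjugate

/-- Integer-valued multiplicity, independent of any `Fintype` instance. -/
noncomputable def multZ {A : Type u} [Group A] [Finite A] (φ ψ : A → ℂ) : ℤ :=
  haveI : Fintype A := Fintype.ofFinite A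
  Int.floor (classInner φ ψ).re

theorem multZ_eq_of_nat {A : Type u} [Group A] [Fintype A] {φ ψ : A → ℂ} {k : ℕ}
    (hk : classInner φ ψ = k) : multZ φ ψ = k := by
  unfold multZ
  have h : (@classInner _ _ (Fintype.ofFinite A) φ ψ) = k := by
    rw [← hk]
    have : (Fintype.ofFinite A) = ‹Fintype A› := Subsingleton.elim _ _
    rw [this]
  rw [h]; simp

theorem multZ_spec {A : Type u} [Group A] [Fintype A] {φ ψ : A → ℂ} (hφ : IsCharacter A φ)
    (hψ : IsCharacter A ψ) : ((multZ φ ψ : ℤ) : ℂ) = classInner φ ψ := by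
  obtain ⟨k, hk⟩ := classInner_character_nat hφ hψ
  rw [multZ_eq_of_nat hk, hk]; simp

theorem multZ_nonneg {A : Type u} [Group A] [Finite A] {φ ψ : A → ℂ} (hφ : IsCharacter A φ)
    (hψ : IsCharacter A ψ) : 0 ≤ multZ φ ψ := by
  haveI : Fintype A := Fintype.ofFinite A
  obtain ⟨k, hk⟩ := classInner_character_nat hφ hψ
  rw [multZ_eq_of_nat hk]; positivity

open Classical in
theorem multZ_irr {A : Type u} [Group A] [Finite A] (φ ψ : IrrCharacter A) :
    multZ φ.1 ψ.1 = if φ = ψ then 1 else 0 := by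
  haveI : Fintype A := Fintype.ofFinite A
  have h := irr_classInner φ.2 ψ.2
  by_cases hφψ : φ = ψ
  · rw [if_pos (congrArg Subtype.val hφψ)] at h
    rw [if_pos hφψ]
    exact multZ_eq_of_nat (k := 1) (by rw [h]; simp)
  · rw [if_neg (fun hh => hφψ (Subtype.ext hh))] at h
    rw [if_neg hφψ]
    exact multZ_eq_of_nat (k := 0) (by rw [h]; simp)

theorem isIrrCharacter_comp_equiv {A B : Type*} [Group A] [Group B] (e : A ≃* B) {χ : B → ℂ}
    (h : IsIrrCharacter B χ) : IsIrrCharacter A (χ ∘ e) :=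
  isIrrCharacter_comp_surjective e.toMonoidHom e.surjective h

theorem classInner_comp_equiv {A B : Type*} [Group A] [Group B] [Fintype A] [Fintype B]
    (e : A ≃* B) (φ ψ : B → ℂ) : classInner (φ ∘ e) (ψ ∘ e) = classInner φ ψ := by
  unfold classInner
  rw [Nat.card_congr e.toEquiv]
  congr 1
  exact Fintype.sum_equiv e.toEquiv _ _ (fun _ => rfl)

theorem multZ_comp_equiv {A B : Type u} [Group A] [Group B] [Finite A] [Finite B]
    (e : A ≃* B) (φ ψ : B → ℂ) : multZ (φ ∘ e) (ψ ∘ e) = multZ φ ψ := by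
  unfold multZ
  have h1 := @classInner_comp_equiv A B _ _ (Fintype.ofFinite A) (Fintype.ofFinite B) e φ ψ
  rw [h1]

variable {Γ : Type u} [Group Γ]

/-- A central element of order prime to the degree and to the determinantal order lies in the
kernel. -/
theorem central_in_ker [Finite Γ] (χh : Γ → ℂ) (hχh : IsIrrCharacter Γ χh) (z : Γ)
    (hz : ∀ x : Γ, z * x = x * z) (q : ℕ) (hzq : z ^ q = 1)
    (hdet : Nat.Coprime (detOrder χh) q) (d : ℕ) (hd1 : χh 1 = d) (hdq : d.Coprime q) :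
    ∀ x, χh (x * z) = χh x := by
  have hχc : IsCharacter Γ χh := irr_isCharacter hχh
  obtain ⟨n, ρ, hρ, rfl⟩ := hχh
  obtain ⟨ω, hω⟩ := schur_scalar hρ (ρ z) (by
    intro g v
    rw [← Module.End.mul_apply, ← Module.End.mul_apply, ← map_mul, ← map_mul, hz g])
  have hρz : ρ z = ω • (1 : Module.End ℂ (Fin n → ℂ)) :=
    LinearMap.ext (fun v => by simp [hω v])
  have hnt : Nontrivial (Fin n → ℂ) := irreducible_nontrivial hρ
  have hωq : ω ^ q = 1 := by
    have h1 : (ρ z) ^ q = 1 := by rw [← map_pow, hzq, map_one]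
    rw [hρz, smul_pow, one_pow] at h1
    obtain ⟨v, hv⟩ := exists_ne (0 : Fin n → ℂ)
    have h2 := LinearMap.congr_fun h1 v
    simp only [LinearMap.smul_apply, Module.End.one_apply] at h2
    have h3 : (ω ^ q - 1) • v = 0 := by rw [sub_smul, one_smul, h2, sub_self]
    rcases smul_eq_zero.mp h3 with h4 | h4
    · exact sub_eq_zero.mp h4
    · exact absurd h4 hv
  have hdetz : detChar ρ.character z = ω ^ n := by
    rw [detChar_eq_det, hρz, LinearMap.det_smul, Module.finrank_fin_fun]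
    simp
  have hnd : n = d := by
    rw [Representation.char_one] at hd1
    simp only [Module.finrank_fin_fun] at hd1
    exact_mod_cast hd1
  have ho : (detChar ρ.character z) ^ (detOrder ρ.character) = 1 := by
    have h1 := pow_orderOf_eq_one (detChar ρ.character)
    have h2 := congrFun h1 z
    unfold detOrder
    simpa using h2
  have hq' : (detChar ρ.character z) ^ q = 1 := by
    obtain ⟨δ, hδ⟩ := exists_detHom hχc
    rw [hδ]
    show ((δ z : ℂˣ) : ℂ) ^ q = 1
    rw [← Units.val_pow_eq_pow_val, ← map_pow, hzq, map_one, Units.val_one]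
  have hdz : detChar ρ.character z = 1 := by
    have h1 := pow_gcd_eq_one.mpr ⟨ho, hq'⟩
    rw [Nat.Coprime] at hdet
    rw [hdet, pow_one] at h1
    exact h1
  have hω1 : ω = 1 := by
    rw [hdetz] at hdz
    have h1 := pow_gcd_eq_one.mpr ⟨hdz, hωq⟩
    rw [hnd, (hdq : Nat.gcd d q = 1), pow_one] at h1
    exact h1
  intro x
  show LinearMap.trace ℂ _ (ρ (x * z)) = LinearMap.trace ℂ _ (ρ x)
  rw [map_mul, hρz, hω1, one_smul, mul_one]

/-- `s ^ p` is central when it centralises `G`. -/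
theorem glaub_central (G : Subgroup Γ) (s : Γ) (hgen : G ⊔ Subgroup.zpowers s = ⊤) (z : Γ)
    (hzG : ∀ g ∈ G, z * g = g * z) (hzs : z * s = s * z) : ∀ x : Γ, z * x = x * z := by
  intro x
  have hle : G ⊔ Subgroup.zpowers s ≤ Subgroup.centralizer ({z} : Set Γ) := by
    rw [sup_le_iff]
    constructor
    · intro g hg
      rw [Subgroup.mem_centralizer_iff]
      intro y hy
      rw [Set.mem_singleton_iff] at hy
      rw [hy]; exact hzG g hg
    · rw [Subgroup.zpowers_le, Subgroup.mem_centralizer_iff]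
      intro y hy
      rw [Set.mem_singleton_iff] at hy
      rw [hy]; exact hzs
  rw [hgen] at hle
  have := hle (Subgroup.mem_top x)
  rw [Subgroup.mem_centralizer_iff] at this
  exact this z rfl

/-- The refined congruence for a cyclic `p`-group acting through a quotient of order `p`. -/
theorem glaub_refined [Fintype Γ] (G : Subgroup Γ) [hG : G.Normal] [Fintype G] (s : Γ)
    (hcop : Nat.Coprime (Nat.card G) (orderOf s)) (hgen : G ⊔ Subgroup.zpowers s = ⊤)
    (C : Subgroup Γ) [Fintype C] (hC : ∀ x, x ∈ C ↔ x ∈ G ∧ x * s = s * x)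
    (p : ℕ) (hp : p.Prime) (k : ℕ) (hq : orderOf s = p ^ (k + 1))
    (hcent : ∀ g ∈ G, s ^ p * g = g * s ^ p)
    (χh : Γ → ℂ) (hχh : IsIrrCharacter Γ χh) (hirr : IsIrrCharacter G (fun g : G => χh g))
    (hd : Nat.Coprime (detOrder χh) (orderOf s))
    (β : IrrCharacter C) (ε : ℤ) (hε : ε = 1 ∨ ε = -1)
    (h : ∀ c : C, χh ((c : Γ) * s) = (ε : ℂ) * β.1 c) (γ : IrrCharacter C) :
    multZ (fun c : C => χh (c : Γ)) γ.1 ≡ (if γ = β then ε else 0) [ZMOD p] := by
  classical
  haveI : Fintype (Subgroup.zpowers s) := Fintype.ofFinite _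
  haveI := irr_finite (G := Subgroup.zpowers s)
  haveI : Fintype (IrrCharacter (Subgroup.zpowers s)) := Fintype.ofFinite _
  have hχc := irr_isCharacter hχh
  obtain ⟨m, hm⟩ := commuting_mult_expansion s C (fun x hx => ((hC x).mp hx).2) χh hχc γ.1
    (irr_isCharacter γ.2)
  have hA := multZ_spec (isCharacter_restrict C hχc) (irr_isCharacter γ.2)
  set A : ℤ := multZ (fun c : C => χh (c : Γ)) γ.1 with hAdef
  let P : IrrCharacter (Subgroup.zpowers s) := ⟨fun _ => 1, principal_isIrrCharacter⟩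
  have hZne : (Nat.card (Subgroup.zpowers s) : ℂ) ≠ 0 := Nat.cast_ne_zero.mpr Nat.card_pos.ne'
  have hsumμ : ∀ μ : IrrCharacter (Subgroup.zpowers s),
      ∑ z : Subgroup.zpowers s, μ.1 z = if μ = P then (Nat.card (Subgroup.zpowers s) : ℂ) else 0 := by
    intro μ
    have h1 := irr_classInner μ.2 P.2
    unfold classInner at h1
    simp only [P, map_one, mul_one] at h1
    have h2 := (inv_mul_eq_iff_eq_mul₀ hZne).mp h1
    rw [h2]
    by_cases hμ : μ = P
    · rw [if_pos hμ, if_pos (by rw [hμ]), mul_one]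
    · rw [if_neg hμ, if_neg (fun hh => hμ (Subtype.ext hh)), mul_zero]
  -- total sum
  have hS1 : ∑ z : Subgroup.zpowers s, (Nat.card C : ℂ)⁻¹ *
      ∑ c : C, χh ((c : Γ) * z) * conj (γ.1 c) = (Nat.card (Subgroup.zpowers s) : ℂ) * m P := by
    simp_rw [hm]
    rw [Finset.sum_comm]
    simp_rw [← Finset.mul_sum, hsumμ]
    rw [Finset.sum_eq_single P]
    · rw [if_pos rfl, mul_comm]
    · intro μ _ hμ; rw [if_neg hμ, mul_zero]
    · intro hh; exact absurd (Finset.mem_univ _) hh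
  -- central part
  have hspc : ∀ x : Γ, s ^ p * x = x * s ^ p :=
    glaub_central G s hgen (s ^ p) hcent (by rw [← pow_succ, ← pow_succ'])
  have hdeg : ∃ d : ℕ, χh 1 = d ∧ d.Coprime (orderOf s) := by
    refine ⟨charDegree (fun g : G => χh g), ?_, ?_⟩
    · have := isCharacter_one_eq_charDegree (χ := fun g : G => χh g) (irr_isCharacter hirr)
      simpa using this
    · exact Nat.Coprime.coprime_dvd_left (charDegree_dvd_card ⟨_, hirr⟩) hcop
  obtain ⟨d, hd1, hdq⟩ := hdeg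
  have hS2 : ∀ z : Subgroup.zpowers s, (z : Γ) ∈ Subgroup.zpowers (s ^ p) →
      (Nat.card C : ℂ)⁻¹ * ∑ c : C, χh ((c : Γ) * z) * conj (γ.1 c) = (A : ℂ) := by
    intro z hz
    rw [hA]
    unfold classInner
    congr 1
    apply Finset.sum_congr rfl
    intro c _
    obtain ⟨i, hi⟩ := Subgroup.mem_zpowers_iff.mp hz
    have hzc : ∀ x : Γ, (z : Γ) * x = x * (z : Γ) := by
      intro x
      rw [← hi]
      have : Commute (s ^ p) x := hspc x
      exact (this.zpow_left i)
    have hzq : (z : Γ) ^ orderOf s = 1 := by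
      obtain ⟨j, hj⟩ := Subgroup.mem_zpowers_iff.mp z.2
      rw [← hj, ← zpow_natCast, ← zpow_mul, mul_comm, zpow_mul, zpow_natCast, pow_orderOf_eq_one,
        one_zpow]
    rw [central_in_ker χh hχh z hzc (orderOf s) hzq hd d hd1 hdq]
  have hS3 : ∀ z : Subgroup.zpowers s, (z : Γ) ∉ Subgroup.zpowers (s ^ p) →
      (Nat.card C : ℂ)⁻¹ * ∑ c : C, χh ((c : Γ) * z) * conj (γ.1 c) =
        ((if γ = β then ε else 0 : ℤ) : ℂ) := by
    intro z hz
    have hz2 : (z : Γ) ∈ Subgroup.zpowers s := z.2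
    rw [← mem_powers_iff_mem_zpowers] at hz2
    obtain ⟨j, hj⟩ := (Submonoid.mem_powers_iff _ _).mp hz2
    have hpj : ¬ p ∣ j := by
      rintro ⟨j', rfl⟩
      apply hz
      rw [← hj, pow_mul]
      exact Subgroup.npow_mem_zpowers _ _
    have hjc : j.Coprime (orderOf s) := by
      rw [hq]
      exact Nat.Coprime.pow_right _ ((Nat.Prime.coprime_iff_not_dvd hp).mpr hpj).symm
    have h2 := classInner_signed (ε : ℂ) 1 (Or.inl rfl) β γ
    rw [mul_one] at h2
    have h3 : (Nat.card C : ℂ)⁻¹ * ∑ c : C, χh ((c : Γ) * z) * conj (γ.1 c) =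
        classInner (fun x => (ε : ℂ) * β.1 x) (fun x => 1 * γ.1 x) := by
      unfold classInner
      congr 1
      apply Finset.sum_congr rfl
      intro c _
      have hc := (hC c).mp c.2
      show _ = (ε : ℂ) * β.1 c * conj (1 * γ.1 c)
      rw [← hj, glaub_pow_invariant G s hcop hgen χh hχh hirr hd c hc.1 hc.2 j hjc, h c, one_mul]
    rw [h3, h2]
    by_cases hγβ : γ = β
    · rw [if_pos hγβ, if_pos hγβ.symm]
    · rw [if_neg hγβ, if_neg (fun hh => hγβ hh.symm)]; simp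
  -- split the sum
  set F₁ := Finset.univ.filter (fun z : Subgroup.zpowers s => (z : Γ) ∈ Subgroup.zpowers (s ^ p))
    with hF₁
  have hsplit := Finset.sum_filter_add_sum_filter_not Finset.univ
    (fun z : Subgroup.zpowers s => (z : Γ) ∈ Subgroup.zpowers (s ^ p))
    (fun z => (Nat.card C : ℂ)⁻¹ * ∑ c : C, χh ((c : Γ) * z) * conj (γ.1 c))
  rw [hS1] at hsplit
  rw [Finset.sum_congr rfl (fun z hz => hS2 z (Finset.mem_filter.mp hz).2),
    Finset.sum_congr rfl (fun z hz => hS3 z (Finset.mem_filter.mp hz).2)] at hsplit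
  rw [Finset.sum_const, Finset.sum_const] at hsplit
  -- cardinalities
  have hle : Subgroup.zpowers (s ^ p) ≤ Subgroup.zpowers s :=
    Subgroup.zpowers_le.mpr (Subgroup.npow_mem_zpowers s p)
  have hcard1 : F₁.card = p ^ k := by
    haveI : Fintype ↥((Subgroup.zpowers (s ^ p)).subgroupOf (Subgroup.zpowers s)) :=
      Fintype.ofFinite _
    have h1 : Fintype.card ↥((Subgroup.zpowers (s ^ p)).subgroupOf (Subgroup.zpowers s)) =
        F₁.card := Fintype.card_of_subtype F₁ (fun z => by simp [F₁, Subgroup.mem_subgroupOf])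
    rw [← h1, ← Nat.card_eq_fintype_card,
      Nat.card_congr (Subgroup.subgroupOfEquivOfLe hle).toEquiv, Nat.card_zpowers, orderOf_pow, hq]
    have hg : (p ^ (k + 1)).gcd p = p := Nat.gcd_eq_right (dvd_pow_self p (Nat.succ_ne_zero k))
    rw [hg, pow_succ, Nat.mul_div_cancel _ hp.pos]
  have hcard2 : (Finset.univ.filter
      (fun z : Subgroup.zpowers s => ¬ (z : Γ) ∈ Subgroup.zpowers (s ^ p))).card =
      p ^ (k + 1) - p ^ k := by
    have h1 := Finset.card_filter_add_card_filter_not (s := (Finset.univ : Finset (Subgroup.zpowers s)))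
      (fun z : Subgroup.zpowers s => (z : Γ) ∈ Subgroup.zpowers (s ^ p))
    rw [Finset.card_univ, ← Nat.card_eq_fintype_card, Nat.card_zpowers, hq] at h1
    rw [← hF₁, hcard1] at h1
    omega
  rw [← hF₁, hcard1, hcard2, Nat.card_zpowers, hq] at hsplit
  -- arithmetic
  have hpk : (p : ℤ) ^ k ≠ 0 := pow_ne_zero _ (by exact_mod_cast hp.ne_zero)
  have hint : (p : ℤ) ^ k * A + ((p : ℤ) ^ (k + 1) - (p : ℤ) ^ k) * (if γ = β then ε else 0) =
      (p : ℤ) ^ (k + 1) * (m P : ℤ) := by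
    have hle' : p ^ k ≤ p ^ (k + 1) := Nat.pow_le_pow_right hp.pos (Nat.le_succ k)
    have : (((p : ℤ) ^ k * A + ((p : ℤ) ^ (k + 1) - (p : ℤ) ^ k) * (if γ = β then ε else 0) : ℤ) : ℂ)
        = (((p : ℤ) ^ (k + 1) * (m P : ℤ) : ℤ) : ℂ) := by
      push_cast
      rw [nsmul_eq_mul, nsmul_eq_mul, Nat.cast_sub hle'] at hsplit
      push_cast at hsplit
      exact hsplit
    exact_mod_cast this
  have hfinal : A + ((p : ℤ) - 1) * (if γ = β then ε else 0) = (p : ℤ) * (m P : ℤ) := by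
    apply mul_left_cancel₀ hpk
    have h5 : (p : ℤ) ^ k * ((p : ℤ) * (m P : ℤ)) = (p : ℤ) ^ (k + 1) * (m P : ℤ) := by ring
    rw [h5, ← hint]; ring
  have : A - (if γ = β then ε else 0) = (p : ℤ) * ((m P : ℤ) - (if γ = β then ε else 0)) := by
    linear_combination hfinal
  exact (Int.modEq_iff_dvd.mpr ⟨-((m P : ℤ) - (if γ = β then ε else 0)), by linarith⟩)

/-- The canonical extension of an `s`-invariant irreducible character. -/
theorem glaub_canonical_exists [Fintype Γ] (G : Subgroup Γ) [hG : G.Normal] (s : Γ)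
    (hcop : Nat.Coprime (Nat.card G) (orderOf s)) (hgen : G ⊔ Subgroup.zpowers s = ⊤)
    (χ : IrrCharacter G)
    (hinv : ∀ g : G, χ.1 ⟨s * g * s⁻¹, hG.conj_mem g g.2 s⟩ = χ.1 g) :
    ∃ χh : Γ → ℂ, IsIrrCharacter Γ χh ∧ (∀ g : G, χh g = χ.1 g) ∧
      Nat.Coprime (detOrder χh) (orderOf s) := by
  have hidx := glaub_index G s hcop hgen
  have hχcf := isClassFunction_of_isCharacter (irr_isCharacter χ.2)
  have hle : G ⊔ Subgroup.zpowers s ≤ inertiaSubgroup hG χ.1 := by
    rw [sup_le_iff]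
    refine ⟨le_inertiaSubgroup hG hχcf, ?_⟩
    rw [Subgroup.zpowers_le, mem_inertiaSubgroup]
    exact hinv
  rw [hgen] at hle
  have hinv' : ∀ (x : Γ) (n : G), χ.1 ⟨x * n * x⁻¹, hG.conj_mem (n : Γ) n.2 x⟩ = χ.1 n := by
    intro x
    exact (mem_inertiaSubgroup hG χ.1 x).mp (hle (Subgroup.mem_top x))
  have hcop' : Nat.Coprime G.index (detOrder χ.1 * charDegree χ.1) := by
    rw [hidx]
    apply Nat.Coprime.mul_right
    · exact Nat.Coprime.coprime_dvd_right (detOrder_dvd_card (irr_isCharacter χ.2)) hcop.symm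
    · exact Nat.Coprime.coprime_dvd_right (charDegree_dvd_card χ) hcop.symm
  obtain ⟨χc, ⟨hχc, hres, hdet⟩, -⟩ := Cfsg.Agent.S0867.result G χ.1 χ.2 hinv'
    (charDegree χ.1) (irr_one_eq_charDegree χ) hcop'
  refine ⟨χc, hχc, hres, ?_⟩
  rw [hdet]
  exact Nat.Coprime.coprime_dvd_left (detOrder_dvd_card (irr_isCharacter χ.2)) hcop

/-- The cyclic `p`-group case, internal form. -/
theorem glaub_p_internal [Fintype Γ] (G : Subgroup Γ) [hG : G.Normal] [Fintype G] (s : Γ)
    (hcop : Nat.Coprime (Nat.card G) (orderOf s)) (hgen : G ⊔ Subgroup.zpowers s = ⊤)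
    (C : Subgroup Γ) [Fintype C] (hC : ∀ x, x ∈ C ↔ x ∈ G ∧ x * s = s * x) (hCG : C ≤ G)
    (p : ℕ) (hp : p.Prime) (k : ℕ) (hq : orderOf s = p ^ (k + 1))
    (hcent : ∀ g ∈ G, s ^ p * g = g * s ^ p) :
    (∀ χ : IrrCharacter G, (∀ g : G, χ.1 ⟨s * g * s⁻¹, hG.conj_mem g g.2 s⟩ = χ.1 g) →
      ∃ (β : IrrCharacter C) (ε : ℤ), (ε = 1 ∨ ε = -1) ∧ ∀ γ : IrrCharacter C,
        multZ (fun c : C => χ.1 ⟨c, hCG c.2⟩) γ.1 ≡ (if γ = β then ε else 0) [ZMOD p]) ∧
    (∀ χ χ' : IrrCharacter G, (∀ g : G, χ.1 ⟨s * g * s⁻¹, hG.conj_mem g g.2 s⟩ = χ.1 g) →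
      (∀ g : G, χ'.1 ⟨s * g * s⁻¹, hG.conj_mem g g.2 s⟩ = χ'.1 g) → ∀ β : IrrCharacter C,
      ¬ (p : ℤ) ∣ multZ (fun c : C => χ.1 ⟨c, hCG c.2⟩) β.1 →
      ¬ (p : ℤ) ∣ multZ (fun c : C => χ'.1 ⟨c, hCG c.2⟩) β.1 → χ = χ') ∧
    (∀ β : IrrCharacter C, ∃ χ : IrrCharacter G,
      (∀ g : G, χ.1 ⟨s * g * s⁻¹, hG.conj_mem g g.2 s⟩ = χ.1 g) ∧
      ¬ (p : ℤ) ∣ multZ (fun c : C => χ.1 ⟨c, hCG c.2⟩) β.1) := by
  classical
  have hp1 : ¬ (p : ℤ) ∣ 1 := by
    intro h
    have := Int.natAbs_dvd_natAbs.mpr h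
    simp at this
    exact hp.one_lt.ne' this
  have hpε : ∀ ε : ℤ, (ε = 1 ∨ ε = -1) → ¬ (p : ℤ) ∣ ε := by
    rintro ε (rfl | rfl)
    · exact hp1
    · rw [dvd_neg]; exact hp1
  -- the full package for one character
  have key : ∀ χ : IrrCharacter G, (∀ g : G, χ.1 ⟨s * g * s⁻¹, hG.conj_mem g g.2 s⟩ = χ.1 g) →
      ∃ (χh : Γ → ℂ) (β : IrrCharacter C) (ε : ℤ), IsIrrCharacter Γ χh ∧ (∀ g : G, χh g = χ.1 g) ∧
        (ε = 1 ∨ ε = -1) ∧ (∀ c : C, χh ((c : Γ) * s) = (ε : ℂ) * β.1 c) ∧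
        ∀ γ : IrrCharacter C,
          multZ (fun c : C => χ.1 ⟨c, hCG c.2⟩) γ.1 ≡ (if γ = β then ε else 0) [ZMOD p] := by
    intro χ hinv
    obtain ⟨χh, hχh, hres, hd⟩ := glaub_canonical_exists G s hcop hgen χ hinv
    have hirr : IsIrrCharacter G (fun g : G => χh g) := by
      have : (fun g : G => χh g) = χ.1 := funext hres
      rw [this]; exact χ.2
    obtain ⟨β, ε, hε, hf⟩ := glaub_exists G s hcop hgen C hC χh hχh hirr hd
    refine ⟨χh, β, ε, hχh, hres, hε, hf, fun γ => ?_⟩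
    have h1 := glaub_refined G s hcop hgen C hC p hp k hq hcent χh hχh hirr hd β ε hε hf γ
    have h2 : (fun c : C => χ.1 ⟨c, hCG c.2⟩) = fun c : C => χh (c : Γ) := by
      funext c; exact (hres ⟨c, hCG c.2⟩).symm
    rw [h2]; exact h1
  refine ⟨?_, ?_, ?_⟩
  · intro χ hinv
    obtain ⟨χh, β, ε, -, -, hε, -, hcong⟩ := key χ hinv
    exact ⟨β, ε, hε, hcong⟩
  · intro χ χ' hinv hinv' β hpm hpm'
    obtain ⟨χh, β₁, ε, hχh, hres, hε, hf, hcong⟩ := key χ hinv
    obtain ⟨χh', β₁', ε', hχh', hres', hε', hf', hcong'⟩ := key χ' hinv'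
    have hβ : β = β₁ := by
      by_contra hne
      have := hcong β
      rw [if_neg hne] at this
      exact hpm (Int.modEq_zero_iff_dvd.mp this)
    have hβ' : β = β₁' := by
      by_contra hne
      have := hcong' β
      rw [if_neg hne] at this
      exact hpm' (Int.modEq_zero_iff_dvd.mp this)
    have hirr : IsIrrCharacter G (fun g : G => χh g) := by
      have : (fun g : G => χh g) = χ.1 := funext hres
      rw [this]; exact χ.2
    rw [← hβ] at hf
    rw [← hβ'] at hf'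
    have h1 := glaub_injective G s hcop hgen C hC χh χh' hχh hχh' hirr β ε ε' hε hε' hf hf'
    apply Subtype.ext
    funext g
    rw [← hres g, ← hres' g]
    exact congrFun h1 g
  · intro β
    obtain ⟨χh, hχh, hirr, hd, ε, hε, hf⟩ := glaub_surjective G s hcop hgen C hC β
    refine ⟨⟨fun g : G => χh g, hirr⟩, ?_, ?_⟩
    · intro g
      exact isClassFunction_of_isCharacter (irr_isCharacter hχh) g s
    · have h1 := glaub_refined G s hcop hgen C hC p hp k hq hcent χh hχh hirr hd β ε hε hf β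
      rw [if_pos rfl] at h1
      intro hdvd
      have h2 : (p : ℤ) ∣ ε := by
        have := (Int.modEq_zero_iff_dvd.mpr hdvd).symm.trans h1
        exact Int.modEq_zero_iff_dvd.mp this.symm
      exact hpε ε hε h2

end Cfsg.Agent.Lib.Helper8
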