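import Mathlib
import Cfsg.Prelude.Def_Characters
import Cfsg.Agent.Lib.Helper8.CharClifford
import Cfsg.Agent.Lib.Helper8.CharClifford2
import Cfsg.Agent.Lib.Helper8.CharRamified
import Cfsg.Agent.Lib.Helper8.CharAbelQuot
import Cfsg.Agent.Lib.Helper8.CharGallagher
import Cfsg.Agent.Lib.Helper8.CharContain
import Cfsg.Agent.Lib.Helper8.CharDecomp
import Cfsg.Agent.Lib.Helper8.CharDegree
import Cfsg.Agent.Lib.Helper8.CharComplete2
import Cfsg.Agent.Lib.Helper8.CharClassSum
import Cfsg.Agent.Lib.Helper8.CharInd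
import Cfsg.Agent.Lib.Helper8.CharExtraspecial
import Cfsg.Agent.Lib.Helper8.GlaubRefine
import Cfsg.Agent.Lib.Helper8.DadeElem
import Cfsg.Agent.Lib.Helper8.CharItoSolv
import Cfsg.Agent.Lib.Helper8.CharBessel
import Cfsg.Agent.Lib.Helper8.CharAvg

set_option autoImplicit false

namespace Cfsg.Agent.Lib.Helper8
open Cfsg
open scoped ComplexConjugate
open scoped Classical

universe u

section AbelChief

/-- a nonzero character has an irreducible constituent -/
theorem exists_constituent_of_ne_zero {H : Type*} [Group H] [Fintype H] {Ψ : H → ℂ}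
    (hΨ : IsCharacter H Ψ) (h0 : Ψ ≠ 0) : ∃ χ : IrrCharacter H, classInner Ψ χ.1 ≠ 0 := by
  haveI : Finite (IrrCharacter H) := irr_finite
  haveI : Fintype (IrrCharacter H) := Fintype.ofFinite _
  by_contra hcon
  push_neg at hcon
  apply h0
  rw [classFunction_eq_sum (isClassFunction_of_isCharacter hΨ)]
  apply Finset.sum_eq_zero
  intro χ _
  rw [hcon χ, zero_smul]

/-- the product of a linear character with an irreducible character is irreducible -/
theorem linear_mul_isIrr {H : Type*} [Group H] [Fintype H] (β : IrrCharacter H) (h1 : β.1 1 = 1)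
    {ψ : H → ℂ} (hψ : IsIrrCharacter H ψ) : IsIrrCharacter H (β.1 * ψ) := by
  apply isIrrCharacter_of_norm_one (isCharacter_mul (irr_isCharacter β.2) (irr_isCharacter hψ))
  rw [classInner_mul_linear β h1, irr_classInner hψ hψ, if_pos rfl]

variable {K : Type u} [Group K] [Fintype K]

/-- the character induced from the principal character of a normal subgroup with abelian quotient
is the sum of the linear characters trivial on it -/
theorem ind_principal_eq_sum [Fintype (IrrCharacter K)]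
    (L : Subgroup K) (hL : L.Normal) [Fintype L]
    (hab : ∀ x y : K, x * y * x⁻¹ * y⁻¹ ∈ L) :
    indFun L (fun _ : L => (1 : ℂ)) = fun g => ∑ ψ ∈ Finset.univ.filter
      (fun ψ : IrrCharacter K => ψ.1 1 = 1 ∧ ∀ x ∈ L, ψ.1 x = 1), ψ.1 g := by
  have hΨ : IsCharacter K (indFun L (fun _ : L => (1 : ℂ))) :=
    isCharacter_indFun L (irr_isCharacter principal_isIrrCharacter)
  obtain ⟨m, hm⟩ := isCharacter_decomp hΨ
  have hΨeq : indFun L (fun _ : L => (1 : ℂ)) =
      fun g => ∑ ψ : IrrCharacter K, (m ψ : ℂ) * ψ.1 g := funext hm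
  have hmψ : ∀ ψ : IrrCharacter K,
      classInner (indFun L (fun _ : L => (1 : ℂ))) ψ.1 = (m ψ : ℂ) := by
    intro ψ; rw [hΨeq]; exact classInner_comb_irr (fun ψ => (m ψ : ℂ)) ψ
  have hm1 : ∀ ψ : IrrCharacter K, (ψ.1 1 = 1 ∧ ∀ x ∈ L, ψ.1 x = 1) → m ψ = 1 := by
    intro ψ hψ
    have h1 := hmψ ψ
    rw [frobenius_reciprocity L _ ψ.1 (isClassFunction_of_isCharacter (irr_isCharacter ψ.2))] at h1
    have h2 : (fun h : L => ψ.1 (h : K)) = fun _ => (1 : ℂ) := by
      funext h; exact hψ.2 h h.2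
    rw [h2, irr_classInner principal_isIrrCharacter principal_isIrrCharacter, if_pos rfl] at h1
    exact_mod_cast h1.symm
  have hm0 : ∀ ψ : IrrCharacter K, ¬ (ψ.1 1 = 1 ∧ ∀ x ∈ L, ψ.1 x = 1) → m ψ = 0 := by
    intro ψ hψ
    by_contra h0
    apply hψ
    have hne : classInner (indFun L (fun _ : L => (1 : ℂ))) ψ.1 ≠ 0 := by
      rw [hmψ ψ]; exact_mod_cast h0
    have hlin := linear_of_over_principal hL hab ψ hne
    refine ⟨hlin, ?_⟩
    have hψcf := isClassFunction_of_isCharacter (irr_isCharacter ψ.2)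
    have hcon : classInner (fun k : L => ψ.1 k) (fun _ => (1 : ℂ)) ≠ 0 := by
      rw [frobenius_reciprocity L _ ψ.1 hψcf, classInner_conj_symm] at hne
      intro h0'
      apply hne
      rw [h0']; simp
    have hres := clifford_invariant hL ψ.2 principal_isIrrCharacter hcon (fun g => rfl)
    intro x hx
    have h1 := congrFun hres ⟨x, hx⟩
    have h2 := congrFun hres 1
    simp only [Pi.smul_apply, smul_eq_mul, mul_one] at h1 h2
    rw [h1, ← h2]
    simpa using hlin
  rw [hΨeq]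
  funext g
  rw [Finset.sum_filter]
  apply Finset.sum_congr rfl
  intro ψ _
  by_cases hψ : ψ.1 1 = 1 ∧ ∀ x ∈ L, ψ.1 x = 1
  · rw [if_pos hψ, hm1 ψ hψ]; simp
  · rw [if_neg hψ, hm0 ψ hψ]; simp

/-- the norm of the restriction to a normal subgroup with abelian quotient counts the linear
characters fixing the character -/
theorem norm_restrict_abelian_quotient [Fintype (IrrCharacter K)]
    (L : Subgroup K) (hL : L.Normal) [Fintype L]
    (hab : ∀ x y : K, x * y * x⁻¹ * y⁻¹ ∈ L) {ϑ : K → ℂ} (hϑ : IsIrrCharacter K ϑ) :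
    classInner (fun l : L => ϑ l) (fun l : L => ϑ l) =
      ((Finset.univ.filter (fun ψ : IrrCharacter K =>
        (ψ.1 1 = 1 ∧ ∀ x ∈ L, ψ.1 x = 1) ∧ ψ.1 * ϑ = ϑ)).card : ℂ) := by
  have hϑcf := isClassFunction_of_isCharacter (irr_isCharacter hϑ)
  rw [← frobenius_reciprocity L (fun l : L => ϑ l) ϑ hϑcf]
  have h1 := indFun_mul_restrict L (fun _ : L => (1 : ℂ)) hϑcf
  have h2 : (fun n : L => (1 : ℂ) * ϑ n) = fun l : L => ϑ l := by funext n; rw [one_mul]
  rw [h2] at h1
  rw [h1, ind_principal_eq_sum L hL hab]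
  have h3 : ((fun g => ∑ ψ ∈ Finset.univ.filter
      (fun ψ : IrrCharacter K => ψ.1 1 = 1 ∧ ∀ x ∈ L, ψ.1 x = 1), ψ.1 g) * ϑ) =
      fun g => ∑ ψ ∈ Finset.univ.filter
        (fun ψ : IrrCharacter K => ψ.1 1 = 1 ∧ ∀ x ∈ L, ψ.1 x = 1), (1 : ℂ) * (ψ.1 * ϑ) g := by
    funext g
    rw [Pi.mul_apply, Finset.sum_mul]
    apply Finset.sum_congr rfl
    intro ψ _
    rw [one_mul, Pi.mul_apply]
  rw [h3, classInner_sum_left]
  have hfil : (Finset.univ.filter (fun ψ : IrrCharacter K =>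
      (ψ.1 1 = 1 ∧ ∀ x ∈ L, ψ.1 x = 1) ∧ ψ.1 * ϑ = ϑ)) =
      (Finset.univ.filter (fun ψ : IrrCharacter K => ψ.1 1 = 1 ∧ ∀ x ∈ L, ψ.1 x = 1)).filter
        (fun ψ => ψ.1 * ϑ = ϑ) := by
    rw [Finset.filter_filter]
  rw [hfil, Finset.card_filter]
  push_cast
  apply Finset.sum_congr rfl
  intro ψ hψ
  simp only [Finset.mem_filter, Finset.mem_univ, true_and] at hψ
  rw [one_mul, irr_classInner (linear_mul_isIrr ψ hψ.1 hϑ) hϑ]

/-- the norm of the restriction of a character vanishing off a subgroup -/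
theorem norm_restrict_of_vanish (L : Subgroup K) [Fintype L] {ϑ : K → ℂ}
    (hϑ : IsIrrCharacter K ϑ) (hvan : ∀ k : K, k ∉ L → ϑ k = 0) :
    classInner (fun l : L => ϑ l) (fun l : L => ϑ l) = (L.index : ℂ) := by
  have h1 := irr_classInner hϑ hϑ
  rw [if_pos rfl] at h1
  unfold classInner at h1 ⊢
  have hsum : ∑ g : K, ϑ g * conj (ϑ g) = ∑ l : L, ϑ l * conj (ϑ l) := by
    rw [← Finset.sum_subtype (Finset.univ.filter (fun k : K => k ∈ L)) (by intro x; simp)
      (fun g => ϑ g * conj (ϑ g))]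
    rw [Finset.sum_filter]
    apply Finset.sum_congr rfl
    intro g _
    by_cases hg : g ∈ L
    · rw [if_pos hg]
    · rw [if_neg hg, hvan g hg, zero_mul]
  rw [← hsum]
  have hcard : (Nat.card K : ℂ) = (Nat.card L : ℂ) * (L.index : ℂ) := by
    rw [← Nat.cast_mul, Subgroup.card_mul_index]
  have hL0 : (Nat.card L : ℂ) ≠ 0 := by exact_mod_cast Nat.card_pos.ne'
  have hK0 : (Nat.card K : ℂ) ≠ 0 := by exact_mod_cast Nat.card_pos.ne'
  have hS : ∑ g : K, ϑ g * conj (ϑ g) = (Nat.card K : ℂ) := by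
    field_simp at h1
    exact h1
  rw [hS, hcard]
  field_simp

/-- the stabilizer of a constituent is invariant under automorphisms fixing the character -/
theorem stab_invariant_of_aut (L : Subgroup K) (hL : L.Normal) [Fintype L]
    (hab : ∀ x y : K, x * y * x⁻¹ * y⁻¹ ∈ L) {ϑ : K → ℂ} (hϑ : IsIrrCharacter K ϑ)
    (φ : IrrCharacter L) (hcon : classInner (fun l : L => ϑ l) φ.1 ≠ 0)
    (σ : K ≃* K) (hσL : ∀ x, x ∈ L ↔ σ x ∈ L) (hσϑ : ∀ k, ϑ (σ k) = ϑ k)
    (k : K) (hk : conjChar hL φ.1 k = φ.1) : conjChar hL φ.1 (σ k) = φ.1 := by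
  let σL : L ≃* L :=
    { toFun := fun l => ⟨σ l, (hσL l).1 l.2⟩
      invFun := fun l => ⟨σ.symm l, (hσL _).2 (by rw [MulEquiv.apply_symm_apply]; exact l.2)⟩
      left_inv := fun l => Subtype.ext (by simp)
      right_inv := fun l => Subtype.ext (by simp)
      map_mul' := fun a b => Subtype.ext (by simp) }
  have hσLc : ∀ l : L, ((σL l : L) : K) = σ l := fun l => rfl
  have hφσ : IsIrrCharacter L (φ.1 ∘ σL) := isIrrCharacter_comp_equiv σL φ.2
  have hcon2 : classInner (fun l : L => ϑ l) (φ.1 ∘ σL) ≠ 0 := by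
    have h1 : (fun l : L => ϑ l) = (fun l : L => ϑ l) ∘ σL := by
      funext l
      simp only [Function.comp_apply]
      rw [hσLc, hσϑ]
    rw [h1, classInner_comp_equiv]; exact hcon
  have hconj : ∃ k₀ : K, φ.1 ∘ σL = conjChar hL φ.1 k₀ := by
    by_contra hno
    exact hcon2 (clifford_inner_nonconj hL hϑ φ.2 hcon ⟨_, hφσ⟩ hno)
  obtain ⟨k₀, hk₀⟩ := hconj
  have hφcf : IsClassFunction L φ.1 := isClassFunction_of_isCharacter (irr_isCharacter φ.2)
  funext l
  obtain ⟨l', rfl⟩ := σL.surjective l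
  rw [conjChar_apply]
  have e1 : (⟨σ k * (σL l' : K) * (σ k)⁻¹, hL.conj_mem _ (σL l').2 (σ k)⟩ : L) =
      σL ⟨k * l' * k⁻¹, hL.conj_mem _ l'.2 k⟩ := by
    apply Subtype.ext
    show σ k * σ l' * (σ k)⁻¹ = σ (k * l' * k⁻¹)
    rw [map_mul, map_mul, map_inv]
  rw [e1]
  have e2 := congrFun hk₀ ⟨k * l' * k⁻¹, hL.conj_mem _ l'.2 k⟩
  have e3 := congrFun hk₀ l'
  simp only [Function.comp_apply, conjChar_apply] at e2 e3
  rw [e2, e3]
  have e4 := congrFun hk ⟨k₀ * l' * k₀⁻¹, hL.conj_mem _ l'.2 k₀⟩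
  rw [conjChar_apply] at e4
  rw [← e4]
  have e5 := hφcf ⟨k * (k₀ * l' * k₀⁻¹) * k⁻¹, hL.conj_mem _ (hL.conj_mem _ l'.2 k₀) k⟩
    ⟨k₀ * k * k₀⁻¹ * k⁻¹, hab k₀ k⟩
  rw [← e5]
  refine congrArg φ.1 (Subtype.ext ?_)
  simp only [Subgroup.coe_mul, Subgroup.coe_inv]
  group

/-- the common kernel of the linear characters trivial on `L` fixing `ϑ` -/
def linKer (L : Subgroup K) (ϑ : K → ℂ) : Subgroup K where
  carrier := {k | ∀ ψ : IrrCharacter K, ψ.1 1 = 1 → (∀ x ∈ L, ψ.1 x = 1) → ψ.1 * ϑ = ϑ → ψ.1 k = 1}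
  mul_mem' := by
    intro a b ha hb ψ h1 h2 h3
    rw [linear_char_mul ψ h1, ha ψ h1 h2 h3, hb ψ h1 h2 h3, mul_one]
  one_mem' := fun ψ h1 _ _ => h1
  inv_mem' := by
    intro a ha ψ h1 h2 h3
    have := linear_char_mul ψ h1 a a⁻¹
    rw [mul_inv_cancel, h1, ha ψ h1 h2 h3, one_mul] at this
    exact this.symm

theorem mem_linKer (L : Subgroup K) (ϑ : K → ℂ) (k : K) : k ∈ linKer L ϑ ↔
    ∀ ψ : IrrCharacter K, ψ.1 1 = 1 → (∀ x ∈ L, ψ.1 x = 1) → ψ.1 * ϑ = ϑ → ψ.1 k = 1 := Iff.rfl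

theorem linKer_invariant_of_aut (L : Subgroup K) {ϑ : K → ℂ}
    (σ : K ≃* K) (hσL : ∀ x, x ∈ L ↔ σ x ∈ L) (hσϑ : ∀ k, ϑ (σ k) = ϑ k)
    (k : K) (hk : k ∈ linKer L ϑ) : σ k ∈ linKer L ϑ := by
  rw [mem_linKer] at hk ⊢
  intro ψ h1 h2 h3
  have := hk ⟨ψ.1 ∘ σ, isIrrCharacter_comp_equiv σ ψ.2⟩ (by simp [h1])
    (fun x hx => h2 _ ((hσL x).1 hx)) (by
      funext g
      have := congrFun h3 (σ g)
      simp only [Pi.mul_apply, Function.comp_apply] at this ⊢
      rw [hσϑ] at this; exact this)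
  exact this

/-- Isaacs 6.18 in abstract form: restriction of an invariant character to the bottom of an
abelian chief factor -/
theorem abelian_chief_restrict {ι : Type*} (L : Subgroup K) [hL : L.Normal] [Fintype L]
    (hab : ∀ x y : K, x * y * x⁻¹ * y⁻¹ ∈ L) {ϑ : K → ℂ} (hϑ : IsIrrCharacter K ϑ)
    (σ : ι → K ≃* K) (hσL : ∀ i x, x ∈ L ↔ σ i x ∈ L) (hσϑ : ∀ i k, ϑ (σ i k) = ϑ k)
    (hchief : ∀ M : Subgroup K, L ≤ M → (∀ i, ∀ k ∈ M, σ i k ∈ M) → M = L ∨ M = ⊤) :
    IsIrrCharacter L (fun l : L => ϑ l) ∨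
    (∃ (φ : L → ℂ) (e : ℕ), IsIrrCharacter L φ ∧ (fun l : L => ϑ l) = (e : ℂ) • φ ∧
      e ^ 2 = L.index) ∨
    (∃ F : Finset (L → ℂ), (∀ φ ∈ F, IsIrrCharacter L φ) ∧ F.card = L.index ∧
      (fun l : L => ϑ l) = ∑ φ ∈ F, φ) := by
  haveI : Finite (IrrCharacter K) := irr_finite
  haveI : Fintype (IrrCharacter K) := Fintype.ofFinite _
  have hϑc := irr_isCharacter hϑ
  have hϑcf := isClassFunction_of_isCharacter hϑc
  have hresc : IsCharacter L (fun l : L => ϑ l) := isCharacter_restrict L hϑc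
  have hres0 : (fun l : L => ϑ l) ≠ 0 := by
    intro h0
    have := congrFun h0 1
    simp only [Pi.zero_apply, OneMemClass.coe_one] at this
    exact irr_one_ne_zero ⟨ϑ, hϑ⟩ this
  obtain ⟨φ, hcon⟩ := exists_constituent_of_ne_zero hresc hres0
  obtain ⟨e, he⟩ := classInner_character_nat hresc (irr_isCharacter φ.2)
  have he0 : e ≠ 0 := by
    intro h0; apply hcon; rw [he, h0]; simp
  letI := irrConjAction hL
  have hstab_mem : ∀ k : K, k ∈ MulAction.stabilizer K φ ↔ conjChar hL φ.1 k = φ.1 := by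
    intro k
    rw [MulAction.mem_stabilizer_iff]
    constructor
    · intro h
      have h1 := congrArg Subtype.val h
      rw [irrConjAction_smul] at h1
      have h2 := congrArg (fun f => conjChar hL f k) h1
      rw [conjChar_mul, inv_mul_cancel, conjChar_one] at h2
      exact h2.symm
    · intro h
      apply Subtype.ext
      rw [irrConjAction_smul]
      have h2 := congrArg (fun f => conjChar hL f k⁻¹) h
      rw [conjChar_mul, mul_inv_cancel, conjChar_one] at h2
      exact h2.symm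
  have hLstab : L ≤ MulAction.stabilizer K φ := by
    intro l hl
    rw [hstab_mem]
    funext x
    rw [conjChar_apply]
    have hφcf : IsClassFunction L φ.1 := isClassFunction_of_isCharacter (irr_isCharacter φ.2)
    have := hφcf x ⟨l, hl⟩
    rw [← this]
    exact congrArg φ.1 (Subtype.ext (by simp))
  have hstab_inv : ∀ i, ∀ k ∈ MulAction.stabilizer K φ, σ i k ∈ MulAction.stabilizer K φ := by
    intro i k hk
    rw [hstab_mem] at hk ⊢
    exact stab_invariant_of_aut L hL hab hϑ φ hcon (σ i) (hσL i) (hσϑ i) k hk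
  have hLU : L ≤ linKer L ϑ := fun k hk ψ _ h2 _ => h2 k hk
  have hU_inv : ∀ i, ∀ k ∈ linKer L ϑ, σ i k ∈ linKer L ϑ := by
    intro i k hk
    exact linKer_invariant_of_aut L (σ i) (hσL i) (hσϑ i) k hk
  have hnorm := norm_restrict_abelian_quotient L hL hab hϑ
  rcases hchief _ hLstab hstab_inv with hI | hI
  · -- the stabilizer is `L`
    right; right
    have hcl := clifford hL hϑ φ.2 hcon
    obtain ⟨F, hF⟩ : ∃ F : Finset (L → ℂ),
        F = Finset.image (fun g : K => conjChar hL φ.1 g) Finset.univ := ⟨_, rfl⟩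
    have hO : {ψ : L → ℂ | ∃ g : K, ψ = conjChar hL φ.1 g} = ↑F := by
      ext ψ
      simp only [Set.mem_setOf_eq, hF, Finset.coe_image, Finset.coe_univ, Set.image_univ,
        Set.mem_range]
      constructor
      · rintro ⟨g, rfl⟩; exact ⟨g, rfl⟩
      · rintro ⟨g, rfl⟩; exact ⟨g, rfl⟩
    rw [hO, finsum_mem_coe_finset, he] at hcl
    have hcardF : F.card = (MulAction.stabilizer K φ).index := by
      rw [MulAction.index_stabilizer, ← Set.ncard_image_of_injective _ Subtype.val_injective,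
        ← Set.ncard_coe_finset F]
      congr 1
      ext ψ
      simp only [hF, Finset.coe_image, Finset.coe_univ, Set.image_univ, Set.mem_range,
        Set.mem_image]
      constructor
      · rintro ⟨g, rfl⟩
        refine ⟨g⁻¹ • φ, ⟨g⁻¹, rfl⟩, ?_⟩
        rw [irrConjAction_smul, inv_inv]
      · rintro ⟨φ', ⟨g, rfl⟩, rfl⟩
        exact ⟨g⁻¹, (irrConjAction_smul hL g φ).symm⟩
    rw [hI] at hcardF
    have hFirr : ∀ ψ ∈ F, IsIrrCharacter L ψ := by
      intro ψ hψ
      rw [hF, Finset.mem_image] at hψ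
      obtain ⟨g, _, rfl⟩ := hψ
      exact conjChar_irr hL φ.2 g
    have h1 := congrFun hcl 1
    simp only [Pi.smul_apply, Finset.sum_apply, smul_eq_mul] at h1
    have h2 : ∑ ψ ∈ F, ψ 1 = (F.card : ℂ) * φ.1 1 := by
      rw [Finset.sum_congr rfl (g := fun _ => φ.1 1), Finset.sum_const, nsmul_eq_mul]
      intro ψ hψ
      rw [hF, Finset.mem_image] at hψ
      obtain ⟨g, _, rfl⟩ := hψ
      exact conjChar_one_apply hL φ.1 g
    have hindc : IsCharacter K (indFun L φ.1) := isCharacter_indFun L (irr_isCharacter φ.2)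
    have hfrob : classInner (indFun L φ.1) ϑ = (e : ℂ) := by
      rw [frobenius_reciprocity L φ.1 ϑ hϑcf, classInner_conj_symm, he]; simp
    have hdeg := degree_ge_of_constituent hindc ⟨ϑ, hϑ⟩ e hfrob
    have hφ1 := irr_one_eq_charDegree φ
    have hϑ1 := irr_one_eq_charDegree (⟨ϑ, hϑ⟩ : IrrCharacter K)
    simp only at hϑ1
    have hinddeg : charDegree (indFun L φ.1) = L.index * charDegree φ.1 := by
      have h3 := isCharacter_one_eq_charDegree hindc
      rw [indFun_one, hφ1] at h3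
      exact_mod_cast h3.symm
    have hϑdeg : charDegree ϑ = e * L.index * charDegree φ.1 := by
      have h3 : ϑ ((1 : L) : K) = ϑ 1 := by rw [OneMemClass.coe_one]
      rw [h3, h2, hcardF, hϑ1, hφ1] at h1
      have h4 : ((charDegree ϑ : ℕ) : ℂ) = ((e * L.index * charDegree φ.1 : ℕ) : ℂ) := by
        rw [h1]; push_cast; ring
      exact_mod_cast h4
    have he1 : e = 1 := by
      simp only at hdeg
      have hϑdeg' : charDegree ϑ = e * (L.index * charDegree φ.1) := by rw [hϑdeg, mul_assoc]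
      rw [hinddeg, hϑdeg'] at hdeg
      have hpos : 0 < L.index * charDegree φ.1 :=
        Nat.mul_pos (Nat.pos_of_ne_zero L.index_ne_zero_of_finite) (charDegree_pos φ)
      generalize L.index * charDegree φ.1 = X at hdeg hpos
      by_contra hne
      have h2e : 2 ≤ e := by omega
      have h5 : 2 * (2 * X) ≤ e * (e * X) := Nat.mul_le_mul h2e (Nat.mul_le_mul_right X h2e)
      omega
    refine ⟨F, hFirr, hcardF, ?_⟩
    rw [hcl, he1, Nat.cast_one, one_smul]
  · -- `φ` is invariant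
    have hinvφ : ∀ g : K, conjChar hL φ.1 g = φ.1 := by
      intro g; rw [← hstab_mem, hI]; exact Subgroup.mem_top g
    have hres := clifford_invariant hL hϑ φ.2 hcon hinvφ
    rw [he] at hres
    have hφφ := irr_classInner φ.2 φ.2
    rw [if_pos rfl] at hφφ
    have hn2 : classInner (fun l : L => ϑ l) (fun l : L => ϑ l) = ((e ^ 2 : ℕ) : ℂ) := by
      rw [hres]
      have : classInner ((e : ℂ) • φ.1) ((e : ℂ) • φ.1) =
          (e : ℂ) * (e : ℂ) * classInner φ.1 φ.1 := by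
        unfold classInner
        simp only [Pi.smul_apply, smul_eq_mul, map_mul, Complex.conj_natCast]
        rw [show ∑ g : L, (e : ℂ) * φ.1 g * ((e : ℂ) * conj (φ.1 g)) =
          (e : ℂ) * (e : ℂ) * ∑ g : L, φ.1 g * conj (φ.1 g) from by
            rw [Finset.mul_sum]; apply Finset.sum_congr rfl; intros; ring]
        ring
      rw [this, hφφ]; push_cast; ring
    have hSe : (Finset.univ.filter (fun ψ : IrrCharacter K =>
        (ψ.1 1 = 1 ∧ ∀ x ∈ L, ψ.1 x = 1) ∧ ψ.1 * ϑ = ϑ)).card = e ^ 2 := by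
      have : ((Finset.univ.filter (fun ψ : IrrCharacter K =>
        (ψ.1 1 = 1 ∧ ∀ x ∈ L, ψ.1 x = 1) ∧ ψ.1 * ϑ = ϑ)).card : ℂ) = ((e ^ 2 : ℕ) : ℂ) := by
        rw [← hnorm, hn2]
      exact_mod_cast this
    rcases hchief _ hLU hU_inv with hU | hU
    · right; left
      have hvan : ∀ k : K, k ∉ L → ϑ k = 0 := by
        intro k hk
        have hkU : k ∉ linKer L ϑ := by rw [hU]; exact hk
        rw [mem_linKer] at hkU
        push_neg at hkU
        obtain ⟨ψ, h1, h2, h3, h4⟩ := hkU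
        have h5 := congrFun h3 k
        rw [Pi.mul_apply] at h5
        have h6 : (ψ.1 k - 1) * ϑ k = 0 := by rw [sub_mul, one_mul, h5, sub_self]
        rcases mul_eq_zero.1 h6 with h7 | h7
        · exact absurd (sub_eq_zero.1 h7) h4
        · exact h7
      have hn3 := norm_restrict_of_vanish L hϑ hvan
      refine ⟨φ.1, e, φ.2, hres, ?_⟩
      have : ((e ^ 2 : ℕ) : ℂ) = (L.index : ℂ) := by rw [← hn2, hn3]
      exact_mod_cast this
    · left
      have hScard : (Finset.univ.filter (fun ψ : IrrCharacter K =>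
          (ψ.1 1 = 1 ∧ ∀ x ∈ L, ψ.1 x = 1) ∧ ψ.1 * ϑ = ϑ)).card ≤ 1 := by
        apply Finset.card_le_one.2
        intro a ha b hb
        simp only [Finset.mem_filter, Finset.mem_univ, true_and] at ha hb
        apply Subtype.ext
        funext k
        have hk : k ∈ linKer L ϑ := by rw [hU]; exact Subgroup.mem_top k
        rw [mem_linKer] at hk
        rw [hk a ha.1.1 ha.1.2 ha.2, hk b hb.1.1 hb.1.2 hb.2]
      have he1 : e = 1 := by
        rw [hSe] at hScard
        by_contra hne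
        have h2e : 2 ≤ e := by omega
        nlinarith
      rw [hres, he1, Nat.cast_one, one_smul]
      exact φ.2

end AbelChief

end Cfsg.Agent.Lib.Helper8
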