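import Mathlib
import Cfsg.Prelude.Def_Characters
import Cfsg.Agent.Lib.Helper8.BrauerGlobal2
import Cfsg.Agent.Lib.Helper8.GlaubDet
import Cfsg.Agent.Lib.Helper8.CharLinHom
import Cfsg.Agent.Lib.Helper8.CharBurnside

set_option autoImplicit false

universe u

namespace Cfsg.Agent.Lib.Helper8
open Cfsg
open scoped Classical

variable {G : Type u} [Group G] [Fintype G]

/-- Artin's function on a subgroup: `|B|` on generators, `0` elsewhere. -/
noncomputable def artinFun (B : Subgroup G) : B → ℂ := fun b =>
  if Subgroup.zpowers (b : G) = B then (Nat.card B : ℂ) else 0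

theorem extendByZero_artinFun (B : Subgroup G) (y : G) :
    extendByZero B (artinFun B) y =
      if Subgroup.zpowers y = B then (Nat.card B : ℂ) else 0 := by
  by_cases hy : y ∈ B
  · rw [extendByZero_mem B _ hy]; rfl
  · rw [extendByZero_not_mem B _ hy, if_neg]
    intro h; apply hy; rw [← h]; exact Subgroup.mem_zpowers y

theorem indFun_artinFun (B : Subgroup G) (g : G) :
    indFun B (artinFun B) g =
      ((Finset.univ.filter (fun x : G => Subgroup.zpowers (x⁻¹ * g * x) = B)).card : ℂ) := by
  rw [indFun_apply]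
  simp_rw [extendByZero_artinFun]
  rw [← Finset.sum_filter, Finset.sum_const, nsmul_eq_mul]
  have : (Nat.card B : ℂ) ≠ 0 := Nat.cast_ne_zero.mpr Nat.card_pos.ne'
  field_simp

theorem sum_indFun_artinFun (S : Finset (Subgroup G)) (g : G) :
    ∑ B ∈ S, indFun B (artinFun B) g =
      ((Finset.univ.filter (fun x : G => Subgroup.zpowers (x⁻¹ * g * x) ∈ S)).card : ℂ) := by
  simp_rw [indFun_artinFun]
  rw [← Nat.cast_sum]
  congr 1
  rw [Finset.card_eq_sum_card_fiberwise (f := fun x : G => Subgroup.zpowers (x⁻¹ * g * x))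
    (s := Finset.univ.filter (fun x : G => Subgroup.zpowers (x⁻¹ * g * x) ∈ S)) (t := S)]
  · apply Finset.sum_congr rfl
    intro B hB
    rw [Finset.filter_filter]
    congr 1
    apply Finset.filter_congr
    intro x _
    constructor
    · intro h; exact ⟨h ▸ hB, h⟩
    · intro h; exact h.2
  · intro x hx
    have hx' := Finset.mem_coe.mp hx
    simp only [Finset.mem_filter, Finset.mem_univ, true_and] at hx'
    exact Finset.mem_coe.mpr hx'

theorem artin_total : (fun _ : G => (Nat.card G : ℂ)) =
    ∑ B : Subgroup G, indFun B (artinFun B) := by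
  ext g
  rw [Finset.sum_apply, sum_indFun_artinFun]
  have : (Finset.univ.filter (fun x : G => Subgroup.zpowers (x⁻¹ * g * x) ∈
      (Finset.univ : Finset (Subgroup G)))) = Finset.univ := by
    ext x; simp
  rw [this, Finset.card_univ, Nat.card_eq_fintype_card]

theorem artin_partial (B : Subgroup G) :
    (Nat.card B : ℤ) • indFun B (fun _ : B => (1 : ℂ)) =
      ∑ B' ∈ Finset.univ.filter (fun B' : Subgroup G => B' ≤ B), indFun B' (artinFun B') := by
  ext g
  rw [Finset.sum_apply, sum_indFun_artinFun, Pi.smul_apply, indFun_apply]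
  have h1 : ∀ x : G, extendByZero B (fun _ : B => (1 : ℂ)) (x⁻¹ * g * x) =
      if x⁻¹ * g * x ∈ B then 1 else 0 := by
    intro x
    by_cases hx : x⁻¹ * g * x ∈ B
    · rw [extendByZero_mem B _ hx, if_pos hx]
    · rw [extendByZero_not_mem B _ hx, if_neg hx]
  simp_rw [h1]
  rw [Finset.sum_boole]
  have h2 : (Finset.univ.filter (fun x : G => Subgroup.zpowers (x⁻¹ * g * x) ∈
      Finset.univ.filter (fun B' : Subgroup G => B' ≤ B))) =
      Finset.univ.filter (fun x : G => x⁻¹ * g * x ∈ B) := by
    ext x
    simp only [Finset.mem_filter, Finset.mem_univ, true_and]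
    exact Subgroup.zpowers_le
  rw [h2]
  have : (Nat.card B : ℂ) ≠ 0 := Nat.cast_ne_zero.mpr Nat.card_pos.ne'
  rw [zsmul_eq_mul]
  push_cast
  field_simp

theorem comm_of_isCyclic {E : Type*} [Group E] [IsCyclic E] (a b : E) : a * b = b * a := by
  obtain ⟨g, hg⟩ := IsCyclic.exists_generator (α := E)
  obtain ⟨i, rfl⟩ := Subgroup.mem_zpowers_iff.mp (hg a)
  obtain ⟨j, rfl⟩ := Subgroup.mem_zpowers_iff.mp (hg b)
  exact zpow_mul_comm g i j

theorem indFun_artinFun_mem (n : ℕ) : ∀ B : Subgroup G, Nat.card B = n →
    indFun B (artinFun B) ∈ indSpan (G := G) (fun A => IsCyclic A) := by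
  induction n using Nat.strong_induction_on with
  | _ n ih =>
    intro B hB
    by_cases hcyc : IsCyclic B
    · have h1 := artin_partial B
      have hsplit : Finset.univ.filter (fun B' : Subgroup G => B' ≤ B) =
          insert B (Finset.univ.filter (fun B' : Subgroup G => B' < B)) := by
        ext B'
        simp only [Finset.mem_filter, Finset.mem_univ, true_and, Finset.mem_insert]
        constructor
        · intro h
          rcases eq_or_lt_of_le h with h | h
          · exact Or.inl h
          · exact Or.inr h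
        · rintro (h | h)
          · exact h.le
          · exact h.le
      have hnot : B ∉ Finset.univ.filter (fun B' : Subgroup G => B' < B) := by
        simp
      rw [hsplit, Finset.sum_insert hnot] at h1
      have h2 : indFun B (artinFun B) = (Nat.card B : ℤ) • indFun B (fun _ : B => (1 : ℂ)) -
          ∑ B' ∈ Finset.univ.filter (fun B' : Subgroup G => B' < B), indFun B' (artinFun B') := by
        rw [h1]; abel
      rw [h2]
      apply Submodule.sub_mem
      · apply Submodule.smul_mem
        exact Submodule.subset_span ⟨B, _, hcyc, irr_isCharacter principal_isIrrCharacter, rfl⟩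
      · apply Submodule.sum_mem
        intro B' hB'
        simp only [Finset.mem_filter, Finset.mem_univ, true_and] at hB'
        have hlt : Nat.card B' < n := by
          rw [← hB]
          have hle := Subgroup.card_le_of_le hB'.le
          rcases hle.lt_or_eq with h | h
          · exact h
          · exfalso
            have := Subgroup.eq_of_le_of_card_ge hB'.le h.ge
            exact hB'.ne this
        exact ih _ hlt B' rfl
    · have : artinFun B = 0 := by
        ext b
        unfold artinFun
        rw [if_neg]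
        · rfl
        · intro h
          apply hcyc
          rw [← h]
          infer_instance
      rw [this, indFun_zero]
      exact Submodule.zero_mem _

theorem artin_one_mem :
    (fun _ : G => (Nat.card G : ℂ)) ∈ indSpan (G := G) (fun A => IsCyclic A) := by
  rw [artin_total]
  apply Submodule.sum_mem
  intro B _
  exact indFun_artinFun_mem _ B rfl

/-- The ℤ-span of functions induced from linear characters of cyclic subgroups. -/
def cycSpan : Submodule ℤ (G → ℂ) :=
  Submodule.span ℤ {f | ∃ (E : Subgroup G) (lam : E →* ℂˣ), IsCyclic E ∧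
    f = indFun E (fun e => ((lam e : ℂˣ) : ℂ))}

theorem indSpan_le_cycSpan :
    indSpan (G := G) (fun A => IsCyclic A) ≤ cycSpan (G := G) := by
  unfold indSpan
  rw [Submodule.span_le]
  rintro f ⟨E, φ, hE, hφ, rfl⟩
  have : Fintype E := Fintype.ofFinite E
  have := irr_finite (G := E)
  have : Fintype (IrrCharacter E) := Fintype.ofFinite _
  obtain ⟨m, hm⟩ := isCharacter_decomp hφ
  have hφ' : φ = ∑ ψ : IrrCharacter E, (m ψ : ℤ) • ψ.1 := by
    ext e
    rw [hm e, Finset.sum_apply]
    apply Finset.sum_congr rfl
    intro ψ _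
    simp
  rw [hφ', indFun_finset_sum]
  apply Submodule.sum_mem
  intro ψ _
  rw [indFun_zsmul]
  apply Submodule.smul_mem
  haveI := hE
  have h1 : ψ.1 1 = 1 := irr_linear_of_comm (fun a b => comm_of_isCyclic a b) ψ
  obtain ⟨lam, hlam⟩ := exists_linFun (irr_isCharacter ψ.2) h1
  rw [hlam]
  exact Submodule.subset_span ⟨E, lam, hE, rfl⟩

theorem cycSpan_list {f : G → ℂ} (hf : f ∈ cycSpan (G := G)) :
    ∃ l : List ((E : Subgroup G) × ((E →* ℂˣ) × ℤ)),
      (∀ t ∈ l, IsCyclic t.1) ∧
      f = (l.map fun t => (t.2.2 : ℂ) • indFun t.1 (fun e => (t.2.1 e : ℂ))).sum := by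
  unfold cycSpan at hf
  induction hf using Submodule.span_induction with
  | mem f hf =>
    obtain ⟨E, lam, hE, rfl⟩ := hf
    refine ⟨[⟨E, (lam, 1)⟩], ?_, ?_⟩
    · intro t ht
      rw [List.mem_singleton] at ht
      rw [ht]
      exact hE
    · simp
  | zero => exact ⟨[], by simp, by simp⟩
  | add f₁ f₂ _ _ h₁ h₂ =>
    obtain ⟨l₁, hl₁, e₁⟩ := h₁
    obtain ⟨l₂, hl₂, e₂⟩ := h₂
    refine ⟨l₁ ++ l₂, ?_, ?_⟩
    · intro t ht
      rcases List.mem_append.mp ht with h | h
      · exact hl₁ t h
      · exact hl₂ t h
    · rw [List.map_append, List.sum_append, ← e₁, ← e₂]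
  | smul n f _ h =>
    obtain ⟨l, hl, e⟩ := h
    refine ⟨l.map (fun t => ⟨t.1, (t.2.1, n * t.2.2)⟩), ?_, ?_⟩
    · intro t ht
      obtain ⟨s, hs, rfl⟩ := List.mem_map.mp ht
      exact hl s hs
    · rw [e, List.map_map]
      clear e hl
      induction l with
      | nil => simp
      | cons a l ih =>
        rw [List.map_cons, List.sum_cons, smul_add, ih, List.map_cons, List.sum_cons]
        congr 1
        ext x
        simp only [Function.comp_apply, Pi.smul_apply, smul_eq_mul, zsmul_eq_mul]
        push_cast
        ring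

/-- Artin's induction theorem. -/
theorem artin_induction_thm (χ : G → ℂ) (hχ : IsCharacter G χ) :
    ∃ l : List ((E : Subgroup G) × ((E →* ℂˣ) × ℤ)),
      (∀ t ∈ l, IsCyclic t.1) ∧
      (Nat.card G : ℂ) • χ =
        (l.map fun t => (t.2.2 : ℂ) • indFun t.1 (fun e => (t.2.1 e : ℂ))).sum := by
  have h1 := indSpan_mul_char (fun A => IsCyclic A) (artin_one_mem (G := G)) hχ
  have : (fun _ : G => (Nat.card G : ℂ)) * χ = (Nat.card G : ℂ) • χ := by
    ext g; simp
  rw [this] at h1
  exact cycSpan_list (indSpan_le_cycSpan h1)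

end Cfsg.Agent.Lib.Helper8
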