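import Mathlib
import Cfsg.Prelude.Def_Blocks

set_option autoImplicit false
set_option maxHeartbeats 1000000

namespace Cfsg.Agent.Lib.Helper8
open Cfsg
open Polynomial

section ModRoots

/-- an integer prime to `p` is not in a `p`-modular maximal ideal -/
theorem natCast_not_mem_of_not_dvd (p : ℕ) (M : Ideal AlgInt) (hM : IsPModular p M) (n : ℕ)
    (hn : ¬ p ∣ n) : (n : AlgInt) ∉ M := by
  intro h
  have hcop : Nat.Coprime n p := (Nat.Coprime.symm ((Nat.Prime.coprime_iff_not_dvd hM.1).mpr hn))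
  obtain ⟨u, v, huv⟩ := (Nat.isCoprime_iff_coprime.mpr hcop)
  have h1 : ((u : ℤ) : AlgInt) * (n : AlgInt) + ((v : ℤ) : AlgInt) * (p : AlgInt) = 1 := by
    have := congrArg (fun z : ℤ => (z : AlgInt)) huv
    simpa using this
  have h2 : (1 : AlgInt) ∈ M := by
    rw [← h1]
    exact M.add_mem (M.mul_mem_left _ h) (M.mul_mem_left _ hM.2.2)
  exact hM.2.1.ne_top ((Ideal.eq_top_iff_one M).mpr h2)

/-- injectivity of reduction on roots of unity of order prime to `p` -/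
theorem modroots_injective (p : ℕ) (M : Ideal AlgInt) (hM : IsPModular p M)
    (ε₁ ε₂ : AlgInt) (h1 : ∃ m : ℕ, ¬ p ∣ m ∧ (ε₁ : ℂ) ^ m = 1)
    (h2 : ∃ m : ℕ, ¬ p ∣ m ∧ (ε₂ : ℂ) ^ m = 1) (h : ε₁ - ε₂ ∈ M) : ε₁ = ε₂ := by
  obtain ⟨m₁, hm₁, he₁⟩ := h1
  obtain ⟨m₂, hm₂, he₂⟩ := h2
  by_contra hne
  obtain ⟨n, hn⟩ : ∃ n : ℕ, n = m₁ * m₂ := ⟨_, rfl⟩
  have hpn : ¬ p ∣ n := by
    rw [hn]; intro hd
    rcases (Nat.Prime.dvd_mul hM.1).mp hd with h' | h'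
    · exact hm₁ h'
    · exact hm₂ h'
  have hn0 : n ≠ 0 := by
    intro h0; apply hpn; rw [h0]; exact dvd_zero p
  have hε₁ : ε₁ ^ n = 1 := by
    apply Subtype.ext
    rw [hn, pow_mul]
    simp only [SubmonoidClass.coe_pow, OneMemClass.coe_one]
    rw [he₁, one_pow]
  have hε₂ : ε₂ ^ n = 1 := by
    apply Subtype.ext
    rw [hn, mul_comm, pow_mul]
    simp only [SubmonoidClass.coe_pow, OneMemClass.coe_one]
    rw [he₂, one_pow]
  have hsplit : ε₁ * ε₁ ^ (n - 1) = 1 := by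
    rw [← pow_succ', Nat.sub_add_cancel (Nat.pos_of_ne_zero hn0), hε₁]
  obtain ⟨ω, hω⟩ : ∃ ω : AlgInt, ω = ε₂ * ε₁ ^ (n - 1) := ⟨_, rfl⟩
  have hωn : ω ^ n = 1 := by
    rw [hω, mul_pow, hε₂, one_mul, ← pow_mul, mul_comm, pow_mul, hε₁, one_pow]
  have hω1 : ω - 1 ∈ M := by
    have h3 : ω - 1 = -((ε₁ - ε₂) * ε₁ ^ (n - 1)) := by
      rw [hω]
      have : (ε₁ - ε₂) * ε₁ ^ (n - 1) = ε₁ * ε₁ ^ (n - 1) - ε₂ * ε₁ ^ (n - 1) := by ring
      rw [this, hsplit]; ring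
    rw [h3]
    exact M.neg_mem (M.mul_mem_right _ h)
  have hωne : ω - 1 ≠ 0 := by
    intro h0
    apply hne
    have h3 : ω = 1 := sub_eq_zero.mp h0
    rw [hω, ← hsplit] at h3
    have h4 : ε₁ ^ (n - 1) ≠ 0 := by
      intro h5
      rw [h5, mul_zero] at hsplit
      exact zero_ne_one hsplit
    exact (mul_right_cancel₀ h4 h3).symm
  have hgeom : ∑ i ∈ Finset.range n, ω ^ i = 0 := by
    have h3 := geom_sum_mul ω n
    rw [hωn, sub_self] at h3
    rcases mul_eq_zero.mp h3 with h4 | h4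
    · exact h4
    · exact absurd h4 hωne
  have hsum : ∑ i ∈ Finset.range n, (ω ^ i - 1) ∈ M := by
    apply Ideal.sum_mem
    intro i _
    obtain ⟨c, hc⟩ := sub_dvd_pow_sub_pow ω 1 i
    rw [one_pow] at hc
    rw [hc]
    exact M.mul_mem_right c hω1
  rw [Finset.sum_sub_distrib, hgeom, Finset.sum_const, Finset.card_range, zero_sub,
    nsmul_eq_mul, mul_one] at hsum
  have h5 : (n : AlgInt) ∈ M := by
    have := M.neg_mem hsum
    simpa using this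
  exact natCast_not_mem_of_not_dvd p M hM n hpn h5

/-- surjectivity of reduction onto the nonzero residues -/
theorem modroots_surjective (p : ℕ) [hpf : Fact p.Prime] (M : Ideal AlgInt) (hM : IsPModular p M)
    (a : AlgInt) (ha : a ∉ M) :
    ∃ ε : AlgInt, (∃ m : ℕ, ¬ p ∣ m ∧ (ε : ℂ) ^ m = 1) ∧ a - ε ∈ M := by
  haveI hmax : M.IsMaximal := hM.2.1
  letI : Field (AlgInt ⧸ M) := Ideal.Quotient.field M
  -- characteristic p
  haveI hchar : CharP (AlgInt ⧸ M) p := by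
    obtain ⟨q, hq⟩ := CharP.exists (AlgInt ⧸ M)
    have h1 : ((p : ℕ) : AlgInt ⧸ M) = 0 := by
      have : (Ideal.Quotient.mk M (p : AlgInt)) = 0 := Ideal.Quotient.eq_zero_iff_mem.mpr hM.2.2
      simpa using this
    have h2 : q ∣ p := (CharP.cast_eq_zero_iff (AlgInt ⧸ M) q p).mp h1
    have h3 : q ≠ 1 := CharP.char_ne_one (AlgInt ⧸ M) q
    have h4 : q = p := by
      rcases (Nat.dvd_prime hM.1).mp h2 with h | h
      · exact absurd h h3
      · exact h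
    rw [← h4]; exact hq
  letI : Algebra (ZMod p) (AlgInt ⧸ M) := ZMod.algebra _ p
  obtain ⟨ab, hab⟩ : ∃ ab : AlgInt ⧸ M, ab = Ideal.Quotient.mk M a := ⟨_, rfl⟩
  have hab0 : ab ≠ 0 := by
    rw [hab]; intro h; exact ha (Ideal.Quotient.eq_zero_iff_mem.mp h)
  have hintZ : IsIntegral ℤ ab := by
    rw [hab]
    exact (integralClosure.isIntegral a).map (Ideal.Quotient.mkₐ ℤ M)
  have hint : IsIntegral (ZMod p) ab := hintZ.tower_top
  -- finiteness of the adjoin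
  have hfg := hint.fg_adjoin_singleton
  haveI : Module.Finite (ZMod p) (Subalgebra.toSubmodule (Algebra.adjoin (ZMod p) {ab})) :=
    Module.Finite.of_fg hfg
  haveI : Finite (Subalgebra.toSubmodule (Algebra.adjoin (ZMod p) {ab})) :=
    Module.finite_of_finite (ZMod p)
  have hmem : ∀ i : ℕ, ab ^ i ∈ Subalgebra.toSubmodule (Algebra.adjoin (ZMod p) {ab}) := by
    intro i
    exact (Algebra.adjoin (ZMod p) {ab}).pow_mem (Algebra.self_mem_adjoin_singleton _ ab) i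
  obtain ⟨i, j, hij, hpow⟩ := Finite.exists_ne_map_eq_of_infinite
    (fun i : ℕ => (⟨ab ^ i, hmem i⟩ : Subalgebra.toSubmodule (Algebra.adjoin (ZMod p) {ab})))
  have hpow' : ab ^ i = ab ^ j := congrArg Subtype.val hpow
  have hkey : ∀ i j : ℕ, i < j → ab ^ i = ab ^ j → ab ^ (j - i) = 1 := by
    intro i j hlt h
    have h1 : ab ^ j = ab ^ i * ab ^ (j - i) := by
      rw [← pow_add, Nat.add_sub_cancel' hlt.le]
    rw [h1] at h
    have h2 : ab ^ i ≠ 0 := pow_ne_zero i hab0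
    have h3 : ab ^ i * 1 = ab ^ i * ab ^ (j - i) := by rw [mul_one]; exact h
    exact (mul_left_cancel₀ h2 h3).symm
  obtain ⟨n₁, hn₁pos, hn₁⟩ : ∃ n₁ : ℕ, 0 < n₁ ∧ ab ^ n₁ = 1 := by
    rcases lt_or_gt_of_ne hij with hlt | hlt
    · exact ⟨j - i, Nat.sub_pos_of_lt hlt, hkey i j hlt hpow'⟩
    · exact ⟨i - j, Nat.sub_pos_of_lt hlt, hkey j i hlt hpow'.symm⟩
  obtain ⟨t, n, hpn, hn₁eq⟩ := Nat.exists_eq_pow_mul_and_not_dvd hn₁pos.ne' p hM.1.ne_one
  have hn0 : n ≠ 0 := by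
    intro h0; apply hpn; rw [h0]; exact dvd_zero p
  have habn : ab ^ n = 1 := by
    have h1 : (ab ^ n) ^ (p ^ t) = 1 := by
      rw [← pow_mul, mul_comm, ← hn₁eq, hn₁]
    have h2 : (ab ^ n - 1) ^ (p ^ t) = 0 := by
      rw [sub_pow_char_pow, h1, one_pow, sub_self]
    exact sub_eq_zero.mp (pow_eq_zero_iff (pow_ne_zero t hM.1.ne_zero) |>.mp h2)
  have hanM : a ^ n - 1 ∈ M := by
    rw [← Ideal.Quotient.eq_zero_iff_mem, map_sub, map_pow, map_one, ← hab, habn, sub_self]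
  -- the product formula
  have hprim := Complex.isPrimitiveRoot_exp n hn0
  have hprod := X_pow_sub_one_eq_prod (Nat.pos_of_ne_zero hn0) hprim
  have hev := congrArg (Polynomial.eval (a : ℂ)) hprod
  rw [Polynomial.eval_prod] at hev
  simp only [eval_sub, eval_pow, eval_X, eval_one, eval_C] at hev
  have hroot : ∀ ζ ∈ nthRootsFinset n (1 : ℂ), ζ ^ n = 1 := by
    intro ζ hζ
    exact (mem_nthRootsFinset (Nat.pos_of_ne_zero hn0) 1).mp hζ
  have hrint : ∀ ζ ∈ nthRootsFinset n (1 : ℂ), IsIntegral ℤ ζ := by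
    intro ζ hζ
    exact IsIntegral.of_pow (Nat.pos_of_ne_zero hn0) (by rw [hroot ζ hζ]; exact isIntegral_one)
  obtain ⟨g, hg⟩ : ∃ g : ℂ → AlgInt, ∀ ζ ∈ nthRootsFinset n (1 : ℂ), ((g ζ : AlgInt) : ℂ) = ζ := by
    classical
    refine ⟨fun ζ => if h : IsIntegral ℤ ζ then ⟨ζ, h⟩ else 0, ?_⟩
    intro ζ hζ
    simp only [dif_pos (hrint ζ hζ)]
  have hprodA : a ^ n - 1 = ∏ ζ ∈ nthRootsFinset n (1 : ℂ), (a - g ζ) := by
    apply Subtype.ext
    have h1 : ((∏ ζ ∈ nthRootsFinset n (1 : ℂ), (a - g ζ) : AlgInt) : ℂ) =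
        ∏ ζ ∈ nthRootsFinset n (1 : ℂ), ((a : ℂ) - ζ) := by
      rw [← Subalgebra.coe_val, map_prod]
      apply Finset.prod_congr rfl
      intro ζ hζ
      simp only [Subalgebra.coe_val, AddSubgroupClass.coe_sub]
      rw [hg ζ hζ]
    rw [h1, ← hev]
    simp
  rw [hprodA] at hanM
  haveI : M.IsPrime := hmax.isPrime
  obtain ⟨ζ, hζ, hζM⟩ := Ideal.IsPrime.prod_mem_iff.mp hanM
  refine ⟨g ζ, ⟨n, hpn, ?_⟩, hζM⟩
  rw [hg ζ hζ]
  exact hroot ζ hζ

end ModRoots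

end Cfsg.Agent.Lib.Helper8
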