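import Mathlib
import Cfsg.Prelude.Def_Blocks
import Cfsg.Agent.Lib.Helper8.ModRoots
import Cfsg.Agent.Lib.Helper8.CharBurnside
import Cfsg.Agent.S0138

set_option autoImplicit false

namespace Cfsg.Agent.Lib.Helper8
open Cfsg
open scoped ComplexConjugate

/-- The local ideal at a proper ideal does not contain a natural number prime to `p`. -/
theorem not_memLocalIdeal_natCast (p : ℕ) (M : Ideal AlgInt) (hM : IsPModular p M) (n : ℕ)
    (hn : ¬ p ∣ n) : ¬ MemLocalIdeal M (n : ℂ) := by
  rintro ⟨a, b, ha, hb, hab⟩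
  haveI : M.IsMaximal := hM.2.1
  have hprime : M.IsPrime := Ideal.IsMaximal.isPrime hM.2.1
  have hb0 : (b : ℂ) ≠ 0 := by
    intro h0
    apply hb
    have : b = 0 := Subtype.ext h0
    rw [this]; exact M.zero_mem
  have h1 : (a : ℂ) = (n : ℂ) * (b : ℂ) := by
    rw [← hab]; field_simp
  have h2 : a = (n : AlgInt) * b := by
    apply Subtype.ext
    rw [h1]
    simp
  rw [h2] at ha
  rcases hprime.mem_or_mem ha with h | h
  · exact natCast_not_mem_of_not_dvd p M hM n hn h
  · exact hb h

theorem exists_central_p_class {G : Type*} [Group G] [Finite G] (p : ℕ) [Fact p.Prime]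
    (hna : ∃ a b : G, a * b ≠ b * a) :
    ∃ z : G, z ≠ 1 ∧ ¬ p ∣ (Subgroup.centralizer ({z} : Set G)).index := by
  obtain ⟨P⟩ : Nonempty (Sylow p G) := inferInstance
  have hPidx : ¬ p ∣ (P : Subgroup G).index := Sylow.not_dvd_index P
  have key : ∃ z : G, z ≠ 1 ∧ (P : Subgroup G) ≤ Subgroup.centralizer ({z} : Set G) := by
    by_cases hP : (P : Subgroup G) = ⊥
    · obtain ⟨a, b, hab⟩ := hna
      refine ⟨a, ?_, ?_⟩
      · rintro rfl; simp at hab
      · rw [hP]; exact bot_le
    · haveI : Nontrivial (P : Subgroup G) := (Subgroup.nontrivial_iff_ne_bot _).mpr hP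
      have hc := IsPGroup.center_nontrivial P.isPGroup'
      obtain ⟨⟨z, hz⟩, hz1⟩ := exists_ne (1 : Subgroup.center (P : Subgroup G))
      refine ⟨(z : G), ?_, ?_⟩
      · intro h
        apply hz1
        apply Subtype.ext
        apply Subtype.ext
        exact h
      · intro x hx
        rw [Subgroup.mem_centralizer_singleton_iff]
        have := (Subgroup.mem_center_iff.mp hz) ⟨x, hx⟩
        have h2 := congrArg (Subtype.val) this
        simpa using h2
  obtain ⟨z, hz1, hPz⟩ := key
  refine ⟨z, hz1, ?_⟩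
  intro hdvd
  exact hPidx (dvd_trans hdvd (Subgroup.index_dvd_of_le hPz))

theorem principal_block_ppow_trivial {G : Type*} [Group G] [Finite G] (p : ℕ) [Fact p.Prime]
    (M : Ideal AlgInt) (hM : IsPModular p M) [IsSimpleGroup G]
    (hna : ∃ a b : G, a * b ≠ b * a) (χ : IrrCharacter G)
    (hχ : χ ∈ principalBlock M G) (k : ℕ) (hdeg : (χ : G → ℂ) 1 = (p : ℂ) ^ k) :
    (χ : G → ℂ) = fun _ => 1 := by
  classical
  by_contra hne
  have hab : ¬ ∀ x y : G, x * y = y * x := by
    intro h
    obtain ⟨a, b, hab⟩ := hna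
    exact hab (h a b)
  have hcenter : Subgroup.center G = ⊥ := by
    rcases IsSimpleGroup.eq_bot_or_eq_top_of_normal (Subgroup.center G) inferInstance with h | h
    · exact h
    · exfalso
      apply hab
      intro x y
      have hx : x ∈ Subgroup.center G := by rw [h]; trivial
      exact ((Subgroup.mem_center_iff.mp hx) y).symm
  obtain ⟨z, hz1, hzp⟩ := exists_central_p_class (G := G) p hna
  obtain ⟨n, ρ, hρ, hρχ⟩ := χ.2
  have h1 : χ.1 1 = (n : ℂ) := by rw [← hρχ, Representation.char_one]; simp
  have hn : n = p ^ k := by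
    have : (n : ℂ) = ((p ^ k : ℕ) : ℂ) := by rw [← h1]; push_cast; exact hdeg
    exact Nat.cast_injective this
  have hp : p.Prime := Fact.out
  have hcop : Nat.Coprime (Module.finrank ℂ (Fin n → ℂ))
      (Subgroup.centralizer ({z} : Set G)).index := by
    rw [Module.finrank_fin_fun, hn]
    exact Nat.Coprime.pow_left k ((Nat.Prime.coprime_iff_not_dvd hp).mpr hzp)
  rcases burnside_coprime hρ z hcop with h0 | hnorm
  · -- χ z = 0 : the central characters differ by the class size
    have hsb := hχ z
    have hcc : centralChar (fun _ : G => (1 : ℂ)) z - centralChar (χ : G → ℂ) z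
        = ((Subgroup.centralizer ({z} : Set G)).index : ℂ) := by
      have hz0 : (χ : G → ℂ) z = 0 := by
        show χ.1 z = 0
        rw [← hρχ]; exact h0
      simp only [centralChar, hz0, mul_zero, zero_div, sub_zero, mul_one, div_one]
    rw [hcc] at hsb
    exact not_memLocalIdeal_natCast p M hM _ hzp hsb
  · obtain ⟨ω, hω⟩ := (Cfsg.Agent.S0138.result ρ z).mp hnorm
    rcases IsSimpleGroup.eq_bot_or_eq_top_of_normal (MonoidHom.ker ρ) (MonoidHom.normal_ker ρ) with hk | hk
    · have hgc : z ∈ Subgroup.center G := by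
        rw [Subgroup.mem_center_iff]
        intro y
        have h2 : ρ (y * z) = ρ (z * y) := by
          rw [map_mul, map_mul, hω]
          ext v
          simp
        have h3 : (y * z) * (z * y)⁻¹ ∈ MonoidHom.ker ρ := by
          rw [MonoidHom.mem_ker, map_mul, h2, ← map_mul, mul_inv_cancel, map_one]
        rw [hk, Subgroup.mem_bot] at h3
        exact mul_inv_eq_one.mp h3
      rw [hcenter, Subgroup.mem_bot] at hgc
      exact hz1 hgc
    · have htriv : ∀ x : G, ρ x = 1 := by
        intro x
        have : x ∈ MonoidHom.ker ρ := by rw [hk]; trivial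
        exact MonoidHom.mem_ker.mp this
      have hn1 : Module.finrank ℂ (Fin n → ℂ) = 1 := by
        apply finrank_eq_one_of_all_scalar hρ
        intro x
        exact ⟨1, by rw [htriv x, one_smul]; rfl⟩
      apply hne
      show χ.1 = _
      rw [← hρχ]
      ext x
      simp only [Representation.character, htriv x]
      rw [Module.End.one_eq_id, LinearMap.trace_id, hn1]
      simp

end Cfsg.Agent.Lib.Helper8
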