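import Mathlib
import Cfsg.Prelude.Def_Blocks
import Cfsg.Agent.Lib.Helper8.BlockBasic
import Cfsg.Agent.Lib.Helper8.CharOrth
import Cfsg.Agent.Lib.Helper8.CharBessel
import Cfsg.Agent.Lib.Helper8.CharComplete2
import Cfsg.Agent.Lib.Helper8.CharAvg
import Cfsg.Agent.Lib.Helper8.CharClassSum

set_option autoImplicit false

open scoped Classical

namespace Cfsg.Agent.Lib.Helper8
open Cfsg
open scoped ComplexConjugate

section LocalRing

variable {M : Ideal AlgInt}

theorem coe_ne_zero_of_not_mem {b : AlgInt} (hb : b ∉ M) : (b : ℂ) ≠ 0 := by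
  intro h0
  apply hb
  have : b = 0 := Subtype.ext h0
  rw [this]; exact M.zero_mem

theorem memLocalIdeal_zero (hM : M ≠ ⊤) : MemLocalIdeal M 0 :=
  ⟨0, 1, M.zero_mem, (Ideal.ne_top_iff_one M).mp hM, by simp⟩

theorem memLocalIdeal_add (hprime : M.IsPrime) {x y : ℂ} (hx : MemLocalIdeal M x)
    (hy : MemLocalIdeal M y) : MemLocalIdeal M (x + y) := by
  obtain ⟨a₁, b₁, ha₁, hb₁, rfl⟩ := hx
  obtain ⟨a₂, b₂, ha₂, hb₂, rfl⟩ := hy
  have h1 := coe_ne_zero_of_not_mem hb₁
  have h2 := coe_ne_zero_of_not_mem hb₂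
  refine ⟨a₁ * b₂ + a₂ * b₁, b₁ * b₂, ?_, ?_, ?_⟩
  · exact M.add_mem (M.mul_mem_right _ ha₁) (M.mul_mem_right _ ha₂)
  · intro h
    rcases hprime.mem_or_mem h with h | h
    · exact hb₁ h
    · exact hb₂ h
  · push_cast
    field_simp

theorem memLocalIdeal_sum (hprime : M.IsPrime) {ι : Type*} (s : Finset ι) (f : ι → ℂ)
    (h : ∀ i ∈ s, MemLocalIdeal M (f i)) : MemLocalIdeal M (∑ i ∈ s, f i) := by
  induction s using Finset.induction_on with
  | empty =>
    rw [Finset.sum_empty]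
    exact memLocalIdeal_zero hprime.ne_top
  | insert a s ha ih =>
    rw [Finset.sum_insert ha]
    apply memLocalIdeal_add hprime (h a (Finset.mem_insert_self a s))
    apply ih
    intro i hi
    exact h i (Finset.mem_insert_of_mem hi)

theorem memLocalRing_mul_memLocalIdeal (hprime : M.IsPrime) {x y : ℂ} (hx : MemLocalRing M x)
    (hy : MemLocalIdeal M y) : MemLocalIdeal M (x * y) := by
  obtain ⟨a₁, b₁, hb₁, rfl⟩ := hx
  obtain ⟨a₂, b₂, ha₂, hb₂, rfl⟩ := hy
  have h1 := coe_ne_zero_of_not_mem hb₁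
  have h2 := coe_ne_zero_of_not_mem hb₂
  refine ⟨a₁ * a₂, b₁ * b₂, ?_, ?_, ?_⟩
  · exact M.mul_mem_left _ ha₂
  · intro h
    rcases hprime.mem_or_mem h with h | h
    · exact hb₁ h
    · exact hb₂ h
  · push_cast
    field_simp

theorem not_memLocalIdeal_one : ¬ MemLocalIdeal M 1 := by
  rintro ⟨a, b, ha, hb, hab⟩
  have h1 := coe_ne_zero_of_not_mem hb
  have h2 : (a : ℂ) = (b : ℂ) := by
    field_simp at hab
    exact hab
  have : a = b := Subtype.ext h2
  rw [this] at ha
  exact hb ha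

end LocalRing

section Idem

variable {G : Type*} [Group G]

theorem finsum_mem_eq_sum_ite_bl {X N : Type*} [Fintype X] [AddCommMonoid N] (s : Set X)
    (f : X → N) :
    ∑ᶠ i ∈ s, f i = ∑ i, if i ∈ s then f i else 0 := by
  rw [finsum_mem_eq_finite_toFinset_sum f (Set.toFinite s), ← Finset.sum_filter]
  apply Finset.sum_congr _ (fun _ _ => rfl)
  ext i; simp

theorem blockCoeff_eq [Fintype G] [Fintype (IrrCharacter G)] (A : Set (IrrCharacter G)) (g : G) :
    blockCoeff A g = (Nat.card G : ℂ)⁻¹ *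
      ∑ χ : IrrCharacter G, if χ ∈ A then χ.1 1 * conj (χ.1 g) else 0 := by
  unfold blockCoeff
  rw [finsum_mem_eq_sum_ite_bl]

theorem blockCoeff_conj [Fintype G] [Fintype (IrrCharacter G)] (A : Set (IrrCharacter G))
    (g h : G) : blockCoeff A (h * g * h⁻¹) = blockCoeff A g := by
  rw [blockCoeff_eq, blockCoeff_eq]
  congr 1
  apply Finset.sum_congr rfl
  intro χ _
  rw [isClassFunction_of_isCharacter (irr_isCharacter χ.2) g h]

theorem idem_eval [Fintype G] [Fintype (IrrCharacter G)] (A : Set (IrrCharacter G))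
    (ψ : IrrCharacter G) :
    ∑ g : G, blockCoeff A g * ψ.1 g = if ψ ∈ A then ψ.1 1 else 0 := by
  have h1 : ∀ g : G, blockCoeff A g * ψ.1 g =
      ∑ χ : IrrCharacter G, if χ ∈ A then
        χ.1 1 * ((Nat.card G : ℂ)⁻¹ * (ψ.1 g * conj (χ.1 g))) else 0 := by
    intro g
    rw [blockCoeff_eq, Finset.mul_sum, Finset.sum_mul]
    apply Finset.sum_congr rfl
    intro χ _
    split_ifs
    · ring
    · ring
  rw [Finset.sum_congr rfl (fun g _ => h1 g), Finset.sum_comm]
  have h2 : ∀ χ : IrrCharacter G, (∑ g : G, if χ ∈ A then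
        χ.1 1 * ((Nat.card G : ℂ)⁻¹ * (ψ.1 g * conj (χ.1 g))) else 0) =
      if χ ∈ A then χ.1 1 * (if ψ = χ then 1 else 0) else 0 := by
    intro χ
    split_ifs with hA heq
    · rw [← Finset.mul_sum, ← Finset.mul_sum]
      have := irr_classInner ψ.2 χ.2
      unfold classInner at this
      rw [this, if_pos (congrArg Subtype.val heq)]
    · rw [← Finset.mul_sum, ← Finset.mul_sum]
      have := irr_classInner ψ.2 χ.2
      unfold classInner at this
      rw [this, if_neg (fun h => heq (Subtype.ext h))]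
    · simp
  rw [Finset.sum_congr rfl (fun χ _ => h2 χ)]
  rw [Finset.sum_eq_single ψ]
  · simp
  · intro χ _ hne
    rw [if_neg (Ne.symm hne)]
    simp
  · intro h; exact absurd (Finset.mem_univ ψ) h

theorem card_isConj_filter [Fintype G] (g : G) :
    ((Finset.univ.filter (fun y : G => IsConj g y)).card : ℂ) =
      ((Subgroup.centralizer ({g} : Set G)).index : ℂ) := by
  have h := sum_conj_eq g (fun _ => (1 : ℂ))
  simp only [Finset.sum_const, Finset.card_univ, nsmul_eq_mul, mul_one] at h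
  have h2 : (Nat.card G : ℂ) = ((Subgroup.centralizer ({g} : Set G)).index : ℂ) *
      (Nat.card (Subgroup.centralizer ({g} : Set G)) : ℂ) := by
    rw [← Nat.cast_mul, Subgroup.index_mul_card]
  rw [← Nat.card_eq_fintype_card, h2] at h
  have h3 : (Nat.card (Subgroup.centralizer ({g} : Set G)) : ℂ) ≠ 0 :=
    Nat.cast_ne_zero.mpr Nat.card_pos.ne'
  have h4 : ((Subgroup.centralizer ({g} : Set G)).index : ℂ) *
      (Nat.card (Subgroup.centralizer ({g} : Set G)) : ℂ) =
      ((Finset.univ.filter (fun y : G => IsConj g y)).card : ℂ) *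
      (Nat.card (Subgroup.centralizer ({g} : Set G)) : ℂ) := by
    rw [h]; ring
  exact (mul_right_cancel₀ h3 h4).symm

theorem sum_eq_sum_classes [Fintype G] [Fintype (ConjClasses G)] (F : G → ℂ)
    (hF : ∀ g h : G, F (h * g * h⁻¹) = F g)
    (rep : ConjClasses G → G) (hrep : ∀ c, ConjClasses.mk (rep c) = c) :
    ∑ g : G, F g = ∑ c : ConjClasses G,
      ((Subgroup.centralizer ({rep c} : Set G)).index : ℂ) * F (rep c) := by
  rw [← Finset.sum_fiberwise Finset.univ (fun g : G => ConjClasses.mk g) F]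
  apply Finset.sum_congr rfl
  intro c _
  have h1 : ∀ g ∈ Finset.univ.filter (fun g : G => ConjClasses.mk g = c), F g = F (rep c) := by
    intro g hg
    rw [Finset.mem_filter] at hg
    have : IsConj (rep c) g := by rw [← ConjClasses.mk_eq_mk_iff_isConj, hrep, hg.2]
    obtain ⟨x, hx⟩ := isConj_iff.mp this
    rw [← hx, hF]
  rw [Finset.sum_congr rfl h1, Finset.sum_const, nsmul_eq_mul]
  congr 1
  rw [← card_isConj_filter (rep c)]
  congr 2
  ext g
  simp only [Finset.mem_filter, Finset.mem_univ, true_and]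
  rw [← ConjClasses.mk_eq_mk_iff_isConj, hrep, eq_comm]

theorem local_idem_union_blocks [Finite G] (p : ℕ) (M : Ideal AlgInt) (hM : IsPModular p M)
    (A : Set (IrrCharacter G)) (hA : ∀ g : G, MemLocalRing M (blockCoeff A g))
    (χ : IrrCharacter G) (hχ : χ ∈ A) : blockOf M (χ : G → ℂ) ⊆ A := by
  intro ψ hψ
  by_contra hψA
  haveI : Fintype G := Fintype.ofFinite G
  haveI := irr_finite (G := G)
  haveI : Fintype (IrrCharacter G) := Fintype.ofFinite _
  haveI : Fintype (ConjClasses G) := Fintype.ofFinite _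
  have hprime : M.IsPrime := Ideal.IsMaximal.isPrime hM.2.1
  have hχ1 := irr_one_ne_zero χ
  have hψ1 := irr_one_ne_zero ψ
  have e1 := idem_eval A χ
  have e2 := idem_eval A ψ
  rw [if_pos hχ] at e1
  rw [if_neg hψA] at e2
  obtain ⟨F, hFdef⟩ : ∃ F : G → ℂ, F = fun g =>
      blockCoeff A g * (χ.1 g / χ.1 1 - ψ.1 g / ψ.1 1) := ⟨_, rfl⟩
  have hsum : ∑ g : G, F g = 1 := by
    have : ∀ g : G, F g = (χ.1 1)⁻¹ * (blockCoeff A g * χ.1 g) -
        (ψ.1 1)⁻¹ * (blockCoeff A g * ψ.1 g) := by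
      intro g; rw [hFdef]; ring
    rw [Finset.sum_congr rfl (fun g _ => this g), Finset.sum_sub_distrib, ← Finset.mul_sum,
      ← Finset.mul_sum, e1, e2]
    field_simp
    ring
  have hFc : ∀ g h : G, F (h * g * h⁻¹) = F g := by
    intro g h
    rw [hFdef]
    show blockCoeff A (h * g * h⁻¹) * (χ.1 (h * g * h⁻¹) / χ.1 1 - ψ.1 (h * g * h⁻¹) / ψ.1 1) = _
    rw [blockCoeff_conj, isClassFunction_of_isCharacter (irr_isCharacter χ.2) g h,
      isClassFunction_of_isCharacter (irr_isCharacter ψ.2) g h]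
  have hrep : ∀ c : ConjClasses G, ConjClasses.mk (Function.surjInv ConjClasses.mk_surjective c) = c :=
    fun c => Function.surjInv_eq ConjClasses.mk_surjective c
  rw [sum_eq_sum_classes F hFc _ hrep] at hsum
  apply not_memLocalIdeal_one (M := M)
  rw [← hsum]
  apply memLocalIdeal_sum hprime
  intro c _
  obtain ⟨r, hr⟩ : ∃ r : G, r = Function.surjInv ConjClasses.mk_surjective c := ⟨_, rfl⟩
  rw [← hr]
  have hval : ((Subgroup.centralizer ({r} : Set G)).index : ℂ) * F r =
      blockCoeff A r * (centralChar (χ : G → ℂ) r - centralChar (ψ : G → ℂ) r) := by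
    rw [hFdef]
    unfold centralChar
    show _ = blockCoeff A r * (((Subgroup.centralizer ({r} : Set G)).index : ℂ) * χ.1 r / χ.1 1 -
      ((Subgroup.centralizer ({r} : Set G)).index : ℂ) * ψ.1 r / ψ.1 1)
    ring
  rw [hval]
  exact memLocalRing_mul_memLocalIdeal hprime (hA r) (hψ r)

end Idem

end Cfsg.Agent.Lib.Helper8
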