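import Mathlib
import Cfsg.Prelude.Def_Blocks
import Cfsg.Prelude.Def_Solvable
import Cfsg.Agent.Lib.Helper8.BlockIdem
import Cfsg.Agent.Lib.Helper8.CharClifford2
import Cfsg.Agent.Lib.Helper8.CharIntegral
import Cfsg.Agent.Lib.Helper1.Fitting

set_option autoImplicit false

open scoped Classical

namespace Cfsg.Agent.Lib.Helper8
open Cfsg
open scoped ComplexConjugate

variable {G : Type*} [Group G]

theorem memLocalIdeal_neg {M : Ideal AlgInt} {x : ℂ} (h : MemLocalIdeal M x) :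
    MemLocalIdeal M (-x) := by
  obtain ⟨a, b, ha, hb, rfl⟩ := h
  exact ⟨-a, b, M.neg_mem ha, hb, by push_cast; ring⟩

theorem sameBlock_symm {M : Ideal AlgInt} {χ ψ : G → ℂ} (h : SameBlock M χ ψ) :
    SameBlock M ψ χ := by
  intro g
  have := memLocalIdeal_neg (h g)
  rwa [neg_sub] at this

theorem memLocalRing_zero {M : Ideal AlgInt} (hM : M ≠ ⊤) : MemLocalRing M 0 :=
  ⟨0, 1, (Ideal.ne_top_iff_one M).mp hM, by simp⟩

/-- Evaluating a central element with local-integer coefficients at two characters of the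
same block gives values congruent modulo the local ideal. -/
theorem sameBlock_eval [Fintype G] (M : Ideal AlgInt) (hprime : M.IsPrime) (a : G → ℂ)
    (ha : ∀ g, MemLocalRing M (a g)) (hac : ∀ g h : G, a (h * g * h⁻¹) = a g)
    (χ ψ : IrrCharacter G) (hsb : SameBlock M χ.1 ψ.1) :
    MemLocalIdeal M (∑ g : G, a g * (χ.1 g / χ.1 1 - ψ.1 g / ψ.1 1)) := by
  haveI : Fintype (ConjClasses G) := Fintype.ofFinite _
  obtain ⟨F, hFdef⟩ : ∃ F : G → ℂ, F = fun g =>
      a g * (χ.1 g / χ.1 1 - ψ.1 g / ψ.1 1) := ⟨_, rfl⟩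
  have hFc : ∀ g h : G, F (h * g * h⁻¹) = F g := by
    intro g h
    rw [hFdef]
    show a (h * g * h⁻¹) * (χ.1 (h * g * h⁻¹) / χ.1 1 - ψ.1 (h * g * h⁻¹) / ψ.1 1) = _
    rw [hac, isClassFunction_of_isCharacter (irr_isCharacter χ.2) g h,
      isClassFunction_of_isCharacter (irr_isCharacter ψ.2) g h]
  have hrep : ∀ c : ConjClasses G, ConjClasses.mk (Function.surjInv ConjClasses.mk_surjective c) = c :=
    fun c => Function.surjInv_eq ConjClasses.mk_surjective c
  have hsum : ∑ g : G, a g * (χ.1 g / χ.1 1 - ψ.1 g / ψ.1 1) = ∑ g : G, F g := by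
    rw [hFdef]
  rw [hsum, sum_eq_sum_classes F hFc _ hrep]
  apply memLocalIdeal_sum hprime
  intro c _
  obtain ⟨r, hr⟩ : ∃ r : G, r = Function.surjInv ConjClasses.mk_surjective c := ⟨_, rfl⟩
  rw [← hr]
  have hval : ((Subgroup.centralizer ({r} : Set G)).index : ℂ) * F r =
      a r * (centralChar χ.1 r - centralChar ψ.1 r) := by
    rw [hFdef]
    unfold centralChar
    show _ = a r * (((Subgroup.centralizer ({r} : Set G)).index : ℂ) * χ.1 r / χ.1 1 -
      ((Subgroup.centralizer ({r} : Set G)).index : ℂ) * ψ.1 r / ψ.1 1)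
    ring
  rw [hval]
  exact memLocalRing_mul_memLocalIdeal hprime (ha r) (hsb r)

theorem sum_subgroup_dite [Fintype G] (N : Subgroup G) [Fintype N] (b : N → ℂ) (f : G → ℂ) :
    ∑ g : G, (if hg : g ∈ N then b ⟨g, hg⟩ else 0) * f g = ∑ n : N, b n * f n := by
  have h1 : ∀ g : G, (if hg : g ∈ N then b ⟨g, hg⟩ else 0) * f g =
      if hg : g ∈ N then b ⟨g, hg⟩ * f g else 0 := by
    intro g
    split_ifs <;> simp
  rw [Finset.sum_congr rfl (fun g _ => h1 g)]
  have h2 : ∀ n : N, b n * f n =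
      (fun g : G => if hg : g ∈ N then b ⟨g, hg⟩ * f g else 0) n := by
    intro n
    simp only [dif_pos n.2]
  rw [Finset.sum_congr rfl (fun n _ => h2 n)]
  rw [← Finset.sum_subtype (Finset.univ.filter (fun k : G => k ∈ N)) (by intro x; simp)
    (fun g => if hg : g ∈ N then b ⟨g, hg⟩ * f g else 0)]
  rw [Finset.sum_filter]
  apply Finset.sum_congr rfl
  intro g _
  split_ifs <;> rfl

theorem core_constituent_of_sameBlock [Fintype G] (p : ℕ) (M : Ideal AlgInt)
    (hM : IsPModular p M) (N : Subgroup G) [Fintype N] (hN : N.Normal)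
    (hNp : ¬ p ∣ Nat.card N) (χ ψ : IrrCharacter G) (h : SameBlock M χ.1 ψ.1)
    (θ : IrrCharacter N) (hχθ : classInner (fun n : N => χ.1 n) θ.1 ≠ 0) :
    classInner (fun n : N => ψ.1 n) θ.1 ≠ 0 := by
  intro hψθ
  haveI := irr_finite (G := N)
  haveI : Fintype (IrrCharacter N) := Fintype.ofFinite _
  have hprime : M.IsPrime := Ideal.IsMaximal.isPrime hM.2.1
  have hχcf : IsClassFunction G χ.1 := isClassFunction_of_isCharacter (irr_isCharacter χ.2)
  have hψcf : IsClassFunction G ψ.1 := isClassFunction_of_isCharacter (irr_isCharacter ψ.2)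
  have hcfN : IsClassFunction N (fun n : N => χ.1 n) :=
    isClassFunction_of_isCharacter (isCharacter_restrict N (irr_isCharacter χ.2))
  obtain ⟨filt, hfilt⟩ : ∃ filt : Finset (IrrCharacter N), filt =
      Finset.univ.filter (fun φ : IrrCharacter N => ∃ g : G, φ.1 = conjChar hN θ.1 g) := ⟨_, rfl⟩
  obtain ⟨e, he⟩ : ∃ e : ℂ, e = classInner (fun n : N => χ.1 n) θ.1 := ⟨_, rfl⟩
  have he0 : e ≠ 0 := by rw [he]; exact hχθ
  obtain ⟨S, hS⟩ : ∃ S : N → ℂ, S = fun n => ∑ φ ∈ filt, 1 * φ.1 n := ⟨_, rfl⟩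
  -- Clifford
  have hcl : ∀ n : N, χ.1 n = e * S n := by
    intro n
    have h1 := congrFun (classFunction_eq_sum hcfN) n
    rw [Finset.sum_apply] at h1
    rw [← Finset.sum_filter_add_sum_filter_not Finset.univ
      (fun φ : IrrCharacter N => ∃ g : G, φ.1 = conjChar hN θ.1 g)] at h1
    have h2 : ∑ φ ∈ Finset.univ.filter (fun φ : IrrCharacter N =>
        ¬ ∃ g : G, φ.1 = conjChar hN θ.1 g),
        (classInner (fun n : N => χ.1 n) φ.1 • φ.1) n = 0 := by
      apply Finset.sum_eq_zero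
      intro φ hφ
      simp only [Finset.mem_filter, Finset.mem_univ, true_and] at hφ
      rw [clifford_inner_nonconj hN χ.2 θ.2 hχθ φ hφ, zero_smul]
      rfl
    rw [h2, add_zero, ← hfilt] at h1
    show χ.1 n = e * S n
    rw [h1, hS, Finset.mul_sum]
    apply Finset.sum_congr rfl
    intro φ hφ
    rw [hfilt] at hφ
    simp only [Finset.mem_filter, Finset.mem_univ, true_and] at hφ
    obtain ⟨g, hg⟩ := hφ
    rw [hg, clifford_inner_conj hN hχcf θ.1 g, ← he]
    simp
  have hSval : ∀ n : N, S n = χ.1 n / e := by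
    intro n
    rw [hcl n]; field_simp
  have hSint : ∀ n : N, IsIntegral ℤ (S n) := by
    intro n
    rw [hS]
    apply IsIntegral.sum
    intro φ _
    rw [one_mul]
    exact isCharacter_isIntegral (irr_isCharacter φ.2) n
  have hθint : IsIntegral ℤ (θ.1 1) := isCharacter_isIntegral (irr_isCharacter θ.2) 1
  have hcardN : (Nat.card N : ℂ) ≠ 0 := Nat.cast_ne_zero.mpr Nat.card_pos.ne'
  obtain ⟨b, hb⟩ : ∃ b : N → ℂ, b = fun n => θ.1 1 * conj (S n) / (Nat.card N : ℂ) := ⟨_, rfl⟩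
  obtain ⟨a, hadef⟩ : ∃ a : G → ℂ, a = fun g => if hg : g ∈ N then b ⟨g, hg⟩ else 0 := ⟨_, rfl⟩
  have ha_local : ∀ g, MemLocalRing M (a g) := by
    intro g
    rw [hadef]
    show MemLocalRing M (if hg : g ∈ N then b ⟨g, hg⟩ else 0)
    split_ifs with hg
    · rw [hb]
      have hnum : IsIntegral ℤ (θ.1 1 * conj (S ⟨g, hg⟩)) :=
        hθint.mul (map_isIntegral_int (starRingEnd ℂ) (hSint _))
      refine ⟨⟨_, hnum⟩, (Nat.card N : AlgInt), natCast_not_mem_of_not_dvd p M hM _ hNp, ?_⟩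
      simp
    · exact memLocalRing_zero hprime.ne_top
  have hac : ∀ g x : G, a (x * g * x⁻¹) = a g := by
    intro g x
    rw [hadef]
    show (if hg : x * g * x⁻¹ ∈ N then b ⟨x * g * x⁻¹, hg⟩ else 0) =
      (if hg : g ∈ N then b ⟨g, hg⟩ else 0)
    by_cases hg : g ∈ N
    · have hg' : x * g * x⁻¹ ∈ N := hN.conj_mem g hg x
      rw [dif_pos hg, dif_pos hg', hb]
      show θ.1 1 * conj (S ⟨x * g * x⁻¹, hg'⟩) / _ = θ.1 1 * conj (S ⟨g, hg⟩) / _
      rw [hSval, hSval]
      show θ.1 1 * conj (χ.1 (x * g * x⁻¹) / e) / _ = θ.1 1 * conj (χ.1 g / e) / _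
      rw [hχcf g x]
    · have hg' : x * g * x⁻¹ ∉ N := by
        intro h'
        apply hg
        have := hN.conj_mem _ h' x⁻¹
        simpa [mul_assoc] using this
      rw [dif_neg hg, dif_neg hg']
  have hmain := sameBlock_eval M hprime a ha_local hac χ ψ h
  -- evaluation
  have heval : ∀ φ : IrrCharacter G, ∑ g : G, a g * φ.1 g =
      θ.1 1 * ((filt.card : ℂ) * classInner (fun n : N => φ.1 n) θ.1) := by
    intro φ
    have hφcf : IsClassFunction G φ.1 := isClassFunction_of_isCharacter (irr_isCharacter φ.2)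
    rw [hadef]
    rw [sum_subgroup_dite N b φ.1]
    have h1 : classInner (fun n : N => φ.1 n) S =
        ∑ φ' ∈ filt, conj (1 : ℂ) * classInner (fun n : N => φ.1 n) φ'.1 := by
      rw [hS]
      exact classInner_sum_right filt (fun _ => (1 : ℂ)) (fun φ' => φ'.1) _
    have h2 : ∀ φ' ∈ filt, conj (1 : ℂ) * classInner (fun n : N => φ.1 n) φ'.1 =
        classInner (fun n : N => φ.1 n) θ.1 := by
      intro φ' hφ'
      rw [hfilt] at hφ'
      simp only [Finset.mem_filter, Finset.mem_univ, true_and] at hφ'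
      obtain ⟨g, hg⟩ := hφ'
      rw [hg, clifford_inner_conj hN hφcf θ.1 g]
      simp
    rw [Finset.sum_congr rfl h2, Finset.sum_const, nsmul_eq_mul] at h1
    rw [← h1]
    unfold classInner
    rw [hb, Finset.mul_sum, Finset.mul_sum]
    apply Finset.sum_congr rfl
    intro n _
    field_simp
  have hdeg : χ.1 1 = e * ((filt.card : ℂ) * θ.1 1) := by
    have h1 := hcl 1
    have h2 : S 1 = (filt.card : ℂ) * θ.1 1 := by
      rw [hS]
      have : ∀ φ ∈ filt, 1 * φ.1 (1 : N) = θ.1 1 := by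
        intro φ hφ
        rw [hfilt] at hφ
        simp only [Finset.mem_filter, Finset.mem_univ, true_and] at hφ
        obtain ⟨g, hg⟩ := hφ
        rw [hg, one_mul, conjChar_apply]
        have h1N : (⟨g * ((1 : N) : G) * g⁻¹, hN.conj_mem _ (1 : N).2 g⟩ : N) = 1 :=
          Subtype.ext (by simp)
        rw [h1N]
      show ∑ φ ∈ filt, 1 * φ.1 (1 : N) = _
      rw [Finset.sum_congr rfl this, Finset.sum_const, nsmul_eq_mul]
    rw [← h2]
    exact h1
  have hχ1 := irr_one_ne_zero χ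
  have hψ1 := irr_one_ne_zero ψ
  have hone : ∑ g : G, a g * (χ.1 g / χ.1 1 - ψ.1 g / ψ.1 1) = 1 := by
    have : ∀ g : G, a g * (χ.1 g / χ.1 1 - ψ.1 g / ψ.1 1) =
        (χ.1 1)⁻¹ * (a g * χ.1 g) - (ψ.1 1)⁻¹ * (a g * ψ.1 g) := by
      intro g; ring
    rw [Finset.sum_congr rfl (fun g _ => this g), Finset.sum_sub_distrib, ← Finset.mul_sum,
      ← Finset.mul_sum, heval χ, heval ψ, hψθ, ← he]
    have hne : e * ((filt.card : ℂ) * θ.1 1) ≠ 0 := by rw [← hdeg]; exact hχ1
    have hc : (filt.card : ℂ) ≠ 0 := by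
      intro h0; apply hne; rw [h0]; ring
    have hθ1 : θ.1 1 ≠ 0 := irr_one_ne_zero θ
    rw [hdeg]
    field_simp
    ring
  rw [hone] at hmain
  exact not_memLocalIdeal_one hmain

end Cfsg.Agent.Lib.Helper8
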