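import Mathlib
import Cfsg.Prelude.Def_Blocks
import Cfsg.Agent.Lib.Helper8.BlockCore
import Cfsg.Agent.S0932

set_option autoImplicit false

open scoped Classical

namespace Cfsg.Agent.Lib.Helper8
open Cfsg
open scoped ComplexConjugate

variable {G : Type*} [Group G]

theorem memLocalRing_one {M : Ideal AlgInt} (hM : M ≠ ⊤) : MemLocalRing M 1 :=
  ⟨1, 1, (Ideal.ne_top_iff_one M).mp hM, by simp⟩

theorem inducedCentralChar_eq_sum (H : Subgroup G) [Fintype H] (ξ : H → ℂ) (g : G) :
    inducedCentralChar H ξ g = ∑ h : H, (if IsConj g (h : G) then 1 else 0) * (ξ h / ξ 1) := by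
  unfold inducedCentralChar
  rw [finsum_mem_eq_sum_ite_bl]
  apply Finset.sum_congr rfl
  intro h _
  by_cases hc : IsConj g (h : G)
  · rw [if_pos hc, if_pos (show h ∈ {h : H | IsConj g (h : G)} from hc), one_mul]
  · rw [if_neg hc, if_neg (show h ∉ {h : H | IsConj g (h : G)} from hc), zero_mul]

theorem inducedCentralChar_congr (M : Ideal AlgInt) (hprime : M.IsPrime) (H : Subgroup G)
    [Fintype H] (ξ ξ' : IrrCharacter H) (hsb : SameBlock M ξ.1 ξ'.1) (g : G) :
    MemLocalIdeal M (inducedCentralChar H ξ.1 g - inducedCentralChar H ξ'.1 g) := by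
  rw [inducedCentralChar_eq_sum, inducedCentralChar_eq_sum, ← Finset.sum_sub_distrib]
  have h1 : ∀ h : H, (if IsConj g (h : G) then (1 : ℂ) else 0) * (ξ.1 h / ξ.1 1) -
      (if IsConj g (h : G) then (1 : ℂ) else 0) * (ξ'.1 h / ξ'.1 1) =
      (fun h : H => if IsConj g (h : G) then (1 : ℂ) else 0) h *
        (ξ.1 h / ξ.1 1 - ξ'.1 h / ξ'.1 1) := by
    intro h; ring
  rw [Finset.sum_congr rfl (fun h _ => h1 h)]
  apply sameBlock_eval M hprime _ _ _ ξ ξ' hsb
  · intro h
    show MemLocalRing M (if IsConj g (h : G) then (1 : ℂ) else 0)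
    split_ifs
    · exact memLocalRing_one hprime.ne_top
    · exact memLocalRing_zero hprime.ne_top
  · intro h k
    show (if IsConj g ((k * h * k⁻¹ : H) : G) then (1 : ℂ) else 0) =
      if IsConj g (h : G) then (1 : ℂ) else 0
    have : IsConj g ((k * h * k⁻¹ : H) : G) ↔ IsConj g (h : G) := by
      have hc : IsConj (h : G) ((k * h * k⁻¹ : H) : G) := by
        rw [isConj_iff]
        exact ⟨(k : G), by simp⟩
      constructor
      · intro h'; exact h'.trans hc.symm
      · intro h'; exact h'.trans hc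
    rw [if_congr this rfl rfl]

theorem irr_induction_induces_block [Fintype G] (p : ℕ) (M : Ideal AlgInt)
    (hM : IsPModular p M) (H : Subgroup G) (ξ : IrrCharacter H)
    (hind : IsIrrCharacter G (indFun H ξ.1)) :
    IsInducedBlock M H (blockOf M ξ.1) (blockOf M (indFun H ξ.1)) := by
  haveI : Fintype H := Fintype.ofFinite H
  have hprime : M.IsPrime := Ideal.IsMaximal.isPrime hM.2.1
  refine ⟨⟨ξ, rfl⟩, ⟨⟨indFun H ξ.1, hind⟩, rfl⟩, ?_⟩
  intro ξ' hξ' χ hχ g
  have h1 : SameBlock M ξ.1 ξ'.1 := hξ'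
  have h2 : SameBlock M (indFun H ξ.1) χ.1 := hχ
  have h3 := inducedCentralChar_congr M hprime H ξ ξ' h1 g
  have h4 := Cfsg.Agent.S0932.result H ξ.1 (irr_isCharacter ξ.2) g
  have h5 := h2 g
  have h6 : inducedCentralChar H ξ'.1 g - centralChar χ.1 g =
      (centralChar (indFun H ξ.1) g - centralChar χ.1 g) +
        -(inducedCentralChar H ξ.1 g - inducedCentralChar H ξ'.1 g) := by
    rw [h4]; ring
  rw [h6]
  exact memLocalIdeal_add hprime h5 (memLocalIdeal_neg h3)

end Cfsg.Agent.Lib.Helper8
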