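import Mathlib
import Cfsg.Prelude.Def_Blocks
import Cfsg.Agent.Lib.Helper8.BlockCore
import Cfsg.Agent.Lib.Helper8.BlockInduce
import Cfsg.Agent.Lib.Helper8.CharIntegral
import Cfsg.Agent.Lib.Helper8.CharSchur

set_option autoImplicit false

open scoped Classical

namespace Cfsg.Agent.Lib.Helper8
open Cfsg
open scoped ComplexConjugate

section LocalRing2
variable {M : Ideal AlgInt}

theorem memLocalRing_of_isIntegral (hM : M ≠ ⊤) {z : ℂ} (hz : IsIntegral ℤ z) :
    MemLocalRing M z :=
  ⟨⟨z, hz⟩, 1, (Ideal.ne_top_iff_one M).mp hM, by simp⟩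

theorem memLocalRing_of_memLocalIdeal {z : ℂ} (h : MemLocalIdeal M z) : MemLocalRing M z := by
  obtain ⟨a, b, _, hb, h⟩ := h
  exact ⟨a, b, hb, h⟩

theorem memLocalRing_add (hprime : M.IsPrime) {x y : ℂ} (hx : MemLocalRing M x)
    (hy : MemLocalRing M y) : MemLocalRing M (x + y) := by
  obtain ⟨a₁, b₁, hb₁, rfl⟩ := hx
  obtain ⟨a₂, b₂, hb₂, rfl⟩ := hy
  have h1 := coe_ne_zero_of_not_mem hb₁
  have h2 := coe_ne_zero_of_not_mem hb₂
  refine ⟨a₁ * b₂ + a₂ * b₁, b₁ * b₂, ?_, ?_⟩
  · intro h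
    rcases hprime.mem_or_mem h with h | h
    · exact hb₁ h
    · exact hb₂ h
  · push_cast
    field_simp

theorem memLocalRing_mul (hprime : M.IsPrime) {x y : ℂ} (hx : MemLocalRing M x)
    (hy : MemLocalRing M y) : MemLocalRing M (x * y) := by
  obtain ⟨a₁, b₁, hb₁, rfl⟩ := hx
  obtain ⟨a₂, b₂, hb₂, rfl⟩ := hy
  have h1 := coe_ne_zero_of_not_mem hb₁
  have h2 := coe_ne_zero_of_not_mem hb₂
  refine ⟨a₁ * a₂, b₁ * b₂, ?_, ?_⟩
  · intro h
    rcases hprime.mem_or_mem h with h | h
    · exact hb₁ h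
    · exact hb₂ h
  · push_cast
    field_simp

theorem memLocalRing_neg {x : ℂ} (hx : MemLocalRing M x) : MemLocalRing M (-x) := by
  obtain ⟨a, b, hb, rfl⟩ := hx
  exact ⟨-a, b, hb, by push_cast; ring⟩

theorem memLocalRing_sub (hprime : M.IsPrime) {x y : ℂ} (hx : MemLocalRing M x)
    (hy : MemLocalRing M y) : MemLocalRing M (x - y) := by
  rw [sub_eq_add_neg]
  exact memLocalRing_add hprime hx (memLocalRing_neg hy)

theorem memLocalRing_sum (hprime : M.IsPrime) {ι : Type*} (s : Finset ι) (f : ι → ℂ)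
    (h : ∀ i ∈ s, MemLocalRing M (f i)) : MemLocalRing M (∑ i ∈ s, f i) := by
  induction s using Finset.induction_on with
  | empty =>
    rw [Finset.sum_empty]
    exact memLocalRing_zero hprime.ne_top
  | insert a s ha ih =>
    rw [Finset.sum_insert ha]
    apply memLocalRing_add hprime (h a (Finset.mem_insert_self a s))
    apply ih
    intro i hi
    exact h i (Finset.mem_insert_of_mem hi)

theorem memLocalRing_inv {x : ℂ} (hx : MemLocalRing M x) (hnx : ¬ MemLocalIdeal M x) :
    MemLocalRing M x⁻¹ := by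
  obtain ⟨a, b, hb, rfl⟩ := hx
  have ha : a ∉ M := fun ha => hnx ⟨a, b, ha, hb, rfl⟩
  exact ⟨b, a, ha, by rw [inv_div]⟩

theorem memLocalIdeal_sub (hprime : M.IsPrime) {x y : ℂ} (hx : MemLocalIdeal M x)
    (hy : MemLocalIdeal M y) : MemLocalIdeal M (x - y) := by
  rw [sub_eq_add_neg]
  exact memLocalIdeal_add hprime hx (memLocalIdeal_neg hy)

theorem not_memLocalIdeal_of_sub_one (hprime : M.IsPrime) {x : ℂ}
    (h : MemLocalIdeal M (x - 1)) : ¬ MemLocalIdeal M x := by
  intro hx
  have := memLocalIdeal_sub hprime hx h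
  rw [sub_sub_cancel] at this
  exact not_memLocalIdeal_one this

theorem memLocalRing_of_sub_one (hprime : M.IsPrime) {x : ℂ}
    (h : MemLocalIdeal M (x - 1)) : MemLocalRing M x := by
  have h1 := memLocalRing_add hprime (memLocalRing_of_memLocalIdeal h)
    (memLocalRing_one hprime.ne_top)
  rwa [sub_add_cancel] at h1

end LocalRing2

section Conv

variable {G : Type*} [Group G] [Fintype G]

/-- convolution of functions on the group -/
noncomputable def cconv (a b : G → ℂ) : G → ℂ := fun k => ∑ g : G, a g * b (g⁻¹ * k)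

/-- the identity of the convolution algebra -/
noncomputable def cdelta : G → ℂ := fun g => if g = 1 then 1 else 0

/-- the class indicator -/
noncomputable def cind (g : G) : G → ℂ := fun h => if IsConj g h then 1 else 0

/-- the central character applied to a central function -/
noncomputable def omegaC (χ : G → ℂ) (c : G → ℂ) : ℂ := (∑ g : G, c g * χ g) / χ 1

theorem cconv_isClassFunction {a b : G → ℂ} (ha : IsClassFunction G a)
    (hb : IsClassFunction G b) : IsClassFunction G (cconv a b) := by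
  intro k x
  show ∑ g : G, a g * b (g⁻¹ * (x * k * x⁻¹)) = ∑ g : G, a g * b (g⁻¹ * k)
  symm
  apply Fintype.sum_equiv (MulAut.conj x).toEquiv
  intro g
  simp only [MulEquiv.toEquiv_eq_coe, EquivLike.coe_coe, MulAut.conj_apply]
  rw [ha g x]
  congr 1
  have : (x * g * x⁻¹)⁻¹ * (x * k * x⁻¹) = x * (g⁻¹ * k) * x⁻¹ := by group
  rw [this, hb _ x]

theorem cdelta_isClassFunction : IsClassFunction G (cdelta : G → ℂ) := by
  intro g h
  show (if h * g * h⁻¹ = 1 then (1 : ℂ) else 0) = if g = 1 then 1 else 0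
  have : h * g * h⁻¹ = 1 ↔ g = 1 := by
    constructor
    · intro h1
      have : g = h⁻¹ * (h * g * h⁻¹) * h := by group
      rw [this, h1]; group
    · rintro rfl; group
  rw [if_congr this rfl rfl]

theorem cind_isClassFunction (g : G) : IsClassFunction G (cind g) := by
  intro k h
  show (if IsConj g (h * k * h⁻¹) then (1 : ℂ) else 0) = if IsConj g k then 1 else 0
  have hc : IsConj k (h * k * h⁻¹) := isConj_iff.mpr ⟨h, rfl⟩
  have : IsConj g (h * k * h⁻¹) ↔ IsConj g k :=
    ⟨fun h' => h'.trans hc.symm, fun h' => h'.trans hc⟩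
  rw [if_congr this rfl rfl]

theorem omegaC_lin (χ : G → ℂ) (r s : ℂ) (a b : G → ℂ) :
    omegaC χ (fun g => r * a g + s * b g) = r * omegaC χ a + s * omegaC χ b := by
  unfold omegaC
  have : ∀ g : G, (r * a g + s * b g) * χ g = r * (a g * χ g) + s * (b g * χ g) := by
    intro g; ring
  rw [Finset.sum_congr rfl (fun g _ => this g), Finset.sum_add_distrib, ← Finset.mul_sum,
    ← Finset.mul_sum]
  ring

theorem omegaC_cdelta (χ : G → ℂ) (h1 : χ 1 ≠ 0) : omegaC χ (cdelta : G → ℂ) = 1 := by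
  unfold omegaC cdelta
  rw [Finset.sum_eq_single (1 : G)]
  · rw [if_pos rfl, one_mul, div_self h1]
  · intro g _ hg
    rw [if_neg hg, zero_mul]
  · intro h; exact absurd (Finset.mem_univ _) h

theorem omegaC_cind (χ : G → ℂ) (hχ : IsClassFunction G χ) (g : G) :
    omegaC χ (cind g) = centralChar χ g := by
  unfold omegaC cind centralChar
  congr 1
  have h1 : ∀ h : G, (if IsConj g h then (1 : ℂ) else 0) * χ h =
      if IsConj g h then χ g else 0 := by
    intro h
    by_cases hc : IsConj g h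
    · rw [if_pos hc, if_pos hc, one_mul]
      obtain ⟨x, hx⟩ := isConj_iff.mp hc
      rw [← hx, hχ]
    · rw [if_neg hc, if_neg hc, zero_mul]
  rw [Finset.sum_congr rfl (fun h _ => h1 h), ← Finset.sum_filter, Finset.sum_const,
    nsmul_eq_mul, card_isConj_filter]

/-- the operator of a central function is a scalar on an irreducible representation -/
theorem classT_scalar {V : Type*} [AddCommGroup V] [Module ℂ V] [FiniteDimensional ℂ V]
    {ρ : Representation ℂ G V} (hρ : ρ.IsIrreducible) {c : G → ℂ} (hcf : IsClassFunction G c) :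
    ∑ g : G, c g • ρ g =
      ((∑ g : G, c g * ρ.character g) / (Module.finrank ℂ V : ℂ)) • (LinearMap.id : V →ₗ[ℂ] V) := by
  have hnt : Nontrivial V := irreducible_nontrivial hρ
  obtain ⟨ω, hω⟩ := schur_scalar hρ (classOp (fun g => c g⁻¹) ρ)
    (classOp_comm (isClassFunction_inv hcf) ρ)
  have hT : ∑ g : G, c g • ρ g = ω • (LinearMap.id : V →ₗ[ℂ] V) := by
    rw [← classOp_inv]
    ext v; rw [hω v]; rfl
  have htr : ∑ g : G, c g * ρ.character g = ω * (Module.finrank ℂ V : ℂ) := by
    have := congrArg (LinearMap.trace ℂ V) hT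
    rw [map_sum, map_smul, LinearMap.trace_id, smul_eq_mul] at this
    rw [← this]
    apply Finset.sum_congr rfl
    intro g _
    rw [map_smul, smul_eq_mul]
    rfl
  have hfr : (Module.finrank ℂ V : ℂ) ≠ 0 := Nat.cast_ne_zero.mpr (Module.finrank_pos).ne'
  rw [hT, htr, mul_div_assoc, div_self hfr, mul_one]

theorem classT_conv {V : Type*} [AddCommGroup V] [Module ℂ V]
    (ρ : Representation ℂ G V) (a b : G → ℂ) :
    ∑ k : G, cconv a b k • ρ k = (∑ g : G, a g • ρ g) * (∑ h : G, b h • ρ h) := by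
  rw [Finset.sum_mul]
  have h1 : ∀ g : G, (a g • ρ g) * (∑ h : G, b h • ρ h) =
      ∑ k : G, (a g * b (g⁻¹ * k)) • ρ k := by
    intro g
    rw [Finset.mul_sum]
    apply Fintype.sum_equiv (Equiv.mulLeft g)
    intro h
    simp only [Equiv.coe_mulLeft]
    rw [smul_mul_smul_comm, ← map_mul, inv_mul_cancel_left]
  rw [Finset.sum_congr rfl (fun g _ => h1 g), Finset.sum_comm]
  apply Finset.sum_congr rfl
  intro k _
  unfold cconv
  rw [Finset.sum_smul]

theorem omegaC_conv (χ : IrrCharacter G) {a b : G → ℂ} (ha : IsClassFunction G a)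
    (hb : IsClassFunction G b) :
    omegaC χ.1 (cconv a b) = omegaC χ.1 a * omegaC χ.1 b := by
  obtain ⟨n, ρ, hρ, hρχ⟩ := χ.2
  have hnt : Nontrivial (Fin n → ℂ) := irreducible_nontrivial hρ
  have h1 : χ.1 1 = (Module.finrank ℂ (Fin n → ℂ) : ℂ) := by
    rw [← hρχ, Representation.char_one]
  have hfr : (Module.finrank ℂ (Fin n → ℂ) : ℂ) ≠ 0 :=
    Nat.cast_ne_zero.mpr (Module.finrank_pos).ne'
  have hab := cconv_isClassFunction ha hb
  have e1 := classT_scalar hρ hab
  have e2 := classT_scalar hρ ha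
  have e3 := classT_scalar hρ hb
  rw [classT_conv, e2, e3, smul_mul_smul_comm] at e1
  have e4 := congrArg (LinearMap.trace ℂ (Fin n → ℂ)) e1
  rw [map_smul, map_smul] at e4
  have hid : (LinearMap.id : (Fin n → ℂ) →ₗ[ℂ] (Fin n → ℂ)) * LinearMap.id = LinearMap.id := by
    ext v; rfl
  rw [hid, LinearMap.trace_id, smul_eq_mul, smul_eq_mul] at e4
  have e5 := mul_right_cancel₀ hfr e4
  unfold omegaC
  rw [h1, ← hρχ]
  exact e5.symm

theorem omegaC_ext {c c' : G → ℂ} (hc : IsClassFunction G c) (hc' : IsClassFunction G c')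
    (h : ∀ χ : IrrCharacter G, omegaC χ.1 c = omegaC χ.1 c') : c = c' := by
  haveI := irr_finite (G := G)
  haveI : Fintype (IrrCharacter G) := Fintype.ofFinite _
  obtain ⟨d, hd⟩ : ∃ d : G → ℂ, d = fun g => conj (c g - c' g) := ⟨_, rfl⟩
  have hdcf : IsClassFunction G d := by
    intro g x
    rw [hd]
    show conj (c (x * g * x⁻¹) - c' (x * g * x⁻¹)) = conj (c g - c' g)
    rw [hc, hc']
  have hinner : ∀ χ : IrrCharacter G, classInner d χ.1 = 0 := by
    intro χ
    have h1 := h χ
    unfold omegaC at h1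
    have hχ1 := irr_one_ne_zero χ
    have h2 : ∑ g : G, c g * χ.1 g = ∑ g : G, c' g * χ.1 g := by
      field_simp at h1
      exact h1
    unfold classInner
    have h3 : ∑ g : G, d g * conj (χ.1 g) = conj (∑ g : G, (c g - c' g) * χ.1 g) := by
      rw [map_sum]
      apply Finset.sum_congr rfl
      intro g _
      rw [hd, map_mul]
    rw [h3]
    have h4 : ∑ g : G, (c g - c' g) * χ.1 g = 0 := by
      have : ∀ g : G, (c g - c' g) * χ.1 g = c g * χ.1 g - c' g * χ.1 g := by intro g; ring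
      rw [Finset.sum_congr rfl (fun g _ => this g), Finset.sum_sub_distrib, h2, sub_self]
    rw [h4, map_zero, mul_zero]
  have hd0 : d = 0 := by
    rw [classFunction_eq_sum hdcf]
    apply Finset.sum_eq_zero
    intro χ _
    rw [hinner χ, zero_smul]
  ext g
  have h1 : d g = 0 := by rw [hd0]; rfl
  rw [hd] at h1
  have h2 : conj (c g - c' g) = 0 := h1
  rw [map_eq_zero] at h2
  exact sub_eq_zero.mp h2

theorem cconv_local {M : Ideal AlgInt} (hprime : M.IsPrime) {a b : G → ℂ}
    (ha : ∀ g, MemLocalRing M (a g)) (hb : ∀ g, MemLocalRing M (b g)) (k : G) :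
    MemLocalRing M (cconv a b k) := by
  unfold cconv
  apply memLocalRing_sum hprime
  intro g _
  exact memLocalRing_mul hprime (ha g) (hb _)

theorem cdelta_local {M : Ideal AlgInt} (hprime : M.IsPrime) (g : G) :
    MemLocalRing M ((cdelta : G → ℂ) g) := by
  unfold cdelta
  split_ifs
  · exact memLocalRing_one hprime.ne_top
  · exact memLocalRing_zero hprime.ne_top

theorem cind_local {M : Ideal AlgInt} (hprime : M.IsPrime) (g h : G) :
    MemLocalRing M (cind g h) := by
  unfold cind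
  split_ifs
  · exact memLocalRing_one hprime.ne_top
  · exact memLocalRing_zero hprime.ne_top

theorem centralChar_isIntegral (χ : IrrCharacter G) (g : G) :
    IsIntegral ℤ (centralChar χ.1 g) := by
  obtain ⟨n, ρ, hρ, hρχ⟩ := χ.2
  have h1 : χ.1 1 = (Module.finrank ℂ (Fin n → ℂ) : ℂ) := by
    rw [← hρχ, Representation.char_one]
  unfold centralChar
  rw [h1, ← hρχ]
  exact class_mul_char_div_degree_isIntegral hρ g

end Conv

section Osima

variable {G : Type*} [Group G] [Fintype G]

theorem osima_sep (p : ℕ) (M : Ideal AlgInt) (hM : IsPModular p M) (χ₀ : IrrCharacter G)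
    (S : Finset (IrrCharacter G)) (hS : ∀ ψ ∈ S, ψ ∉ blockOf M χ₀.1) :
    ∃ a : G → ℂ, IsClassFunction G a ∧ (∀ g, MemLocalRing M (a g)) ∧
      (∀ ψ ∈ S, omegaC ψ.1 a = 0) ∧
      (∀ φ ∈ blockOf M χ₀.1, MemLocalIdeal M (omegaC φ.1 a - 1)) := by
  have hprime : M.IsPrime := Ideal.IsMaximal.isPrime hM.2.1
  induction S using Finset.induction_on with
  | empty =>
    refine ⟨cdelta, cdelta_isClassFunction, cdelta_local hprime, ?_, ?_⟩
    · intro ψ hψ; exact absurd hψ (Finset.notMem_empty ψ)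
    · intro φ _
      rw [omegaC_cdelta φ.1 (irr_one_ne_zero φ), sub_self]
      exact memLocalIdeal_zero hprime.ne_top
  | insert ψ S' hψS' ih =>
    obtain ⟨a, hacf, haR, haS, haB⟩ := ih (fun θ hθ => hS θ (Finset.mem_insert_of_mem hθ))
    have hψB : ψ ∉ blockOf M χ₀.1 := hS ψ (Finset.mem_insert_self ψ S')
    have hnsb : ¬ SameBlock M χ₀.1 ψ.1 := hψB
    unfold SameBlock at hnsb
    rw [not_forall] at hnsb
    obtain ⟨g, hg⟩ := hnsb
    obtain ⟨d, hd⟩ : ∃ d : ℂ, d = centralChar χ₀.1 g - centralChar ψ.1 g := ⟨_, rfl⟩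
    rw [← hd] at hg
    have hdR : MemLocalRing M d := by
      rw [hd]
      exact memLocalRing_sub hprime
        (memLocalRing_of_isIntegral hprime.ne_top (centralChar_isIntegral χ₀ g))
        (memLocalRing_of_isIntegral hprime.ne_top (centralChar_isIntegral ψ g))
    have hdinv : MemLocalRing M d⁻¹ := memLocalRing_inv hdR hg
    have hd0 : d ≠ 0 := by
      intro h0
      apply hg
      rw [h0]
      exact memLocalIdeal_zero hprime.ne_top
    obtain ⟨u, hu⟩ : ∃ u : G → ℂ, u = fun h =>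
        d⁻¹ * cind g h + (-(d⁻¹ * centralChar ψ.1 g)) * cdelta h := ⟨_, rfl⟩
    have hucf : IsClassFunction G u := by
      intro k x
      rw [hu]
      show d⁻¹ * cind g (x * k * x⁻¹) + (-(d⁻¹ * centralChar ψ.1 g)) * cdelta (x * k * x⁻¹) =
        d⁻¹ * cind g k + (-(d⁻¹ * centralChar ψ.1 g)) * cdelta k
      rw [cind_isClassFunction g k x, cdelta_isClassFunction k x]
    have huR : ∀ h, MemLocalRing M (u h) := by
      intro h
      rw [hu]
      apply memLocalRing_add hprime
      · exact memLocalRing_mul hprime hdinv (cind_local hprime g h)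
      · apply memLocalRing_mul hprime _ (cdelta_local hprime h)
        apply memLocalRing_neg
        exact memLocalRing_mul hprime hdinv
          (memLocalRing_of_isIntegral hprime.ne_top (centralChar_isIntegral ψ g))
    have hou : ∀ θ : IrrCharacter G, omegaC θ.1 u =
        d⁻¹ * (centralChar θ.1 g - centralChar ψ.1 g) := by
      intro θ
      rw [hu, omegaC_lin, omegaC_cind θ.1
        (isClassFunction_of_isCharacter (irr_isCharacter θ.2)) g,
        omegaC_cdelta θ.1 (irr_one_ne_zero θ)]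
      ring
    refine ⟨cconv a u, cconv_isClassFunction hacf hucf, cconv_local hprime haR huR, ?_, ?_⟩
    · intro θ hθ
      rw [omegaC_conv θ hacf hucf]
      rcases Finset.mem_insert.mp hθ with h | h
      · rw [h, hou ψ, sub_self, mul_zero, mul_zero]
      · rw [haS θ h, zero_mul]
    · intro φ hφ
      rw [omegaC_conv φ hacf hucf]
      have h1 := haB φ hφ
      have hφsb : SameBlock M χ₀.1 φ.1 := hφ
      have h2 : MemLocalIdeal M (omegaC φ.1 u - 1) := by
        have : omegaC φ.1 u - 1 = d⁻¹ * (-(centralChar χ₀.1 g - centralChar φ.1 g)) := by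
          rw [hou φ, hd]
          rw [hd] at hd0
          field_simp
          ring
        rw [this]
        exact memLocalRing_mul_memLocalIdeal hprime hdinv (memLocalIdeal_neg (hφsb g))
      have h3 : MemLocalRing M (omegaC φ.1 u) := memLocalRing_of_sub_one hprime h2
      have h4 : omegaC φ.1 a * omegaC φ.1 u - 1 =
          omegaC φ.1 u * (omegaC φ.1 a - 1) + (omegaC φ.1 u - 1) := by ring
      rw [h4]
      exact memLocalIdeal_add hprime (memLocalRing_mul_memLocalIdeal hprime h3 h1) h2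

theorem osima_poly (M : Ideal AlgInt) (hprime : M.IsPrime) (a : G → ℂ)
    (ha : IsClassFunction G a) (haR : ∀ g, MemLocalRing M (a g)) (t : IrrCharacter G → ℂ)
    (T : Finset (IrrCharacter G)) (ht : ∀ φ ∈ T, MemLocalRing M (t φ)⁻¹) :
    ∃ c : G → ℂ, IsClassFunction G c ∧ (∀ g, MemLocalRing M (c g)) ∧
      ∀ θ : IrrCharacter G, omegaC θ.1 c = ∏ φ ∈ T, (1 - (t φ)⁻¹ * omegaC θ.1 a) := by
  induction T using Finset.induction_on with
  | empty =>
    refine ⟨cdelta, cdelta_isClassFunction, cdelta_local hprime, ?_⟩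
    intro θ
    rw [Finset.prod_empty, omegaC_cdelta θ.1 (irr_one_ne_zero θ)]
  | insert φ T' hφT' ih =>
    obtain ⟨c, hccf, hcR, hcω⟩ := ih (fun θ hθ => ht θ (Finset.mem_insert_of_mem hθ))
    have htφ := ht φ (Finset.mem_insert_self φ T')
    obtain ⟨u, hu⟩ : ∃ u : G → ℂ, u = fun h => 1 * cdelta h + (-(t φ)⁻¹) * a h := ⟨_, rfl⟩
    have hucf : IsClassFunction G u := by
      intro k x
      rw [hu]
      show 1 * cdelta (x * k * x⁻¹) + (-(t φ)⁻¹) * a (x * k * x⁻¹) =
        1 * cdelta k + (-(t φ)⁻¹) * a k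
      rw [cdelta_isClassFunction k x, ha k x]
    have huR : ∀ h, MemLocalRing M (u h) := by
      intro h
      rw [hu]
      apply memLocalRing_add hprime
      · exact memLocalRing_mul hprime (memLocalRing_one hprime.ne_top) (cdelta_local hprime h)
      · exact memLocalRing_mul hprime (memLocalRing_neg htφ) (haR h)
    refine ⟨cconv c u, cconv_isClassFunction hccf hucf, cconv_local hprime hcR huR, ?_⟩
    intro θ
    rw [omegaC_conv θ hccf hucf, hcω θ, Finset.prod_insert hφT', hu, omegaC_lin,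
      omegaC_cdelta θ.1 (irr_one_ne_zero θ)]
    ring

theorem omegaC_blockCoeff [Fintype (IrrCharacter G)] (A : Set (IrrCharacter G))
    (ψ : IrrCharacter G) : omegaC ψ.1 (blockCoeff A) = if ψ ∈ A then 1 else 0 := by
  unfold omegaC
  rw [idem_eval A ψ]
  have := irr_one_ne_zero ψ
  split_ifs
  · rw [div_self this]
  · rw [zero_div]

theorem osima_main (p : ℕ) (M : Ideal AlgInt) (hM : IsPModular p M)
    (B : Set (IrrCharacter G)) (hB : IsPBlock M B) (g : G) :
    MemLocalRing M (blockCoeff B g) := by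
  haveI := irr_finite (G := G)
  haveI : Fintype (IrrCharacter G) := Fintype.ofFinite _
  have hprime : M.IsPrime := Ideal.IsMaximal.isPrime hM.2.1
  obtain ⟨χ₀, rfl⟩ := hB
  obtain ⟨a, hacf, haR, haS, haB⟩ := osima_sep p M hM χ₀
    (Finset.univ.filter (fun ψ => ψ ∉ blockOf M χ₀.1))
    (fun ψ hψ => (Finset.mem_filter.mp hψ).2)
  obtain ⟨t, ht⟩ : ∃ t : IrrCharacter G → ℂ, t = fun φ => omegaC φ.1 a := ⟨_, rfl⟩
  have htB : ∀ φ ∈ blockOf M χ₀.1, MemLocalRing M (t φ)⁻¹ ∧ t φ ≠ 0 := by
    intro φ hφ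
    have h1 := haB φ hφ
    have h2 : ¬ MemLocalIdeal M (t φ) := by
      rw [ht]; exact not_memLocalIdeal_of_sub_one hprime h1
    have h3 : MemLocalRing M (t φ) := by
      rw [ht]; exact memLocalRing_of_sub_one hprime h1
    refine ⟨memLocalRing_inv h3 h2, ?_⟩
    intro h0
    apply h2
    rw [h0]
    exact memLocalIdeal_zero hprime.ne_top
  obtain ⟨c, hccf, hcR, hcω⟩ := osima_poly M hprime a hacf haR t
    (Finset.univ.filter (fun ψ => ψ ∈ blockOf M χ₀.1))
    (fun φ hφ => (htB φ (Finset.mem_filter.mp hφ).2).1)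
  obtain ⟨b, hb⟩ : ∃ b : G → ℂ, b = fun h => 1 * cdelta h + (-1) * c h := ⟨_, rfl⟩
  have hbcf : IsClassFunction G b := by
    intro k x
    rw [hb]
    show 1 * cdelta (x * k * x⁻¹) + (-1) * c (x * k * x⁻¹) = 1 * cdelta k + (-1) * c k
    rw [cdelta_isClassFunction k x, hccf k x]
  have hbR : ∀ h, MemLocalRing M (b h) := by
    intro h
    rw [hb]
    apply memLocalRing_add hprime
    · exact memLocalRing_mul hprime (memLocalRing_one hprime.ne_top) (cdelta_local hprime h)
    · exact memLocalRing_mul hprime (memLocalRing_neg (memLocalRing_one hprime.ne_top)) (hcR h)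
  have hbω : ∀ θ : IrrCharacter G, omegaC θ.1 b = omegaC θ.1 (blockCoeff (blockOf M χ₀.1)) := by
    intro θ
    rw [omegaC_blockCoeff, hb, omegaC_lin, omegaC_cdelta θ.1 (irr_one_ne_zero θ), hcω θ]
    by_cases hθ : θ ∈ blockOf M χ₀.1
    · rw [if_pos hθ]
      have : ∏ φ ∈ Finset.univ.filter (fun ψ => ψ ∈ blockOf M χ₀.1),
          (1 - (t φ)⁻¹ * omegaC θ.1 a) = 0 := by
        apply Finset.prod_eq_zero (i := θ)
        · exact Finset.mem_filter.mpr ⟨Finset.mem_univ _, hθ⟩
        · have h0 := (htB θ hθ).2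
          have : omegaC θ.1 a = t θ := by rw [ht]
          rw [this, inv_mul_cancel₀ h0, sub_self]
      rw [this]; ring
    · rw [if_neg hθ]
      have h0 : omegaC θ.1 a = 0 := haS θ (Finset.mem_filter.mpr ⟨Finset.mem_univ _, hθ⟩)
      have : ∏ φ ∈ Finset.univ.filter (fun ψ => ψ ∈ blockOf M χ₀.1),
          (1 - (t φ)⁻¹ * omegaC θ.1 a) = 1 := by
        apply Finset.prod_eq_one
        intro φ _
        rw [h0, mul_zero, sub_zero]
      rw [this]; ring
  have hbc : IsClassFunction G (blockCoeff (blockOf M χ₀.1)) := by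
    intro k x
    exact blockCoeff_conj _ k x
  have heq := omegaC_ext hbcf hbc hbω
  rw [← heq]
  exact hbR g

end Osima

end Cfsg.Agent.Lib.Helper8
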