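import Mathlib
import Cfsg.Prelude.Def_Blocks
import Cfsg.Agent.Lib.Helper8.BlockOsima

set_option autoImplicit false

open scoped Classical

namespace Cfsg.Agent.Lib.Helper8
open Cfsg
open scoped ComplexConjugate

variable {G : Type*} [Group G] [Fintype G]

theorem sameBlock_refl (M : Ideal AlgInt) (hM : M ≠ ⊤) (χ : G → ℂ) : SameBlock M χ χ := by
  intro g
  rw [sub_self]
  exact memLocalIdeal_zero hM

theorem exists_defect_class (p : ℕ) (M : Ideal AlgInt) (hM : IsPModular p M)
    (B : Set (IrrCharacter G)) (hB : IsPBlock M B) : ∃ g : G, IsDefectClass M B g := by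
  haveI := irr_finite (G := G)
  haveI : Fintype (IrrCharacter G) := Fintype.ofFinite _
  haveI : Fintype (ConjClasses G) := Fintype.ofFinite _
  have hprime : M.IsPrime := Ideal.IsMaximal.isPrime hM.2.1
  have hos : ∀ g : G, MemLocalRing M (blockCoeff B g) := fun g => osima_main p M hM B hB g
  obtain ⟨χ₀, hBeq⟩ := hB
  have hχ₀B : χ₀ ∈ B := by
    rw [hBeq]
    exact sameBlock_refl M hprime.ne_top χ₀.1
  by_contra hno
  rw [not_exists] at hno
  have h1 := omegaC_blockCoeff B χ₀
  rw [if_pos hχ₀B] at h1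
  unfold omegaC at h1
  have hχ1 := irr_one_ne_zero χ₀
  obtain ⟨F, hFdef⟩ : ∃ F : G → ℂ, F = fun g => blockCoeff B g * χ₀.1 g / χ₀.1 1 := ⟨_, rfl⟩
  have hsum : ∑ g : G, F g = 1 := by
    rw [hFdef, ← Finset.sum_div]
    exact h1
  have hFc : ∀ g h : G, F (h * g * h⁻¹) = F g := by
    intro g h
    rw [hFdef]
    show blockCoeff B (h * g * h⁻¹) * χ₀.1 (h * g * h⁻¹) / χ₀.1 1 = _
    rw [blockCoeff_conj, isClassFunction_of_isCharacter (irr_isCharacter χ₀.2) g h]
  have hrep : ∀ c : ConjClasses G,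
      ConjClasses.mk (Function.surjInv ConjClasses.mk_surjective c) = c :=
    fun c => Function.surjInv_eq ConjClasses.mk_surjective c
  rw [sum_eq_sum_classes F hFc _ hrep] at hsum
  apply not_memLocalIdeal_one (M := M)
  rw [← hsum]
  apply memLocalIdeal_sum hprime
  intro c _
  obtain ⟨r, hr⟩ : ∃ r : G, r = Function.surjInv ConjClasses.mk_surjective c := ⟨_, rfl⟩
  rw [← hr]
  have hval : ((Subgroup.centralizer ({r} : Set G)).index : ℂ) * F r =
      blockCoeff B r * centralChar χ₀.1 r := by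
    rw [hFdef]
    unfold centralChar
    ring
  rw [hval]
  have hωR : MemLocalRing M (centralChar χ₀.1 r) :=
    memLocalRing_of_isIntegral hprime.ne_top (centralChar_isIntegral χ₀ r)
  by_cases hf : MemLocalIdeal M (blockCoeff B r)
  · rw [mul_comm]
    exact memLocalRing_mul_memLocalIdeal hprime hωR hf
  · have hnd := hno r
    unfold IsDefectClass at hnd
    rw [not_and, not_and] at hnd
    have h2 := hnd (hos r) hf
    rw [not_forall] at h2
    obtain ⟨χ, h3⟩ := h2
    rw [Classical.not_imp, not_not] at h3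
    obtain ⟨hχB, hχJ⟩ := h3
    have hsb : SameBlock M χ₀.1 χ.1 := by
      rw [hBeq] at hχB; exact hχB
    have h4 : centralChar χ₀.1 r = (centralChar χ₀.1 r - centralChar χ.1 r) + centralChar χ.1 r := by
      ring
    rw [h4]
    exact memLocalRing_mul_memLocalIdeal hprime (hos r) (memLocalIdeal_add hprime (hsb r) hχJ)

end Cfsg.Agent.Lib.Helper8
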