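import Mathlib
import Cfsg.Prelude.Def_Blocks
import Cfsg.Agent.Lib.Helper8.BlockCore
import Cfsg.Agent.Lib.Helper8.CharRamified
import Cfsg.Agent.Lib.Helper8.CharLinear
import Cfsg.Agent.Lib.Helper8.CharMonomial
import Cfsg.Agent.Lib.Helper8.CharSmallDegree
import Cfsg.Agent.Lib.Helper8.CharBurnside

set_option autoImplicit false

open scoped Classical

namespace Cfsg.Agent.Lib.Helper8
open Cfsg
open scoped ComplexConjugate

variable {G : Type*} [Group G]

theorem memLocalIdeal_of_natCast_mul (p : ℕ) (M : Ideal AlgInt) (hM : IsPModular p M) (m : ℕ)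
    (hm : ¬ p ∣ m) {z : ℂ} (h : MemLocalIdeal M ((m : ℂ) * z)) : MemLocalIdeal M z := by
  obtain ⟨a, b, ha, hb, hab⟩ := h
  have hprime : M.IsPrime := Ideal.IsMaximal.isPrime hM.2.1
  have hm0 : (m : ℂ) ≠ 0 := Nat.cast_ne_zero.mpr (by rintro rfl; exact hm (dvd_zero p))
  have hb0 := coe_ne_zero_of_not_mem hb
  refine ⟨a, b * (m : AlgInt), ha, ?_, ?_⟩
  · intro h'
    rcases hprime.mem_or_mem h' with h' | h'
    · exact hb h'
    · exact natCast_not_mem_of_not_dvd p M hM m hm h'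
  · push_cast
    rw [← div_div, hab]
    field_simp

/-- For a normal `p'`-subgroup `N` and `q ∈ G/N`, some preimage of `q` has a centralizer of
index prime to `p` in the full preimage of the centralizer of `q`. -/
theorem exists_good_preimage [Finite G] (p : ℕ) [Fact p.Prime] (N : Subgroup G) [hNn : N.Normal]
    (hN : ¬ p ∣ Nat.card N) (q : G ⧸ N) :
    ∃ (y : G) (m : ℕ), (QuotientGroup.mk y : G ⧸ N) = q ∧ ¬ p ∣ m ∧
      (Subgroup.centralizer ({y} : Set G)).index =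
        m * (Subgroup.centralizer ({q} : Set (G ⧸ N))).index := by
  obtain ⟨Cq, hCq⟩ : ∃ C, C = Subgroup.centralizer ({q} : Set (G ⧸ N)) := ⟨_, rfl⟩
  obtain ⟨Cs, hCs⟩ : ∃ C : Subgroup G, C = Cq.comap (QuotientGroup.mk' N) := ⟨_, rfl⟩
  have hmemCs : ∀ x : G, x ∈ Cs ↔ (QuotientGroup.mk x : G ⧸ N) * q = q * QuotientGroup.mk x := by
    intro x
    rw [hCs, Subgroup.mem_comap, hCq, Subgroup.mem_centralizer_singleton_iff]
    rfl
  obtain ⟨P⟩ : Nonempty (Sylow p Cs) := inferInstance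
  let X := {y : G // (QuotientGroup.mk y : G ⧸ N) = q}
  have hconj : ∀ (x : (P : Subgroup Cs)) (y : X),
      (QuotientGroup.mk (((x : Cs) : G) * y.1 * ((x : Cs) : G)⁻¹) : G ⧸ N) = q := by
    intro x y
    have hx := (hmemCs ((x : Cs) : G)).mp (x : Cs).2
    rw [QuotientGroup.mk_mul, QuotientGroup.mk_mul, y.2, hx, QuotientGroup.mk_inv, mul_assoc,
      mul_inv_cancel, mul_one]
  letI : MulAction (P : Subgroup Cs) X :=
    { smul := fun x y => ⟨((x : Cs) : G) * y.1 * ((x : Cs) : G)⁻¹, hconj x y⟩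
      one_smul := by
        intro y
        apply Subtype.ext
        show (((1 : (P : Subgroup Cs)) : Cs) : G) * y.1 * (((1 : (P : Subgroup Cs)) : Cs) : G)⁻¹ = y.1
        simp
      mul_smul := by
        intro a b y
        apply Subtype.ext
        show ((((a * b : (P : Subgroup Cs)) : Cs) : G)) * y.1 * ((((a * b : (P : Subgroup Cs)) : Cs) : G))⁻¹
          = ((a : Cs) : G) * (((b : Cs) : G) * y.1 * ((b : Cs) : G)⁻¹) * ((a : Cs) : G)⁻¹
        simp only [Subgroup.coe_mul, mul_inv_rev]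
        group }
  have hcardX : Nat.card X = Nat.card N := by
    obtain ⟨g, hg⟩ := QuotientGroup.mk_surjective q
    apply Nat.card_congr
    exact
      { toFun := fun y => ⟨g⁻¹ * y.1, by
          rw [← QuotientGroup.eq, hg, y.2]⟩
        invFun := fun n => ⟨g * n.1, by
          rw [QuotientGroup.mk_mul, hg, (QuotientGroup.eq_one_iff _).mpr n.2, mul_one]⟩
        left_inv := by intro y; apply Subtype.ext; simp
        right_inv := by intro n; apply Subtype.ext; simp }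
  obtain ⟨y₀, hy₀⟩ := IsPGroup.nonempty_fixed_point_of_prime_not_dvd_card P.isPGroup' X
    (by rw [hcardX]; exact hN)
  rw [MulAction.mem_fixedPoints] at hy₀
  obtain ⟨C0, hC0⟩ : ∃ C : Subgroup G, C = Subgroup.centralizer ({y₀.1} : Set G) := ⟨_, rfl⟩
  have hC0le : C0 ≤ Cs := by
    intro x hx
    rw [hC0, Subgroup.mem_centralizer_singleton_iff] at hx
    rw [hmemCs, ← y₀.2, ← QuotientGroup.mk_mul, ← QuotientGroup.mk_mul, hx]
  have hPle : (P : Subgroup Cs) ≤ C0.subgroupOf Cs := by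
    intro x hx
    rw [Subgroup.mem_subgroupOf, hC0, Subgroup.mem_centralizer_singleton_iff]
    have h1 := congrArg Subtype.val (hy₀ ⟨x, hx⟩)
    have h2 : (x : G) * y₀.1 * (x : G)⁻¹ = y₀.1 := h1
    calc (x : G) * y₀.1 = (x : G) * y₀.1 * (x : G)⁻¹ * (x : G) := by group
      _ = y₀.1 * (x : G) := by rw [h2]
  have hrel : ¬ p ∣ C0.relIndex Cs := by
    intro hdvd
    apply Sylow.not_dvd_index P
    exact dvd_trans hdvd (Subgroup.index_dvd_of_le hPle)
  refine ⟨y₀.1, C0.relIndex Cs, y₀.2, hrel, ?_⟩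
  rw [← hC0, ← hCq, ← Subgroup.relIndex_mul_index hC0le, hCs,
    Subgroup.index_comap_of_surjective Cq (QuotientGroup.mk'_surjective N)]

theorem inflated_block [Finite G] (p : ℕ) [Fact p.Prime] (M : Ideal AlgInt)
    (hM : IsPModular p M) (N : Subgroup G) [hNn : N.Normal] (hN : ¬ p ∣ Nat.card N)
    (χ : IrrCharacter (G ⧸ N)) (ψ : IrrCharacter G)
    (hψ : SameBlock M (χ.1 ∘ (QuotientGroup.mk : G → G ⧸ N)) ψ.1) :
    ∃ ψ' : IrrCharacter (G ⧸ N), ψ.1 = ψ'.1 ∘ (QuotientGroup.mk : G → G ⧸ N) ∧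
      SameBlock M χ.1 ψ'.1 := by
  haveI : Fintype G := Fintype.ofFinite G
  haveI : Fintype N := Fintype.ofFinite N
  have hp : p.Prime := Fact.out
  have hχt : IsIrrCharacter G (χ.1 ∘ (QuotientGroup.mk' N)) :=
    isIrrCharacter_comp_surjective (QuotientGroup.mk' N) (QuotientGroup.mk'_surjective N) χ.2
  obtain ⟨χt, hχtdef⟩ : ∃ χt : IrrCharacter G, χt = ⟨χ.1 ∘ (QuotientGroup.mk' N), hχt⟩ := ⟨_, rfl⟩
  have hχtv : ∀ g : G, χt.1 g = χ.1 (QuotientGroup.mk g) := by
    intro g; rw [hχtdef]; rfl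
  have hsb : SameBlock M χt.1 ψ.1 := by
    rw [hχtdef]; exact hψ
  obtain ⟨oneN, honeN⟩ : ∃ oneN : IrrCharacter N, oneN = ⟨fun _ => 1, principal_isIrrCharacter⟩ :=
    ⟨_, rfl⟩
  have hone : ∀ n : N, oneN.1 n = 1 := by intro n; rw [honeN]
  have hcardN : (Nat.card N : ℂ) ≠ 0 := Nat.cast_ne_zero.mpr Nat.card_pos.ne'
  have hB : classInner (fun n : N => χt.1 n) oneN.1 ≠ 0 := by
    have h1 : ∀ n : N, χt.1 n * conj (oneN.1 n) = χ.1 1 := by
      intro n
      rw [hχtv, hone, map_one, mul_one, (QuotientGroup.eq_one_iff (n : G)).mpr n.2]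
    unfold classInner
    rw [Finset.sum_congr rfl (fun n _ => h1 n), Finset.sum_const, Finset.card_univ,
      nsmul_eq_mul, ← Nat.card_eq_fintype_card]
    have := irr_one_ne_zero χ
    field_simp
    exact this
  have hC := core_constituent_of_sameBlock p M hM N hNn hN χt ψ hsb oneN hB
  have hinv : ∀ g : G, conjChar hNn oneN.1 g = oneN.1 := by
    intro g
    ext n
    rw [conjChar_apply, hone, hone]
  have hcl := clifford_invariant hNn ψ.2 oneN.2 hC hinv
  have hψN : ∀ n : N, ψ.1 n = ψ.1 1 := by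
    intro n
    have h1 : ψ.1 (n : G) = classInner (fun n : N => ψ.1 n) oneN.1 * oneN.1 n := congrFun hcl n
    have h2 : ψ.1 ((1 : N) : G) = classInner (fun n : N => ψ.1 n) oneN.1 * oneN.1 1 :=
      congrFun hcl 1
    rw [hone, mul_one] at h1 h2
    rw [h1, ← h2]
    rfl
  obtain ⟨d, ρ, hρirr, hρχ⟩ := ψ.2
  have hker : ∀ n ∈ N, ρ n = 1 := by
    intro n hn
    have h1 : ρ.character n = (Module.finrank ℂ (Fin d → ℂ) : ℂ) := by
      rw [hρχ, hψN ⟨n, hn⟩, ← hρχ, Representation.char_one]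
    rw [character_eq_degree_iff] at h1
    rw [h1]; rfl
  obtain ⟨ρbar, hρbar_def⟩ : ∃ ρbar : Representation ℂ (G ⧸ N) (Fin d → ℂ), ρbar =
      QuotientGroup.lift N ρ (fun x hx => MonoidHom.mem_ker.mpr (hker x hx)) := ⟨_, rfl⟩
  have hcomp : (ρbar.comp (QuotientGroup.mk' N) : Representation ℂ G (Fin d → ℂ)) = ρ := by
    apply MonoidHom.ext
    intro g
    rw [hρbar_def]
    rfl
  have hρbar : ρbar.IsIrreducible := by
    apply irreducible_of_comp (QuotientGroup.mk' N)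
    rw [hcomp]; exact hρirr
  obtain ⟨ψ', hψ'def⟩ : ∃ ψ' : IrrCharacter (G ⧸ N), ψ' = ⟨ρbar.character, ⟨d, ρbar, hρbar, rfl⟩⟩ :=
    ⟨_, rfl⟩
  have hψ' : ∀ g : G, ψ.1 g = ψ'.1 (QuotientGroup.mk g) := by
    intro g
    rw [← hρχ, hψ'def]
    show ρ.character g = ρbar.character (QuotientGroup.mk g)
    rw [← hcomp]
    rfl
  refine ⟨ψ', funext hψ', ?_⟩
  intro q
  obtain ⟨y, m, hy, hm, hidx⟩ := exists_good_preimage p N hN q
  apply memLocalIdeal_of_natCast_mul p M hM m hm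
  have h1 := hsb y
  have h2 : centralChar χt.1 y - centralChar ψ.1 y =
      (m : ℂ) * (centralChar χ.1 q - centralChar ψ'.1 q) := by
    unfold centralChar
    rw [hχtv, hχtv, hψ', hψ', hy, hidx, QuotientGroup.mk_one]
    push_cast
    ring
  rw [h2] at h1
  exact h1

end Cfsg.Agent.Lib.Helper8
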