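import Mathlib
import Cfsg.Prelude.Def_Blocks
import Cfsg.Agent.Lib.Helper8.BlockInflate
import Cfsg.Agent.Lib.Helper8.BlockOsima

set_option autoImplicit false

open scoped Classical

namespace Cfsg.Agent.Lib.Helper8
open Cfsg
open scoped ComplexConjugate

variable {G : Type*} [Group G]

theorem memLocalIdeal_natCast_of_dvd (p : ℕ) (M : Ideal AlgInt) (hM : IsPModular p M) (n : ℕ)
    (h : p ∣ n) : MemLocalIdeal M (n : ℂ) := by
  have hprime : M.IsPrime := Ideal.IsMaximal.isPrime hM.2.1
  obtain ⟨k, rfl⟩ := h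
  refine ⟨((p * k : ℕ) : AlgInt), 1, ?_, (Ideal.ne_top_iff_one M).mp hprime.ne_top, by simp⟩
  push_cast
  exact M.mul_mem_right _ hM.2.2

/-- an element whose class has size prime to `p` is conjugate into the centralizer of a Sylow -/
theorem conj_mem_centralizer_sylow [Finite G] (p : ℕ) [Fact p.Prime] (P : Sylow p G) (g : G)
    (hidx : ¬ p ∣ (Subgroup.centralizer ({g} : Set G)).index) :
    ∃ y : G, IsConj g y ∧ y ∈ Subgroup.centralizer ((P : Subgroup G) : Set G) := by
  haveI : Fintype G := Fintype.ofFinite G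
  let X := {y : G // IsConj g y}
  letI : MulAction (P : Subgroup G) X :=
    { smul := fun x y => ⟨(x : G) * y.1 * (x : G)⁻¹,
        y.2.trans (isConj_iff.mpr ⟨(x : G), rfl⟩)⟩
      one_smul := by
        intro y
        apply Subtype.ext
        show ((1 : (P : Subgroup G)) : G) * y.1 * ((1 : (P : Subgroup G)) : G)⁻¹ = y.1
        simp
      mul_smul := by
        intro a b y
        apply Subtype.ext
        show ((a * b : (P : Subgroup G)) : G) * y.1 * ((a * b : (P : Subgroup G)) : G)⁻¹
          = (a : G) * ((b : G) * y.1 * (b : G)⁻¹) * (a : G)⁻¹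
        simp only [Subgroup.coe_mul, mul_inv_rev]
        group }
  have hcardX : Nat.card X = (Subgroup.centralizer ({g} : Set G)).index := by
    have h1 := card_isConj_filter g
    have h2 : (Finset.univ.filter (fun y : G => IsConj g y)).card =
        (Subgroup.centralizer ({g} : Set G)).index := Nat.cast_injective h1
    rw [← h2, Nat.card_eq_fintype_card, Fintype.card_subtype]
  obtain ⟨y₀, hy₀⟩ := IsPGroup.nonempty_fixed_point_of_prime_not_dvd_card P.isPGroup' X
    (by rw [hcardX]; exact hidx)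
  rw [MulAction.mem_fixedPoints] at hy₀
  refine ⟨y₀.1, y₀.2, ?_⟩
  rw [Subgroup.mem_centralizer_iff]
  intro x hx
  have h1 := congrArg Subtype.val (hy₀ ⟨x, hx⟩)
  have h2 : x * y₀.1 * x⁻¹ = y₀.1 := h1
  calc x * y₀.1 = x * y₀.1 * x⁻¹ * x := by group
    _ = y₀.1 * x := by rw [h2]

theorem quotient_chars_principal [Finite G] (p : ℕ) [Fact p.Prime] (M : Ideal AlgInt)
    (hM : IsPModular p M) (P : Sylow p G) (N : Subgroup G) [hNn : N.Normal]
    (hidx : ¬ p ∣ N.index)
    (hC : Subgroup.centralizer ((P : Subgroup G) : Set G) ≤ N) (χ : IrrCharacter G)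
    (hker : ∀ n ∈ N, χ.1 n = χ.1 1) : χ ∈ principalBlock M G := by
  haveI : Fintype G := Fintype.ofFinite G
  have hprime : M.IsPrime := Ideal.IsMaximal.isPrime hM.2.1
  obtain ⟨d, ρ, hρirr, hρχ⟩ := χ.2
  have hχ1 : χ.1 1 = (Module.finrank ℂ (Fin d → ℂ) : ℂ) := by
    rw [← hρχ, Representation.char_one]
  have hkerρ : ∀ n ∈ N, ρ n = 1 := by
    intro n hn
    have h1 : ρ.character n = (Module.finrank ℂ (Fin d → ℂ) : ℂ) := by
      rw [hρχ, hker n hn, ← hρχ, Representation.char_one]
    rw [character_eq_degree_iff] at h1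
    rw [h1]; rfl
  obtain ⟨ρbar, hρbar_def⟩ : ∃ ρbar : Representation ℂ (G ⧸ N) (Fin d → ℂ), ρbar =
      QuotientGroup.lift N ρ (fun x hx => MonoidHom.mem_ker.mpr (hkerρ x hx)) := ⟨_, rfl⟩
  have hcomp : (ρbar.comp (QuotientGroup.mk' N) : Representation ℂ G (Fin d → ℂ)) = ρ := by
    apply MonoidHom.ext
    intro g
    rw [hρbar_def]
    rfl
  have hρbar : ρbar.IsIrreducible := by
    apply irreducible_of_comp (QuotientGroup.mk' N)
    rw [hcomp]; exact hρirr
  have hdvd : Module.finrank ℂ (Fin d → ℂ) ∣ Nat.card (G ⧸ N) := degree_dvd_card hρbar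
  have hpd : ¬ p ∣ Module.finrank ℂ (Fin d → ℂ) := fun h => hidx (dvd_trans h hdvd)
  have hfr0 : (Module.finrank ℂ (Fin d → ℂ) : ℂ) ≠ 0 := by
    rw [← hχ1]; exact irr_one_ne_zero χ
  show SameBlock M (fun _ : G => (1 : ℂ)) χ.1
  intro g
  by_cases hp : p ∣ (Subgroup.centralizer ({g} : Set G)).index
  · have h1 : MemLocalIdeal M (((Subgroup.centralizer ({g} : Set G)).index : ℕ) : ℂ) :=
      memLocalIdeal_natCast_of_dvd p M hM _ hp
    have hinv : MemLocalRing M ((Module.finrank ℂ (Fin d → ℂ) : ℂ))⁻¹ := by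
      apply memLocalRing_inv
      · exact memLocalRing_of_isIntegral hprime.ne_top (by
          have := isIntegral_algebraMap (R := ℤ) (A := ℂ)
            (x := ((Module.finrank ℂ (Fin d → ℂ) : ℕ) : ℤ))
          simpa using this)
      · exact not_memLocalIdeal_natCast p M hM _ hpd
    have hχg : MemLocalRing M (χ.1 g) :=
      memLocalRing_of_isIntegral hprime.ne_top (isCharacter_isIntegral (irr_isCharacter χ.2) g)
    have e1 : centralChar (fun _ : G => (1 : ℂ)) g - centralChar χ.1 g =
        ((Subgroup.centralizer ({g} : Set G)).index : ℂ) -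
          (χ.1 g * ((Module.finrank ℂ (Fin d → ℂ) : ℂ))⁻¹) *
            ((Subgroup.centralizer ({g} : Set G)).index : ℂ) := by
      unfold centralChar
      rw [hχ1]
      field_simp
    rw [e1]
    exact memLocalIdeal_sub hprime h1
      (memLocalRing_mul_memLocalIdeal hprime (memLocalRing_mul hprime hχg hinv) h1)
  · obtain ⟨y, hy, hyC⟩ := conj_mem_centralizer_sylow p P g hp
    have hyN : y ∈ N := hC hyC
    have hgN : g ∈ N := by
      obtain ⟨c, hc⟩ := isConj_iff.mp hy
      have : g = c⁻¹ * y * c⁻¹⁻¹ := by rw [← hc]; group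
      rw [this]
      exact hNn.conj_mem y hyN c⁻¹
    have e1 : centralChar (fun _ : G => (1 : ℂ)) g - centralChar χ.1 g = 0 := by
      unfold centralChar
      rw [hker g hgN]
      have := irr_one_ne_zero χ
      field_simp
      ring
    rw [e1]
    exact memLocalIdeal_zero hprime.ne_top

end Cfsg.Agent.Lib.Helper8
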