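import Mathlib
import Cfsg.Prelude.Def_Blocks
import Cfsg.Agent.Lib.Helper8.BlockQuot
import Cfsg.Agent.Lib.Helper8.BlockDefect

set_option autoImplicit false

open scoped Classical

namespace Cfsg.Agent.Lib.Helper8
open Cfsg
open scoped ComplexConjugate

variable {G : Type*} [Group G] [Fintype G]

theorem centralChar_conj_invariant (χ : IrrCharacter G) {g y : G} (h : IsConj g y) :
    centralChar χ.1 y = centralChar χ.1 g := by
  have hcf := isClassFunction_of_isCharacter (irr_isCharacter χ.2)
  rw [← omegaC_cind χ.1 hcf y, ← omegaC_cind χ.1 hcf g]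
  congr 1
  ext k
  unfold cind
  have : IsConj y k ↔ IsConj g k := ⟨fun h' => h.trans h', fun h' => h.symm.trans h'⟩
  rw [if_congr this rfl rfl]

theorem isDefectClass_conj [Fintype (IrrCharacter G)] (M : Ideal AlgInt)
    (B : Set (IrrCharacter G)) {g y : G}
    (h : IsConj g y) (hg : IsDefectClass M B g) : IsDefectClass M B y := by
  obtain ⟨x, hx⟩ := isConj_iff.mp h
  have hb : blockCoeff B y = blockCoeff B g := by rw [← hx, blockCoeff_conj]
  obtain ⟨h1, h2, h3⟩ := hg
  refine ⟨by rw [hb]; exact h1, by rw [hb]; exact h2, ?_⟩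
  intro χ hχ
  rw [centralChar_conj_invariant χ h]
  exact h3 χ hχ

theorem principal_mem (M : Ideal AlgInt) (hM : M ≠ ⊤) :
    (⟨fun _ => (1 : ℂ), principal_isIrrCharacter⟩ : IrrCharacter G) ∈ principalBlock M G :=
  sameBlock_refl M hM _

theorem principal_defect_class_index (p : ℕ) (M : Ideal AlgInt) (hM : IsPModular p M)
    (g : G) (hg : IsDefectClass M (principalBlock M G) g) :
    ¬ p ∣ (Subgroup.centralizer ({g} : Set G)).index := by
  have hprime : M.IsPrime := Ideal.IsMaximal.isPrime hM.2.1
  intro hdvd
  have h1 := hg.2.2 _ (principal_mem (G := G) M hprime.ne_top)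
  apply h1
  have : centralChar (fun _ : G => (1 : ℂ)) g =
      (((Subgroup.centralizer ({g} : Set G)).index : ℕ) : ℂ) := by
    unfold centralChar; simp
  show MemLocalIdeal M (centralChar (fun _ : G => (1 : ℂ)) g)
  rw [this]
  exact memLocalIdeal_natCast_of_dvd p M hM _ hdvd

theorem factorization_centralizer_of_not_dvd (p : ℕ) [Fact p.Prime] (g : G)
    (h : ¬ p ∣ (Subgroup.centralizer ({g} : Set G)).index) :
    (Nat.card (Subgroup.centralizer ({g} : Set G))).factorization p =
      (Nat.card G).factorization p := by
  have h1 := Subgroup.card_mul_index (Subgroup.centralizer ({g} : Set G))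
  rw [← h1, Nat.factorization_mul Nat.card_pos.ne' Subgroup.index_ne_zero_of_finite]
  simp [Nat.factorization_eq_zero_of_not_dvd h]

theorem principal_defect_groups (p : ℕ) [Fact p.Prime] (M : Ideal AlgInt)
    (hM : IsPModular p M) (D : Subgroup G) :
    IsDefectGroup p M (principalBlock M G) D ↔ ∃ S : Sylow p G, (S : Subgroup G) = D := by
  haveI := irr_finite (G := G)
  haveI : Fintype (IrrCharacter G) := Fintype.ofFinite _
  have hprime : M.IsPrime := Ideal.IsMaximal.isPrime hM.2.1
  constructor
  · rintro ⟨g, hg, P, rfl⟩
    have hidx := principal_defect_class_index p M hM g hg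
    have hcard : Nat.card ((P : Subgroup (Subgroup.centralizer ({g} : Set G))).map
        (Subgroup.centralizer ({g} : Set G)).subtype) = p ^ (Nat.card G).factorization p := by
      rw [Subgroup.card_map_of_injective (Subgroup.subtype_injective _),
        Sylow.card_eq_multiplicity, factorization_centralizer_of_not_dvd p g hidx]
    exact ⟨Sylow.ofCard _ hcard, Sylow.coe_ofCard _ hcard⟩
  · rintro ⟨S, rfl⟩
    obtain ⟨g, hg⟩ := exists_defect_class p M hM (principalBlock M G)
      ⟨⟨fun _ => (1 : ℂ), principal_isIrrCharacter⟩, rfl⟩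
    have hidx := principal_defect_class_index p M hM g hg
    obtain ⟨y, hy, hyC⟩ := conj_mem_centralizer_sylow p S g hidx
    have hydef := isDefectClass_conj M _ hy hg
    have hidxy := principal_defect_class_index p M hM y hydef
    have hSle : (S : Subgroup G) ≤ Subgroup.centralizer ({y} : Set G) := by
      intro s hs
      rw [Subgroup.mem_centralizer_singleton_iff]
      exact (Subgroup.mem_centralizer_iff.mp hyC s hs)
    have hmap : ((S : Subgroup G).subgroupOf (Subgroup.centralizer ({y} : Set G))).map
        (Subgroup.centralizer ({y} : Set G)).subtype = (S : Subgroup G) := by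
      rw [Subgroup.subgroupOf_map_subtype, inf_eq_left.mpr hSle]
    have hcard : Nat.card ((S : Subgroup G).subgroupOf (Subgroup.centralizer ({y} : Set G))) =
        p ^ (Nat.card (Subgroup.centralizer ({y} : Set G))).factorization p := by
      rw [← Subgroup.card_map_of_injective (Subgroup.subtype_injective
        (Subgroup.centralizer ({y} : Set G))), hmap, Sylow.card_eq_multiplicity,
        factorization_centralizer_of_not_dvd p y hidxy]
    refine ⟨y, hydef, Sylow.ofCard _ hcard, ?_⟩
    rw [Sylow.coe_ofCard, hmap]

end Cfsg.Agent.Lib.Helper8
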