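import Mathlib
import Cfsg.Prelude.Def_Blocks
import Cfsg.Prelude.Def_Solvable
import Cfsg.Agent.Lib.Helper8.BlockPrincipal
import Cfsg.Agent.Lib.Helper8.CharDegree
import Cfsg.Agent.Lib.Helper1.Fitting

set_option autoImplicit false

open scoped Classical

namespace Cfsg.Agent.Lib.Helper8
open Cfsg
open scoped ComplexConjugate

variable {G : Type*} [Group G]

theorem dvd_of_memLocalRing_div (p : ℕ) [Fact p.Prime] (M : Ideal AlgInt) (hM : IsPModular p M)
    (n k : ℕ) (hn : n ≠ 0) (h : MemLocalRing M ((n : ℂ) / ((p ^ k : ℕ) : ℂ))) : p ^ k ∣ n := by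
  have hp : p.Prime := Fact.out
  have hprime : M.IsPrime := Ideal.IsMaximal.isPrime hM.2.1
  obtain ⟨e, t, ht, hnt⟩ := Nat.exists_eq_pow_mul_and_not_dvd hn p hp.ne_one
  by_cases hek : k ≤ e
  · rw [hnt]
    exact dvd_trans (pow_dvd_pow p hek) (dvd_mul_right _ _)
  · exfalso
    obtain ⟨j, hj⟩ : ∃ j, k = e + 1 + j := ⟨k - e - 1, by omega⟩
    obtain ⟨x, y, hy, hxy⟩ := h
    have hy0 := coe_ne_zero_of_not_mem hy
    have hpC : (p : ℂ) ≠ 0 := Nat.cast_ne_zero.mpr hp.ne_zero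
    have h1 : (x : ℂ) * ((p : ℂ) * (p : ℂ) ^ j) = (t : ℂ) * (y : ℂ) := by
      rw [hnt, hj] at hxy
      push_cast at hxy
      have hpe : (p : ℂ) ^ e ≠ 0 := pow_ne_zero _ hpC
      have hpj : (p : ℂ) ^ j ≠ 0 := pow_ne_zero _ hpC
      field_simp at hxy
      have h2 : (p : ℂ) ^ e * ((x : ℂ) * ((p : ℂ) * (p : ℂ) ^ j)) =
          (p : ℂ) ^ e * ((t : ℂ) * (y : ℂ)) := by
        rw [pow_add, pow_add] at hxy
        linear_combination hxy
      exact mul_left_cancel₀ hpe h2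
    have h3 : (t : AlgInt) * y = x * ((p : AlgInt) * (p : AlgInt) ^ j) := by
      apply Subtype.ext
      push_cast
      exact h1.symm
    have h4 : (t : AlgInt) * y ∈ M := by
      rw [h3]
      exact M.mul_mem_left _ (M.mul_mem_right _ hM.2.2)
    rcases hprime.mem_or_mem h4 with h5 | h5
    · exact natCast_not_mem_of_not_dvd p M hM t ht h5
    · exact hy h5

/-- a `p`-group has a single `p`-block -/
theorem pgroup_one_block [Fintype G] (p : ℕ) [Fact p.Prime] (M : Ideal AlgInt)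
    (hM : IsPModular p M) (hG : IsPGroup p G) (χ ψ : IrrCharacter G) :
    SameBlock M χ.1 ψ.1 := by
  haveI := irr_finite (G := G)
  haveI : Fintype (IrrCharacter G) := Fintype.ofFinite _
  have hp : p.Prime := Fact.out
  have hprime : M.IsPrime := Ideal.IsMaximal.isPrime hM.2.1
  by_contra hne
  obtain ⟨B, hB⟩ : ∃ B : Set (IrrCharacter G), B = blockOf M χ.1 := ⟨_, rfl⟩
  have hψB : ψ ∉ B := by rw [hB]; exact hne
  have hχB : χ ∈ B := by rw [hB]; exact sameBlock_refl M hprime.ne_top χ.1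
  obtain ⟨a, ha⟩ := IsPGroup.iff_card.mp hG
  have hos := osima_main p M hM B ⟨χ, hB⟩ 1
  rw [blockCoeff_eq] at hos
  obtain ⟨S, hSdef⟩ : ∃ S : ℕ, S = ∑ φ ∈ Finset.univ.filter (fun φ : IrrCharacter G => φ ∈ B),
      charDegree φ.1 ^ 2 := ⟨_, rfl⟩
  have hS : (∑ φ : IrrCharacter G, if φ ∈ B then φ.1 1 * conj (φ.1 1) else 0) = (S : ℂ) := by
    rw [← Finset.sum_filter, hSdef]
    push_cast
    apply Finset.sum_congr rfl
    intro φ _
    rw [irr_one_eq_charDegree φ, Complex.conj_natCast]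
    ring
  rw [hS, ha, inv_mul_eq_div] at hos
  have hdχ := charDegree_pos χ
  have hdψ := charDegree_pos ψ
  have hSge : charDegree χ.1 ^ 2 ≤ S := by
    rw [hSdef]
    exact Finset.single_le_sum (f := fun φ : IrrCharacter G => charDegree φ.1 ^ 2)
      (fun _ _ => Nat.zero_le _) (Finset.mem_filter.mpr ⟨Finset.mem_univ _, hχB⟩)
  have hS0 : S ≠ 0 := by
    have : 0 < charDegree χ.1 ^ 2 := pow_pos hdχ 2
    omega
  have hdvd := dvd_of_memLocalRing_div p M hM S a hS0 hos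
  have hle : p ^ a ≤ S := Nat.le_of_dvd (Nat.pos_of_ne_zero hS0) hdvd
  have htot := card_eq_sum_charDegree_sq (G := G)
  rw [ha, ← Finset.sum_filter_add_sum_filter_not Finset.univ
    (fun φ : IrrCharacter G => φ ∈ B), ← hSdef] at htot
  have hR : charDegree ψ.1 ^ 2 ≤ ∑ φ ∈ Finset.univ.filter (fun φ : IrrCharacter G => ¬ φ ∈ B),
      charDegree φ.1 ^ 2 :=
    Finset.single_le_sum (f := fun φ : IrrCharacter G => charDegree φ.1 ^ 2)
      (fun _ _ => Nat.zero_le _) (Finset.mem_filter.mpr ⟨Finset.mem_univ _, hψB⟩)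
  have : 0 < charDegree ψ.1 ^ 2 := pow_pos hdψ 2
  omega

theorem sameBlock_inflate [Finite G] (M : Ideal AlgInt) (hprime : M.IsPrime) (N : Subgroup G)
    [hNn : N.Normal] (χ ψ : (G ⧸ N) → ℂ) (h : SameBlock M χ ψ) :
    SameBlock M (χ ∘ (QuotientGroup.mk : G → G ⧸ N)) (ψ ∘ (QuotientGroup.mk : G → G ⧸ N)) := by
  intro g
  obtain ⟨Cq, hCq⟩ : ∃ C, C = Subgroup.centralizer ({(QuotientGroup.mk g : G ⧸ N)} : Set (G ⧸ N)) :=
    ⟨_, rfl⟩
  obtain ⟨Cs, hCs⟩ : ∃ C : Subgroup G, C = Cq.comap (QuotientGroup.mk' N) := ⟨_, rfl⟩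
  have hle : Subgroup.centralizer ({g} : Set G) ≤ Cs := by
    intro x hx
    rw [Subgroup.mem_centralizer_singleton_iff] at hx
    rw [hCs, Subgroup.mem_comap, hCq, Subgroup.mem_centralizer_singleton_iff]
    show (QuotientGroup.mk x : G ⧸ N) * QuotientGroup.mk g = QuotientGroup.mk g * QuotientGroup.mk x
    rw [← QuotientGroup.mk_mul, ← QuotientGroup.mk_mul, hx]
  have hidx : (Subgroup.centralizer ({g} : Set G)).index =
      (Subgroup.centralizer ({g} : Set G)).relIndex Cs * Cq.index := by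
    rw [← Subgroup.relIndex_mul_index hle, hCs,
      Subgroup.index_comap_of_surjective Cq (QuotientGroup.mk'_surjective N)]
  have h1 := h (QuotientGroup.mk g)
  have h2 : centralChar (χ ∘ (QuotientGroup.mk : G → G ⧸ N)) g -
      centralChar (ψ ∘ (QuotientGroup.mk : G → G ⧸ N)) g =
      (((Subgroup.centralizer ({g} : Set G)).relIndex Cs : ℕ) : ℂ) *
        (centralChar χ (QuotientGroup.mk g) - centralChar ψ (QuotientGroup.mk g)) := by
    unfold centralChar
    simp only [Function.comp_apply]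
    rw [hidx, ← hCq, QuotientGroup.mk_one]
    push_cast
    ring
  rw [h2]
  apply memLocalRing_mul_memLocalIdeal hprime _ h1
  apply memLocalRing_of_isIntegral hprime.ne_top
  have := isIntegral_algebraMap (R := ℤ) (A := ℂ)
    (x := (((Subgroup.centralizer ({g} : Set G)).relIndex Cs : ℕ) : ℤ))
  simpa using this

theorem exists_deflation [Finite G] (N : Subgroup G) [hNn : N.Normal] (χ : IrrCharacter G)
    (hker : ∀ n ∈ N, χ.1 n = χ.1 1) :
    ∃ ψ' : IrrCharacter (G ⧸ N), χ.1 = ψ'.1 ∘ (QuotientGroup.mk : G → G ⧸ N) := by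
  obtain ⟨d, ρ, hρirr, hρχ⟩ := χ.2
  have hkerρ : ∀ n ∈ N, ρ n = 1 := by
    intro n hn
    have h1 : ρ.character n = (Module.finrank ℂ (Fin d → ℂ) : ℂ) := by
      rw [hρχ, hker n hn, ← hρχ, Representation.char_one]
    rw [character_eq_degree_iff] at h1
    rw [h1]; rfl
  obtain ⟨ρbar, hρbar_def⟩ : ∃ ρbar : Representation ℂ (G ⧸ N) (Fin d → ℂ), ρbar =
      QuotientGroup.lift N ρ (fun x hx => MonoidHom.mem_ker.mpr (hkerρ x hx)) := ⟨_, rfl⟩
  have hcomp : (ρbar.comp (QuotientGroup.mk' N) : Representation ℂ G (Fin d → ℂ)) = ρ := by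
    apply MonoidHom.ext
    intro g
    rw [hρbar_def]
    rfl
  have hρbar : ρbar.IsIrreducible := by
    apply irreducible_of_comp (QuotientGroup.mk' N)
    rw [hcomp]; exact hρirr
  refine ⟨⟨ρbar.character, ⟨d, ρbar, hρbar, rfl⟩⟩, ?_⟩
  ext g
  rw [← hρχ]
  show ρ.character g = ρbar.character (QuotientGroup.mk g)
  rw [← hcomp]
  rfl

theorem principal_block_normal_p_complement [Finite G] (p : ℕ) [Fact p.Prime]
    (M : Ideal AlgInt) (hM : IsPModular p M)
    (hnc : ∃ k : ℕ, (pPrimeCore p G).index = p ^ k) :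
    principalBlock M G =
      {χ : IrrCharacter G | ∀ n ∈ pPrimeCore p G, χ.1 n = χ.1 1} := by
  have hp : p.Prime := Fact.out
  have hprime : M.IsPrime := Ideal.IsMaximal.isPrime hM.2.1
  haveI hNn : (pPrimeCore p G).Normal := Cfsg.Agent.Lib.Helper1.pPrimeCore_normal p
  have hNp : ¬ p ∣ Nat.card (pPrimeCore p G) :=
    (Nat.Prime.coprime_iff_not_dvd hp).mp (Cfsg.Agent.Lib.Helper1.pPrimeCore_coprime p).symm
  obtain ⟨one', hone'⟩ : ∃ o : IrrCharacter (G ⧸ pPrimeCore p G),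
      o = ⟨fun _ => 1, principal_isIrrCharacter⟩ := ⟨_, rfl⟩
  have hone'v : one'.1 ∘ (QuotientGroup.mk : G → G ⧸ pPrimeCore p G) = fun _ : G => (1 : ℂ) := by
    rw [hone']; rfl
  ext χ
  constructor
  · intro hχ
    have hsb : SameBlock M (one'.1 ∘ (QuotientGroup.mk : G → G ⧸ pPrimeCore p G)) χ.1 := by
      rw [hone'v]; exact hχ
    obtain ⟨ψ', hψ', _⟩ := inflated_block p M hM (pPrimeCore p G) hNp one' χ hsb
    intro n hn
    show χ.1 n = χ.1 1
    rw [hψ']
    simp only [Function.comp_apply]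
    rw [(QuotientGroup.eq_one_iff n).mpr hn, QuotientGroup.mk_one]
  · intro hχ
    obtain ⟨ψ', hψ'⟩ := exists_deflation (pPrimeCore p G) χ hχ
    haveI : Fintype (G ⧸ pPrimeCore p G) := Fintype.ofFinite _
    obtain ⟨k, hk⟩ := hnc
    have hPG : IsPGroup p (G ⧸ pPrimeCore p G) := IsPGroup.of_card (n := k) hk
    have h1 := pgroup_one_block p M hM hPG one' ψ'
    have h2 := sameBlock_inflate M hprime (pPrimeCore p G) one'.1 ψ'.1 h1
    rw [hone'v, ← hψ'] at h2
    exact h2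

end Cfsg.Agent.Lib.Helper8
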