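import Mathlib
import Cfsg.Prelude.Def_Blocks
import Cfsg.Agent.Lib.Helper8.BlockPGroup

set_option autoImplicit false

open scoped Classical

namespace Cfsg.Agent.Lib.Helper8
open Cfsg
open scoped ComplexConjugate

variable {G : Type*} [Group G]

/-- the sum of the squares of the degrees in a block is divisible by the full power of `p`
dividing the group order -/
theorem block_sq_sum_dvd [Fintype G] [Fintype (IrrCharacter G)] (p : ℕ) [Fact p.Prime]
    (M : Ideal AlgInt) (hM : IsPModular p M) (B : Set (IrrCharacter G)) (hB : IsPBlock M B) :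
    p ^ (Nat.card G).factorization p ∣
      ∑ φ ∈ Finset.univ.filter (fun φ : IrrCharacter G => φ ∈ B), charDegree φ.1 ^ 2 := by
  have hp : p.Prime := Fact.out
  have hprime : M.IsPrime := Ideal.IsMaximal.isPrime hM.2.1
  have hos := osima_main p M hM B hB 1
  rw [blockCoeff_eq] at hos
  obtain ⟨S, hSdef⟩ : ∃ S : ℕ, S = ∑ φ ∈ Finset.univ.filter (fun φ : IrrCharacter G => φ ∈ B),
      charDegree φ.1 ^ 2 := ⟨_, rfl⟩
  have hS : (∑ φ : IrrCharacter G, if φ ∈ B then φ.1 1 * conj (φ.1 1) else 0) = (S : ℂ) := by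
    rw [← Finset.sum_filter, hSdef]
    push_cast
    apply Finset.sum_congr rfl
    intro φ _
    rw [irr_one_eq_charDegree φ, Complex.conj_natCast]
    ring
  rw [hS] at hos
  rw [← hSdef]
  obtain ⟨χ₀, hBeq⟩ := hB
  have hχ₀B : χ₀ ∈ B := by rw [hBeq]; exact sameBlock_refl M hprime.ne_top χ₀.1
  have hSge : charDegree χ₀.1 ^ 2 ≤ S := by
    rw [hSdef]
    exact Finset.single_le_sum (f := fun φ : IrrCharacter G => charDegree φ.1 ^ 2)
      (fun _ _ => Nat.zero_le _) (Finset.mem_filter.mpr ⟨Finset.mem_univ _, hχ₀B⟩)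
  have hS0 : S ≠ 0 := by
    have : 0 < charDegree χ₀.1 ^ 2 := pow_pos (charDegree_pos χ₀) 2
    omega
  -- split the group order
  have hcard0 : Nat.card G ≠ 0 := Nat.card_pos.ne'
  obtain ⟨m', hm'⟩ : ∃ m', Nat.card G = p ^ (Nat.card G).factorization p * m' :=
    Nat.ordProj_dvd (Nat.card G) p
  apply dvd_of_memLocalRing_div p M hM S _ hS0
  have hm'R : MemLocalRing M (m' : ℂ) := by
    apply memLocalRing_of_isIntegral hprime.ne_top
    have := isIntegral_algebraMap (R := ℤ) (A := ℂ) (x := (m' : ℤ))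
    simpa using this
  have := memLocalRing_mul hprime hm'R hos
  have hm'0 : (m' : ℂ) ≠ 0 := by
    intro h0
    have : m' = 0 := by exact_mod_cast h0
    rw [this, mul_zero] at hm'
    exact hcard0 hm'
  have hpk0 : ((p ^ (Nat.card G).factorization p : ℕ) : ℂ) ≠ 0 := by
    exact_mod_cast (pow_pos hp.pos _).ne'
  have e1 : (m' : ℂ) * ((Nat.card G : ℂ)⁻¹ * (S : ℂ)) =
      (S : ℂ) / ((p ^ (Nat.card G).factorization p : ℕ) : ℂ) := by
    have : (Nat.card G : ℂ) = ((p ^ (Nat.card G).factorization p : ℕ) : ℂ) * (m' : ℂ) := by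
      exact_mod_cast hm'
    rw [this]
    field_simp
  rw [e1] at this
  exact this

theorem principal_only_trivial_iff [Finite G] (p : ℕ) [Fact p.Prime] (M : Ideal AlgInt)
    (hM : IsPModular p M) :
    (∀ χ : IrrCharacter G, χ ∈ principalBlock M G → ¬ p ∣ charDegree χ.1 →
      χ.1 = fun _ => (1 : ℂ)) ↔ ¬ p ∣ Nat.card G := by
  haveI : Fintype G := Fintype.ofFinite G
  haveI := irr_finite (G := G)
  haveI : Fintype (IrrCharacter G) := Fintype.ofFinite _
  have hp : p.Prime := Fact.out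
  have hprime : M.IsPrime := Ideal.IsMaximal.isPrime hM.2.1
  obtain ⟨χ₁, hχ₁⟩ : ∃ χ₁ : IrrCharacter G, χ₁ = ⟨fun _ => 1, principal_isIrrCharacter⟩ :=
    ⟨_, rfl⟩
  have hχ₁v : χ₁.1 = fun _ => (1 : ℂ) := by rw [hχ₁]
  have hBeq : principalBlock M G = blockOf M χ₁.1 := by rw [hχ₁v]; rfl
  have hχ₁B : χ₁ ∈ principalBlock M G := by
    rw [hBeq]; exact sameBlock_refl M hprime.ne_top χ₁.1
  have hd1 : charDegree χ₁.1 = 1 := by
    have h1 := irr_one_eq_charDegree χ₁
    rw [hχ₁v] at h1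
    have : ((1 : ℕ) : ℂ) = (charDegree (fun _ : G => (1 : ℂ)) : ℂ) := by
      rw [← h1]; simp
    rw [hχ₁v]
    exact (Nat.cast_injective this).symm
  constructor
  · intro H hdvd
    have hfac : 1 ≤ (Nat.card G).factorization p :=
      (hp.dvd_iff_one_le_factorization Nat.card_pos.ne').mp hdvd
    have h1 := block_sq_sum_dvd p M hM (principalBlock M G) ⟨χ₁, hBeq⟩
    have h2 : p ∣ ∑ φ ∈ Finset.univ.filter (fun φ : IrrCharacter G => φ ∈ principalBlock M G),
        charDegree φ.1 ^ 2 :=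
      dvd_trans (dvd_pow_self p (by omega)) h1
    rw [← Finset.add_sum_erase _ _ (Finset.mem_filter.mpr ⟨Finset.mem_univ χ₁, hχ₁B⟩)] at h2
    have h3 : p ∣ ∑ φ ∈ (Finset.univ.filter
        (fun φ : IrrCharacter G => φ ∈ principalBlock M G)).erase χ₁, charDegree φ.1 ^ 2 := by
      apply Finset.dvd_sum
      intro φ hφ
      have hφ1 : φ ≠ χ₁ := (Finset.mem_erase.mp hφ).1
      have hφB : φ ∈ principalBlock M G := (Finset.mem_filter.mp (Finset.mem_erase.mp hφ).2).2
      have hpd : p ∣ charDegree φ.1 := by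
        by_contra hnd
        apply hφ1
        apply Subtype.ext
        rw [H φ hφB hnd, hχ₁v]
      exact dvd_trans hpd (dvd_pow_self _ (by norm_num))
    rw [hd1] at h2
    have h4 : p ∣ 1 ^ 2 := (Nat.dvd_add_left h3).mp h2
    rw [one_pow] at h4
    exact hp.one_lt.ne' (Nat.dvd_one.mp h4)
  · intro hnd χ hχ _
    obtain ⟨A, hAdef⟩ : ∃ A : Set (IrrCharacter G), A = {χ₁} := ⟨_, rfl⟩
    have hmem : ∀ φ : IrrCharacter G, φ ∈ A ↔ φ = χ₁ := by
      intro φ; rw [hAdef]; exact Set.mem_singleton_iff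
    have hA : ∀ g : G, MemLocalRing M (blockCoeff A g) := by
      intro g
      rw [blockCoeff_eq]
      have : (∑ φ : IrrCharacter G, if φ ∈ A then φ.1 1 * conj (φ.1 g) else 0) = 1 := by
        rw [Finset.sum_eq_single χ₁]
        · rw [if_pos ((hmem χ₁).mpr rfl), hχ₁v]; simp
        · intro φ _ hφ
          rw [if_neg (fun h => hφ ((hmem φ).mp h))]
        · intro h; exact absurd (Finset.mem_univ _) h
      rw [this, mul_one]
      refine ⟨1, (Nat.card G : AlgInt), natCast_not_mem_of_not_dvd p M hM _ hnd, ?_⟩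
      simp
    have hsub := local_idem_union_blocks p M hM A hA χ₁ ((hmem χ₁).mpr rfl)
    rw [hBeq] at hχ
    have := hsub hχ
    rw [(hmem χ).mp this, hχ₁v]

end Cfsg.Agent.Lib.Helper8
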