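import Mathlib
import Cfsg.Prelude.Def_Blocks
import Cfsg.Agent.Lib.Helper8.BlockDefect
import Cfsg.Agent.Lib.Helper8.CharClifford2

set_option autoImplicit false

open scoped Classical

namespace Cfsg.Agent.Lib.Helper8
open Cfsg
open scoped ComplexConjugate

variable {G : Type*} [Group G]

theorem sameBlock_trans {M : Ideal AlgInt} (hprime : M.IsPrime) {χ ψ φ : G → ℂ}
    (h1 : SameBlock M χ ψ) (h2 : SameBlock M ψ φ) : SameBlock M χ φ := by
  intro g
  have := memLocalIdeal_add hprime (h1 g) (h2 g)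
  rwa [sub_add_sub_cancel] at this

/-- conjugate of an irreducible character of a normal subgroup, as an irreducible character -/
noncomputable def cjIrr {N : Subgroup G} (hN : N.Normal) (x : G) (θ : IrrCharacter N) :
    IrrCharacter N :=
  ⟨conjChar hN θ.1 x, conjChar_irr hN θ.2 x⟩

theorem cjIrr_one {N : Subgroup G} (hN : N.Normal) (θ : IrrCharacter N) : cjIrr hN 1 θ = θ :=
  Subtype.ext (conjChar_one hN θ.1)

theorem cjIrr_mul {N : Subgroup G} (hN : N.Normal) (θ : IrrCharacter N) (a b : G) :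
    cjIrr hN b (cjIrr hN a θ) = cjIrr hN (a * b) θ :=
  Subtype.ext (conjChar_mul hN θ.1 a b)

noncomputable def cjEquiv {N : Subgroup G} (hN : N.Normal) (x : G) :
    IrrCharacter N ≃ IrrCharacter N where
  toFun := cjIrr hN x
  invFun := cjIrr hN x⁻¹
  left_inv θ := by rw [cjIrr_mul, mul_inv_cancel, cjIrr_one]
  right_inv θ := by rw [cjIrr_mul, inv_mul_cancel, cjIrr_one]

theorem conj_one_eq {N : Subgroup G} (hN : N.Normal) (x : G) :
    (⟨x * ((1 : N) : G) * x⁻¹, hN.conj_mem _ (1 : N).2 x⟩ : N) = 1 :=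
  Subtype.ext (by simp)

theorem centralChar_conjChar {N : Subgroup G} (hN : N.Normal) (θ : N → ℂ) (x : G) (n : N) :
    centralChar (conjChar hN θ x) n =
      centralChar θ ⟨x * n * x⁻¹, hN.conj_mem n n.2 x⟩ := by
  unfold centralChar
  rw [conjChar_apply, conjChar_apply, conj_one_eq hN]
  have hidx : (Subgroup.centralizer ({n} : Set N)).index =
      (Subgroup.centralizer ({(⟨x * n * x⁻¹, hN.conj_mem n n.2 x⟩ : N)} : Set N)).index := by
    obtain ⟨φ, hφ⟩ : ∃ φ : N ≃* N, ∀ m : N, ((φ m : N) : G) = x * m * x⁻¹ :=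
      ⟨@MulAut.conjNormal G _ N hN x, fun m => @MulAut.conjNormal_apply G _ N hN x m⟩
    have hφn : φ n = ⟨x * n * x⁻¹, hN.conj_mem n n.2 x⟩ := Subtype.ext (hφ n)
    have hC : Subgroup.centralizer ({n} : Set N) =
        (Subgroup.centralizer ({φ n} : Set N)).comap φ.toMonoidHom := by
      ext m
      rw [Subgroup.mem_comap, Subgroup.mem_centralizer_singleton_iff,
        Subgroup.mem_centralizer_singleton_iff]
      show m * n = n * m ↔ φ m * φ n = φ n * φ m
      rw [← map_mul, ← map_mul]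
      exact ⟨fun h => by rw [h], fun h => φ.injective h⟩
    rw [← hφn, hC, Subgroup.index_comap_of_surjective _ φ.surjective]
  rw [hidx]

theorem sameBlock_cjIrr {M : Ideal AlgInt} {N : Subgroup G} (hN : N.Normal) (x : G)
    {θ θ' : IrrCharacter N} (h : SameBlock M θ.1 θ'.1) :
    SameBlock M (cjIrr hN x θ).1 (cjIrr hN x θ').1 := by
  intro n
  show MemLocalIdeal M (centralChar (conjChar hN θ.1 x) n - centralChar (conjChar hN θ'.1 x) n)
  rw [centralChar_conjChar, centralChar_conjChar]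
  exact h _

/-- the block idempotent of a union of blocks has local-integer coefficients -/
theorem blockCoeff_union_local {H : Type*} [Group H] [Fintype H] [Fintype (IrrCharacter H)]
    (p : ℕ) (M : Ideal AlgInt) (hM : IsPModular p M) :
    ∀ (k : ℕ) (A : Set (IrrCharacter H)), (Finset.univ.filter (fun θ => θ ∈ A)).card = k →
      (∀ θ ∈ A, blockOf M θ.1 ⊆ A) → ∀ g, MemLocalRing M (blockCoeff A g) := by
  have hprime : M.IsPrime := Ideal.IsMaximal.isPrime hM.2.1
  intro k
  induction k using Nat.strong_induction_on with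
  | _ k ih =>
    intro A hcard hA g
    by_cases hne : ∃ θ₀, θ₀ ∈ A
    · obtain ⟨θ₀, hθ₀⟩ := hne
      obtain ⟨B', hB'⟩ : ∃ B' : Set (IrrCharacter H), B' = blockOf M θ₀.1 := ⟨_, rfl⟩
      obtain ⟨A', hA'def⟩ : ∃ A' : Set (IrrCharacter H), A' = A \ B' := ⟨_, rfl⟩
      have hθ₀B' : θ₀ ∈ B' := by rw [hB']; exact sameBlock_refl M hprime.ne_top θ₀.1
      have hB'A : B' ⊆ A := by rw [hB']; exact hA θ₀ hθ₀
      have hA' : ∀ θ ∈ A', blockOf M θ.1 ⊆ A' := by
        intro θ hθ θ' hθ'
        rw [hA'def] at hθ ⊢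
        refine ⟨hA θ hθ.1 hθ', ?_⟩
        intro hB
        apply hθ.2
        rw [hB'] at hB ⊢
        have h1 : SameBlock M θ₀.1 θ'.1 := hB
        have h2 : SameBlock M θ.1 θ'.1 := hθ'
        exact sameBlock_trans hprime h1 (sameBlock_symm h2)
      have hlt : (Finset.univ.filter (fun θ => θ ∈ A')).card < k := by
        rw [← hcard]
        apply Finset.card_lt_card
        rw [Finset.ssubset_iff_of_subset]
        · refine ⟨θ₀, Finset.mem_filter.mpr ⟨Finset.mem_univ _, hθ₀⟩, ?_⟩
          intro h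
          have := (Finset.mem_filter.mp h).2
          rw [hA'def] at this
          exact this.2 hθ₀B'
        · intro θ hθ
          have := (Finset.mem_filter.mp hθ).2
          rw [hA'def] at this
          exact Finset.mem_filter.mpr ⟨Finset.mem_univ _, this.1⟩
      have hsplit : blockCoeff A g = blockCoeff A' g + blockCoeff B' g := by
        rw [blockCoeff_eq, blockCoeff_eq, blockCoeff_eq, ← mul_add, ← Finset.sum_add_distrib]
        congr 1
        apply Finset.sum_congr rfl
        intro θ _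
        by_cases hθB : θ ∈ B'
        · have h1 : θ ∈ A := hB'A hθB
          have h2 : θ ∉ A' := by rw [hA'def]; exact fun h => h.2 hθB
          rw [if_pos h1, if_neg h2, if_pos hθB, zero_add]
        · by_cases hθA : θ ∈ A
          · have h2 : θ ∈ A' := by rw [hA'def]; exact ⟨hθA, hθB⟩
            rw [if_pos hθA, if_pos h2, if_neg hθB, add_zero]
          · have h2 : θ ∉ A' := by rw [hA'def]; exact fun h => hθA h.1
            rw [if_neg hθA, if_neg h2, if_neg hθB, add_zero]
      rw [hsplit]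
      exact memLocalRing_add hprime (ih _ hlt A' rfl hA' g)
        (osima_main p M hM B' ⟨θ₀, hB'⟩ g)
    · rw [not_exists] at hne
      rw [blockCoeff_eq]
      have : ∑ χ : IrrCharacter H, (if χ ∈ A then χ.1 1 * conj (χ.1 g) else 0) = 0 := by
        apply Finset.sum_eq_zero
        intro χ _
        rw [if_neg (hne χ)]
      rw [this, mul_zero]
      exact memLocalRing_zero hprime.ne_top

/-- the union of the conjugates of a set of irreducible characters of a normal subgroup -/
def conjUnion {N : Subgroup G} (hN : N.Normal) (b : Set (IrrCharacter N)) :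
    Set (IrrCharacter N) := {θ | ∃ x : G, cjIrr hN x θ ∈ b}

theorem conjUnion_stable {N : Subgroup G} (hN : N.Normal) (b : Set (IrrCharacter N)) (y : G)
    (θ : IrrCharacter N) : cjIrr hN y θ ∈ conjUnion hN b ↔ θ ∈ conjUnion hN b := by
  constructor
  · rintro ⟨x, hx⟩
    rw [cjIrr_mul] at hx
    exact ⟨y * x, hx⟩
  · rintro ⟨x, hx⟩
    refine ⟨y⁻¹ * x, ?_⟩
    rw [cjIrr_mul, mul_inv_cancel_left]
    exact hx

theorem conjUnion_union_blocks {M : Ideal AlgInt} (hprime : M.IsPrime) {N : Subgroup G}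
    (hN : N.Normal) (b : Set (IrrCharacter N)) (hb : IsPBlock M b) :
    ∀ θ ∈ conjUnion hN b, blockOf M θ.1 ⊆ conjUnion hN b := by
  obtain ⟨θb, rfl⟩ := hb
  intro θ hθ θ' hθ'
  obtain ⟨x, hx⟩ := hθ
  refine ⟨x, ?_⟩
  have h1 : SameBlock M θb.1 (cjIrr hN x θ).1 := hx
  have h2 : SameBlock M θ.1 θ'.1 := hθ'
  exact sameBlock_trans hprime h1 (sameBlock_cjIrr hN x h2)

theorem blockCoeff_conjUnion_inv {N : Subgroup G} [Fintype N] [Fintype (IrrCharacter N)]
    (hN : N.Normal) (b : Set (IrrCharacter N)) (y : G) (n : N) :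
    blockCoeff (conjUnion hN b) ⟨y * n * y⁻¹, hN.conj_mem n n.2 y⟩ =
      blockCoeff (conjUnion hN b) n := by
  rw [blockCoeff_eq, blockCoeff_eq]
  congr 1
  apply Fintype.sum_equiv (cjEquiv hN y)
  intro θ
  show (if θ ∈ conjUnion hN b then θ.1 1 * conj (θ.1 ⟨y * n * y⁻¹, hN.conj_mem n n.2 y⟩) else 0) =
    if cjIrr hN y θ ∈ conjUnion hN b then
      (conjChar hN θ.1 y) 1 * conj ((conjChar hN θ.1 y) n) else 0
  rw [if_congr (conjUnion_stable hN b y θ) rfl rfl, conjChar_apply, conjChar_apply, conj_one_eq hN]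

theorem eval_conjUnion [Fintype G] {N : Subgroup G} [Fintype N] [Fintype (IrrCharacter N)]
    (hN : N.Normal) (b : Set (IrrCharacter N)) (φ : IrrCharacter G) (θ₀ : IrrCharacter N)
    (hφ : classInner (fun n : N => φ.1 n) θ₀.1 ≠ 0) :
    ∑ n : N, blockCoeff (conjUnion hN b) n * φ.1 n =
      if θ₀ ∈ conjUnion hN b then φ.1 1 else 0 := by
  have hφcf : IsClassFunction G φ.1 := isClassFunction_of_isCharacter (irr_isCharacter φ.2)
  have hcfN : IsClassFunction N (fun n : N => φ.1 n) :=
    isClassFunction_of_isCharacter (isCharacter_restrict N (irr_isCharacter φ.2))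
  have hcardN : (Nat.card N : ℂ) ≠ 0 := Nat.cast_ne_zero.mpr Nat.card_pos.ne'
  have h1 : ∀ n : N, blockCoeff (conjUnion hN b) n * φ.1 n =
      ∑ θ : IrrCharacter N, if θ ∈ conjUnion hN b then
        θ.1 1 * ((Nat.card N : ℂ)⁻¹ * (φ.1 n * conj (θ.1 n))) else 0 := by
    intro n
    rw [blockCoeff_eq, Finset.mul_sum, Finset.sum_mul]
    apply Finset.sum_congr rfl
    intro θ _
    split_ifs
    · ring
    · ring
  rw [Finset.sum_congr rfl (fun n _ => h1 n), Finset.sum_comm]
  have h2 : ∀ θ : IrrCharacter N, (∑ n : N, if θ ∈ conjUnion hN b then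
        θ.1 1 * ((Nat.card N : ℂ)⁻¹ * (φ.1 n * conj (θ.1 n))) else 0) =
      if θ₀ ∈ conjUnion hN b then classInner (fun n : N => φ.1 n) θ.1 * θ.1 1 else 0 := by
    intro θ
    have hin : (∑ n : N, θ.1 1 * ((Nat.card N : ℂ)⁻¹ * (φ.1 n * conj (θ.1 n)))) =
        classInner (fun n : N => φ.1 n) θ.1 * θ.1 1 := by
      unfold classInner
      rw [← Finset.mul_sum, ← Finset.mul_sum]
      ring
    by_cases hconj : ∃ g : G, θ.1 = conjChar hN θ₀.1 g
    · obtain ⟨g, hg⟩ := hconj
      have hθ : θ = cjIrr hN g θ₀ := Subtype.ext hg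
      have hiff : θ ∈ conjUnion hN b ↔ θ₀ ∈ conjUnion hN b := by
        rw [hθ]; exact conjUnion_stable hN b g θ₀
      by_cases hm : θ₀ ∈ conjUnion hN b
      · simp only [if_pos (hiff.mpr hm), if_pos hm]
        exact hin
      · simp only [if_neg (fun h => hm (hiff.mp h)), if_neg hm]
        exact Finset.sum_const_zero
    · have h0 := clifford_inner_nonconj hN φ.2 θ₀.2 hφ θ hconj
      have : ∀ n : N, (if θ ∈ conjUnion hN b then
          θ.1 1 * ((Nat.card N : ℂ)⁻¹ * (φ.1 n * conj (θ.1 n))) else 0) =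
          θ.1 1 * ((Nat.card N : ℂ)⁻¹ * (φ.1 n * conj (θ.1 n))) *
            (if θ ∈ conjUnion hN b then 1 else 0) := by
        intro n; split_ifs <;> ring
      rw [Finset.sum_congr rfl (fun n _ => this n), ← Finset.sum_mul, hin, h0]
      split_ifs <;> ring
  rw [Finset.sum_congr rfl (fun θ _ => h2 θ)]
  by_cases hm : θ₀ ∈ conjUnion hN b
  · simp only [if_pos hm]
    have h3 := congrFun (classFunction_eq_sum hcfN) 1
    rw [Finset.sum_apply] at h3
    have h4 : φ.1 ((1 : N) : G) = ∑ θ : IrrCharacter N,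
        classInner (fun n : N => φ.1 n) θ.1 * θ.1 1 := h3
    rw [← h4]
    rfl
  · simp only [if_neg hm]
    exact Finset.sum_const_zero

/-- the central function on `G` given by the idempotent of the conjugates of `b` -/
noncomputable def coverFun {N : Subgroup G} (hN : N.Normal) (b : Set (IrrCharacter N)) :
    G → ℂ := fun g => if hg : g ∈ N then blockCoeff (conjUnion hN b) ⟨g, hg⟩ else 0

theorem coverFun_class {N : Subgroup G} [Fintype N] [Fintype (IrrCharacter N)]
    (hN : N.Normal) (b : Set (IrrCharacter N)) (g x : G) :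
    coverFun hN b (x * g * x⁻¹) = coverFun hN b g := by
  unfold coverFun
  by_cases hg : g ∈ N
  · have hg' : x * g * x⁻¹ ∈ N := hN.conj_mem g hg x
    rw [dif_pos hg, dif_pos hg']
    exact blockCoeff_conjUnion_inv hN b x ⟨g, hg⟩
  · have hg' : x * g * x⁻¹ ∉ N := by
      intro h'
      apply hg
      have := hN.conj_mem _ h' x⁻¹
      simpa [mul_assoc] using this
    rw [dif_neg hg, dif_neg hg']

theorem coverFun_local {N : Subgroup G} [Fintype N] [Fintype (IrrCharacter N)]
    (p : ℕ) (M : Ideal AlgInt) (hM : IsPModular p M)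
    (hN : N.Normal) (b : Set (IrrCharacter N)) (hb : IsPBlock M b) (g : G) :
    MemLocalRing M (coverFun hN b g) := by
  have hprime : M.IsPrime := Ideal.IsMaximal.isPrime hM.2.1
  unfold coverFun
  split_ifs with hg
  · exact blockCoeff_union_local p M hM _ _ rfl (conjUnion_union_blocks hprime hN b hb) _
  · exact memLocalRing_zero hprime.ne_top

theorem coverFun_eval [Fintype G] {N : Subgroup G} [Fintype N] [Fintype (IrrCharacter N)]
    (hN : N.Normal) (b : Set (IrrCharacter N)) (φ : IrrCharacter G) (θ₀ : IrrCharacter N)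
    (hφ : classInner (fun n : N => φ.1 n) θ₀.1 ≠ 0) :
    ∑ g : G, coverFun hN b g * φ.1 g = if θ₀ ∈ conjUnion hN b then φ.1 1 else 0 := by
  unfold coverFun
  rw [sum_subgroup_dite N (fun n => blockCoeff (conjUnion hN b) n) φ.1]
  exact eval_conjUnion hN b φ θ₀ hφ

theorem cover_conj [Fintype G] (p : ℕ) (M : Ideal AlgInt) (hM : IsPModular p M)
    (N : Subgroup G) (hN : N.Normal) [Fintype N]
    (b : Set (IrrCharacter N)) (hb : IsPBlock M b)
    (χ χ' : IrrCharacter G) (hsb : SameBlock M χ.1 χ'.1)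
    (θ : IrrCharacter N) (hθ : θ ∈ b)
    (hcon : classInner (fun n : N => χ.1 n) θ.1 ≠ 0)
    (ψ : IrrCharacter N) (hψ : classInner (fun n : N => χ'.1 n) ψ.1 ≠ 0) :
    ψ ∈ conjUnion hN b := by
  haveI := irr_finite (G := N)
  haveI : Fintype (IrrCharacter N) := Fintype.ofFinite _
  have hprime : M.IsPrime := Ideal.IsMaximal.isPrime hM.2.1
  by_contra hψb
  have hθb : θ ∈ conjUnion hN b := ⟨1, by rw [cjIrr_one]; exact hθ⟩
  have hmain := sameBlock_eval M hprime (coverFun hN b) (coverFun_local p M hM hN b hb)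
    (coverFun_class hN b) χ χ' hsb
  have e1 := coverFun_eval hN b χ θ hcon
  have e2 := coverFun_eval hN b χ' ψ hψ
  rw [if_pos hθb] at e1
  rw [if_neg hψb] at e2
  have hχ1 := irr_one_ne_zero χ
  have hχ'1 := irr_one_ne_zero χ'
  have hone : ∑ g : G, coverFun hN b g * (χ.1 g / χ.1 1 - χ'.1 g / χ'.1 1) = 1 := by
    have : ∀ g : G, coverFun hN b g * (χ.1 g / χ.1 1 - χ'.1 g / χ'.1 1) =
        (χ.1 1)⁻¹ * (coverFun hN b g * χ.1 g) - (χ'.1 1)⁻¹ * (coverFun hN b g * χ'.1 g) := by
      intro g; ring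
    rw [Finset.sum_congr rfl (fun g _ => this g), Finset.sum_sub_distrib, ← Finset.mul_sum,
      ← Finset.mul_sum, e1, e2]
    field_simp
    ring
  rw [hone] at hmain
  exact not_memLocalIdeal_one hmain

end Cfsg.Agent.Lib.Helper8
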