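import Mathlib
import Cfsg.Prelude.Def_Blocks
import Cfsg.Agent.Lib.Helper8.BlockDefect

set_option autoImplicit false

open scoped Classical

namespace Cfsg.Agent.Lib.Helper8
open Cfsg
open scoped ComplexConjugate

variable {G : Type*} [Group G] [Fintype G]

/-- group a sum over a subgroup by the conjugacy classes of the big group -/
theorem sum_subgroup_by_classes [Fintype (ConjClasses G)] (H : Subgroup G) [Fintype H]
    (c : G → ℂ) (hc : IsClassFunction G c) (ξ : H → ℂ)
    (rep : ConjClasses G → G) (hrep : ∀ K, ConjClasses.mk (rep K) = K) :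
    ∑ h : H, c h * (ξ h / ξ 1) =
      ∑ K : ConjClasses G, c (rep K) * inducedCentralChar H ξ (rep K) := by
  rw [← Finset.sum_fiberwise Finset.univ (fun h : H => ConjClasses.mk (h : G))
    (fun h : H => c h * (ξ h / ξ 1))]
  apply Finset.sum_congr rfl
  intro K _
  rw [inducedCentralChar_eq_sum, Finset.mul_sum, Finset.sum_filter]
  apply Finset.sum_congr rfl
  intro h _
  have hiff : ConjClasses.mk (h : G) = K ↔ IsConj (rep K) (h : G) := by
    rw [← ConjClasses.mk_eq_mk_iff_isConj, hrep, eq_comm]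
  by_cases hK : ConjClasses.mk (h : G) = K
  · rw [if_pos hK, if_pos (hiff.mp hK), one_mul]
    obtain ⟨x, hx⟩ := isConj_iff.mp (hiff.mp hK)
    rw [← hx, hc]
  · rw [if_neg hK, if_neg (fun h' => hK (hiff.mpr h')), zero_mul, mul_zero]

theorem induced_block_has_char_over (p : ℕ) (M : Ideal AlgInt) (hM : IsPModular p M)
    (H : Subgroup G) [Fintype H] (b : Set (IrrCharacter H)) (B : Set (IrrCharacter G))
    (hind : IsInducedBlock M H b B) (ξ : IrrCharacter H) (hξ : ξ ∈ b) :
    ∃ χ ∈ B, classInner (fun h : H => χ.1 h) ξ.1 ≠ 0 := by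
  haveI := irr_finite (G := G)
  haveI : Fintype (IrrCharacter G) := Fintype.ofFinite _
  haveI : Fintype (ConjClasses G) := Fintype.ofFinite _
  have hprime : M.IsPrime := Ideal.IsMaximal.isPrime hM.2.1
  obtain ⟨hb, hBblk, hcong⟩ := hind
  have hos : ∀ g : G, MemLocalRing M (blockCoeff B g) := fun g => osima_main p M hM B hBblk g
  obtain ⟨χ₀, hBeq⟩ := hBblk
  have hχ₀B : χ₀ ∈ B := by
    rw [hBeq]
    exact sameBlock_refl M hprime.ne_top χ₀.1
  have hfcf : IsClassFunction G (blockCoeff B) := fun k x => blockCoeff_conj B k x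
  have hrep : ∀ c : ConjClasses G,
      ConjClasses.mk (Function.surjInv ConjClasses.mk_surjective c) = c :=
    fun c => Function.surjInv_eq ConjClasses.mk_surjective c
  obtain ⟨L, hL⟩ : ∃ L : ℂ, L = ∑ h : H, blockCoeff B h * (ξ.1 h / ξ.1 1) := ⟨_, rfl⟩
  -- the value one
  have h1 := omegaC_blockCoeff B χ₀
  rw [if_pos hχ₀B] at h1
  unfold omegaC at h1
  have hχ1 := irr_one_ne_zero χ₀
  obtain ⟨F, hFdef⟩ : ∃ F : G → ℂ, F = fun g => blockCoeff B g * χ₀.1 g / χ₀.1 1 := ⟨_, rfl⟩
  have hsum : ∑ g : G, F g = 1 := by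
    rw [hFdef, ← Finset.sum_div]
    exact h1
  have hFc : ∀ g h : G, F (h * g * h⁻¹) = F g := by
    intro g h
    rw [hFdef]
    show blockCoeff B (h * g * h⁻¹) * χ₀.1 (h * g * h⁻¹) / χ₀.1 1 = _
    rw [blockCoeff_conj, isClassFunction_of_isCharacter (irr_isCharacter χ₀.2) g h]
  rw [sum_eq_sum_classes F hFc _ hrep] at hsum
  have hLJ : MemLocalIdeal M (L - 1) := by
    rw [hL, sum_subgroup_by_classes H (blockCoeff B) hfcf ξ.1 _ hrep, ← hsum,
      ← Finset.sum_sub_distrib]
    apply memLocalIdeal_sum hprime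
    intro c _
    obtain ⟨r, hr⟩ : ∃ r : G, r = Function.surjInv ConjClasses.mk_surjective c := ⟨_, rfl⟩
    rw [← hr]
    have hval : blockCoeff B r * inducedCentralChar H ξ.1 r -
        ((Subgroup.centralizer ({r} : Set G)).index : ℂ) * F r =
        blockCoeff B r * (inducedCentralChar H ξ.1 r - centralChar χ₀.1 r) := by
      rw [hFdef]
      unfold centralChar
      ring
    rw [hval]
    exact memLocalRing_mul_memLocalIdeal hprime (hos r) (hcong ξ hξ χ₀ hχ₀B r)
  by_contra hno
  rw [not_exists] at hno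
  have hzero : ∀ χ : IrrCharacter G, χ ∈ B → ∑ h : H, ξ.1 h * conj (χ.1 h) = 0 := by
    intro χ hχ
    have h2 := hno χ
    rw [not_and, not_not] at h2
    have h3 := h2 hχ
    unfold classInner at h3
    have hcardH : (Nat.card H : ℂ) ≠ 0 := Nat.cast_ne_zero.mpr Nat.card_pos.ne'
    have h4 : ∑ h : H, χ.1 h * conj (ξ.1 h) = 0 := by
      rcases mul_eq_zero.mp h3 with h | h
      · exact absurd (inv_eq_zero.mp h) hcardH
      · exact h
    have h5 : ∑ h : H, ξ.1 h * conj (χ.1 h) = conj (∑ h : H, χ.1 h * conj (ξ.1 h)) := by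
      rw [map_sum]
      apply Finset.sum_congr rfl
      intro h _
      rw [map_mul, Complex.conj_conj, mul_comm]
    rw [h5, h4, map_zero]
  have hL0 : L = 0 := by
    rw [hL]
    have h2 : ∀ h : H, blockCoeff B (h : G) * (ξ.1 h / ξ.1 1) =
        (Nat.card G : ℂ)⁻¹ * (ξ.1 1)⁻¹ * ∑ χ : IrrCharacter G,
          (if χ ∈ B then χ.1 1 * (ξ.1 h * conj (χ.1 h)) else 0) := by
      intro h
      rw [blockCoeff_eq, Finset.mul_sum, Finset.mul_sum, Finset.sum_mul]
      apply Finset.sum_congr rfl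
      intro χ _
      split_ifs
      · ring
      · ring
    rw [Finset.sum_congr rfl (fun h _ => h2 h), ← Finset.mul_sum, Finset.sum_comm]
    have h3 : ∀ χ : IrrCharacter G, (∑ h : H,
        (if χ ∈ B then χ.1 1 * (ξ.1 h * conj (χ.1 h)) else 0)) = 0 := by
      intro χ
      by_cases hχ : χ ∈ B
      · simp only [if_pos hχ]
        rw [← Finset.mul_sum, hzero χ hχ, mul_zero]
      · simp only [if_neg hχ]
        exact Finset.sum_const_zero
    rw [Finset.sum_congr rfl (fun χ _ => h3 χ), Finset.sum_const_zero, mul_zero]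
  rw [hL0, zero_sub] at hLJ
  have := memLocalIdeal_neg hLJ
  rw [neg_neg] at this
  exact not_memLocalIdeal_one this

end Cfsg.Agent.Lib.Helper8
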