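import Mathlib
import Cfsg.Prelude.Def_Blocks
import Cfsg.Agent.Lib.Helper8.BlockCover
import Cfsg.Agent.Lib.Helper8.BlockInduce2
import Cfsg.Agent.Lib.Helper8.AbelChief

set_option autoImplicit false

open scoped Classical

namespace Cfsg.Agent.Lib.Helper8
open Cfsg
open scoped ComplexConjugate

variable {G : Type*} [Group G]

/-- Clifford's theorem with the orbit as a finset of irreducible characters -/
theorem clifford_filt [Fintype G] {N : Subgroup G} [Fintype N] [Fintype (IrrCharacter N)]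
    (hN : N.Normal) (χ : IrrCharacter G) (θ : IrrCharacter N)
    (hχθ : classInner (fun n : N => χ.1 n) θ.1 ≠ 0) (n : N) :
    χ.1 n = classInner (fun n : N => χ.1 n) θ.1 *
      ∑ φ ∈ Finset.univ.filter (fun φ : IrrCharacter N => ∃ g : G, φ.1 = conjChar hN θ.1 g),
        φ.1 n := by
  have hχcf : IsClassFunction G χ.1 := isClassFunction_of_isCharacter (irr_isCharacter χ.2)
  have hcfN : IsClassFunction N (fun n : N => χ.1 n) :=
    isClassFunction_of_isCharacter (isCharacter_restrict N (irr_isCharacter χ.2))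
  have h1 := congrFun (classFunction_eq_sum hcfN) n
  rw [Finset.sum_apply] at h1
  rw [← Finset.sum_filter_add_sum_filter_not Finset.univ
    (fun φ : IrrCharacter N => ∃ g : G, φ.1 = conjChar hN θ.1 g)] at h1
  have h2 : ∑ φ ∈ Finset.univ.filter (fun φ : IrrCharacter N =>
      ¬ ∃ g : G, φ.1 = conjChar hN θ.1 g),
      (classInner (fun n : N => χ.1 n) φ.1 • φ.1) n = 0 := by
    apply Finset.sum_eq_zero
    intro φ hφ
    simp only [Finset.mem_filter, Finset.mem_univ, true_and] at hφ
    rw [clifford_inner_nonconj hN χ.2 θ.2 hχθ φ hφ, zero_smul]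
    rfl
  rw [h2, add_zero] at h1
  show χ.1 n = _
  rw [h1, Finset.mul_sum]
  apply Finset.sum_congr rfl
  intro φ hφ
  simp only [Finset.mem_filter, Finset.mem_univ, true_and] at hφ
  obtain ⟨g, hg⟩ := hφ
  rw [hg, clifford_inner_conj hN hχcf θ.1 g]
  rfl

theorem inducedCentralChar_conjChar {N : Subgroup G} [Fintype N] (hN : N.Normal)
    (θ : N → ℂ) (g : G) (n : G) :
    inducedCentralChar N (conjChar hN θ g) n = inducedCentralChar N θ n := by
  rw [inducedCentralChar_eq_sum, inducedCentralChar_eq_sum]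
  obtain ⟨φ, hφ⟩ : ∃ φ : N ≃* N, ∀ m : N, ((φ m : N) : G) = g * m * g⁻¹ :=
    ⟨@MulAut.conjNormal G _ N hN g, fun m => @MulAut.conjNormal_apply G _ N hN g m⟩
  apply Fintype.sum_equiv φ.toEquiv
  intro h
  have hφh : φ h = ⟨g * h * g⁻¹, hN.conj_mem h h.2 g⟩ := Subtype.ext (hφ h)
  have hc : IsConj (h : G) ((φ h : N) : G) := by
    rw [hφ h]; exact isConj_iff.mpr ⟨g, rfl⟩
  have hiff : IsConj n (h : G) ↔ IsConj n ((φ h : N) : G) :=
    ⟨fun h' => h'.trans hc, fun h' => h'.trans hc.symm⟩
  show (if IsConj n (h : G) then (1 : ℂ) else 0) * (conjChar hN θ g h / conjChar hN θ g 1) =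
    (if IsConj n ((φ h : N) : G) then (1 : ℂ) else 0) * (θ (φ h) / θ 1)
  rw [if_congr hiff rfl rfl, conjChar_apply, conjChar_apply, conj_one_eq hN, hφh]

theorem sum_subgroup_ite_bp [Fintype G] (H : Subgroup G) [Fintype H] (f : G → ℂ) :
    ∑ h : H, f h = ∑ γ : G, (if γ ∈ H then f γ else 0) := by
  rw [← Finset.sum_subtype (Finset.univ.filter (fun k : G => k ∈ H)) (by intro x; simp) f,
    Finset.sum_filter]

theorem card_conj_in_normal [Fintype G] {N : Subgroup G} [Fintype N] (hN : N.Normal) (n : N) :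
    ∑ h : N, (if IsConj (n : G) (h : G) then (1 : ℂ) else 0) =
      ((Subgroup.centralizer ({(n : G)} : Set G)).index : ℂ) := by
  have h1 : ∑ h : N, (if IsConj (n : G) (h : G) then (1 : ℂ) else 0) =
      ∑ y : G, if y ∈ N then (if IsConj (n : G) y then (1 : ℂ) else 0) else 0 :=
    sum_subgroup_ite_bp N (fun y : G => if IsConj (n : G) y then (1 : ℂ) else 0)
  rw [h1, ← card_isConj_filter (n : G), Finset.card_filter]
  push_cast
  apply Finset.sum_congr rfl
  intro y _
  by_cases hc : IsConj (n : G) y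
  · have hy : y ∈ N := by
      obtain ⟨x, hx⟩ := isConj_iff.mp hc
      rw [← hx]
      exact hN.conj_mem n n.2 x
    rw [if_pos hy]
  · rw [if_neg hc]
    split_ifs <;> rfl

/-- if `χ` lies over `θ` then the central character of `χ` agrees on `N` with the induced
central character of `θ` -/
theorem centralChar_eq_induced [Fintype G] {N : Subgroup G} [Fintype N] (hN : N.Normal)
    (χ : IrrCharacter G) (θ : IrrCharacter N)
    (hχθ : classInner (fun n : N => χ.1 n) θ.1 ≠ 0) (n : N) :
    centralChar χ.1 (n : G) = inducedCentralChar N θ.1 (n : G) := by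
  haveI := irr_finite (G := N)
  haveI : Fintype (IrrCharacter N) := Fintype.ofFinite _
  have hχcf : IsClassFunction G χ.1 := isClassFunction_of_isCharacter (irr_isCharacter χ.2)
  obtain ⟨filt, hfilt⟩ : ∃ filt : Finset (IrrCharacter N), filt =
      Finset.univ.filter (fun φ : IrrCharacter N => ∃ g : G, φ.1 = conjChar hN θ.1 g) := ⟨_, rfl⟩
  obtain ⟨e, he⟩ : ∃ e : ℂ, e = classInner (fun n : N => χ.1 n) θ.1 := ⟨_, rfl⟩
  have he0 : e ≠ 0 := by rw [he]; exact hχθ
  have hcl : ∀ m : N, χ.1 m = e * ∑ φ ∈ filt, φ.1 m := by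
    intro m; rw [he, hfilt]; exact clifford_filt hN χ θ hχθ m
  have hθ1 : θ.1 1 ≠ 0 := irr_one_ne_zero θ
  have hχ1 : χ.1 1 ≠ 0 := irr_one_ne_zero χ
  have hmem : ∀ φ ∈ filt, ∃ g : G, φ.1 = conjChar hN θ.1 g := by
    intro φ hφ
    rw [hfilt] at hφ
    exact (Finset.mem_filter.mp hφ).2
  have hdeg1 : ∀ φ ∈ filt, φ.1 1 = θ.1 1 := by
    intro φ hφ
    obtain ⟨g, hg⟩ := hmem φ hφ
    rw [hg, conjChar_apply, conj_one_eq hN]
  have hdeg : χ.1 1 = e * ((filt.card : ℂ) * θ.1 1) := by
    have h1 := hcl 1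
    rw [Finset.sum_congr rfl hdeg1, Finset.sum_const, nsmul_eq_mul] at h1
    exact h1
  -- sum of induced central characters over the orbit
  have hsum1 : ∑ φ ∈ filt, inducedCentralChar N φ.1 (n : G) =
      (filt.card : ℂ) * inducedCentralChar N θ.1 (n : G) := by
    have : ∀ φ ∈ filt, inducedCentralChar N φ.1 (n : G) = inducedCentralChar N θ.1 (n : G) := by
      intro φ hφ
      obtain ⟨g, hg⟩ := hmem φ hφ
      rw [hg, inducedCentralChar_conjChar]
    rw [Finset.sum_congr rfl this, Finset.sum_const, nsmul_eq_mul]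
  have hsum2 : ∑ φ ∈ filt, inducedCentralChar N φ.1 (n : G) =
      ((Subgroup.centralizer ({(n : G)} : Set G)).index : ℂ) * χ.1 n / (e * θ.1 1) := by
    have h1 : ∀ φ ∈ filt, inducedCentralChar N φ.1 (n : G) =
        ∑ h : N, (if IsConj (n : G) (h : G) then 1 else 0) * (φ.1 h / θ.1 1) := by
      intro φ hφ
      rw [inducedCentralChar_eq_sum, hdeg1 φ hφ]
      apply Finset.sum_congr rfl
      intro h _
      by_cases hc : IsConj (n : G) (h : G)
      · rw [if_pos hc, if_pos hc]
      · rw [if_neg hc, if_neg hc]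
    rw [Finset.sum_congr rfl h1, Finset.sum_comm]
    have h2 : ∀ h : N, ∑ φ ∈ filt, (if IsConj (n : G) (h : G) then (1 : ℂ) else 0) *
        (φ.1 h / θ.1 1) =
        (if IsConj (n : G) (h : G) then (1 : ℂ) else 0) * (χ.1 n / (e * θ.1 1)) := by
      intro h
      rw [← Finset.mul_sum, ← Finset.sum_div]
      by_cases hc : IsConj (n : G) (h : G)
      · rw [if_pos hc, one_mul, one_mul]
        obtain ⟨x, hx⟩ := isConj_iff.mp hc
        have : χ.1 (n : G) = χ.1 (h : G) := by rw [← hx, hχcf]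
        rw [this, hcl h]
        field_simp
      · rw [if_neg hc, zero_mul, zero_mul]
    rw [Finset.sum_congr rfl (fun h _ => h2 h), ← Finset.sum_mul, card_conj_in_normal hN n]
    ring
  have hc : (filt.card : ℂ) ≠ 0 := by
    intro h0
    apply hχ1
    rw [hdeg, h0]; ring
  unfold centralChar
  have h3 : (filt.card : ℂ) * inducedCentralChar N θ.1 (n : G) =
      ((Subgroup.centralizer ({(n : G)} : Set G)).index : ℂ) * χ.1 n / (e * θ.1 1) := by
    rw [← hsum1, hsum2]
  rw [hdeg]
  field_simp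
  field_simp at h3
  first | linear_combination h3 | linear_combination -h3

theorem coverFun_sum_eval {N : Subgroup G} [Fintype N] [Fintype (IrrCharacter N)]
    (hN : N.Normal) (b : Set (IrrCharacter N)) (θ : IrrCharacter N) :
    ∑ h : N, coverFun hN b (h : G) * (θ.1 h / θ.1 1) =
      if θ ∈ conjUnion hN b then 1 else 0 := by
  have h1 : ∀ h : N, coverFun hN b (h : G) * (θ.1 h / θ.1 1) =
      (θ.1 1)⁻¹ * (blockCoeff (conjUnion hN b) h * θ.1 h) := by
    intro h
    unfold coverFun
    rw [dif_pos h.2]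
    ring
  rw [Finset.sum_congr rfl (fun h _ => h1 h), ← Finset.mul_sum, idem_eval]
  have := irr_one_ne_zero θ
  split_ifs
  · field_simp
  · ring

theorem passman [Fintype G] (p : ℕ) (M : Ideal AlgInt) (hM : IsPModular p M)
    (N : Subgroup G) (hN : N.Normal) [Fintype N]
    (B : Set (IrrCharacter G)) (hB : IsPBlock M B)
    (b : Set (IrrCharacter N)) (hb : IsPBlock M b) :
    (∃ χ ∈ B, ∃ θ ∈ b, classInner (fun n : N => χ.1 n) θ.1 ≠ 0) ↔
      ∀ χ ∈ B, ∀ θ ∈ b, ∀ n : N, MemLocalIdeal M
        (centralChar χ.1 (n : G) - inducedCentralChar N θ.1 (n : G)) := by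
  haveI := irr_finite (G := N)
  haveI : Fintype (IrrCharacter N) := Fintype.ofFinite _
  haveI : Fintype (ConjClasses G) := Fintype.ofFinite _
  have hprime : M.IsPrime := Ideal.IsMaximal.isPrime hM.2.1
  have hb' := hb
  obtain ⟨χ₀, hBeq⟩ := hB
  obtain ⟨θb, hbeq⟩ := hb
  have hχ₀B : χ₀ ∈ B := by rw [hBeq]; exact sameBlock_refl M hprime.ne_top χ₀.1
  have hθbb : θb ∈ b := by rw [hbeq]; exact sameBlock_refl M hprime.ne_top θb.1
  constructor
  · rintro ⟨χ₁, hχ₁, θ₁, hθ₁, hcon⟩ χ hχ θ hθ n
    have a1 : SameBlock M χ₀.1 χ₁.1 := by rw [hBeq] at hχ₁; exact hχ₁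
    have a2 : SameBlock M χ₀.1 χ.1 := by rw [hBeq] at hχ; exact hχ
    have a3 : SameBlock M θb.1 θ₁.1 := by rw [hbeq] at hθ₁; exact hθ₁
    have a4 : SameBlock M θb.1 θ.1 := by rw [hbeq] at hθ; exact hθ
    have hsb : SameBlock M χ₁.1 χ.1 := sameBlock_trans hprime (sameBlock_symm a1) a2
    have hsbθ : SameBlock M θ₁.1 θ.1 := sameBlock_trans hprime (sameBlock_symm a3) a4
    have heq := centralChar_eq_induced hN χ₁ θ₁ hcon n
    have h6 : centralChar χ.1 (n : G) - inducedCentralChar N θ.1 (n : G) =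
        -(centralChar χ₁.1 (n : G) - centralChar χ.1 (n : G)) +
          (inducedCentralChar N θ₁.1 (n : G) - inducedCentralChar N θ.1 (n : G)) := by
      rw [heq]; ring
    rw [h6]
    exact memLocalIdeal_add hprime (memLocalIdeal_neg (hsb n))
      (inducedCentralChar_congr M hprime N θ₁ θ hsbθ n)
  · intro hall
    have hne : (fun n : N => χ₀.1 n) ≠ 0 := by
      intro h0
      have := congrFun h0 1
      exact irr_one_ne_zero χ₀ this
    obtain ⟨θ₁, hθ₁⟩ := exists_constituent_of_ne_zero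
      (isCharacter_restrict N (irr_isCharacter χ₀.2)) hne
    have hclaim : θ₁ ∈ conjUnion hN b := by
      by_contra hnot
      have hθbU : θb ∈ conjUnion hN b := ⟨1, by rw [cjIrr_one]; exact hθbb⟩
      have hcf : IsClassFunction G (coverFun hN b) := fun g x => coverFun_class hN b g x
      have hrep : ∀ c : ConjClasses G,
          ConjClasses.mk (Function.surjInv ConjClasses.mk_surjective c) = c :=
        fun c => Function.surjInv_eq ConjClasses.mk_surjective c
      have e1 := coverFun_sum_eval hN b θ₁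
      have e2 := coverFun_sum_eval hN b θb
      rw [if_neg hnot, sum_subgroup_by_classes N (coverFun hN b) hcf θ₁.1 _ hrep] at e1
      rw [if_pos hθbU, sum_subgroup_by_classes N (coverFun hN b) hcf θb.1 _ hrep] at e2
      have hdiff : MemLocalIdeal M ((1 : ℂ) - 0) := by
        rw [← e1, ← e2, ← Finset.sum_sub_distrib]
        apply memLocalIdeal_sum hprime
        intro c _
        obtain ⟨r, hr⟩ : ∃ r : G, r = Function.surjInv ConjClasses.mk_surjective c := ⟨_, rfl⟩
        rw [← hr, ← mul_sub]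
        by_cases hrN : r ∈ N
        · apply memLocalRing_mul_memLocalIdeal hprime (coverFun_local p M hM hN b hb' r)
          have h1 := hall χ₀ hχ₀B θb hθbb ⟨r, hrN⟩
          have h2 := centralChar_eq_induced hN χ₀ θ₁ hθ₁ ⟨r, hrN⟩
          have h3 : inducedCentralChar N θb.1 r - inducedCentralChar N θ₁.1 r =
              -(centralChar χ₀.1 r - inducedCentralChar N θb.1 r) := by
            have h2' : centralChar χ₀.1 r = inducedCentralChar N θ₁.1 r := h2
            rw [h2']; ring
          rw [h3]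
          exact memLocalIdeal_neg h1
        · have : coverFun hN b r = 0 := by unfold coverFun; rw [dif_neg hrN]
          rw [this, zero_mul]
          exact memLocalIdeal_zero hprime.ne_top
      rw [sub_zero] at hdiff
      exact not_memLocalIdeal_one hdiff
    obtain ⟨x, hx⟩ := hclaim
    refine ⟨χ₀, hχ₀B, cjIrr hN x θ₁, hx, ?_⟩
    show classInner (fun n : N => χ₀.1 n) (conjChar hN θ₁.1 x) ≠ 0
    rw [clifford_inner_conj hN (isClassFunction_of_isCharacter (irr_isCharacter χ₀.2)) θ₁.1 x]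
    exact hθ₁

end Cfsg.Agent.Lib.Helper8
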