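import Mathlib
import Cfsg.Prelude.Def_Blocks
import Cfsg.Agent.Lib.Helper8.BlockCount
import Cfsg.Agent.Lib.Helper8.BlockPassman
import Cfsg.Agent.Lib.Helper8.CharDecomp
import Cfsg.Agent.Lib.Helper8.CharInd

set_option autoImplicit false

open scoped Classical

namespace Cfsg.Agent.Lib.Helper8
open Cfsg
open scoped ComplexConjugate

variable {G : Type*} [Group G] [Fintype G]

theorem clifford_degree {N : Subgroup G} [Fintype N] [Fintype (IrrCharacter N)]
    (hN : N.Normal) (χ : IrrCharacter G) (θ : IrrCharacter N)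
    (hχθ : classInner (fun n : N => χ.1 n) θ.1 ≠ 0) :
    χ.1 1 = classInner (fun n : N => χ.1 n) θ.1 *
      (((Finset.univ.filter (fun φ : IrrCharacter N =>
        ∃ g : G, φ.1 = conjChar hN θ.1 g)).card : ℂ) * θ.1 1) := by
  have h1 := clifford_filt hN χ θ hχθ 1
  have hdeg1 : ∀ φ ∈ Finset.univ.filter (fun φ : IrrCharacter N =>
      ∃ g : G, φ.1 = conjChar hN θ.1 g), φ.1 1 = θ.1 1 := by
    intro φ hφ
    obtain ⟨g, hg⟩ := (Finset.mem_filter.mp hφ).2
    rw [hg, conjChar_apply, conj_one_eq hN]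
  rw [Finset.sum_congr rfl hdeg1, Finset.sum_const, nsmul_eq_mul] at h1
  exact h1

/-- the value of the central character of a subgroup character on an `R~`-valued class function -/
theorem omega_local {H : Type*} [Group H] [Fintype H] (M : Ideal AlgInt) (hprime : M.IsPrime)
    (c : H → ℂ) (hc : ∀ h k : H, c (k * h * k⁻¹) = c h) (hcR : ∀ h, MemLocalRing M (c h))
    (θ : IrrCharacter H) : MemLocalRing M (∑ h : H, c h * θ.1 h / θ.1 1) := by
  haveI : Fintype (ConjClasses H) := Fintype.ofFinite _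
  obtain ⟨F, hFdef⟩ : ∃ F : H → ℂ, F = fun h => c h * θ.1 h / θ.1 1 := ⟨_, rfl⟩
  have hFc : ∀ g h : H, F (h * g * h⁻¹) = F g := by
    intro g h
    rw [hFdef]
    show c (h * g * h⁻¹) * θ.1 (h * g * h⁻¹) / θ.1 1 = _
    rw [hc, isClassFunction_of_isCharacter (irr_isCharacter θ.2) g h]
  have hrep : ∀ K : ConjClasses H,
      ConjClasses.mk (Function.surjInv ConjClasses.mk_surjective K) = K :=
    fun K => Function.surjInv_eq ConjClasses.mk_surjective K
  have hsum : ∑ h : H, c h * θ.1 h / θ.1 1 = ∑ h : H, F h := by rw [hFdef]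
  rw [hsum, sum_eq_sum_classes F hFc _ hrep]
  apply memLocalRing_sum hprime
  intro K _
  obtain ⟨r, hr⟩ : ∃ r : H, r = Function.surjInv ConjClasses.mk_surjective K := ⟨_, rfl⟩
  rw [← hr]
  have hval : ((Subgroup.centralizer ({r} : Set H)).index : ℂ) * F r =
      c r * centralChar θ.1 r := by
    rw [hFdef]; unfold centralChar; ring
  rw [hval]
  exact memLocalRing_mul hprime (hcR r)
    (memLocalRing_of_isIntegral hprime.ne_top (centralChar_isIntegral θ r))

theorem same_block_of_common_constituent (p : ℕ) [Fact p.Prime] (M : Ideal AlgInt)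
    (hM : IsPModular p M) (N : Subgroup G) (hN : N.Normal) [Fintype N]
    (hidx : ∃ k : ℕ, N.index = p ^ k) (χ ψ : IrrCharacter G) (θ : IrrCharacter N)
    (hχ : classInner (fun n : N => χ.1 n) θ.1 ≠ 0)
    (hψ : classInner (fun n : N => ψ.1 n) θ.1 ≠ 0) : SameBlock M χ.1 ψ.1 := by
  haveI := irr_finite (G := G)
  haveI : Fintype (IrrCharacter G) := Fintype.ofFinite _
  haveI := irr_finite (G := N)
  haveI : Fintype (IrrCharacter N) := Fintype.ofFinite _
  have hp : p.Prime := Fact.out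
  have hprime : M.IsPrime := Ideal.IsMaximal.isPrime hM.2.1
  -- multiplicities
  have hex : ∀ φ : IrrCharacter G, ∃ k : ℕ, classInner (fun n : N => φ.1 n) θ.1 = k :=
    fun φ => classInner_character_irr_nat (isCharacter_restrict N (irr_isCharacter φ.2)) θ.2
  choose e he using hex
  obtain ⟨t, htdef⟩ : ∃ t : ℕ, t = (Finset.univ.filter (fun φ : IrrCharacter N =>
      ∃ g : G, φ.1 = conjChar hN θ.1 g)).card := ⟨_, rfl⟩
  have hθ1 : θ.1 1 ≠ 0 := irr_one_ne_zero θ
  have hdeg : ∀ φ : IrrCharacter G, (e φ : ℂ) * φ.1 1 =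
      (e φ : ℂ) * ((e φ : ℂ) * ((t : ℂ) * θ.1 1)) := by
    intro φ
    by_cases h0 : e φ = 0
    · rw [h0]; simp
    · have hne : classInner (fun n : N => φ.1 n) θ.1 ≠ 0 := by
        rw [he φ]; exact_mod_cast h0
      rw [clifford_degree hN φ θ hne, he φ, htdef]
  -- Frobenius reciprocity: degree of the induced character
  have hind : (N.index : ℂ) * θ.1 1 = ∑ φ : IrrCharacter G, (e φ : ℂ) * φ.1 1 := by
    rw [← indFun_one]
    have h1 := congrFun (classFunction_eq_sum (indFun_isClassFunction N θ.1)) 1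
    rw [Finset.sum_apply] at h1
    rw [h1]
    apply Finset.sum_congr rfl
    intro φ _
    have hφcf := isClassFunction_of_isCharacter (irr_isCharacter φ.2)
    show classInner (indFun N θ.1) φ.1 * φ.1 1 = _
    rw [frobenius_reciprocity N θ.1 φ.1 hφcf, classInner_conj_symm, he φ, Complex.conj_natCast]
  obtain ⟨Q, hQdef⟩ : ∃ Q : ℕ, Q = ∑ φ : IrrCharacter G, e φ ^ 2 := ⟨_, rfl⟩
  have hQ : N.index = t * Q := by
    have h1 : (N.index : ℂ) * θ.1 1 = ((t * Q : ℕ) : ℂ) * θ.1 1 := by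
      rw [hind, Finset.sum_congr rfl (fun φ _ => hdeg φ), hQdef]
      push_cast
      rw [Finset.mul_sum, Finset.sum_mul]
      apply Finset.sum_congr rfl
      intro φ _
      ring
    exact Nat.cast_injective (mul_right_cancel₀ hθ1 h1)
  obtain ⟨k, hk⟩ := hidx
  have hQdvd : Q ∣ p ^ k := by rw [← hk, hQ]; exact dvd_mul_left _ _
  obtain ⟨s, _, hQs⟩ := (Nat.dvd_prime_pow hp).mp hQdvd
  -- the block of χ
  by_contra hne
  obtain ⟨B, hB⟩ : ∃ B : Set (IrrCharacter G), B = blockOf M χ.1 := ⟨_, rfl⟩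
  have hψB : ψ ∉ B := by rw [hB]; exact hne
  have hχB : χ ∈ B := by rw [hB]; exact sameBlock_refl M hprime.ne_top χ.1
  obtain ⟨S, hSdef⟩ : ∃ S : ℕ, S = ∑ φ ∈ Finset.univ.filter (fun φ : IrrCharacter G => φ ∈ B),
      e φ ^ 2 := ⟨_, rfl⟩
  have hcR : ∀ n : N, MemLocalRing M (blockCoeff B (n : G)) :=
    fun n => osima_main p M hM B ⟨χ, hB⟩ _
  have hcc : ∀ n m : N, blockCoeff B ((m * n * m⁻¹ : N) : G) = blockCoeff B (n : G) := by
    intro n m
    have : ((m * n * m⁻¹ : N) : G) = (m : G) * (n : G) * (m : G)⁻¹ := by simp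
    rw [this, blockCoeff_conj]
  have hr := omega_local M hprime (fun n : N => blockCoeff B (n : G)) hcc hcR θ
  -- compute the value
  have hcardN : (Nat.card N : ℂ) ≠ 0 := Nat.cast_ne_zero.mpr Nat.card_pos.ne'
  have hcardG : (Nat.card G : ℂ) ≠ 0 := Nat.cast_ne_zero.mpr Nat.card_pos.ne'
  have hinner : ∀ φ : IrrCharacter G, ∑ n : N, θ.1 n * conj (φ.1 n) =
      (Nat.card N : ℂ) * (e φ : ℂ) := by
    intro φ
    have h1 := classInner_conj_symm (fun n : N => φ.1 n) θ.1
    rw [he φ, Complex.conj_natCast] at h1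
    unfold classInner at h1
    rw [← h1]
    field_simp
  have hval : ∑ n : N, blockCoeff B (n : G) * θ.1 n / θ.1 1 =
      (S : ℂ) / ((p ^ s : ℕ) : ℂ) := by
    have h2 : ∀ n : N, blockCoeff B (n : G) * θ.1 n / θ.1 1 =
        (Nat.card G : ℂ)⁻¹ * (θ.1 1)⁻¹ * ∑ φ : IrrCharacter G,
          (if φ ∈ B then φ.1 1 * (θ.1 n * conj (φ.1 n)) else 0) := by
      intro n
      rw [blockCoeff_eq, Finset.mul_sum, Finset.mul_sum, Finset.sum_mul, Finset.sum_div]
      apply Finset.sum_congr rfl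
      intro φ _
      split_ifs
      · field_simp
      · simp
    rw [Finset.sum_congr rfl (fun n _ => h2 n), ← Finset.mul_sum, Finset.sum_comm]
    have h3 : ∀ φ : IrrCharacter G, (∑ n : N,
        (if φ ∈ B then φ.1 1 * (θ.1 n * conj (φ.1 n)) else 0)) =
        if φ ∈ B then (Nat.card N : ℂ) * ((t : ℂ) * θ.1 1) * ((e φ : ℂ) ^ 2) else 0 := by
      intro φ
      by_cases hφ : φ ∈ B
      · simp only [if_pos hφ]
        rw [← Finset.mul_sum, hinner φ]
        have := hdeg φ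
        linear_combination (Nat.card N : ℂ) * this
      · simp only [if_neg hφ]
        exact Finset.sum_const_zero
    rw [Finset.sum_congr rfl (fun φ _ => h3 φ), ← Finset.sum_filter, ← Finset.mul_sum]
    have hG : (Nat.card G : ℂ) = (Nat.card N : ℂ) * ((t : ℂ) * ((p ^ s : ℕ) : ℂ)) := by
      rw [← Subgroup.card_mul_index N, hQ, hQs]
      push_cast
      ring
    have hS' : ∑ φ ∈ Finset.univ.filter (fun φ : IrrCharacter G => φ ∈ B), (e φ : ℂ) ^ 2 =
        (S : ℂ) := by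
      rw [hSdef]; push_cast; rfl
    rw [hS', hG]
    have ht0 : (t : ℂ) ≠ 0 := by
      intro h0
      have : t = 0 := by exact_mod_cast h0
      rw [this, zero_mul] at hQ
      exact Subgroup.index_ne_zero_of_finite hQ
    have hps0 : ((p ^ s : ℕ) : ℂ) ≠ 0 := by exact_mod_cast (pow_pos hp.pos s).ne'
    field_simp
  rw [hval] at hr
  have heχ : e χ ≠ 0 := by
    intro h0
    apply hχ
    rw [he χ, h0]; simp
  have heψ : e ψ ≠ 0 := by
    intro h0
    apply hψ
    rw [he ψ, h0]; simp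
  have hSge : e χ ^ 2 ≤ S := by
    rw [hSdef]
    exact Finset.single_le_sum (f := fun φ : IrrCharacter G => e φ ^ 2)
      (fun _ _ => Nat.zero_le _) (Finset.mem_filter.mpr ⟨Finset.mem_univ _, hχB⟩)
  have hS0 : S ≠ 0 := by
    have : 0 < e χ ^ 2 := pow_pos (Nat.pos_of_ne_zero heχ) 2
    omega
  have hdvd := dvd_of_memLocalRing_div p M hM S s hS0 hr
  have hle : p ^ s ≤ S := Nat.le_of_dvd (Nat.pos_of_ne_zero hS0) hdvd
  have htot : Q = S + ∑ φ ∈ Finset.univ.filter (fun φ : IrrCharacter G => ¬ φ ∈ B), e φ ^ 2 := by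
    rw [hQdef, hSdef, Finset.sum_filter_add_sum_filter_not]
  have hR : e ψ ^ 2 ≤ ∑ φ ∈ Finset.univ.filter (fun φ : IrrCharacter G => ¬ φ ∈ B), e φ ^ 2 :=
    Finset.single_le_sum (f := fun φ : IrrCharacter G => e φ ^ 2)
      (fun _ _ => Nat.zero_le _) (Finset.mem_filter.mpr ⟨Finset.mem_univ _, hψB⟩)
  have : 0 < e ψ ^ 2 := pow_pos (Nat.pos_of_ne_zero heψ) 2
  omega

end Cfsg.Agent.Lib.Helper8
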