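import Mathlib
import Cfsg.Prelude.Def_Blocks
import Cfsg.Agent.Lib.Helper8.BlockPQuot

set_option autoImplicit false

open scoped Classical

namespace Cfsg.Agent.Lib.Helper8
open Cfsg
open scoped ComplexConjugate

variable {G : Type*} [Group G] [Fintype G]

theorem blockOf_eq_of_sameBlock {M : Ideal AlgInt} (hprime : M.IsPrime) {χ ψ : IrrCharacter G}
    (h : SameBlock M χ.1 ψ.1) : blockOf M χ.1 = blockOf M ψ.1 := by
  ext φ
  constructor
  · intro hφ
    exact sameBlock_trans hprime (sameBlock_symm h) hφ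
  · intro hφ
    exact sameBlock_trans hprime h hφ

theorem restrict_blockCoeff_eval [Fintype (IrrCharacter G)] (N : Subgroup G) [Fintype N]
    (B : Set (IrrCharacter G)) (θ : IrrCharacter N) :
    ∑ n : N, blockCoeff B (n : G) * θ.1 n = (Nat.card N : ℂ) / (Nat.card G : ℂ) *
      ∑ φ : IrrCharacter G, if φ ∈ B then φ.1 1 * classInner θ.1 (fun n : N => φ.1 n) else 0 := by
  have hcardN : (Nat.card N : ℂ) ≠ 0 := Nat.cast_ne_zero.mpr Nat.card_pos.ne'
  have hcardG : (Nat.card G : ℂ) ≠ 0 := Nat.cast_ne_zero.mpr Nat.card_pos.ne'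
  have h2 : ∀ n : N, blockCoeff B (n : G) * θ.1 n =
      (Nat.card G : ℂ)⁻¹ * ∑ φ : IrrCharacter G,
        (if φ ∈ B then φ.1 1 * (θ.1 n * conj (φ.1 n)) else 0) := by
    intro n
    rw [blockCoeff_eq, Finset.mul_sum, Finset.mul_sum, Finset.sum_mul]
    apply Finset.sum_congr rfl
    intro φ _
    split_ifs
    · ring
    · simp
  rw [Finset.sum_congr rfl (fun n _ => h2 n), ← Finset.mul_sum, Finset.sum_comm]
  have h3 : ∀ φ : IrrCharacter G, (∑ n : N,
      (if φ ∈ B then φ.1 1 * (θ.1 n * conj (φ.1 n)) else 0)) =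
      (Nat.card N : ℂ) *
        (if φ ∈ B then φ.1 1 * classInner θ.1 (fun n : N => φ.1 n) else 0) := by
    intro φ
    by_cases hφ : φ ∈ B
    · simp only [if_pos hφ]
      rw [← Finset.mul_sum]
      unfold classInner
      field_simp
    · simp only [if_neg hφ]
      rw [Finset.sum_const_zero, mul_zero]
  rw [Finset.sum_congr rfl (fun φ _ => h3 φ), ← Finset.mul_sum]
  field_simp

theorem induced_degree_decomp [Fintype (IrrCharacter G)] (N : Subgroup G) [Fintype N]
    (θ : IrrCharacter N) :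
    ∑ φ : IrrCharacter G, φ.1 1 * classInner θ.1 (fun n : N => φ.1 n) =
      (N.index : ℂ) * θ.1 1 := by
  rw [← indFun_one]
  have h1 := congrFun (classFunction_eq_sum (indFun_isClassFunction N θ.1)) 1
  rw [Finset.sum_apply] at h1
  rw [h1]
  apply Finset.sum_congr rfl
  intro φ _
  have hφcf := isClassFunction_of_isCharacter (irr_isCharacter φ.2)
  show _ = classInner (indFun N θ.1) φ.1 * φ.1 1
  rw [frobenius_reciprocity N θ.1 φ.1 hφcf, mul_comm]

theorem inner_swap_ne_zero (N : Subgroup G) [Fintype N] (φ : IrrCharacter G)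
    (θ : IrrCharacter N) :
    classInner θ.1 (fun n : N => φ.1 n) ≠ 0 ↔ classInner (fun n : N => φ.1 n) θ.1 ≠ 0 := by
  rw [classInner_conj_symm (fun n : N => φ.1 n) θ.1]
  simp

theorem exists_char_over (N : Subgroup G) [Fintype N] (θ : IrrCharacter N) :
    ∃ χ : IrrCharacter G, classInner (fun n : N => χ.1 n) θ.1 ≠ 0 := by
  haveI := irr_finite (G := G)
  haveI : Fintype (IrrCharacter G) := Fintype.ofFinite _
  by_contra hno
  rw [not_exists] at hno
  have h1 := induced_degree_decomp N θ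
  have h2 : ∑ φ : IrrCharacter G, φ.1 1 * classInner θ.1 (fun n : N => φ.1 n) = 0 := by
    apply Finset.sum_eq_zero
    intro φ _
    have := hno φ
    rw [← inner_swap_ne_zero, not_not] at this
    rw [this, mul_zero]
  rw [h2] at h1
  have hidx : (N.index : ℂ) ≠ 0 := Nat.cast_ne_zero.mpr Subgroup.index_ne_zero_of_finite
  exact mul_ne_zero hidx (irr_one_ne_zero θ) h1.symm

theorem covering_block_contains_over (p : ℕ) [Fact p.Prime] (M : Ideal AlgInt)
    (hM : IsPModular p M) (N : Subgroup G) (hN : N.Normal) [Fintype N]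
    (hidx : ∃ k : ℕ, N.index = p ^ k) (B₁ : Set (IrrCharacter G)) (hB₁ : IsPBlock M B₁)
    (χ₁ : IrrCharacter G) (hχ₁ : χ₁ ∈ B₁) (θ₁ θ₂ : IrrCharacter N)
    (hsb : SameBlock M θ₁.1 θ₂.1)
    (h1 : classInner (fun n : N => χ₁.1 n) θ₁.1 ≠ 0) :
    ∃ φ ∈ B₁, classInner (fun n : N => φ.1 n) θ₂.1 ≠ 0 := by
  haveI := irr_finite (G := G)
  haveI : Fintype (IrrCharacter G) := Fintype.ofFinite _
  have hprime : M.IsPrime := Ideal.IsMaximal.isPrime hM.2.1
  by_contra hno
  rw [not_exists] at hno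
  have hcR : ∀ n : N, MemLocalRing M (blockCoeff B₁ (n : G)) :=
    fun n => osima_main p M hM B₁ hB₁ _
  have hcc : ∀ n m : N, blockCoeff B₁ ((m * n * m⁻¹ : N) : G) = blockCoeff B₁ (n : G) := by
    intro n m
    have : ((m * n * m⁻¹ : N) : G) = (m : G) * (n : G) * (m : G)⁻¹ := by simp
    rw [this, blockCoeff_conj]
  have hmain := sameBlock_eval M hprime (fun n : N => blockCoeff B₁ (n : G)) hcR hcc θ₁ θ₂ hsb
  obtain ⟨χ₀, hBeq⟩ := hB₁
  have hcardN : (Nat.card N : ℂ) ≠ 0 := Nat.cast_ne_zero.mpr Nat.card_pos.ne'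
  have hcardG : (Nat.card G : ℂ) ≠ 0 := Nat.cast_ne_zero.mpr Nat.card_pos.ne'
  have e1 : ∑ n : N, blockCoeff B₁ (n : G) * θ₁.1 n = θ₁.1 1 := by
    rw [restrict_blockCoeff_eval]
    have h2 : ∀ φ : IrrCharacter G,
        (if φ ∈ B₁ then φ.1 1 * classInner θ₁.1 (fun n : N => φ.1 n) else 0) =
        φ.1 1 * classInner θ₁.1 (fun n : N => φ.1 n) := by
      intro φ
      by_cases hφ : φ ∈ B₁
      · rw [if_pos hφ]
      · rw [if_neg hφ]
        by_cases h0 : classInner θ₁.1 (fun n : N => φ.1 n) = 0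
        · rw [h0, mul_zero]
        · exfalso
          apply hφ
          have h3 := (inner_swap_ne_zero N φ θ₁).mp h0
          have h4 := same_block_of_common_constituent p M hM N hN hidx χ₁ φ θ₁ h1 h3
          rw [hBeq] at hχ₁ ⊢
          exact sameBlock_trans hprime hχ₁ h4
    rw [Finset.sum_congr rfl (fun φ _ => h2 φ), induced_degree_decomp,
      ← Subgroup.card_mul_index N]
    have hidx0 : (N.index : ℂ) ≠ 0 := Nat.cast_ne_zero.mpr Subgroup.index_ne_zero_of_finite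
    push_cast
    field_simp
  have e2 : ∑ n : N, blockCoeff B₁ (n : G) * θ₂.1 n = 0 := by
    rw [restrict_blockCoeff_eval]
    have h2 : ∀ φ : IrrCharacter G,
        (if φ ∈ B₁ then φ.1 1 * classInner θ₂.1 (fun n : N => φ.1 n) else 0) = 0 := by
      intro φ
      by_cases hφ : φ ∈ B₁
      · rw [if_pos hφ]
        have := hno φ
        rw [not_and, ← inner_swap_ne_zero, not_not] at this
        rw [this hφ, mul_zero]
      · rw [if_neg hφ]
    rw [Finset.sum_congr rfl (fun φ _ => h2 φ), Finset.sum_const_zero, mul_zero]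
  have hθ₁1 := irr_one_ne_zero θ₁
  have hθ₂1 := irr_one_ne_zero θ₂
  have hone : ∑ n : N, (fun n : N => blockCoeff B₁ (n : G)) n *
      (θ₁.1 n / θ₁.1 1 - θ₂.1 n / θ₂.1 1) = 1 := by
    have : ∀ n : N, (fun n : N => blockCoeff B₁ (n : G)) n *
        (θ₁.1 n / θ₁.1 1 - θ₂.1 n / θ₂.1 1) =
        (θ₁.1 1)⁻¹ * (blockCoeff B₁ (n : G) * θ₁.1 n) -
          (θ₂.1 1)⁻¹ * (blockCoeff B₁ (n : G) * θ₂.1 n) := by
      intro n; ring
    rw [Finset.sum_congr rfl (fun n _ => this n), Finset.sum_sub_distrib, ← Finset.mul_sum,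
      ← Finset.mul_sum, e1, e2]
    field_simp
    ring
  rw [hone] at hmain
  exact not_memLocalIdeal_one hmain

theorem unique_covering_block (p : ℕ) [Fact p.Prime] (M : Ideal AlgInt)
    (hM : IsPModular p M) (N : Subgroup G) (hN : N.Normal) [Fintype N]
    (hidx : ∃ k : ℕ, N.index = p ^ k) (b : Set (IrrCharacter N)) (hb : IsPBlock M b) :
    ∃! B : Set (IrrCharacter G), IsPBlock M B ∧ ∃ χ ∈ B, ∃ θ ∈ b,
      classInner (fun n : N => χ.1 n) θ.1 ≠ 0 := by
  have hprime : M.IsPrime := Ideal.IsMaximal.isPrime hM.2.1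
  obtain ⟨θb, hbeq⟩ := hb
  have hθbb : θb ∈ b := by rw [hbeq]; exact sameBlock_refl M hprime.ne_top θb.1
  obtain ⟨χ, hχ⟩ := exists_char_over N θb
  refine ⟨blockOf M χ.1, ⟨⟨χ, rfl⟩, χ, sameBlock_refl M hprime.ne_top χ.1, θb, hθbb, hχ⟩, ?_⟩
  rintro B' ⟨hB', χ', hχ', θ', hθ', hcon'⟩
  have hsb : SameBlock M θ'.1 θb.1 := by
    rw [hbeq] at hθ'
    exact sameBlock_symm hθ'
  obtain ⟨φ, hφB', hφ⟩ := covering_block_contains_over p M hM N hN hidx B' hB' χ' hχ' θ' θb
    hsb hcon'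
  have h1 := same_block_of_common_constituent p M hM N hN hidx χ φ θb hχ hφ
  obtain ⟨χ₀', hB'eq⟩ := hB'
  rw [hB'eq] at hφB' ⊢
  have h2 : SameBlock M χ₀'.1 φ.1 := hφB'
  exact blockOf_eq_of_sameBlock hprime (sameBlock_trans hprime h2 (sameBlock_symm h1))

end Cfsg.Agent.Lib.Helper8
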