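import Mathlib
import Cfsg.Prelude.Def_Characters
import Cfsg.Agent.Lib.Helper8.BrauerDefect2

set_option autoImplicit false

universe u

namespace Cfsg.Agent.Lib.Helper8
open Cfsg
open scoped ComplexConjugate

theorem ptilde_restrict {G : Type u} [Group G] [Fintype G] {V : Type*} [AddCommGroup V]
    [Module ℂ V] [FiniteDimensional ℂ V] (ρ : Representation ℂ G V) (hρ : ρ.IsIrreducible)
    (p n b : ℕ) [hp : Fact p.Prime] (hbn : b ≤ n) (hn : p ^ n ∣ Nat.card G)
    (hn' : ¬ p ^ (n + 1) ∣ Nat.card G)
    (hdeg : p ^ b ∣ Module.finrank ℂ V) (E : Subgroup G) (q : ℕ) (hq : q.Prime)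
    (hE : IsElementary q E) :
    IsGeneralizedCharacter E (fun e : E => if p ∣ orderOf (e : G) then 0 else
      ((p ^ (n - b) : ℕ) : ℂ) * ρ.character e) := by
  classical
  have : Fintype E := Fintype.ofFinite E
  obtain ⟨P, R, hP, hRcop, hcard, hcomm, hreg⟩ := elementary_split hq hE p
  have : Fintype R := Fintype.ofFinite R
  obtain ⟨m, hm⟩ := hn
  have hpm : ¬ p ∣ m := by
    rintro ⟨m', hm'⟩
    apply hn'
    rw [hm, hm', pow_succ]
    exact ⟨m', by ring⟩
  obtain ⟨d, hd⟩ := hdeg
  have hnt : Nontrivial V := irreducible_nontrivial hρ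
  have hfpos : 0 < Module.finrank ℂ V := Module.finrank_pos
  have hdpos : 0 < d := by
    rcases Nat.eq_zero_or_pos d with h | h
    · rw [h, mul_zero] at hd; omega
    · exact h
  have hχ : IsCharacter G ρ.character := isCharacter_of_rep ρ
  have hχcf := isClassFunction_of_isCharacter hχ
  have hnotdvdR : ¬ p ∣ Nat.card R := by
    intro h
    have h2 : p ∣ Nat.gcd (Nat.card R) p := Nat.dvd_gcd h dvd_rfl
    rw [hRcop] at h2
    exact hp.out.one_lt.ne' (Nat.dvd_one.mp h2)
  have hRiff : ∀ e : E, e ∈ R ↔ ¬ p ∣ orderOf (e : G) := by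
    intro e
    rw [Subgroup.orderOf_coe]
    constructor
    · intro he hdvd
      apply hnotdvdR
      have h1 : orderOf (⟨e, he⟩ : R) ∣ Nat.card R := orderOf_dvd_natCard _
      rw [← Subgroup.orderOf_coe] at h1
      exact hdvd.trans h1
    · exact hreg e
  set θE : E → ℂ := fun e : E => if p ∣ orderOf (e : G) then 0 else
    ((p ^ (n - b) : ℕ) : ℂ) * ρ.character e with hθE
  have hθE' : θE = extendByZero R (fun r : R => ((p ^ (n - b) : ℕ) : ℂ) *
      ρ.character ((r : E) : G)) := by
    ext e
    by_cases he : e ∈ R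
    · rw [extendByZero_mem R _ he, hθE]
      simp only
      rw [if_neg ((hRiff e).mp he)]
    · rw [extendByZero_not_mem R _ he, hθE]
      simp only
      rw [if_pos (by by_contra h; exact he ((hRiff e).mpr h))]
  apply isGen_of_classInner_int
  · intro e h
    rw [hθE]
    simp only
    have h1 : ((h * e * h⁻¹ : E) : G) = (h : G) * (e : G) * (h : G)⁻¹ := by simp
    have h2 : orderOf ((h : G) * (e : G) * (h : G)⁻¹) = orderOf (e : G) := by
      have := (MulAut.conj (h : G)).orderOf_eq (e : G)
      rwa [MulAut.conj_apply] at this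
    rw [h1, h2, hχcf]
  · intro ψ
    have hχR : IsCharacter R (fun r : R => ((p ^ (n - b) : ℕ) : ℂ) * ρ.character ((r : E) : G)) :=
      isCharacter_nsmul (isCharacter_comp (E.subtype.comp R.subtype) hχ) (p ^ (n - b))
    have hψR : IsCharacter R (fun r : R => ψ.1 (r : E)) :=
      isCharacter_restrict R (irr_isCharacter ψ.2)
    obtain ⟨a, ha⟩ := classInner_character_nat hχR hψR
    have hEne : (Nat.card E : ℂ) ≠ 0 := Nat.cast_ne_zero.mpr Nat.card_pos.ne'
    have hRne : (Nat.card R : ℂ) ≠ 0 := Nat.cast_ne_zero.mpr Nat.card_pos.ne'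
    have hPne : (Nat.card P : ℂ) ≠ 0 := Nat.cast_ne_zero.mpr Nat.card_pos.ne'
    have hsumR : ∑ r : R, (((p ^ (n - b) : ℕ) : ℂ) * ρ.character ((r : E) : G)) *
        conj (ψ.1 (r : E)) =
        (Nat.card R : ℂ) * (a : ℂ) := by
      rw [← ha]
      unfold classInner
      field_simp
    have hinner : classInner θE ψ.1 = (a : ℂ) / (Nat.card P : ℂ) := by
      unfold classInner
      rw [hθE', sum_extendByZero R _ (fun e => conj (ψ.1 e)), hsumR]
      have : (Nat.card E : ℂ) = (Nat.card P : ℂ) * (Nat.card R : ℂ) := by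
        rw [← hcard]; push_cast; ring
      rw [this]
      field_simp
    -- integrality
    have hβ : ∀ r : R, ∃ β : ℂ, IsIntegral ℤ β ∧
        (m : ℂ) * (((p ^ (n - b) : ℕ) : ℂ) * ρ.character ((r : E) : G)) =
          (Nat.card P : ℂ) * β := by
      intro r
      set e : G := ((r : E) : G) with he
      have hPC : P.map E.subtype ≤ Subgroup.centralizer ({e} : Set G) := by
        rintro x ⟨a', ha', rfl⟩
        rw [Subgroup.mem_centralizer_iff]
        intro y hy
        rw [Set.mem_singleton_iff] at hy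
        rw [hy]
        have := hcomm a' ha' (r : E) r.2
        have h2 := congrArg (fun z : E => (z : G)) this
        simp only [Subgroup.coe_mul] at h2
        exact h2.symm
      have hcardP' : Nat.card (P.map E.subtype) = Nat.card P :=
        Subgroup.card_map_of_injective E.subtype_injective
      obtain ⟨c, hc⟩ : Nat.card P ∣ Nat.card (Subgroup.centralizer ({e} : Set G)) := by
        rw [← hcardP']; exact Subgroup.card_dvd_of_le hPC
      have hω := class_mul_char_div_degree_isIntegral hρ e
      have hidx := Subgroup.card_mul_index (Subgroup.centralizer ({e} : Set G))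
      refine ⟨(c : ℂ) * (d : ℂ) * (((Subgroup.centralizer ({e} : Set G)).index : ℂ) *
        ρ.character e / (Module.finrank ℂ V : ℂ)), ?_, ?_⟩
      · have hc1 : IsIntegral ℤ ((c : ℕ) : ℂ) := by
          have := isIntegral_algebraMap (R := ℤ) (A := ℂ) (x := (c : ℤ))
          simpa using this
        have hd1 : IsIntegral ℤ ((d : ℕ) : ℂ) := by
          have := isIntegral_algebraMap (R := ℤ) (A := ℂ) (x := (d : ℤ))
          simpa using this
        exact (hc1.mul hd1).mul hω
      · have hf : (Module.finrank ℂ V : ℂ) = (p : ℂ) ^ b * (d : ℂ) := by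
          rw [hd]; push_cast; ring
        have hpnb : (p : ℂ) ^ n = (p : ℂ) ^ (n - b) * (p : ℂ) ^ b := by
          rw [← pow_add, Nat.sub_add_cancel hbn]
        have hpb : ((p : ℂ) ^ b) ≠ 0 := pow_ne_zero _ (Nat.cast_ne_zero.mpr hp.out.pos.ne')
        have hG : ((Nat.card (Subgroup.centralizer ({e} : Set G)) : ℂ)) *
            ((Subgroup.centralizer ({e} : Set G)).index : ℂ) = (p : ℂ) ^ n * (m : ℂ) := by
          rw [← Nat.cast_mul, hidx, hm]; push_cast; ring
        have hpn : ((p : ℂ) ^ n) ≠ 0 := pow_ne_zero _ (Nat.cast_ne_zero.mpr hp.out.pos.ne')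
        have hdne : (d : ℂ) ≠ 0 := Nat.cast_ne_zero.mpr hdpos.ne'
        rw [hf]
        have hc' : (Nat.card (Subgroup.centralizer ({e} : Set G)) : ℂ) =
            (Nat.card P : ℂ) * (c : ℂ) := by rw [hc]; push_cast; ring
        rw [hc', hpnb] at hG
        push_cast
        field_simp
        linear_combination (-(ρ.character e)) * hG
    choose β hβint hβeq using hβ
    have hB : IsIntegral ℤ (∑ r : R, β r * conj (ψ.1 (r : E))) := by
      apply IsIntegral.sum
      intro r _
      apply (hβint r).mul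
      exact map_isIntegral_int (starRingEnd ℂ)
        (isCharacter_isIntegral (irr_isCharacter ψ.2) (r : E))
    have hBeq : (Nat.card P : ℂ) * ∑ r : R, β r * conj (ψ.1 (r : E)) =
        (m : ℂ) * ((Nat.card R : ℂ) * (a : ℂ)) := by
      rw [← hsumR, Finset.mul_sum, Finset.mul_sum]
      apply Finset.sum_congr rfl
      intro r _
      rw [← mul_assoc, ← hβeq r, mul_assoc]
    have hBval : ∑ r : R, β r * conj (ψ.1 (r : E)) =
        (((m * Nat.card R * a : ℕ) : ℤ) : ℂ) / ((Nat.card P : ℤ) : ℂ) := by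
      rw [eq_div_iff (by exact_mod_cast hPne)]
      push_cast
      rw [mul_comm, hBeq]
      ring
    rw [hBval] at hB
    have hdvd : ((Nat.card P : ℕ) : ℤ) ∣ ((m * Nat.card R * a : ℕ) : ℤ) :=
      dvd_of_isIntegral_div (by exact_mod_cast (Nat.card_pos (α := P)).ne') hB
    have hdvd' : Nat.card P ∣ m * Nat.card R * a := Int.natCast_dvd_natCast.mp hdvd
    obtain ⟨b, hb⟩ := IsPGroup.exists_card_eq hP
    have hcop : Nat.Coprime (Nat.card P) (m * Nat.card R) := by
      rw [hb]
      apply Nat.Coprime.pow_left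
      rw [Nat.Prime.coprime_iff_not_dvd hp.out]
      intro h
      rcases (Nat.Prime.dvd_mul hp.out).mp h with h | h
      · exact hpm h
      · exact hnotdvdR h
    obtain ⟨k, hk⟩ := hcop.dvd_of_dvd_mul_left hdvd'
    refine ⟨(k : ℤ), ?_⟩
    rw [hinner, hk]
    push_cast
    field_simp


theorem isGen_restrict {G : Type*} [Group G] (H : Subgroup G) {θ : G → ℂ}
    (h : IsGeneralizedCharacter G θ) : IsGeneralizedCharacter H (fun x : H => θ x) := by
  obtain ⟨α, β, hα, hβ, rfl⟩ := h
  exact ⟨fun x : H => α x, fun x : H => β x, isCharacter_restrict H hα, isCharacter_restrict H hβ,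
    rfl⟩

theorem isGen_classInner_int {G : Type*} [Group G] [Fintype G] {θ : G → ℂ}
    (h : IsGeneralizedCharacter G θ) (ψ : IrrCharacter G) : ∃ k : ℤ, classInner θ ψ.1 = k := by
  classical
  have := irr_finite (G := G)
  have : Fintype (IrrCharacter G) := Fintype.ofFinite _
  obtain ⟨mm, hmm⟩ := generalized_decomp h
  have hθsum : θ = fun g => ∑ ψ : IrrCharacter G, (mm ψ : ℂ) * ψ.1 g := funext hmm
  exact ⟨mm ψ, by rw [hθsum]; exact classInner_comb_irr (fun ψ => (mm ψ : ℂ)) ψ⟩

theorem ptilde_gen {G : Type u} [Group G] [Fintype G] {V : Type*} [AddCommGroup V]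
    [Module ℂ V] [FiniteDimensional ℂ V] (ρ : Representation ℂ G V) (hρ : ρ.IsIrreducible)
    (p n b : ℕ) [hp : Fact p.Prime] (hbn : b ≤ n) (hn : p ^ n ∣ Nat.card G)
    (hn' : ¬ p ^ (n + 1) ∣ Nat.card G) (hdeg : p ^ b ∣ Module.finrank ℂ V) :
    IsGeneralizedCharacter G (fun g : G => if p ∣ orderOf g then 0 else
      ((p ^ (n - b) : ℕ) : ℂ) * ρ.character g) := by
  have hχcf := isClassFunction_of_isCharacter (isCharacter_of_rep ρ)
  apply brauer_characterization
  · intro g h
    simp only
    have h2 : orderOf (h * g * h⁻¹) = orderOf g := by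
      have := (MulAut.conj h).orderOf_eq g
      rwa [MulAut.conj_apply] at this
    rw [h2, hχcf]
  · intro E q hq hE
    exact ptilde_restrict ρ hρ p n b hbn hn hn' hdeg E q hq hE

/-- A generalized character vanishing on the nonidentity elements of a Sylow `p`-subgroup has
degree divisible by the order of the Sylow subgroup. -/
theorem sylow_card_dvd_of_vanish {G : Type u} [Group G] [Fintype G] (p : ℕ) [hp : Fact p.Prime]
    {η : G → ℂ} (hη : IsGeneralizedCharacter G η) (hvan : ∀ g : G, p ∣ orderOf g → η g = 0)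
    (P : Sylow p G) : ∃ k : ℤ, η 1 = (k : ℂ) * (Nat.card P : ℂ) := by
  classical
  have : Fintype (P : Subgroup G) := Fintype.ofFinite _
  obtain ⟨k, hk⟩ := isGen_classInner_int (isGen_restrict (P : Subgroup G) hη)
    ⟨fun _ => (1 : ℂ), principal_isIrrCharacter⟩
  refine ⟨k, ?_⟩
  rw [← hk]
  unfold classInner
  have hPne : (Nat.card (P : Subgroup G) : ℂ) ≠ 0 := Nat.cast_ne_zero.mpr Nat.card_pos.ne'
  have hsum : ∑ x : (P : Subgroup G), η (x : G) * (starRingEnd ℂ) (1 : ℂ) = η 1 := by
    rw [Finset.sum_eq_single (1 : (P : Subgroup G))]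
    · simp
    · intro x _ hx
      have hxo : p ∣ orderOf (x : G) := by
        obtain ⟨j, hj⟩ := (IsPGroup.iff_orderOf.mp P.isPGroup') x
        rw [Subgroup.orderOf_coe, hj]
        have hj0 : j ≠ 0 := by
          intro h0
          rw [h0, pow_zero, orderOf_eq_one_iff] at hj
          exact hx hj
        exact dvd_pow_self p hj0
      rw [hvan _ hxo, zero_mul]
    · intro h; exact absurd (Finset.mem_univ _) h
  rw [hsum]
  field_simp

end Cfsg.Agent.Lib.Helper8
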