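import Mathlib
import Cfsg.Prelude.Def_Characters
import Cfsg.Agent.Lib.Helper8.BrauerGlobal2

set_option autoImplicit false

universe u

namespace Cfsg.Agent.Lib.Helper8
open Cfsg

/-- CRT exponent: `≡ 1 mod n`, `≡ 0 mod m`. -/
noncomputable def piExp (n m : ℕ) : ℕ :=
  if h : n.Coprime m then (Nat.chineseRemainder h 1 0 : ℕ) else 0

theorem piExp_left {n m : ℕ} (h : n.Coprime m) : piExp n m ≡ 1 [MOD n] := by
  unfold piExp
  rw [dif_pos h]
  exact (Nat.chineseRemainder h 1 0).2.1

theorem piExp_right {n m : ℕ} (h : n.Coprime m) : m ∣ piExp n m := by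
  unfold piExp
  rw [dif_pos h]
  exact (Nat.modEq_zero_iff_dvd).mp (Nat.chineseRemainder h 1 0).2.2

section Pow
variable {G : Type*} [Group G]

theorem pow_piExp_of_left {n m : ℕ} (h : n.Coprime m) {g : G} (hg : g ^ n = 1) :
    g ^ piExp n m = g := by
  have h1 : piExp n m ≡ 1 [MOD orderOf g] :=
    (piExp_left h).of_dvd (orderOf_dvd_of_pow_eq_one hg)
  have := (pow_eq_pow_iff_modEq (x := g)).mpr h1
  rwa [pow_one] at this

theorem pow_piExp_of_right {n m : ℕ} (h : n.Coprime m) {g : G} (hg : g ^ m = 1) :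
    g ^ piExp n m = 1 := by
  obtain ⟨k, hk⟩ := piExp_right h
  rw [hk, pow_mul, hg, one_pow]

theorem pow_piExp_pow {n m : ℕ} (h : n.Coprime m) {g : G} (hg : g ^ (n * m) = 1) :
    (g ^ piExp n m) ^ n = 1 := by
  obtain ⟨k, hk⟩ := piExp_right h
  rw [← pow_mul, hk]
  have : m * k * n = n * m * k := by ring
  rw [this, pow_mul, hg, one_pow]

theorem pow_piExp_unique {n m : ℕ} (h : n.Coprime m) {u v : G} (huv : Commute u v)
    (hu : u ^ m = 1) (hv : v ^ n = 1) : (u * v) ^ piExp n m = v := by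
  rw [huv.mul_pow, pow_piExp_of_right h hu, pow_piExp_of_left h hv, one_mul]

theorem piExp_add_modEq {n m : ℕ} (h : n.Coprime m) :
    piExp n m + piExp m n ≡ 1 [MOD n * m] := by
  rw [← Nat.modEq_and_modEq_iff_modEq_mul h]
  constructor
  · have h1 := piExp_left h
    have h2 : piExp m n ≡ 0 [MOD n] := (Nat.modEq_zero_iff_dvd).mpr (piExp_right h.symm)
    simpa using h1.add h2
  · have h1 := piExp_left h.symm
    have h2 : piExp n m ≡ 0 [MOD m] := (Nat.modEq_zero_iff_dvd).mpr (piExp_right h)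
    simpa using h2.add h1

theorem pow_piExp_mul_compl {n m : ℕ} (h : n.Coprime m) {g : G} (hg : g ^ (n * m) = 1) :
    g ^ piExp m n * g ^ piExp n m = g := by
  rw [← pow_add]
  have h1 : piExp m n + piExp n m ≡ 1 [MOD orderOf g] := by
    have := (piExp_add_modEq h).of_dvd (orderOf_dvd_of_pow_eq_one hg)
    rwa [add_comm] at this
  have := (pow_eq_pow_iff_modEq (x := g)).mpr h1
  rwa [pow_one] at this

end Pow

/-- If the index of the center divides `a`, then `g ↦ g ^ a` is a homomorphism into the center. -/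
theorem pow_hom_of_center {E : Type*} [Group E] [Finite E] (a : ℕ)
    (ha : (Subgroup.center E).index ∣ a) :
    ∃ F : E →* E, (∀ g, F g = g ^ a) ∧ ∀ g, F g ∈ Subgroup.center E := by
  obtain ⟨t, rfl⟩ := ha
  have hmem : ∀ g : E, g ^ (Subgroup.center E).index ∈ Subgroup.center E := by
    intro g
    rw [← MonoidHom.transferCenterPow_apply]
    exact Subtype.coe_prop _
  have hmul : ∀ a b : E, (a * b) ^ (Subgroup.center E).index =
      a ^ (Subgroup.center E).index * b ^ (Subgroup.center E).index := by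
    intro a b
    have h := map_mul (MonoidHom.transferCenterPow E) a b
    have h2 := congrArg Subtype.val h
    rw [Subgroup.coe_mul, MonoidHom.transferCenterPow_apply, MonoidHom.transferCenterPow_apply,
      MonoidHom.transferCenterPow_apply] at h2
    exact h2
  refine ⟨MonoidHom.mk' (fun g => g ^ ((Subgroup.center E).index * t)) ?_, fun g => rfl, ?_⟩
  · intro a b
    simp only [pow_mul]
    rw [hmul]
    have hc : Commute (a ^ (Subgroup.center E).index) (b ^ (Subgroup.center E).index) :=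
      (Subgroup.mem_center_iff.mp (hmem a) _).symm
    exact hc.mul_pow t
  · intro g
    show g ^ ((Subgroup.center E).index * t) ∈ Subgroup.center E
    rw [pow_mul]
    exact Subgroup.pow_mem _ (hmem g) t

/-- On an elementary group whose order divides `n * m` (coprime), `g ↦ g ^ piExp n m` is
multiplicative. -/
theorem pow_piExp_mul_of_elementary {E : Type*} [Group E] [Finite E] {p : ℕ} (hp : p.Prime)
    (hE : IsElementary p E) {n m : ℕ} (hnm : n.Coprime m) (hcard : Nat.card E ∣ n * m)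
    (g h : E) : (g * h) ^ piExp n m = g ^ piExp n m * h ^ piExp n m := by
  obtain ⟨z, hz, hcop, k, hk⟩ := hE
  set c := orderOf z with hc
  have hcardE : Nat.card E = c * p ^ k := by
    rw [← Subgroup.card_mul_index (Subgroup.zpowers z), hk, Nat.card_zpowers]
  have hcp : Nat.Coprime c (p ^ k) := Nat.Coprime.pow_right k hcop
  have hZle : Subgroup.zpowers z ≤ Subgroup.center E := by
    rw [Subgroup.zpowers_le]; exact hz
  have hj : (Subgroup.center E).index ∣ p ^ k := by
    rw [← hk]; exact Subgroup.index_dvd_of_le hZle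
  set ε := piExp c (p ^ k) with hε
  obtain ⟨F₁, hF₁, hF₁c⟩ := pow_hom_of_center (E := E) ε (hj.trans (piExp_right hcp))
  set e := piExp n m with he
  have hcomm : ∀ x y : E, F₁ x * y = y * F₁ x := fun x y =>
    (Subgroup.mem_center_iff.mp (hF₁c x) y).symm
  -- orders
  have hordE : ∀ x : E, x ^ (c * p ^ k) = 1 := by
    intro x; rw [← hcardE]; exact pow_card_eq_one'
  -- F₂ x = x * (F₁ x)⁻¹
  have hF₂pow : ∀ x : E, (x * (F₁ x)⁻¹) ^ (p ^ k) = 1 := by
    intro x
    have hc1 : Commute x (F₁ x)⁻¹ := by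
      rw [hF₁]; exact (Commute.refl x).pow_right ε |>.inv_right
    rw [hc1.mul_pow, inv_pow, hF₁, ← pow_mul, mul_inv_eq_one]
    rw [pow_eq_pow_iff_modEq]
    have h1 : ε * p ^ k ≡ 1 * p ^ k [MOD c * p ^ k] := (piExp_left hcp).mul_right' _
    rw [one_mul] at h1
    exact (h1.of_dvd (orderOf_dvd_of_pow_eq_one (hordE x))).symm
  have hF₂mul : ∀ x y : E, (x * y) * (F₁ (x * y))⁻¹ = (x * (F₁ x)⁻¹) * (y * (F₁ y)⁻¹) := by
    intro x y
    rw [map_mul, mul_inv_rev]
    have h1 : (F₁ x)⁻¹ * (y * (F₁ y)⁻¹) = (y * (F₁ y)⁻¹) * (F₁ x)⁻¹ := by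
      have := hcomm x (y * (F₁ y)⁻¹)
      rw [← mul_inv_eq_iff_eq_mul, mul_assoc, ← eq_inv_mul_iff_mul_eq] at this
      rw [this]
    calc x * y * ((F₁ y)⁻¹ * (F₁ x)⁻¹) = x * ((y * (F₁ y)⁻¹) * (F₁ x)⁻¹) := by group
      _ = x * ((F₁ x)⁻¹ * (y * (F₁ y)⁻¹)) := by rw [h1]
      _ = _ := by group
  -- decomposition of e-th power
  have hdec : ∀ x : E, x ^ e = (F₁ x) ^ e * (x * (F₁ x)⁻¹) ^ e := by
    intro x
    have hc1 : Commute (F₁ x) (x * (F₁ x)⁻¹) := hcomm x _
    rw [← hc1.mul_pow]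
    congr 1
    rw [hcomm, inv_mul_cancel_right]
  have hA : ∀ x y : E, (F₁ (x * y)) ^ e = (F₁ x) ^ e * (F₁ y) ^ e := by
    intro x y
    rw [map_mul]
    exact (show Commute (F₁ x) (F₁ y) from hcomm x _).mul_pow e
  have hAc : ∀ x y : E, (F₁ x) ^ e * y = y * (F₁ x) ^ e := by
    intro x y
    exact ((show Commute (F₁ x) y from hcomm x y).pow_left e).eq
  have hB : ∀ x y : E, ((x * y) * (F₁ (x * y))⁻¹) ^ e =
      (x * (F₁ x)⁻¹) ^ e * (y * (F₁ y)⁻¹) ^ e := by
    intro x y
    have hpk : p ^ k ∣ n * m := by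
      refine Dvd.dvd.trans ?_ hcard
      rw [hcardE]; exact Dvd.intro_left _ rfl
    by_cases hpn : p ∣ n
    · have hpm : Nat.Coprime (p ^ k) m := by
        apply Nat.Coprime.pow_left
        rw [Nat.Prime.coprime_iff_not_dvd hp]
        intro hpm
        have := Nat.dvd_gcd hpn hpm
        rw [hnm] at this
        exact hp.one_lt.ne' (Nat.dvd_one.mp this)
      have hpkn : p ^ k ∣ n := hpm.dvd_of_dvd_mul_right hpk
      have hn1 : ∀ w : E, w ^ (p ^ k) = 1 → w ^ e = w := by
        intro w hw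
        apply pow_piExp_of_left hnm
        obtain ⟨t, ht⟩ := hpkn
        rw [ht, pow_mul, hw, one_pow]
      rw [hn1 _ (hF₂pow _), hn1 _ (hF₂pow _), hn1 _ (hF₂pow _)]
      exact hF₂mul x y
    · have hpn' : Nat.Coprime (p ^ k) n := by
        apply Nat.Coprime.pow_left
        rwa [Nat.Prime.coprime_iff_not_dvd hp]
      have hpkm : p ^ k ∣ m := hpn'.dvd_of_dvd_mul_left hpk
      have hm1 : ∀ w : E, w ^ (p ^ k) = 1 → w ^ e = 1 := by
        intro w hw
        apply pow_piExp_of_right hnm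
        obtain ⟨t, ht⟩ := hpkm
        rw [ht, pow_mul, hw, one_pow]
      rw [hm1 _ (hF₂pow _), hm1 _ (hF₂pow _), hm1 _ (hF₂pow _), one_mul]
  rw [hdec (g * h), hA, hB, hdec g, hdec h]
  rw [mul_assoc, mul_assoc]
  congr 1
  rw [← mul_assoc, hAc, mul_assoc]

/-- The homomorphism `g ↦ g ^ piExp n m` on an elementary group. -/
noncomputable def piHom {E : Type*} [Group E] [Finite E] {p : ℕ} (hp : p.Prime)
    (hE : IsElementary p E) {n m : ℕ} (hnm : n.Coprime m) (hcard : Nat.card E ∣ n * m) :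
    E →* E :=
  MonoidHom.mk' (fun g => g ^ piExp n m) (pow_piExp_mul_of_elementary hp hE hnm hcard)

theorem piHom_apply {E : Type*} [Group E] [Finite E] {p : ℕ} (hp : p.Prime)
    (hE : IsElementary p E) {n m : ℕ} (hnm : n.Coprime m) (hcard : Nat.card E ∣ n * m) (g : E) :
    piHom hp hE hnm hcard g = g ^ piExp n m := rfl

end Cfsg.Agent.Lib.Helper8
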