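import Mathlib
import Cfsg.Prelude.Def_Characters
import Cfsg.Agent.Lib.Helper8.PiPart
import Cfsg.Agent.Lib.Helper8.CharComplete2
import Cfsg.Agent.Lib.Helper8.CharSigned
import Cfsg.Agent.Lib.Helper8.BrauerTilde
import Cfsg.Agent.Lib.Helper8.BrauerDefect
import Cfsg.Agent.Lib.Helper8.CharKernel
import Cfsg.Agent.Lib.Helper8.CharLinear
import Cfsg.Agent.Lib.Helper8.CharDegree
import Cfsg.Agent.Lib.Helper8.CharBurnside
import Cfsg.Agent.Lib.Helper8.CharIntegral

set_option autoImplicit false

universe u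

namespace Cfsg.Agent.Lib.Helper8
open Cfsg
open scoped ComplexConjugate

theorem isElementary_zpowers {G : Type*} [Group G] [Finite G] (y : G) {p : ℕ} (hp : p.Prime) :
    IsElementary p (Subgroup.zpowers y) := by
  have hN : orderOf y ≠ 0 := (orderOf_pos y).ne'
  obtain ⟨a, b, hb, hab⟩ := Nat.exists_eq_pow_mul_and_not_dvd hN p hp.ne_one
  set y' : Subgroup.zpowers y := ⟨y, Subgroup.mem_zpowers y⟩ with hy'
  have hy'ord : orderOf y' = orderOf y := Subgroup.orderOf_mk y _
  have hgen : ∀ g : Subgroup.zpowers y, ∃ k : ℤ, y' ^ k = g := by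
    intro g
    obtain ⟨k, hk⟩ := Subgroup.mem_zpowers_iff.mp g.2
    exact ⟨k, Subtype.ext (by simpa using hk)⟩
  have hord : orderOf (y' ^ p ^ a) = b := by
    rw [orderOf_pow_of_dvd (pow_ne_zero _ hp.ne_zero) (by rw [hy'ord, hab]; exact Dvd.intro _ rfl),
      hy'ord, hab]
    exact Nat.mul_div_cancel_left _ (pow_pos hp.pos _)
  refine ⟨y' ^ (p ^ a), ?_, ?_, a, ?_⟩
  · rw [Subgroup.mem_center_iff]
    intro g
    obtain ⟨k, rfl⟩ := hgen g
    exact (((Commute.refl y').zpow_left k).pow_right _).eq
  · rw [hord]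
    exact ((Nat.Prime.coprime_iff_not_dvd hp).mpr hb).symm
  · have h1 := Subgroup.card_mul_index (Subgroup.zpowers (y' ^ p ^ a))
    rw [Nat.card_zpowers, hord, Nat.card_zpowers, hab, mul_comm] at h1
    have hbpos : 0 < b := Nat.pos_of_ne_zero (fun h => hb (by rw [h]; exact dvd_zero _))
    exact Nat.eq_of_mul_eq_mul_right hbpos h1

theorem class_centralizer_sum {H : Type u} [Group H] [Fintype H] (k : H)
    [∀ h : H, Decidable (IsConj k h)] :
    ∑ h : H, (if IsConj k h then (Nat.card (Subgroup.centralizer ({h} : Set H)) : ℂ) else 0) =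
      Nat.card H := by
  classical
  have := irr_finite (G := H)
  have : Fintype (IrrCharacter H) := Fintype.ofFinite _
  have h1 : ∀ h : H, (if IsConj k h then (Nat.card (Subgroup.centralizer ({h} : Set H)) : ℂ)
      else 0) = ∑ χ : IrrCharacter H, χ.1 k * conj (χ.1 h) := fun h => by
    rw [irr_sum_mul_conj k h]
  simp_rw [h1]
  rw [Finset.sum_comm]
  let P : IrrCharacter H := ⟨fun _ => 1, principal_isIrrCharacter⟩
  have h2 : ∀ χ : IrrCharacter H, ∑ h : H, χ.1 k * conj (χ.1 h) =
      if χ = P then (Nat.card H : ℂ) else 0 := by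
    intro χ
    rw [← Finset.mul_sum]
    have h3 := irr_classInner P.2 χ.2
    unfold classInner at h3
    simp only [P, one_mul] at h3
    have hH0 : (Nat.card H : ℂ) ≠ 0 := Nat.cast_ne_zero.mpr Nat.card_pos.ne'
    have h4 : ∑ h : H, conj (χ.1 h) = (Nat.card H : ℂ) *
        (if (fun _ : H => (1 : ℂ)) = χ.1 then 1 else 0) := by
      rw [← h3, ← mul_assoc, mul_inv_cancel₀ hH0, one_mul]
    rw [h4]
    by_cases hχ : χ = P
    · subst hχ
      simp [P]
    · have : ¬ (fun _ : H => (1 : ℂ)) = χ.1 := fun h => hχ (Subtype.ext h.symm)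
      rw [if_neg this, if_neg hχ]; simp
  simp_rw [h2]
  simp

theorem card_dvd_of_forall_pow {R : Type*} [Group R] [Finite R] {n m : ℕ} (hnm : n.Coprime m)
    (hpow : ∀ r : R, r ^ n = 1) (hcard : Nat.card R ∣ n * m) : Nat.card R ∣ n := by
  apply Nat.Coprime.dvd_of_dvd_mul_right _ hcard
  apply Nat.coprime_of_dvd
  intro q hq hqR hqm
  haveI := Fact.mk hq
  obtain ⟨x, hx⟩ := exists_prime_orderOf_dvd_card' q hqR
  have h1 : q ∣ n := by rw [← hx]; exact orderOf_dvd_of_pow_eq_one (hpow x)
  have h2 := Nat.dvd_gcd h1 hqm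
  rw [hnm] at h2
  exact hq.one_lt.ne' (Nat.dvd_one.mp h2)

/-- Brauer–Suzuki: a Hall subgroup controlling its own fusion into which every elementary
subgroup of suitable order can be conjugated has a normal complement. -/
theorem brauer_suzuki {G : Type u} [Group G] [Fintype G] (H : Subgroup G)
    (hHall : Nat.Coprime (Nat.card H) H.index)
    (hfus : ∀ x ∈ H, ∀ y ∈ H, IsConj x y → ∃ h ∈ H, h * x * h⁻¹ = y)
    (helem : ∀ (E : Subgroup G) (p : ℕ), p.Prime → IsElementary p E → Nat.card E ∣ Nat.card H →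
      ∃ g : G, E.map (MulAut.conj g).toMonoidHom ≤ H) :
    ∃ K : Subgroup G, K.Normal ∧ K ⊔ H = ⊤ ∧ K ⊓ H = ⊥ := by
  classical
  set n := Nat.card H with hn
  set m := H.index with hm
  have hnm : n * m = Nat.card G := Subgroup.card_mul_index H
  set e := piExp n m with he
  have hpowG : ∀ g : G, g ^ (n * m) = 1 := by
    intro g; rw [hnm]; exact pow_card_eq_one'
  let tp : G → G := fun g => g ^ e
  have htp_n : ∀ g, (tp g) ^ n = 1 := fun g => pow_piExp_pow hHall (hpowG g)
  have hHpow : ∀ h ∈ H, h ^ n = 1 := by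
    intro h hh'
    have : (⟨h, hh'⟩ : H) ^ Nat.card H = 1 := pow_card_eq_one'
    have h3 := congrArg Subtype.val this
    rw [Subgroup.coe_pow, Subgroup.coe_one] at h3
    exact h3
  have htp_H : ∀ h ∈ H, tp h = h := fun h hh' => pow_piExp_of_left hHall (hHpow h hh')
  have htp_one : tp 1 = 1 := one_pow _
  have hconjH : ∀ g, ∃ x : G, x * tp g * x⁻¹ ∈ H := by
    intro g
    obtain ⟨x, hx⟩ := helem (Subgroup.zpowers (tp g)) 2 Nat.prime_two
      (isElementary_zpowers _ Nat.prime_two)
      (by rw [Nat.card_zpowers]; exact orderOf_dvd_of_pow_eq_one (htp_n g))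
    refine ⟨x, hx ?_⟩
    rw [Subgroup.mem_map]
    exact ⟨tp g, Subgroup.mem_zpowers _, by simp [MulAut.conj_apply]⟩
  choose cx hcx using hconjH
  let hh : G → H := fun g => ⟨cx g * tp g * (cx g)⁻¹, hcx g⟩
  -- T1
  have T1 : ∀ (θ : H → ℂ), IsClassFunction H θ → ∀ (g x : G) (hx : x * tp g * x⁻¹ ∈ H),
      θ ⟨x * tp g * x⁻¹, hx⟩ = θ (hh g) := by
    intro θ hθ g x hx
    have hconj : IsConj (x * tp g * x⁻¹) (cx g * tp g * (cx g)⁻¹) := by
      rw [isConj_iff]
      exact ⟨cx g * x⁻¹, by group⟩
    obtain ⟨t, ht, hte⟩ := hfus _ hx _ (hcx g) hconj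
    have : hh g = (⟨t, ht⟩ : H) * ⟨x * tp g * x⁻¹, hx⟩ * (⟨t, ht⟩ : H)⁻¹ := by
      apply Subtype.ext
      simp only [hh, Subgroup.coe_mul, Subgroup.coe_inv]
      exact hte.symm
    rw [this, hθ]
  let tilde : (H → ℂ) → G → ℂ := fun θ g => θ (hh g)
  have T2 : ∀ θ : H → ℂ, IsClassFunction H θ → IsClassFunction G (tilde θ) := by
    intro θ hθ g y
    have hmem : (cx (y * g * y⁻¹) * y) * tp g * (cx (y * g * y⁻¹) * y)⁻¹ ∈ H := by
      have := hcx (y * g * y⁻¹)
      have h2 : tp (y * g * y⁻¹) = y * tp g * y⁻¹ := conj_pow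
      rw [h2] at this
      convert this using 1
      group
    have := T1 θ hθ g (cx (y * g * y⁻¹) * y) hmem
    show θ (hh (y * g * y⁻¹)) = θ (hh g)
    rw [← this]
    congr 1
    apply Subtype.ext
    simp only [hh]
    have h2 : tp (y * g * y⁻¹) = y * tp g * y⁻¹ := conj_pow
    rw [h2]
    group
  have T3 : ∀ θ : H → ℂ, IsClassFunction H θ → ∀ h : H, tilde θ (h : G) = θ h := by
    intro θ hθ h
    have hmem : (1 : G) * tp (h : G) * (1 : G)⁻¹ ∈ H := by
      rw [htp_H _ h.2]; simp
    have := T1 θ hθ (h : G) 1 hmem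
    show θ (hh (h : G)) = θ h
    rw [← this]
    congr 1
    apply Subtype.ext
    simp [htp_H _ h.2]
  have hh_one : hh 1 = 1 := by
    apply Subtype.ext
    simp [hh, htp_one]
  -- T4
  have T4 : ∀ θ : H → ℂ, IsCharacter H θ → ∀ (E : Subgroup G) (p : ℕ), p.Prime →
      IsElementary p E → IsCharacter E (fun e' : E => tilde θ e') := by
    intro θ hθ E p hp hE
    have hθcf := isClassFunction_of_isCharacter hθ
    have hcardE : Nat.card E ∣ n * m := by rw [hnm]; exact Subgroup.card_subgroup_dvd_card E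
    let F := piHom hp hE hHall hcardE
    let R : Subgroup G := (F.range).map E.subtype
    have hRel : IsElementary p R :=
      isElementary_of_mulEquiv
        (Subgroup.equivMapOfInjective F.range E.subtype E.subtype_injective)
        (isElementary_subgroup hp hE F.range)
    have hRpow : ∀ r : R, r ^ n = 1 := by
      rintro ⟨r, hr⟩
      obtain ⟨x, ⟨g, rfl⟩, rfl⟩ := Subgroup.mem_map.mp hr
      apply Subtype.ext
      simp only [Subgroup.coe_pow, Subgroup.coe_one, Subgroup.coe_subtype, F, piHom_apply]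
      exact htp_n (g : G)
    have hRcard : Nat.card R ∣ n * m := by rw [hnm]; exact Subgroup.card_subgroup_dvd_card R
    obtain ⟨x, hx⟩ := helem R p hp hRel (card_dvd_of_forall_pow hHall hRpow hRcard)
    let Φ : E →* H := MonoidHom.codRestrict
      ((MulAut.conj x).toMonoidHom.comp (E.subtype.comp F)) H
      (fun g => hx (Subgroup.mem_map_of_mem _ (Subgroup.mem_map_of_mem _ ⟨g, rfl⟩)))
    have hΦ : (fun e' : E => tilde θ e') = θ ∘ Φ := by
      funext g
      have hmem : x * tp (g : G) * x⁻¹ ∈ H := by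
        have := (Φ g).2
        simpa [Φ, F, piHom_apply, MulAut.conj_apply, tp] using this
      have := T1 θ hθcf (g : G) x hmem
      show θ (hh (g : G)) = θ (Φ g)
      rw [← this]
      congr 1
    rw [hΦ]
    exact isCharacter_comp Φ hθ
  have T5 : ∀ θ : H → ℂ, IsCharacter H θ → IsGeneralizedCharacter G (tilde θ) := by
    intro θ hθ
    exact brauer_characterization (tilde θ) (T2 θ (isClassFunction_of_isCharacter hθ))
      (fun E p hp hE => isGen_of_char (T4 θ hθ E p hp hE))
  -- Step B
  have := irr_finite (G := H)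
  haveI : Fintype (IrrCharacter H) := Fintype.ofFinite _
  have hgen : ∀ θ : IrrCharacter H, IsGeneralizedCharacter G (tilde θ.1) :=
    fun θ => T5 θ.1 (irr_isCharacter θ.2)
  let PG : IrrCharacter G := ⟨fun _ => 1, principal_isIrrCharacter⟩
  choose kk hkk using fun θ : IrrCharacter H => isGen_classInner_int (hgen θ) PG
  let cC : H → ℕ := fun h => Nat.card (Subgroup.centralizer ({h} : Set H))
  let S : H → Finset G := fun h => Finset.univ.filter (fun g => IsConj (hh g) h)
  have hα : ∀ (h : H) (g : G), ∑ θ : IrrCharacter H, conj (θ.1 h) * tilde θ.1 g =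
      if IsConj (hh g) h then (cC h : ℂ) else 0 := by
    intro h g
    rw [← irr_sum_mul_conj (hh g) h]
    apply Finset.sum_congr rfl
    intro θ _
    rw [mul_comm]
  have hsumS : ∀ (h : H) (c : ℂ), ∑ g : G, (if IsConj (hh g) h then c else 0) =
      ((S h).card : ℂ) * c := by
    intro h c
    rw [← Finset.sum_filter, Finset.sum_const, nsmul_eq_mul]
  have hB1 : ∀ h : H, (((cC h * (S h).card : ℕ) : ℤ) : ℂ) / ((Nat.card G : ℤ) : ℂ) =
      ∑ θ : IrrCharacter H, conj (θ.1 h) * (kk θ : ℂ) := by
    intro h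
    have e1 : classInner (fun g => ∑ θ : IrrCharacter H, conj (θ.1 h) * tilde θ.1 g) PG.1 =
        ∑ θ : IrrCharacter H, conj (θ.1 h) * classInner (tilde θ.1) PG.1 :=
      classInner_sum_left _ _ _ _
    simp_rw [hkk] at e1
    rw [← e1]
    unfold classInner
    simp_rw [hα h]
    simp only [PG, map_one, mul_one]
    rw [hsumS h]
    push_cast
    rw [div_eq_inv_mul]
    ring
  have hdiv : ∀ h : H, Nat.card G ∣ cC h * (S h).card := by
    intro h
    have hint : IsIntegral ℤ ((((cC h * (S h).card : ℕ) : ℤ) : ℂ) / ((Nat.card G : ℤ) : ℂ)) := by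
      rw [hB1 h]
      apply IsIntegral.sum
      intro θ _
      apply IsIntegral.mul
      · exact map_isIntegral_int (starRingEnd ℂ)
          (isCharacter_isIntegral (irr_isCharacter θ.2) h)
      · exact isIntegral_algebraMap (R := ℤ) (A := ℂ) (x := kk θ)
    have hG0 : ((Nat.card G : ℤ)) ≠ 0 := by exact_mod_cast (Nat.card_pos (α := G)).ne'
    have := dvd_of_isIntegral_div hG0 hint
    exact_mod_cast this
  have hconj_of : ∀ (g : G) (h : H), IsConj (tp g) (h : G) → IsConj (hh g) h := by
    intro g h hc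
    have hc2 : IsConj ((h : G)) (cx g * tp g * (cx g)⁻¹) := by
      obtain ⟨c, hc'⟩ := isConj_iff.mp hc
      rw [isConj_iff]
      refine ⟨cx g * c⁻¹, ?_⟩
      rw [← hc']; group
    obtain ⟨t, ht, hte⟩ := hfus _ h.2 _ (hcx g) hc2
    rw [isConj_comm, isConj_iff]
    refine ⟨⟨t, ht⟩, ?_⟩
    apply Subtype.ext
    simpa [hh] using hte
  have hSpos : ∀ h : H, 0 < (S h).card := by
    intro h
    apply Finset.card_pos.mpr
    refine ⟨(h : G), ?_⟩
    simp only [S, Finset.mem_filter, Finset.mem_univ, true_and]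
    apply hconj_of
    rw [htp_H _ h.2]
  have hcpos : ∀ h : H, 0 < cC h := fun h => Nat.card_pos
  have hge : ∀ h : H, Nat.card G ≤ cC h * (S h).card :=
    fun h => Nat.le_of_dvd (Nat.mul_pos (hcpos h) (hSpos h)) (hdiv h)
  have hdc : ∑ h : H, Nat.card G = ∑ h : H, cC h * (S h).card := by
    have hC : (∑ h : H, ((cC h * (S h).card : ℕ) : ℂ)) = ∑ h : H, ((Nat.card G : ℕ) : ℂ) := by
      have h1 : ∀ h : H, ((cC h * (S h).card : ℕ) : ℂ) =
          ∑ g : G, (if IsConj (hh g) h then (cC h : ℂ) else 0) := by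
        intro h; rw [hsumS h]; push_cast; ring
      simp_rw [h1]
      rw [Finset.sum_comm]
      simp_rw [cC, class_centralizer_sum]
      simp only [Finset.sum_const, Finset.card_univ, nsmul_eq_mul]
      rw [← Nat.card_eq_fintype_card, ← Nat.card_eq_fintype_card]
      ring
    exact_mod_cast hC.symm
  have heq : ∀ h : H, cC h * (S h).card = Nat.card G := by
    have := (Finset.sum_eq_sum_iff_of_le (fun h _ => hge h)).mp hdc
    exact fun h => (this h (Finset.mem_univ _)).symm
  -- Step C
  have hiso : ∀ θ φ : H → ℂ, IsClassFunction H θ → IsClassFunction H φ →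
      classInner (tilde θ) (tilde φ) = classInner θ φ := by
    intro θ φ hθ hφ
    set F : H → ℂ := fun h => θ h * conj (φ h) with hFdef
    have hF : ∀ a b : H, IsConj a b → F a = F b := by
      intro a b hab
      obtain ⟨c, hc⟩ := isConj_iff.mp hab
      simp only [hFdef]
      rw [← hc, hθ, hφ]
    have key : (Nat.card G : ℂ) * ∑ h : H, F h = (Nat.card H : ℂ) * ∑ g : G, F (hh g) := by
      calc (Nat.card G : ℂ) * ∑ h, F h = ∑ h : H, F h * ((cC h * (S h).card : ℕ) : ℂ) := by
            rw [Finset.mul_sum]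
            apply Finset.sum_congr rfl
            intro h _
            rw [heq h]; ring
        _ = ∑ h : H, ∑ g : G, (if IsConj (hh g) h then F h * (cC h : ℂ) else 0) := by
            apply Finset.sum_congr rfl
            intro h _
            rw [hsumS h]; push_cast; ring
        _ = ∑ g : G, ∑ h : H, (if IsConj (hh g) h then F (hh g) * (cC h : ℂ) else 0) := by
            rw [Finset.sum_comm]
            apply Finset.sum_congr rfl
            intro g _
            apply Finset.sum_congr rfl
            intro h _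
            split_ifs with hc
            · rw [hF _ _ hc]
            · rfl
        _ = ∑ g : G, F (hh g) * (Nat.card H : ℂ) := by
            apply Finset.sum_congr rfl
            intro g _
            rw [← class_centralizer_sum (hh g), Finset.mul_sum]
            apply Finset.sum_congr rfl
            intro h _
            split_ifs <;> simp [cC]
        _ = _ := by rw [← Finset.sum_mul]; ring
    have hG0 : (Nat.card G : ℂ) ≠ 0 := Nat.cast_ne_zero.mpr Nat.card_pos.ne'
    have hH0 : (Nat.card H : ℂ) ≠ 0 := Nat.cast_ne_zero.mpr Nat.card_pos.ne'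
    unfold classInner
    show (Nat.card G : ℂ)⁻¹ * ∑ g : G, F (hh g) = (Nat.card H : ℂ)⁻¹ * ∑ h : H, F h
    rw [inv_mul_eq_div, inv_mul_eq_div, div_eq_div_iff hG0 hH0]
    linear_combination (-1 : ℂ) * key
  -- Step D
  have hirr : ∀ θ : IrrCharacter H, IsIrrCharacter G (tilde θ.1) := by
    intro θ
    have hcf := isClassFunction_of_isCharacter (irr_isCharacter θ.2)
    have hn1 : classInner (tilde θ.1) (tilde θ.1) = 1 := by
      rw [hiso _ _ hcf hcf, irr_classInner θ.2 θ.2, if_pos rfl]
    obtain ⟨a, ha | ha⟩ := norm_one_structure (hgen θ) hn1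
    · rw [ha]; exact a.2
    · exfalso
      have h1 : tilde θ.1 1 = θ.1 1 := by
        show θ.1 (hh 1) = θ.1 1
        rw [hh_one]
      have h2 := congrFun ha 1
      rw [h1, Pi.neg_apply, irr_one_eq_charDegree, irr_one_eq_charDegree] at h2
      have hp1 := charDegree_pos θ
      have hp2 := charDegree_pos a
      have h3 : ((charDegree θ.1 + charDegree a.1 : ℕ) : ℂ) = 0 := by
        push_cast; rw [h2]; ring
      norm_cast at h3
      omega
  -- Step E
  have hK := fun θ : IrrCharacter H => irr_quotient_facts ⟨tilde θ.1, hirr θ⟩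
  choose Kθ hKn hKmem hK3 hK4 using hK
  let K : Subgroup G := ⨅ θ, Kθ θ
  have hKnormal : K.Normal := Subgroup.normal_iInf_normal hKn
  have hK1 : ∀ g : G, g ∈ K ↔ hh g = 1 := by
    intro g
    simp only [K, Subgroup.mem_iInf, hKmem]
    constructor
    · intro hall
      have hall' : ∀ θ : IrrCharacter H, θ.1 (hh g) = θ.1 1 := by
        intro θ
        have := hall θ
        show θ.1 (hh g) = θ.1 1
        have h1 : tilde θ.1 1 = θ.1 1 := by
          show θ.1 (hh 1) = θ.1 1
          rw [hh_one]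
        rw [← h1]; exact this
      have e1 := irr_sum_mul_conj (hh g) (1 : H)
      have e2 := irr_sum_mul_conj (1 : H) (1 : H)
      simp_rw [hall'] at e1
      rw [e2, if_pos (IsConj.refl _)] at e1
      by_contra hne
      have hnc : ¬ IsConj (hh g) 1 := fun hc => hne (isConj_one_right.mp hc.symm)
      rw [if_neg hnc] at e1
      have : (Nat.card (Subgroup.centralizer ({(1 : H)} : Set H)) : ℂ) ≠ 0 :=
        Nat.cast_ne_zero.mpr Nat.card_pos.ne'
      exact this e1
    · intro h1 θ
      show θ.1 (hh g) = θ.1 (hh 1)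
      rw [h1, hh_one]
  have hK2 : ∀ g : G, g ∈ K ↔ tp g = 1 := by
    intro g
    rw [hK1]
    constructor
    · intro h
      have := congrArg Subtype.val h
      simp only [hh, Subgroup.coe_one] at this
      rwa [conj_eq_one_iff] at this
    · intro h
      apply Subtype.ext
      simp [hh, h]
  have hdisj : K ⊓ H = ⊥ := by
    rw [Subgroup.eq_bot_iff_forall]
    intro g hg
    have h1 := (hK2 g).mp hg.1
    rwa [htp_H g hg.2] at h1
  have hcardK : Nat.card K * Nat.card H = Nat.card G := by
    have h1 : Nat.card K = (S 1).card := by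
      rw [← card_eq_card_of_iff K (fun g => IsConj (hh g) 1)
        (fun g => by
          rw [hK1]
          constructor
          · intro h; rw [h]
          · intro h; exact isConj_one_right.mp h.symm)]
      rw [Nat.card_eq_fintype_card, Fintype.card_subtype]
    have h2 : cC 1 = Nat.card H := by
      simp only [cC]
      have : Subgroup.centralizer ({(1 : H)} : Set H) = ⊤ := by
        rw [Subgroup.centralizer_eq_top_iff_subset]
        intro x hx
        rw [Set.mem_singleton_iff.mp hx]
        exact Subgroup.one_mem _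
      rw [this, Subgroup.card_top]
    have h3 := heq 1
    rw [h2, ← h1] at h3
    rw [mul_comm]; exact h3
  refine ⟨K, hKnormal, ?_, hdisj⟩
  have hcomp := Subgroup.isComplement'_of_card_mul_and_disjoint hcardK
    (disjoint_iff.mpr hdisj)
  exact hcomp.sup_eq_top

end Cfsg.Agent.Lib.Helper8
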