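import Mathlib
import Cfsg.Prelude.Def_Characters
import Cfsg.Agent.Lib.Helper8.BrauerSuzuki
import Cfsg.Agent.Lib.Helper8.CharCosetAvg2
import Cfsg.Agent.Lib.Helper8.CharGallagher
import Cfsg.Agent.Lib.Helper8.CharInd
import Cfsg.Agent.Lib.Helper8.CharPerm

set_option autoImplicit false

universe u

namespace Cfsg.Agent.Lib.Helper8
open Cfsg
open scoped ComplexConjugate

theorem isCharacter_conj {G : Type*} [Group G] [Finite G] {χ : G → ℂ} (hχ : IsCharacter G χ) :
    IsCharacter G (fun g => conj (χ g)) := by
  classical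
  have := irr_finite (G := G)
  have : Fintype (IrrCharacter G) := Fintype.ofFinite _
  obtain ⟨m, hm⟩ := isCharacter_decomp hχ
  have h1 : (fun g => conj (χ g)) = fun g => ∑ ψ : IrrCharacter G, (m ψ : ℂ) * conj (ψ.1 g) := by
    funext g
    rw [hm g, map_sum]
    apply Finset.sum_congr rfl
    intro ψ _
    rw [map_mul, map_natCast]
  rw [h1]
  apply isCharacter_sum
  intro ψ _
  exact isCharacter_nsmul (irr_isCharacter (irr_conj ψ.2)) (m ψ)

/-- Coset decomposition `(G ⧸ K) × K ≃ G`. -/
noncomputable def cosetProdEquiv {G : Type*} [Group G] (K : Subgroup G) : (G ⧸ K) × K ≃ G where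
  toFun p := p.1.out * p.2
  invFun x := ((x : G ⧸ K), ⟨(x : G ⧸ K).out⁻¹ * x, by
    rw [← QuotientGroup.eq]; exact QuotientGroup.out_eq' _⟩)
  left_inv := by
    rintro ⟨q, k⟩
    have h1 : ((q.out * (k : G) : G) : G ⧸ K) = q := by
      rw [QuotientGroup.mk_mul_of_mem _ k.2]; exact QuotientGroup.out_eq' q
    apply Prod.ext
    · exact h1
    · apply Subtype.ext
      simp only
      rw [h1]
      simp
  right_inv := by
    intro x
    simp

theorem sum_eq_sum_quotient_out {G : Type*} [Group G] [Fintype G] (K : Subgroup G) [Fintype K]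
    [Fintype (G ⧸ K)] (Φ : G → ℂ) :
    ∑ x : G, Φ x = ∑ q : G ⧸ K, ∑ k : K, Φ (q.out * k) := by
  rw [← Fintype.sum_prod_type (f := fun p : (G ⧸ K) × K => Φ (p.1.out * p.2))]
  exact (Fintype.sum_equiv (cosetProdEquiv K) _ _ (fun _ => rfl)).symm

/-- The inner product of a section indicator with a character of an elementary group is
integral. -/
theorem section_inner_integral {G : Type u} [Group G] [Fintype G] {n m : ℕ} (hnm : n.Coprime m)
    (hcard : Nat.card G = n * m) (g : G) (E : Subgroup G) [Fintype E] {p : ℕ} (hp : p.Prime)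
    (hE : IsElementary p E) (ψ : E → ℂ) (hψ : IsCharacter E ψ)
    [∀ x : G, Decidable (IsConj x g)] :
    IsIntegral ℤ (classInner (fun x : E => if IsConj ((x : G) ^ piExp n m) g then (n : ℂ) else 0)
      ψ) := by
  classical
  set e := piExp n m with he
  have hcardE : Nat.card E ∣ n * m := by rw [← hcard]; exact Subgroup.card_subgroup_dvd_card E
  let F := piHom hp hE hnm hcardE
  let K : Subgroup E := F.ker
  haveI : K.Normal := MonoidHom.normal_ker F
  have hψcf : IsClassFunction E ψ := isClassFunction_of_isCharacter hψ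
  let f : E → ℂ := fun x => if IsConj ((x : G) ^ e) g then (1 : ℂ) else 0
  have hfinv : ∀ (x : E) (k : K), f (x * k) = f x := by
    intro x k
    have h1 : F (x * k) = F x := by
      rw [map_mul, (MonoidHom.mem_ker).mp k.2, mul_one]
    have h2 : ((x * (k : E) : E) : G) ^ e = (x : G) ^ e := by
      have := congrArg Subtype.val h1
      simpa [F, piHom_apply] using this
    simp only [f, h2]
  set ψb := cosetAvg K ψ with hψb
  have hψbchar : IsCharacter E ψb := cosetAvg_isCharacter K hψ
  have hKne : (Nat.card K : ℂ) ≠ 0 := Nat.cast_ne_zero.mpr Nat.card_pos.ne'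
  have hsumK : ∀ x : E, ∑ k : K, ψ (x * k) = (Nat.card K : ℂ) * ψb x := by
    intro x
    simp only [hψb, cosetAvg]
    rw [← mul_assoc, mul_inv_cancel₀ hKne, one_mul]
    apply Finset.sum_congr rfl
    intro k _
    have := hψcf (x * k) x⁻¹
    rw [← this]
    congr 1
    group
  -- quotient has exponent dividing n
  have hEpow : ∀ x : E, x ^ (n * m) = 1 := by
    intro x
    obtain ⟨t, ht⟩ := hcardE
    rw [ht, pow_mul, pow_card_eq_one', one_pow]
  have hQpow : ∀ q : E ⧸ K, q ^ n = 1 := by
    intro q
    induction q using QuotientGroup.induction_on with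
    | H x =>
      rw [← QuotientGroup.mk_pow, QuotientGroup.eq_one_iff]
      show F (x ^ n) = 1
      rw [map_pow]
      show (x ^ e) ^ n = 1
      exact pow_piExp_pow hnm (hEpow x)
  have hQcard : Nat.card (E ⧸ K) ∣ n * m :=
    (Subgroup.card_quotient_dvd_card K).trans hcardE
  obtain ⟨d, hd⟩ := card_dvd_of_forall_pow hnm hQpow hQcard
  have hEK : Nat.card E = Nat.card (E ⧸ K) * Nat.card K :=
    Subgroup.card_eq_card_quotient_mul_card_subgroup K
  have hEne : (Nat.card E : ℂ) ≠ 0 := Nat.cast_ne_zero.mpr Nat.card_pos.ne'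
  have hQne : (Nat.card (E ⧸ K) : ℂ) ≠ 0 := Nat.cast_ne_zero.mpr Nat.card_pos.ne'
  have hval : classInner (fun x : E => if IsConj ((x : G) ^ e) g then (n : ℂ) else 0) ψ =
      (d : ℂ) * ∑ q : E ⧸ K, f q.out * conj (ψb q.out) := by
    unfold classInner
    rw [sum_eq_sum_quotient_out K]
    have h1 : ∀ q : E ⧸ K, ∑ k : K, (if IsConj (((q.out * (k : E) : E) : G) ^ e) g then (n : ℂ)
        else 0) * conj (ψ (q.out * k)) = (n : ℂ) * f q.out * ((Nat.card K : ℂ) * conj (ψb q.out)) := by
      intro q
      have h2 : ∀ k : K, (if IsConj (((q.out * (k : E) : E) : G) ^ e) g then (n : ℂ) else 0) =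
          (n : ℂ) * f q.out := by
        intro k
        rw [← hfinv q.out k]
        simp only [f]
        split_ifs <;> simp
      simp_rw [h2]
      rw [← Finset.mul_sum, ← map_sum, hsumK, map_mul, map_natCast]
    simp_rw [h1]
    rw [hEK, hd]
    push_cast
    rw [Finset.mul_sum, Finset.mul_sum]
    apply Finset.sum_congr rfl
    intro q _
    field_simp
  rw [hval]
  apply IsIntegral.mul (by simpa using (isIntegral_algebraMap (R := ℤ) (A := ℂ) (x := (d : ℤ))))
  apply IsIntegral.sum
  intro q _
  apply IsIntegral.mul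
  · simp only [f]
    split_ifs
    · exact isIntegral_one
    · exact isIntegral_zero
  · exact map_isIntegral_int (starRingEnd ℂ) (isCharacter_isIntegral hψbchar _)

/-- Integral version of Brauer's characterization. -/
theorem brauer_integral {G : Type u} [Group G] [Fintype G] (ϑ : G → ℂ) (hϑ : IsClassFunction G ϑ)
    (hE : ∀ (E : Subgroup G) [Fintype E], IsElem E → ∀ ψ : E → ℂ, IsCharacter E ψ →
      IsIntegral ℤ (classInner (fun e : E => ϑ e) ψ))
    (χ : G → ℂ) (hχ : IsCharacter G χ) : IsIntegral ℤ (classInner ϑ χ) := by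
  classical
  have key : ∀ f ∈ indSpan (G := G) IsElem, ∀ χ : G → ℂ, IsCharacter G χ →
      IsIntegral ℤ (classInner (f * ϑ) χ) := by
    intro f hf
    unfold indSpan at hf
    induction hf using Submodule.span_induction with
    | mem f hf =>
      obtain ⟨E, φ, hEl, hφ, rfl⟩ := hf
      intro χ hχ
      rw [← indFun_mul_restrict E φ hϑ,
        frobenius_reciprocity E _ χ (isClassFunction_of_isCharacter hχ)]
      have h1 : classInner (fun n : E => φ n * ϑ n) (fun h : E => χ h) =
          classInner (fun e : E => ϑ e) ((fun e : E => conj (φ e)) * fun h : E => χ h) := by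
        unfold classInner
        congr 1
        apply Finset.sum_congr rfl
        intro x _
        simp only [Pi.mul_apply, map_mul, Complex.conj_conj]
        ring
      rw [h1]
      exact hE E hEl _ (isCharacter_mul (isCharacter_conj hφ) (isCharacter_restrict E hχ))
    | zero =>
      intro χ _
      have : classInner ((0 : G → ℂ) * ϑ) χ = 0 := by
        unfold classInner; simp
      rw [this]; exact isIntegral_zero
    | add f₁ f₂ _ _ h₁ h₂ =>
      intro χ hχ
      have : classInner ((f₁ + f₂) * ϑ) χ = classInner (f₁ * ϑ) χ + classInner (f₂ * ϑ) χ := by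
        unfold classInner
        rw [← mul_add, ← Finset.sum_add_distrib]
        congr 1
        apply Finset.sum_congr rfl
        intro x _
        simp only [Pi.mul_apply, Pi.add_apply]
        ring
      rw [this]
      exact (h₁ χ hχ).add (h₂ χ hχ)
    | smul k f _ h =>
      intro χ hχ
      have : classInner ((k • f) * ϑ) χ = (k : ℂ) * classInner (f * ϑ) χ := by
        unfold classInner
        have hx : ∀ x, ((k • f) * ϑ) x * conj (χ x) = (k : ℂ) * ((f * ϑ) x * conj (χ x)) := by
          intro x
          simp only [Pi.mul_apply, zsmul_eq_mul, Pi.intCast_apply]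
          ring
        simp_rw [hx]
        rw [← Finset.mul_sum]
        ring
      rw [this]
      exact IsIntegral.mul (by simpa using (isIntegral_algebraMap (R := ℤ) (A := ℂ) (x := k)))
        (h χ hχ)
  have h1 := key _ (one_mem_indSpan (G := G)) χ hχ
  have : (fun _ : G => (1 : ℂ)) * ϑ = ϑ := by ext x; simp
  rwa [this] at h1

end Cfsg.Agent.Lib.Helper8
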