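import Mathlib
import Cfsg.Prelude.Def_Blocks
import Cfsg.Agent.Lib.Helper8.CharVanish

set_option autoImplicit false

namespace Cfsg.Agent.Lib.Helper8
open Cfsg
open scoped ComplexConjugate

/-- Freshman's dream for finite sums, with an explicit error term. -/
theorem sum_pow_prime_pow {R : Type*} [CommRing R] {p : ℕ} (hp : p.Prime) (n : ℕ) {ι : Type*}
    (s : Finset ι) (a : ι → R) :
    ∃ r : R, (∑ i ∈ s, a i) ^ p ^ n = ∑ i ∈ s, a i ^ p ^ n + (p : R) * r := by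
  classical
  induction s using Finset.induction_on with
  | empty =>
    refine ⟨0, ?_⟩
    have : p ^ n ≠ 0 := pow_ne_zero _ hp.ne_zero
    simp only [Finset.sum_empty, mul_zero, add_zero]
    exact zero_pow this
  | insert j s hj ih =>
    obtain ⟨r, hr⟩ := ih
    obtain ⟨r', hr'⟩ := exists_add_pow_prime_pow_eq hp (a j) (∑ i ∈ s, a i) n
    refine ⟨r + a j * (∑ i ∈ s, a i) * r', ?_⟩
    rw [Finset.sum_insert hj, Finset.sum_insert hj, hr', hr]
    ring

theorem natCast_pow_prime_pow {R : Type*} [CommRing R] {p : ℕ} (hp : p.Prime) (n : ℕ) (c : ℕ) :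
    ∃ r : R, (c : R) ^ p ^ n = (c : R) + (p : R) * r := by
  obtain ⟨r, hr⟩ := sum_pow_prime_pow (R := R) hp n (Finset.range c) (fun _ => (1 : R))
  refine ⟨r, ?_⟩
  simp only [Finset.sum_const, Finset.card_range, nsmul_eq_mul, mul_one, one_pow] at hr
  exact hr

variable {G : Type*} [Group G] {V : Type*} [AddCommGroup V] [Module ℂ V] [FiniteDimensional ℂ V]

/-- For a `p`-element `x`, `χ(x)^(p^k) ≡ χ(1)` modulo `p` in the algebraic integers. -/
theorem character_pow_congr (ρ : Representation ℂ G V) (x : G) {p : ℕ} (hp : p.Prime) (k : ℕ)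
    (hx : x ^ p ^ k = 1) :
    ∃ ω : ℂ, IsIntegral ℤ ω ∧
      (ρ.character x) ^ p ^ k - (Module.finrank ℂ V : ℂ) = (p : ℂ) * ω := by
  classical
  have hpk : 0 < p ^ k := pow_pos hp.pos k
  have hf : (ρ x) ^ (p ^ k) = 1 := by rw [← map_pow, hx, map_one]
  obtain ⟨S, c, hS, htr⟩ := trace_pow_eq_sum hpk hf
  have h1 : ρ.character x = ∑ μ ∈ S, (c μ : ℂ) * μ := by
    have := htr 1
    simpa [Representation.character] using this
  have h0 : (Module.finrank ℂ V : ℂ) = ∑ μ ∈ S, (c μ : ℂ) := by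
    have := htr 0
    simpa using this
  -- work in the ring of algebraic integers
  let R := integralClosure ℤ ℂ
  have hμint : ∀ μ ∈ S, IsIntegral ℤ μ := by
    intro μ hμ
    apply IsIntegral.of_pow hpk
    rw [hS μ hμ]
    exact isIntegral_one
  let a : S → R := fun μ => ⟨(c μ : ℂ) * μ, IsIntegral.mul (isIntegral_natCast _) (hμint μ μ.2)⟩
  obtain ⟨r, hr⟩ := sum_pow_prime_pow (R := R) hp k Finset.univ a
  have hr' := congrArg (fun z : R => (z : ℂ)) hr
  push_cast at hr'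
  have hterm : ∀ μ : S, ∃ t : R, ((a μ : R) : ℂ) ^ p ^ k = (c μ : ℂ) + (p : ℂ) * (t : ℂ) := by
    intro μ
    obtain ⟨t, ht⟩ := natCast_pow_prime_pow (R := R) hp k (c μ)
    refine ⟨t, ?_⟩
    have ht' := congrArg (fun z : R => (z : ℂ)) ht
    push_cast at ht'
    show ((c μ : ℂ) * (μ : ℂ)) ^ p ^ k = _
    rw [mul_pow, hS μ μ.2, mul_one, ht']
  choose t ht using hterm
  refine ⟨(r : ℂ) + ∑ μ : S, (t μ : ℂ), ?_, ?_⟩
  · apply IsIntegral.add r.2
    apply IsIntegral.sum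
    intro μ _
    exact (t μ).2
  · have hsumS : ∀ F : ℂ → ℂ, ∑ μ ∈ S, F μ = ∑ μ : S, F μ := fun F => (Finset.sum_coe_sort S F).symm
    rw [h1, h0, hsumS, hsumS]
    have hr'' : (∑ μ : S, (c (μ : ℂ) : ℂ) * (μ : ℂ)) ^ p ^ k =
        ∑ μ : S, ((a μ : R) : ℂ) ^ p ^ k + (p : ℂ) * (r : ℂ) := hr'
    rw [hr'', Finset.sum_congr rfl (fun μ _ => ht μ), Finset.sum_add_distrib, ← Finset.mul_sum]
    ring

theorem character_ne_zero_of_pow_prime [Finite G] (ρ : Representation ℂ G V) (x : G) {p : ℕ}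
    (hp : p.Prime) (k : ℕ) (hx : x ^ p ^ k = 1) (hdeg : ¬ p ∣ Module.finrank ℂ V) :
    ρ.character x ≠ 0 := by
  intro h0
  obtain ⟨ω, hω, h⟩ := character_pow_congr ρ x hp k hx
  have hpk : p ^ k ≠ 0 := pow_ne_zero _ hp.ne_zero
  rw [h0, zero_pow hpk, zero_sub] at h
  -- finrank / p is an algebraic integer
  have hpne : (p : ℂ) ≠ 0 := Nat.cast_ne_zero.mpr hp.ne_zero
  have h1 : IsIntegral ℤ (algebraMap ℚ ℂ (-(Module.finrank ℂ V : ℚ) / (p : ℚ))) := by
    convert hω using 1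
    simp only [map_div₀, map_neg, map_natCast]
    rw [h]
    field_simp
  have h2 : IsIntegral ℤ (-(Module.finrank ℂ V : ℚ) / (p : ℚ)) :=
    (isIntegral_algebraMap_iff (algebraMap ℚ ℂ).injective).mp h1
  obtain ⟨y, hy⟩ := IsIntegrallyClosed.isIntegral_iff.mp h2
  have hpQ : (p : ℚ) ≠ 0 := Nat.cast_ne_zero.mpr hp.ne_zero
  have h3 : (y : ℚ) * (p : ℚ) = -(Module.finrank ℂ V : ℚ) := by
    have : (y : ℚ) = -(Module.finrank ℂ V : ℚ) / (p : ℚ) := hy
    rw [this]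
    field_simp
  have h4 : y * (p : ℤ) = -(Module.finrank ℂ V : ℤ) := by exact_mod_cast h3
  apply hdeg
  have h5 : (p : ℤ) ∣ (Module.finrank ℂ V : ℤ) := ⟨-y, by linarith⟩
  exact Int.natCast_dvd_natCast.mp h5

end Cfsg.Agent.Lib.Helper8
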