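import Mathlib
import Cfsg.Prelude.Def_Characters
import Cfsg.Prelude.Def_Blocks
import Cfsg.Agent.Lib.Helper8.BrauerRInt
import Cfsg.Agent.Lib.Helper8.CharPElement
import Cfsg.Agent.Lib.Helper8.GlaubDet
import Cfsg.Agent.Lib.Helper8.CharLinHom

set_option autoImplicit false

universe u

namespace Cfsg.Agent.Lib.Helper8
open Cfsg
open scoped ComplexConjugate

theorem sum_nat_mul_pow_prime_pow {R : Type*} [CommRing R] {p : ℕ} (hp : p.Prime) (k : ℕ)
    {ι : Type*} (s : Finset ι) (c : ι → ℕ) (a : ι → R) :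
    ∃ r : R, (∑ i ∈ s, (c i : R) * a i) ^ p ^ k =
      ∑ i ∈ s, (c i : R) * a i ^ p ^ k + (p : R) * r := by
  obtain ⟨r, hr⟩ := sum_pow_prime_pow (R := R) hp k s (fun i => (c i : R) * a i)
  have h2 : ∀ i, ∃ t : R, ((c i : R) * a i) ^ p ^ k =
      (c i : R) * a i ^ p ^ k + (p : R) * t := by
    intro i
    obtain ⟨t, ht⟩ := natCast_pow_prime_pow (R := R) hp k (c i)
    exact ⟨t * a i ^ p ^ k, by rw [mul_pow, ht]; ring⟩
  choose t ht using h2
  refine ⟨r + ∑ i ∈ s, t i, ?_⟩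
  rw [hr, Finset.sum_congr rfl (fun i _ => ht i), Finset.sum_add_distrib, ← Finset.mul_sum]
  ring

/-- `χ(x)^{p^k} ≡ χ(x_{p'})^{p^k}` modulo `p`. -/
theorem character_ppart_congr {G : Type*} [Group G] [Finite G] {χ : G → ℂ} (hχ : IsCharacter G χ)
    (x : G) {p : ℕ} (hp : p.Prime) (k e n : ℕ) (hn : 0 < n) (hxord : x ^ (n * p ^ k) = 1)
    (he : e ≡ 1 [MOD n]) :
    ∃ ω : ℂ, IsIntegral ℤ ω ∧ χ x ^ p ^ k - χ (x ^ e) ^ p ^ k = (p : ℂ) * ω := by
  classical
  let C := Subgroup.zpowers x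
  let ξ : C := ⟨x, Subgroup.mem_zpowers x⟩
  have hgen : ∀ g : C, ∃ j : ℤ, ξ ^ j = g := by
    intro g
    obtain ⟨j, hj⟩ := Subgroup.mem_zpowers_iff.mp g.2
    exact ⟨j, Subtype.ext (by simpa [ξ] using hj)⟩
  have hcomm : ∀ a b : C, a * b = b * a := by
    intro a b
    obtain ⟨i, rfl⟩ := hgen a
    obtain ⟨j, rfl⟩ := hgen b
    exact ((Commute.refl ξ).zpow_zpow i j).eq
  have := irr_finite (G := C)
  haveI : Fintype (IrrCharacter C) := Fintype.ofFinite _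
  obtain ⟨mm, hmm⟩ := isCharacter_decomp (isCharacter_restrict C hχ)
  have hlin : ∀ ψ : IrrCharacter C, ∃ f : C →* ℂˣ, ψ.1 = linFun f :=
    fun ψ => exists_linFun (irr_isCharacter ψ.2) (irr_linear_of_comm hcomm ψ)
  choose f hf using hlin
  let a : IrrCharacter C → ℂ := fun ψ => ((f ψ ξ : ℂˣ) : ℂ)
  have hχx : χ x = ∑ ψ : IrrCharacter C, (mm ψ : ℂ) * a ψ := by
    have := hmm ξ
    simp only [hf, linFun_apply] at this
    exact this
  have hχxe : χ (x ^ e) = ∑ ψ : IrrCharacter C, (mm ψ : ℂ) * (a ψ) ^ e := by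
    have := hmm (ξ ^ e)
    simp only [hf, linFun_apply, map_pow, Units.val_pow_eq_pow_val] at this
    exact this
  have hξ : ξ ^ (n * p ^ k) = 1 := Subtype.ext hxord
  have hpos : 0 < n * p ^ k := Nat.mul_pos hn (pow_pos hp.pos k)
  have hupow : ∀ ψ, (f ψ ξ) ^ (n * p ^ k) = 1 := by
    intro ψ; rw [← map_pow, hξ, map_one]
  have hapow : ∀ ψ, (a ψ) ^ (n * p ^ k) = 1 := by
    intro ψ
    simp only [a]
    rw [← Units.val_pow_eq_pow_val, hupow, Units.val_one]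
  have haint : ∀ ψ, IsIntegral ℤ (a ψ) := by
    intro ψ
    apply IsIntegral.of_pow hpos
    rw [hapow]; exact isIntegral_one
  have hae : ∀ ψ, ((a ψ) ^ e) ^ p ^ k = (a ψ) ^ p ^ k := by
    intro ψ
    simp only [a]
    rw [← pow_mul, ← Units.val_pow_eq_pow_val, ← Units.val_pow_eq_pow_val]
    congr 1
    rw [pow_eq_pow_iff_modEq]
    have h1 : e * p ^ k ≡ 1 * p ^ k [MOD n * p ^ k] := he.mul_right' _
    rw [one_mul] at h1
    exact h1.of_dvd (orderOf_dvd_of_pow_eq_one (hupow ψ))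
  let R := integralClosure ℤ ℂ
  let aR : IrrCharacter C → R := fun ψ => ⟨a ψ, haint ψ⟩
  obtain ⟨r₁, h₁⟩ := sum_nat_mul_pow_prime_pow (R := R) hp k Finset.univ mm aR
  obtain ⟨r₂, h₂⟩ := sum_nat_mul_pow_prime_pow (R := R) hp k Finset.univ mm (fun ψ => aR ψ ^ e)
  have h₁' := congrArg (fun z : R => (z : ℂ)) h₁
  have h₂' := congrArg (fun z : R => (z : ℂ)) h₂
  push_cast at h₁' h₂'
  refine ⟨(r₁ : ℂ) - (r₂ : ℂ), (r₁ - r₂).2, ?_⟩
  have e1 : (∑ ψ : IrrCharacter C, (mm ψ : ℂ) * a ψ) ^ p ^ k =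
      ∑ ψ : IrrCharacter C, (mm ψ : ℂ) * a ψ ^ p ^ k + (p : ℂ) * (r₁ : ℂ) := h₁'
  have e2 : (∑ ψ : IrrCharacter C, (mm ψ : ℂ) * a ψ ^ e) ^ p ^ k =
      ∑ ψ : IrrCharacter C, (mm ψ : ℂ) * (a ψ ^ e) ^ p ^ k + (p : ℂ) * (r₂ : ℂ) := h₂'
  rw [hχx, hχxe, e1, e2]
  simp_rw [hae]
  ring

/-- The section indicator is an integral combination of irreducible characters. -/
theorem section_indicator_decomp {G : Type u} [Group G] [Fintype G] [Fintype (IrrCharacter G)]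
    {n m : ℕ} (hnm : n.Coprime m) (hcard : Nat.card G = n * m) (g : G)
    [∀ x : G, Decidable (IsConj x g)] :
    ∃ c : IrrCharacter G → ℂ, (∀ χ, IsIntegral ℤ (c χ)) ∧
      ∀ x : G, (if IsConj (x ^ piExp n m) g then (n : ℂ) else 0) =
        ∑ χ : IrrCharacter G, c χ * χ.1 x := by
  classical
  set ϑ : G → ℂ := fun x => if IsConj (x ^ piExp n m) g then (n : ℂ) else 0 with hϑ
  have hcf : IsClassFunction G ϑ := by
    intro x y
    simp only [hϑ]
    rw [conj_pow]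
    have : IsConj (y * x ^ piExp n m * y⁻¹) g ↔ IsConj (x ^ piExp n m) g := by
      constructor
      · intro h
        exact (isConj_iff.mpr ⟨y, rfl⟩ :
          IsConj (x ^ piExp n m) (y * x ^ piExp n m * y⁻¹)).trans h
      · intro h
        exact (isConj_iff.mpr ⟨y, rfl⟩ :
          IsConj (x ^ piExp n m) (y * x ^ piExp n m * y⁻¹)).symm.trans h
    simp only [this]
  refine ⟨fun χ => classInner ϑ χ.1, ?_, ?_⟩
  · intro χ
    apply brauer_integral ϑ hcf _ χ.1 (irr_isCharacter χ.2)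
    intro E _ hEl ψ hψ
    obtain ⟨p, hp, hEp⟩ := hEl
    have := section_inner_integral hnm hcard g E hp hEp ψ hψ
    convert this using 3
  · intro x
    have := congrFun (classFunction_eq_sum hcf) x
    rw [Finset.sum_apply] at this
    simpa [hϑ] using this

theorem mem_of_memLocalIdeal {M : Ideal AlgInt} (hM : M.IsPrime) {z : AlgInt}
    (h : MemLocalIdeal M (z : ℂ)) : z ∈ M := by
  obtain ⟨a, b, ha, hb, hab⟩ := h
  have hb0 : (b : ℂ) ≠ 0 := by
    intro h0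
    apply hb
    have : b = 0 := Subtype.ext h0
    rw [this]; exact M.zero_mem
  have h1 : z * b = a := by
    apply Subtype.ext
    push_cast
    rw [← hab]
    field_simp
  have h2 : z * b ∈ M := h1 ▸ ha
  exact (hM.mem_or_mem h2).resolve_right hb

theorem memLocalIdeal_of_mem {M : Ideal AlgInt} (hM : M ≠ ⊤) {z : AlgInt} (h : z ∈ M) :
    MemLocalIdeal M (z : ℂ) := by
  refine ⟨z, 1, h, ?_, by simp⟩
  intro h1
  exact hM ((Ideal.eq_top_iff_one M).mpr h1)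

end Cfsg.Agent.Lib.Helper8
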