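import Mathlib
import Cfsg.Prelude.Def_Characters
import Cfsg.Agent.Lib.Helper8.AbelChief
import Cfsg.Agent.Lib.Helper8.CharMonomial
import Cfsg.Agent.Lib.Helper8.CharIto
import Cfsg.Agent.Lib.Helper8.BrauerSpan
import Cfsg.Agent.Lib.Helper8.CharRamified
import Cfsg.Agent.Lib.Helper8.GlaubRefine
import Cfsg.Agent.S0857
import Cfsg.Agent.S0854

set_option autoImplicit false

namespace Cfsg.Agent.Lib.Helper8
open Cfsg
open scoped ComplexConjugate

universe u

section RelM

/-- a chief factor below a solvable quotient is abelian -/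
theorem chief_factor_abelian {G : Type*} [Group G] (K L : Subgroup G) [hKn : K.Normal]
    [hLn : L.Normal] (hLK : L < K) (hsolv : Group.IsSolvable (G ⧸ L))
    (hchief : ∀ M : Subgroup G, M.Normal → L ≤ M → M ≤ K → M = L ∨ M = K) : ⁅K, K⁆ ≤ L := by
  by_contra hnot
  have hDn : (⁅K, K⁆ ⊔ L).Normal := inferInstance
  have hcK : ⁅K, K⁆ ≤ K := Subgroup.commutator_le_right K K
  rcases hchief (⁅K, K⁆ ⊔ L) hDn le_sup_right (sup_le hcK hLK.le) with hD | hD
  · apply hnot
    rw [← hD]; exact le_sup_left
  · obtain ⟨Kb, hKb⟩ : ∃ Kb : Subgroup (G ⧸ L), Kb = K.map (QuotientGroup.mk' L) := ⟨_, rfl⟩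
    have hKb_ne : Kb ≠ ⊥ := by
      intro h
      have hKL : K ≤ L := by
        intro x hx
        have h1 : QuotientGroup.mk' L x ∈ Kb := by rw [hKb]; exact Subgroup.mem_map_of_mem _ hx
        rw [h, Subgroup.mem_bot] at h1
        exact (QuotientGroup.eq_one_iff x).1 h1
      exact absurd (le_antisymm hKL hLK.le) (ne_of_gt hLK)
    have hKb_perf : ⁅Kb, Kb⁆ = Kb := by
      rw [hKb, ← Subgroup.map_commutator]
      apply le_antisymm (Subgroup.map_mono hcK)
      conv_lhs => rw [← hD]
      rw [Subgroup.map_sup]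
      apply sup_le le_rfl
      intro y hy
      obtain ⟨l, hl, rfl⟩ := Subgroup.mem_map.1 hy
      have : QuotientGroup.mk' L l = 1 := (QuotientGroup.eq_one_iff l).2 hl
      rw [this]; exact Subgroup.one_mem _
    have := Group.IsSolvable.commutator_lt_of_ne_bot hKb_ne
    rw [hKb_perf] at this
    exact lt_irrefl _ this

/-- the inner product of a sum of distinct irreducible characters with one of them -/
theorem classInner_sum_irr_mem {H : Type*} [Group H] [Fintype H] (F : Finset (H → ℂ))
    (hF : ∀ φ ∈ F, IsIrrCharacter H φ) (φ₀ : H → ℂ) (hφ₀ : φ₀ ∈ F) :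
    classInner (∑ φ ∈ F, φ) φ₀ = 1 := by
  classical
  have h1 : (∑ φ ∈ F, φ) = fun g => ∑ φ ∈ F, (1 : ℂ) * φ g := by
    funext g
    rw [Finset.sum_apply]
    apply Finset.sum_congr rfl
    intro φ _
    rw [one_mul]
  rw [h1, classInner_sum_left, Finset.sum_eq_single φ₀]
  · rw [one_mul, irr_classInner (hF φ₀ hφ₀) (hF φ₀ hφ₀), if_pos rfl]
  · intro b hb hne
    rw [one_mul, irr_classInner (hF b hb) (hF φ₀ hφ₀), if_neg hne]
  · intro h; exact absurd hφ₀ h

/-- Isaacs 6.22, by induction on the order -/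
theorem relM_aux : ∀ (n : ℕ) (G : Type u) [Group G] [Fintype G] (N : Subgroup G) [N.Normal],
    Nat.card G = n → Group.IsSolvable (G ⧸ N) →
    (∀ (H K L : Subgroup G), N ≤ L → L < K → K ≤ H → (∀ h ∈ H, ∀ k ∈ K, h * k * h⁻¹ ∈ K) →
      (∀ h ∈ H, ∀ l ∈ L, h * l * h⁻¹ ∈ L) →
      (∀ M : Subgroup G, L ≤ M → M ≤ K → (∀ h ∈ H, ∀ m ∈ M, h * m * h⁻¹ ∈ M) → M = L ∨ M = K) →
      ¬ IsSquare (L.relIndex K)) →
    ∀ χ : G → ℂ, IsIrrCharacter G χ →
    ∃ (H : Subgroup G) (hNH : N ≤ H) (ψ : H → ℂ), IsIrrCharacter H ψ ∧ indFun H ψ = χ ∧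
      IsIrrCharacter N (fun n : N => ψ ⟨(n : G), hNH n.2⟩) := by
  intro n
  induction n using Nat.strong_induction_on with
  | _ n ih =>
  intro G _ _ N _ hcard hsolv hchief χ hχ
  classical
  have hχcf : IsClassFunction G χ := isClassFunction_of_isCharacter (irr_isCharacter hχ)
  have htopirr : IsIrrCharacter (⊤ : Subgroup G) (fun x : (⊤ : Subgroup G) => χ x) :=
    isIrrCharacter_comp_equiv Subgroup.topEquiv hχ
  have hex : ∃ k : ℕ, ∃ K : Subgroup G, K.Normal ∧ N ≤ K ∧
      IsIrrCharacter K (fun x : K => χ x) ∧ Nat.card K = k :=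
    ⟨_, ⊤, inferInstance, le_top, htopirr, rfl⟩
  obtain ⟨K, hKn, hNK, hKirr, hKcard⟩ := Nat.find_spec hex
  have hKmin : ∀ K' : Subgroup G, K'.Normal → N ≤ K' →
      IsIrrCharacter K' (fun x : K' => χ x) → Nat.card K ≤ Nat.card K' := by
    intro K' h1 h2 h3
    rw [hKcard]
    exact Nat.find_min' hex ⟨K', h1, h2, h3, rfl⟩
  by_cases hKN : K = N
  · subst hKN
    exact ⟨⊤, le_top, fun h => χ h, htopirr, indFun_top hχcf, hKirr⟩
  · have hNltK : N < K := lt_of_le_of_ne hNK (Ne.symm hKN)
    have hexL : ∃ k : ℕ, ∃ L : Subgroup G, L.Normal ∧ N ≤ L ∧ L < K ∧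
        Nat.card K - Nat.card L = k := ⟨_, N, inferInstance, le_refl N, hNltK, rfl⟩
    obtain ⟨L, hLn, hNL, hLK, hLcard⟩ := Nat.find_spec hexL
    have hLmax : ∀ L' : Subgroup G, L'.Normal → N ≤ L' → L' < K →
        Nat.card L' ≤ Nat.card L := by
      intro L' h1 h2 h3
      have := Nat.find_min' hexL ⟨L', h1, h2, h3, rfl⟩
      rw [← hLcard] at this
      have h4 : Nat.card L' ≤ Nat.card K := Subgroup.card_le_of_le h3.le
      have h5 : Nat.card L ≤ Nat.card K := Subgroup.card_le_of_le hLK.le
      omega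
    have hchiefKL : ∀ M : Subgroup G, M.Normal → L ≤ M → M ≤ K → M = L ∨ M = K := by
      intro M hMn hLM hMK
      by_cases hMK' : M = K
      · right; exact hMK'
      · left
        have hlt : M < K := lt_of_le_of_ne hMK hMK'
        have := hLmax M hMn (hNL.trans hLM) hlt
        exact (Subgroup.eq_of_le_of_card_ge hLM this).symm
    haveI : K.Normal := hKn
    haveI : L.Normal := hLn
    have hsolvL : Group.IsSolvable (G ⧸ L) := by
      haveI := hsolv
      apply Group.isSolvable_of_surjective (f := QuotientGroup.map N L (MonoidHom.id G) hNL)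
      intro q
      obtain ⟨g, rfl⟩ := QuotientGroup.mk_surjective q
      exact ⟨QuotientGroup.mk g, rfl⟩
    have hab : ⁅K, K⁆ ≤ L := chief_factor_abelian K L hLK hsolvL hchiefKL
    have hinv : ∀ (g : G) (k : K), (fun x : K => χ x) ⟨g * k * g⁻¹, hKn.conj_mem (k : G) k.2 g⟩ =
        (fun x : K => χ x) k := fun g k => hχcf k g
    have h618 := Cfsg.Agent.S0857.result K L hLK hchiefKL hab (fun x : K => χ x) hKirr hinv
    rcases h618 with h | ⟨φ, e, hφ, hres, he⟩ | ⟨F, hF, hFcard, hres⟩
    · exfalso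
      have h1 := hKmin L hLn hNL h
      exact hLK.ne (Subgroup.eq_of_le_of_card_ge hLK.le h1)
    · exfalso
      apply hchief ⊤ K L hNL hLK le_top (fun h _ k hk => hKn.conj_mem k hk h)
        (fun h _ l hl => hLn.conj_mem l hl h)
      · intro M hLM hMK hM
        exact hchiefKL M ⟨fun m hm g => hM g (Subgroup.mem_top g) m hm⟩ hLM hMK
      · exact ⟨e, by rw [← he, sq]⟩
    · -- the restriction to `L` is a sum of `|K : L|` distinct characters
      haveI : Fintype L := Fintype.ofFinite _
      have hres' : (fun n : L => χ n) = ∑ φ ∈ F, φ := hres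
      have hF2 : 1 < F.card := by
        rw [hFcard]
        have h1 : L.relIndex K ≠ 1 := by
          rw [Ne, Subgroup.relIndex_eq_one]
          exact fun h => hLK.ne (le_antisymm hLK.le h)
        have h0 : L.relIndex K ≠ 0 := by
          unfold Subgroup.relIndex; exact Subgroup.index_ne_zero_of_finite
        omega
      obtain ⟨φ₁, hφ₁, φ₂, hφ₂, hne⟩ := Finset.one_lt_card.1 hF2
      have hin1 : classInner (fun n : L => χ n) φ₁ = 1 := by
        rw [hres']; exact classInner_sum_irr_mem F hF φ₁ hφ₁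
      have hin2 : classInner (fun n : L => χ n) φ₂ = 1 := by
        rw [hres']; exact classInner_sum_irr_mem F hF φ₂ hφ₂
      have hcon : classInner (fun n : L => χ n) φ₁ ≠ 0 := by rw [hin1]; exact one_ne_zero
      obtain ⟨T, hTdef⟩ : ∃ T : Subgroup G, T = inertiaSubgroup hLn φ₁ := ⟨_, rfl⟩
      haveI : Fintype T := Fintype.ofFinite _
      have hφ₁cf : IsClassFunction L φ₁ :=
        isClassFunction_of_isCharacter (irr_isCharacter (hF φ₁ hφ₁))
      have hLT : L ≤ T := by rw [hTdef]; exact le_inertiaSubgroup hLn hφ₁cf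
      have hNT : N ≤ T := hNL.trans hLT
      have hTtop : T ≠ ⊤ := by
        intro hT
        have hinvφ : ∀ g : G, conjChar hLn φ₁ g = φ₁ := by
          intro g
          have h1 : g ∈ T := by rw [hT]; exact Subgroup.mem_top g
          rw [hTdef] at h1
          exact h1
        have hclif := clifford_invariant hLn hχ (hF φ₁ hφ₁) hcon hinvφ
        rw [hin1, one_smul] at hclif
        rw [hclif, irr_classInner (hF φ₁ hφ₁) (hF φ₂ hφ₂), if_neg hne] at hin2
        exact zero_ne_one hin2
      obtain ⟨ξ, hξ, hind, -⟩ := Cfsg.Agent.S0854.result L φ₁ (hF φ₁ hφ₁) T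
        (fun g => by rw [hTdef]; exact mem_inertiaSubgroup hLn φ₁ g) hLT χ hχ hcon
      have hltT : Nat.card T < n := by
        rw [← hcard]
        exact lt_of_le_of_ne (Subgroup.card_le_card_group T)
          (fun h => hTtop ((Subgroup.card_eq_iff_eq_top T).mp h))
      haveI : (N.subgroupOf T).Normal := Subgroup.normal_subgroupOf
      have hsolvT : Group.IsSolvable (↥T ⧸ N.subgroupOf T) := by
        haveI := hsolv
        apply Group.isSolvable_of_isSolvable_injective
          (f := QuotientGroup.map (N.subgroupOf T) N T.subtype (fun x hx => hx))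
        rw [injective_iff_map_eq_one]
        intro q
        obtain ⟨t, rfl⟩ := QuotientGroup.mk_surjective q
        intro h
        have h1 : ((t : G) : G ⧸ N) = 1 := h
        rw [QuotientGroup.eq_one_iff] at h1 ⊢
        exact Subgroup.mem_subgroupOf.2 h1
      have hinjT : Function.Injective T.subtype := Subgroup.subtype_injective T
      have hchiefT : ∀ (H K L : Subgroup ↥T), N.subgroupOf T ≤ L → L < K → K ≤ H →
          (∀ h ∈ H, ∀ k ∈ K, h * k * h⁻¹ ∈ K) → (∀ h ∈ H, ∀ l ∈ L, h * l * h⁻¹ ∈ L) →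
          (∀ M : Subgroup ↥T, L ≤ M → M ≤ K → (∀ h ∈ H, ∀ m ∈ M, h * m * h⁻¹ ∈ M) →
            M = L ∨ M = K) → ¬ IsSquare (L.relIndex K) := by
        intro H' K' L' hNL' hLK' hKH' hinvK hinvL hM'
        rw [← Subgroup.relIndex_map_map_of_injective L' K' hinjT]
        apply hchief (H'.map T.subtype) (K'.map T.subtype) (L'.map T.subtype)
        · intro x hx
          exact Subgroup.mem_map.2 ⟨⟨x, hNT hx⟩, hNL' (Subgroup.mem_subgroupOf.2 hx), rfl⟩
        · exact (Subgroup.map_lt_map_iff_of_injective hinjT).2 hLK'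
        · exact Subgroup.map_mono hKH'
        · intro h hh k hk
          obtain ⟨h', hh', rfl⟩ := Subgroup.mem_map.1 hh
          obtain ⟨k', hk', rfl⟩ := Subgroup.mem_map.1 hk
          exact Subgroup.mem_map.2 ⟨h' * k' * h'⁻¹, hinvK h' hh' k' hk', by simp⟩
        · intro h hh k hk
          obtain ⟨h', hh', rfl⟩ := Subgroup.mem_map.1 hh
          obtain ⟨k', hk', rfl⟩ := Subgroup.mem_map.1 hk
          exact Subgroup.mem_map.2 ⟨h' * k' * h'⁻¹, hinvL h' hh' k' hk', by simp⟩
        · intro M hLM hMK hMinv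
          have hMeq : M = (M.comap T.subtype).map T.subtype := by
            ext x
            constructor
            · intro hx
              obtain ⟨k, _, rfl⟩ := Subgroup.mem_map.1 (hMK hx)
              exact Subgroup.mem_map.2 ⟨k, hx, rfl⟩
            · intro hx
              obtain ⟨m, hm, rfl⟩ := Subgroup.mem_map.1 hx
              exact hm
          have h1 : L' ≤ M.comap T.subtype := by
            intro x hx
            exact hLM (Subgroup.mem_map_of_mem _ hx)
          have h2 : M.comap T.subtype ≤ K' := by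
            intro x hx
            obtain ⟨k, hk, hkx⟩ := Subgroup.mem_map.1 (hMK hx)
            have : k = x := hinjT hkx
            rw [← this]; exact hk
          have h3 : ∀ h ∈ H', ∀ m ∈ M.comap T.subtype, h * m * h⁻¹ ∈ M.comap T.subtype := by
            intro h hh m hm
            have := hMinv (T.subtype h) (Subgroup.mem_map_of_mem _ hh) (T.subtype m) hm
            rw [Subgroup.mem_comap]
            simpa using this
          rcases hM' _ h1 h2 h3 with h | h
          · left; rw [hMeq, h]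
          · right; rw [hMeq, h]
      obtain ⟨H', hNH', ψ', hψ', hind', hres''⟩ :=
        ih _ hltT T (N.subgroupOf T) rfl hsolvT hchiefT ξ hξ
      have hNH : N ≤ H'.map T.subtype := by
        intro x hx
        exact Subgroup.mem_map.2 ⟨⟨x, hNT hx⟩, hNH' (Subgroup.mem_subgroupOf.2 hx), rfl⟩
      refine ⟨H'.map T.subtype, hNH, fun e =>
        ψ' ((H'.equivMapOfInjective T.subtype T.subtype_injective).symm e), ?_, ?_, ?_⟩
      · exact isIrrCharacter_comp_equiv
          (H'.equivMapOfInjective T.subtype T.subtype_injective).symm hψ'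
      · rw [← hind, ← hind']
        exact (indFun_trans_map T H' ψ').symm
      · have e₁ : ↥N ≃* ↥(N.subgroupOf T) := (Subgroup.subgroupOfEquivOfLe hNT).symm
        have := isIrrCharacter_comp_equiv (Subgroup.subgroupOfEquivOfLe hNT).symm hres''
        convert this using 1
        funext x
        simp only [Function.comp_apply]
        congr 1
        rw [MulEquiv.symm_apply_eq]
        apply Subtype.ext
        rfl

end RelM

end Cfsg.Agent.Lib.Helper8
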