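import Mathlib
import Cfsg.Prelude.Def_Characters
import Cfsg.Agent.Lib.Helper8.AbelChief
import Cfsg.Agent.Lib.Helper8.RelM
import Cfsg.Agent.Lib.Helper8.CharMonomial
import Cfsg.Agent.Lib.Helper8.CharIto
import Cfsg.Agent.Lib.Helper8.BrauerSpan
import Cfsg.Agent.Lib.Helper8.CharRamified
import Cfsg.Agent.Lib.Helper8.CharContain
import Cfsg.Agent.Lib.Helper8.CharAbelQuot
import Cfsg.Agent.Lib.Helper8.GlaubRefine
import Cfsg.Agent.Lib.Helper8.CharLinear
import Cfsg.Agent.S0854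

set_option autoImplicit false

namespace Cfsg.Agent.Lib.Helper8
open Cfsg
open scoped ComplexConjugate

universe u

section MGroup

/-- a constituent of the restriction of a constituent is a constituent of the restriction -/
theorem constituent_restrict_ne_zero {J : Type*} [Group J] [Fintype J] {α : J → ℂ}
    (hα : IsCharacter J α) (η : IrrCharacter J) (hη : classInner α η.1 ≠ 0)
    (S : Subgroup J) [Fintype S] (θ : IrrCharacter S)
    (hθ : classInner (fun s : S => η.1 s) θ.1 ≠ 0) :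
    classInner (fun s : S => α s) θ.1 ≠ 0 := by
  classical
  haveI : Finite (IrrCharacter J) := irr_finite
  haveI : Fintype (IrrCharacter J) := Fintype.ofFinite _
  obtain ⟨m, hm⟩ := isCharacter_decomp hα
  have hαeq : α = fun g => ∑ ξ : IrrCharacter J, (m ξ : ℂ) * ξ.1 g := funext hm
  have hmη : m η ≠ 0 := by
    intro h0; apply hη; rw [hαeq, classInner_comb_irr (fun ξ => (m ξ : ℂ)) η, h0]; simp
  have hk : ∀ ξ : IrrCharacter J, ∃ k : ℕ, classInner (fun s : S => ξ.1 s) θ.1 = k :=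
    fun ξ => classInner_character_nat (isCharacter_restrict S (irr_isCharacter ξ.2))
      (irr_isCharacter θ.2)
  choose k hk using hk
  have hkη : k η ≠ 0 := by
    intro h0; apply hθ; rw [hk η, h0]; simp
  have h1 : (fun s : S => α s) =
      fun s : S => ∑ ξ : IrrCharacter J, (m ξ : ℂ) * (fun s : S => ξ.1 s) s := by
    funext s; rw [hm]
  rw [h1, classInner_sum_left]
  have h2 : ∑ ξ : IrrCharacter J, (m ξ : ℂ) * classInner (fun s : S => ξ.1 s) θ.1 =
      ((∑ ξ : IrrCharacter J, m ξ * k ξ : ℕ) : ℂ) := by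
    push_cast; apply Finset.sum_congr rfl; intro ξ _; rw [hk ξ]
  rw [h2]
  have h3 : 0 < ∑ ξ : IrrCharacter J, m ξ * k ξ := by
    apply lt_of_lt_of_le _ (Finset.single_le_sum (f := fun ξ => m ξ * k ξ)
      (fun _ _ => Nat.zero_le _) (Finset.mem_univ η))
    exact Nat.mul_pos (Nat.pos_of_ne_zero hmη) (Nat.pos_of_ne_zero hkη)
  exact_mod_cast h3.ne'

/-- the two ways of viewing `J ⊓ N` -/
def subgroupOfSwap {H : Type*} [Group H] (J N : Subgroup H) :
    ↥(J.subgroupOf N) ≃* ↥(N.subgroupOf J) where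
  toFun x := ⟨⟨((x : N) : H), Subgroup.mem_subgroupOf.1 x.2⟩, Subgroup.mem_subgroupOf.2 (x : N).2⟩
  invFun y := ⟨⟨((y : J) : H), Subgroup.mem_subgroupOf.1 y.2⟩, Subgroup.mem_subgroupOf.2 (y : J).2⟩
  left_inv x := Subtype.ext (Subtype.ext rfl)
  right_inv y := Subtype.ext (Subtype.ext rfl)
  map_mul' x y := Subtype.ext (Subtype.ext rfl)

theorem subgroupOfSwap_coe {H : Type*} [Group H] (J N : Subgroup H) (x : ↥(J.subgroupOf N)) :
    (((subgroupOfSwap J N x : ↥(N.subgroupOf J)) : J) : H) = ((x : N) : H) := rfl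

/-- if an induced character restricts irreducibly to a normal subgroup, so does the inducing
character -/
theorem restrict_irr_of_induced_irr {H : Type u} [Group H] [Fintype H] (N : Subgroup H)
    [hN : N.Normal] (J : Subgroup H) (η : J → ℂ) (hη : IsIrrCharacter J η)
    (hψ : IsIrrCharacter H (indFun J η))
    (hirr : IsIrrCharacter N (fun n : N => indFun J η n)) :
    IsIrrCharacter (N.subgroupOf J) (fun x : N.subgroupOf J => η x) := by
  classical
  haveI : Fintype J := Fintype.ofFinite _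
  haveI : Fintype N := Fintype.ofFinite _
  haveI : Fintype (N.subgroupOf J) := Fintype.ofFinite _
  haveI : Fintype (J.subgroupOf N) := Fintype.ofFinite _
  obtain ⟨ψ, hψdef⟩ : ∃ ψ : H → ℂ, ψ = indFun J η := ⟨_, rfl⟩
  rw [← hψdef] at hψ hirr
  have hψc := irr_isCharacter hψ
  have hψcf := isClassFunction_of_isCharacter hψc
  have hηc := irr_isCharacter hη
  -- `η` is a constituent of `ψ_J`
  have hψJ : classInner (fun j : J => ψ j) η ≠ 0 := by
    have h1 := frobenius_reciprocity J η ψ hψcf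
    rw [← hψdef, irr_classInner hψ hψ, if_pos rfl] at h1
    rw [classInner_conj_symm, ← h1]; simp
  -- a constituent of `η` on `J ∩ N`
  have hresc : IsCharacter (N.subgroupOf J) (fun x : N.subgroupOf J => η x) :=
    isCharacter_restrict _ hηc
  have hres0 : (fun x : N.subgroupOf J => η x) ≠ 0 := by
    intro h0
    have := congrFun h0 1
    simp only [Pi.zero_apply, OneMemClass.coe_one] at this
    exact irr_one_ne_zero ⟨η, hη⟩ this
  obtain ⟨θ, hθcon⟩ := exists_constituent_of_ne_zero hresc hres0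
  have hcommon := constituent_restrict_ne_zero (isCharacter_restrict J hψc) ⟨η, hη⟩ hψJ
    (N.subgroupOf J) θ hθcon
  -- transport to `N`
  obtain ⟨e, he⟩ : ∃ e : ↥(J.subgroupOf N) ≃* ↥(N.subgroupOf J), e = subgroupOfSwap J N :=
    ⟨_, rfl⟩
  have hθ'irr : IsIrrCharacter (J.subgroupOf N) (θ.1 ∘ e) := isIrrCharacter_comp_equiv e θ.2
  have hφI : (fun x : J.subgroupOf N => (fun n : N => ψ n) x) =
      (fun y : N.subgroupOf J => (fun j : J => ψ j) y) ∘ e := by
    funext x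
    simp only [Function.comp_apply]
    rw [he, subgroupOfSwap_coe]
  have hcon' : classInner (fun x : J.subgroupOf N => (fun n : N => ψ n) x) (θ.1 ∘ e) ≠ 0 := by
    rw [hφI, classInner_comp_equiv]; exact hcommon
  have hφcf : IsClassFunction N (fun n : N => ψ n) :=
    isClassFunction_of_isCharacter (irr_isCharacter hirr)
  have hfrob : classInner (indFun (J.subgroupOf N) (θ.1 ∘ e)) (fun n : N => ψ n) ≠ 0 := by
    rw [frobenius_reciprocity (J.subgroupOf N) (θ.1 ∘ e) (fun n : N => ψ n) hφcf,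
      classInner_conj_symm]
    intro h0
    apply hcon'
    have := congrArg (starRingEnd ℂ) h0
    simpa using this
  have hindc : IsCharacter N (indFun (J.subgroupOf N) (θ.1 ∘ e)) :=
    isCharacter_indFun _ (irr_isCharacter hθ'irr)
  obtain ⟨m, hm⟩ := classInner_character_nat hindc (irr_isCharacter hirr)
  have hm0 : m ≠ 0 := by
    intro h0; apply hfrob; rw [hm, h0]; simp
  have hdeg1 := degree_ge_of_constituent hindc ⟨fun n : N => ψ n, hirr⟩ m hm
  simp only at hdeg1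
  -- degrees
  have d1 : charDegree (indFun (J.subgroupOf N) (θ.1 ∘ e)) = J.relIndex N * charDegree θ.1 := by
    have h3 := isCharacter_one_eq_charDegree hindc
    rw [indFun_one] at h3
    have h4 : (θ.1 ∘ e) 1 = θ.1 1 := by simp
    have h5 := irr_one_eq_charDegree θ
    rw [h4, h5] at h3
    have : ((J.relIndex N * charDegree θ.1 : ℕ) : ℂ) =
        ((charDegree (indFun (J.subgroupOf N) (θ.1 ∘ e)) : ℕ) : ℂ) := by
      rw [← h3]; push_cast; rfl
    exact_mod_cast this.symm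
  have d2 : charDegree (fun n : N => ψ n) = J.index * charDegree η := by
    have h3 := isCharacter_one_eq_charDegree (irr_isCharacter hirr)
    simp only [OneMemClass.coe_one] at h3
    have hψ1 : ψ 1 = (J.index : ℂ) * (charDegree η : ℂ) := by
      rw [hψdef, indFun_one, isCharacter_one_eq_charDegree hηc]
    rw [hψ1] at h3
    exact_mod_cast h3.symm
  obtain ⟨k, hk⟩ := classInner_character_nat hresc (irr_isCharacter θ.2)
  have hk0 : k ≠ 0 := by
    intro h0; apply hθcon; rw [hk, h0]; simp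
  have hdeg2 := degree_ge_of_constituent hresc θ k hk
  have d3 : charDegree (fun x : N.subgroupOf J => η x) = charDegree η := by
    have h3 := isCharacter_one_eq_charDegree hresc
    simp only [OneMemClass.coe_one] at h3
    rw [isCharacter_one_eq_charDegree hηc] at h3
    exact_mod_cast h3.symm
  have d4 : J.relIndex N ≤ J.index := by
    have h0 : J.relIndex ⊤ ≠ 0 := by
      rw [Subgroup.relIndex_top_right]; exact Subgroup.index_ne_zero_of_finite
    have := Subgroup.relIndex_le_of_le_right (H := J) (le_top : N ≤ ⊤) h0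
    rwa [Subgroup.relIndex_top_right] at this
  have hJpos : 0 < J.index := Nat.pos_of_ne_zero Subgroup.index_ne_zero_of_finite
  have hηpos : 0 < charDegree η := charDegree_pos ⟨η, hη⟩
  have hθle : charDegree θ.1 ≤ charDegree η := by
    rw [d3] at hdeg2
    calc charDegree θ.1 ≤ k * charDegree θ.1 := Nat.le_mul_of_pos_left _ (Nat.pos_of_ne_zero hk0)
      _ ≤ charDegree η := hdeg2
  have hkey : J.index * charDegree η ≤ J.index * charDegree θ.1 := by
    rw [d1, d2] at hdeg1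
    calc J.index * charDegree η ≤ m * (J.index * charDegree η) :=
          Nat.le_mul_of_pos_left _ (Nat.pos_of_ne_zero hm0)
      _ ≤ J.relIndex N * charDegree θ.1 := hdeg1
      _ ≤ J.index * charDegree θ.1 := Nat.mul_le_mul_right _ d4
  have hθge : charDegree η ≤ charDegree θ.1 := Nat.le_of_mul_le_mul_left hkey hJpos
  have hdegeq : charDegree (fun x : N.subgroupOf J => η x) = charDegree θ.1 := by
    rw [d3]; omega
  rw [eq_of_constituent_of_degree_eq hresc θ hθcon hdegeq]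
  exact θ.2

/-- a normal subgroup of a solvable group has a normal subgroup with quotient of exponent `p` -/
theorem exists_normal_pquotient {H : Type*} [Group H] [Finite H] [Group.IsSolvable H]
    (M : Subgroup H) [hMn : M.Normal] (hM : M ≠ ⊥) :
    ∃ (p : ℕ) (_ : p.Prime) (L : Subgroup H), L.Normal ∧ L < M ∧ ∀ x ∈ M, x ^ p ∈ L := by
  classical
  haveI : Nontrivial ↥M := (Subgroup.nontrivial_iff_ne_bot M).2 hM
  have hcomm : commutator ↥M < ⊤ := Group.IsSolvable.commutator_lt_top_of_nontrivial ↥M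
  haveI : Finite (Abelianization ↥M) := by unfold Abelianization; infer_instance
  have hcardA : Nat.card (Abelianization ↥M) ≠ 1 := by
    intro h
    have : (commutator ↥M).index = 1 := by rw [Subgroup.index_eq_card]; exact h
    exact hcomm.ne (Subgroup.index_eq_one.1 this)
  obtain ⟨p, hp, hpdvd⟩ := Nat.exists_prime_and_dvd hcardA
  haveI : Fact p.Prime := ⟨hp⟩
  obtain ⟨a, ha⟩ := exists_prime_orderOf_dvd_card' p hpdvd
  obtain ⟨f, hf⟩ : ∃ f : Abelianization ↥M →* Abelianization ↥M, f = powMonoidHom p := ⟨_, rfl⟩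
  have hfap : ∀ b, f b = b ^ p := fun b => by rw [hf]; rfl
  have hfns : ¬ Function.Surjective f := by
    rw [← Finite.injective_iff_surjective]
    intro hinj
    have h1 : f a = f 1 := by
      rw [hfap, hfap, one_pow, ← ha]; exact pow_orderOf_eq_one a
    have := hinj h1
    rw [this, orderOf_one] at ha
    exact hp.one_lt.ne ha
  obtain ⟨L', hL'⟩ : ∃ L' : Subgroup ↥M, L' = f.range.comap Abelianization.of := ⟨_, rfl⟩
  have hL'mem : ∀ x : ↥M, x ∈ L' ↔ ∃ b, f b = Abelianization.of x := by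
    intro x; rw [hL']; rfl
  refine ⟨p, hp, L'.map M.subtype, ?_, ?_, ?_⟩
  · constructor
    intro x hx h
    obtain ⟨x', hx', rfl⟩ := Subgroup.mem_map.1 hx
    obtain ⟨b, hb⟩ := (hL'mem x').1 hx'
    refine Subgroup.mem_map.2 ⟨MulAut.conjNormal h x', ?_, MulAut.conjNormal_apply h x'⟩
    rw [hL'mem]
    refine ⟨Abelianization.map (MulAut.conjNormal h : ↥M ≃* ↥M).toMonoidHom b, ?_⟩
    rw [hfap, ← map_pow, ← hfap, hb, Abelianization.map_of]
    rfl
  · refine lt_of_le_of_ne (Subgroup.map_subtype_le L') ?_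
    intro heq
    apply hfns
    intro q
    obtain ⟨x, rfl⟩ := QuotientGroup.mk_surjective q
    have hx : (x : H) ∈ L'.map M.subtype := by rw [heq]; exact x.2
    obtain ⟨x', hx', hxx'⟩ := Subgroup.mem_map.1 hx
    have : x' = x := Subtype.ext hxx'
    rw [this] at hx'
    exact (hL'mem x).1 hx'
  · intro x hx
    refine Subgroup.mem_map.2 ⟨⟨x, hx⟩ ^ p, ?_, by simp⟩
    rw [hL'mem]
    exact ⟨Abelianization.of ⟨x, hx⟩, by rw [hfap, map_pow]⟩

/-- a normal subgroup with quotient of exponent `p` together with a Sylow `p`-subgroup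
generates the group -/
theorem exists_mul_sylow {M : Type*} [Group M] [Finite M] (p : ℕ) [hp : Fact p.Prime]
    (L : Subgroup M) [hL : L.Normal] (hpow : ∀ x : M, x ^ p ∈ L) (P : Sylow p M) (a : M) :
    ∃ l ∈ L, ∃ x ∈ P, a = l * x := by
  have hQ : IsPGroup p (M ⧸ L) := by
    intro q
    obtain ⟨x, rfl⟩ := QuotientGroup.mk_surjective q
    refine ⟨1, ?_⟩
    rw [pow_one, ← QuotientGroup.mk_pow, QuotientGroup.eq_one_iff]
    exact hpow x
  obtain ⟨n, hn⟩ := IsPGroup.iff_card.1 hQ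
  have hLidx : L.index = p ^ n := by rw [Subgroup.index_eq_card]; exact hn
  have h1 : (L ⊔ (P : Subgroup M)).index ∣ p ^ n := by
    rw [← hLidx]; exact Subgroup.index_dvd_of_le le_sup_left
  have h2 : (L ⊔ (P : Subgroup M)).index ∣ (P : Subgroup M).index :=
    Subgroup.index_dvd_of_le le_sup_right
  have h3 : ¬ p ∣ (P : Subgroup M).index := Sylow.not_dvd_index P
  have h4 : (L ⊔ (P : Subgroup M)).index = 1 := by
    obtain ⟨k, _, hk⟩ := (Nat.dvd_prime_pow hp.out).1 h1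
    rcases Nat.eq_zero_or_pos k with h0 | hpos
    · rw [hk, h0, pow_zero]
    · exfalso
      apply h3
      apply dvd_trans _ h2
      rw [hk]
      exact dvd_pow_self p hpos.ne'
  have h5 : L ⊔ (P : Subgroup M) = ⊤ := Subgroup.index_eq_one.1 h4
  have h6 : a ∈ ((L ⊔ (P : Subgroup M) : Subgroup M) : Set M) := by
    rw [h5]; exact Set.mem_univ a
  rw [Subgroup.normal_mul] at h6
  obtain ⟨l, hl, x, hx, hlx⟩ := Set.mem_mul.1 h6
  exact ⟨l, hl, x, hx, hlx.symm⟩

/-- an irreducible character lying over a linear character of a normal subgroup with quotient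
of exponent `p` is linear when the `p`-subgroups are abelian -/
theorem linear_of_ramified_over_linear {M : Type u} [Group M] [Fintype M] (L : Subgroup M)
    (hL : L.Normal) [Fintype L] (lam : IrrCharacter L) (h1 : lam.1 1 = 1) (θ : IrrCharacter M)
    (hres : (fun l : L => θ.1 l) = classInner (fun l : L => θ.1 l) lam.1 • lam.1)
    (p : ℕ) [hp : Fact p.Prime] (hpow : ∀ x : M, x ^ p ∈ L)
    (hsyl : ∀ Q : Subgroup M, IsPGroup p Q → ∀ a ∈ Q, ∀ b ∈ Q, a * b = b * a) :
    θ.1 1 = 1 := by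
  classical
  have hθcf : IsClassFunction M θ.1 := isClassFunction_of_isCharacter (irr_isCharacter θ.2)
  have hθ1 : θ.1 1 ≠ 0 := irr_one_ne_zero θ
  have hc : classInner (fun l : L => θ.1 l) lam.1 = θ.1 1 := by
    have := congrFun hres 1
    simp only [Pi.smul_apply, smul_eq_mul, h1, mul_one, OneMemClass.coe_one] at this
    exact this.symm
  rw [hc] at hres
  have hval : ∀ l : L, θ.1 l = θ.1 1 * lam.1 l := by
    intro l
    have := congrFun hres l
    simpa using this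
  have hlinv : ∀ (m : M) (l : L), lam.1 ⟨m * l * m⁻¹, hL.conj_mem l l.2 m⟩ = lam.1 l := by
    intro m l
    have e1 := hval ⟨m * l * m⁻¹, hL.conj_mem l l.2 m⟩
    have e2 := hval l
    have e3 : θ.1 (m * l * m⁻¹) = θ.1 l := hθcf l m
    simp only at e1
    rw [e3, e2] at e1
    exact (mul_left_cancel₀ hθ1 e1).symm
  have hmul := linear_char_mul lam h1
  have hlinvv : ∀ l : L, lam.1 l * lam.1 l⁻¹ = 1 := by
    intro l; rw [← hmul, mul_inv_cancel, h1]
  let K₀ : Subgroup M :=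
    { carrier := {x | ∃ h : x ∈ L, lam.1 ⟨x, h⟩ = 1}
      mul_mem' := by
        rintro a b ⟨ha, ha1⟩ ⟨hb, hb1⟩
        refine ⟨L.mul_mem ha hb, ?_⟩
        have : (⟨a * b, L.mul_mem ha hb⟩ : L) = ⟨a, ha⟩ * ⟨b, hb⟩ := rfl
        rw [this, hmul, ha1, hb1, mul_one]
      one_mem' := ⟨L.one_mem, h1⟩
      inv_mem' := by
        rintro a ⟨ha, ha1⟩
        refine ⟨L.inv_mem ha, ?_⟩
        have := hlinvv ⟨a, ha⟩
        rw [ha1, one_mul] at this
        exact this }
  have hK₀mem : ∀ x, x ∈ K₀ ↔ ∃ h : x ∈ L, lam.1 ⟨x, h⟩ = 1 := fun x => Iff.rfl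
  have hK₀n : K₀.Normal := by
    constructor
    intro x hx m
    obtain ⟨h, hx1⟩ := (hK₀mem x).1 hx
    exact (hK₀mem _).2 ⟨hL.conj_mem x h m, by rw [hlinv m ⟨x, h⟩]; exact hx1⟩
  haveI : Fintype K₀ := Fintype.ofFinite _
  obtain ⟨P⟩ : Nonempty (Sylow p M) := inferInstance
  have habP := hsyl P P.2
  have hab : ∀ a b : M, a * b * a⁻¹ * b⁻¹ ∈ K₀ := by
    intro a b
    obtain ⟨l₁, hl₁, x₁, hx₁, rfl⟩ := exists_mul_sylow p L hpow P a
    obtain ⟨l₂, hl₂, x₂, hx₂, rfl⟩ := exists_mul_sylow p L hpow P b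
    have hcomm : x₂ * x₁⁻¹ = x₁⁻¹ * x₂ := by
      have := habP x₁ hx₁ x₂ hx₂
      calc x₂ * x₁⁻¹ = x₁⁻¹ * (x₁ * x₂) * x₁⁻¹ := by group
        _ = x₁⁻¹ * (x₂ * x₁) * x₁⁻¹ := by rw [this]
        _ = x₁⁻¹ * x₂ := by group
    have hform : l₁ * x₁ * (l₂ * x₂) * (l₁ * x₁)⁻¹ * (l₂ * x₂)⁻¹ =
        l₁ * (x₁ * l₂ * x₁⁻¹) * (x₂ * l₁⁻¹ * x₂⁻¹) * l₂⁻¹ := by
      calc l₁ * x₁ * (l₂ * x₂) * (l₁ * x₁)⁻¹ * (l₂ * x₂)⁻¹
          = l₁ * x₁ * l₂ * (x₂ * x₁⁻¹) * l₁⁻¹ * x₂⁻¹ * l₂⁻¹ := by group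
        _ = l₁ * x₁ * l₂ * (x₁⁻¹ * x₂) * l₁⁻¹ * x₂⁻¹ * l₂⁻¹ := by rw [hcomm]
        _ = l₁ * (x₁ * l₂ * x₁⁻¹) * (x₂ * l₁⁻¹ * x₂⁻¹) * l₂⁻¹ := by group
    rw [hform, hK₀mem]
    have m1 : x₁ * l₂ * x₁⁻¹ ∈ L := hL.conj_mem l₂ hl₂ x₁
    have m2 : x₂ * l₁⁻¹ * x₂⁻¹ ∈ L := hL.conj_mem _ (L.inv_mem hl₁) x₂
    refine ⟨L.mul_mem (L.mul_mem (L.mul_mem hl₁ m1) m2) (L.inv_mem hl₂), ?_⟩
    have : (⟨l₁ * (x₁ * l₂ * x₁⁻¹) * (x₂ * l₁⁻¹ * x₂⁻¹) * l₂⁻¹,
        L.mul_mem (L.mul_mem (L.mul_mem hl₁ m1) m2) (L.inv_mem hl₂)⟩ : L) =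
        ⟨l₁, hl₁⟩ * ⟨x₁ * l₂ * x₁⁻¹, m1⟩ * ⟨x₂ * l₁⁻¹ * x₂⁻¹, m2⟩ * (⟨l₂, hl₂⟩ : L)⁻¹ := rfl
    rw [this, hmul, hmul, hmul]
    have e1 := hlinv x₁ ⟨l₂, hl₂⟩
    have e2 := hlinv x₂ (⟨l₁, hl₁⟩ : L)⁻¹
    simp only [Subgroup.coe_inv] at e1 e2
    rw [e1, e2]
    have i1 := hlinvv ⟨l₁, hl₁⟩
    have i2 := hlinvv ⟨l₂, hl₂⟩
    calc lam.1 ⟨l₁, hl₁⟩ * lam.1 ⟨l₂, hl₂⟩ * lam.1 (⟨l₁, hl₁⟩ : L)⁻¹ * lam.1 (⟨l₂, hl₂⟩ : L)⁻¹
        = (lam.1 ⟨l₁, hl₁⟩ * lam.1 (⟨l₁, hl₁⟩ : L)⁻¹) *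
          (lam.1 ⟨l₂, hl₂⟩ * lam.1 (⟨l₂, hl₂⟩ : L)⁻¹) := by ring
      _ = 1 := by rw [i1, i2, mul_one]
  have hθK : (fun k : K₀ => θ.1 k) = fun _ => θ.1 1 := by
    funext k
    obtain ⟨h, hk1⟩ := (hK₀mem k).1 k.2
    have := hval ⟨k, h⟩
    simp only at this
    rw [this, hk1, mul_one]
  have hne : classInner (indFun K₀ (fun _ : K₀ => (1 : ℂ))) θ.1 ≠ 0 := by
    rw [frobenius_reciprocity K₀ _ θ.1 hθcf, hθK]
    have h2 : classInner (fun _ : K₀ => (1 : ℂ)) (fun _ : K₀ => θ.1 1) = conj (θ.1 1) := by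
      unfold classInner
      simp only [one_mul, Finset.sum_const, Finset.card_univ, nsmul_eq_mul]
      rw [← Nat.card_eq_fintype_card]
      have : (Nat.card K₀ : ℂ) ≠ 0 := by exact_mod_cast Nat.card_pos.ne'
      field_simp
    rw [h2]
    intro h0
    apply hθ1
    have := congrArg (starRingEnd ℂ) h0
    simpa using this
  exact linear_of_over_principal hK₀n hab θ hne

end MGroup

end Cfsg.Agent.Lib.Helper8
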