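import Mathlib
import Cfsg.Prelude.Def_Characters
import Cfsg.Agent.Lib.Helper8.AbelChief
import Cfsg.Agent.Lib.Helper8.MGroup
import Cfsg.Agent.Lib.Helper8.GlaubOrth
import Cfsg.Agent.Lib.Helper8.CharCliffordCorr
import Cfsg.Agent.S0856
import Cfsg.Agent.S0886

set_option autoImplicit false
set_option maxHeartbeats 1000000

namespace Cfsg.Agent.Lib.Helper8
open Cfsg
open scoped ComplexConjugate
open scoped Classical

universe u

section FrobRam

/-- the norm of a natural combination of irreducible characters -/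
theorem norm_nat_comb {H : Type*} [Group H] [Fintype H] [Fintype (IrrCharacter H)]
    (m : IrrCharacter H → ℕ) :
    classInner (fun g => ∑ ψ : IrrCharacter H, (m ψ : ℂ) * ψ.1 g)
      (fun g => ∑ ψ : IrrCharacter H, (m ψ : ℂ) * ψ.1 g) =
      ∑ ψ : IrrCharacter H, ((m ψ : ℂ)) ^ 2 := by
  rw [classInner_sum_left]
  apply Finset.sum_congr rfl
  intro ψ _
  rw [classInner_conj_symm, classInner_comb_irr (fun ψ => (m ψ : ℂ)) ψ]
  simp [sq]

/-- a pure arithmetic lemma -/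
theorem frobram_arith {ι : Type*} (Λ : Finset ι) (a : ι → ℕ) (m e : ℕ) (hm : 1 < m)
    (hcard : Λ.card = m) (hsum : ∑ i ∈ Λ, a i = e)
    (hsq : m * ∑ i ∈ Λ, (a i) ^ 2 + 1 = m + e ^ 2) :
    (m : ℤ) ∣ (e : ℤ) - 1 ∨ (m : ℤ) ∣ (e : ℤ) + 1 := by
  obtain ⟨q, hq⟩ : ∃ q : ℤ, q = (e : ℤ) / m := ⟨_, rfl⟩
  obtain ⟨r, hr⟩ : ∃ r : ℤ, r = (e : ℤ) % m := ⟨_, rfl⟩
  have hmpos : (0 : ℤ) < m := by exact_mod_cast (by omega : 0 < m)
  have hqr : (e : ℤ) = m * q + r := by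
    rw [hq, hr]; exact (Int.mul_ediv_add_emod _ _).symm
  have hr0 : 0 ≤ r := by rw [hr]; exact Int.emod_nonneg _ hmpos.ne'
  have hrm : r < m := by rw [hr]; exact Int.emod_lt_of_pos _ hmpos
  have hsumZ' : ∑ i ∈ Λ, (a i : ℤ) = e := by exact_mod_cast hsum
  have hsumZ : ∑ i ∈ Λ, ((a i : ℤ) - q) = r := by
    rw [Finset.sum_sub_distrib, Finset.sum_const, hcard, hsumZ', nsmul_eq_mul]
    linarith
  have hsqZ' : (m : ℤ) * ∑ i ∈ Λ, ((a i : ℤ)) ^ 2 + 1 = m + (e : ℤ) ^ 2 := by exact_mod_cast hsq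
  have hsqZ : (m : ℤ) * ∑ i ∈ Λ, ((a i : ℤ) - q) ^ 2 = m - 1 + r ^ 2 := by
    have h1 : ∑ i ∈ Λ, ((a i : ℤ) - q) ^ 2 =
        ∑ i ∈ Λ, ((a i : ℤ)) ^ 2 - 2 * q * e + m * q ^ 2 := by
      have h2 : ∀ i, ((a i : ℤ) - q) ^ 2 = (a i : ℤ) ^ 2 - 2 * q * (a i) + q ^ 2 := by
        intro i; ring
      simp_rw [h2]
      rw [Finset.sum_add_distrib, Finset.sum_sub_distrib, ← Finset.mul_sum, Finset.sum_const,
        hcard, hsumZ', nsmul_eq_mul]
    have hr' : r = e - m * q := by linarith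
    rw [h1, hr']
    linear_combination hsqZ'
  have hge : r ≤ ∑ i ∈ Λ, ((a i : ℤ) - q) ^ 2 := by
    rw [← hsumZ]
    apply Finset.sum_le_sum
    intro i _
    rcases le_or_gt ((a i : ℤ) - q) 0 with h | h
    · nlinarith [sq_nonneg ((a i : ℤ) - q)]
    · nlinarith
  have hineq : (m : ℤ) * r ≤ m - 1 + r ^ 2 := by
    rw [← hsqZ]; exact mul_le_mul_of_nonneg_left hge hmpos.le
  have hcases : r = 0 ∨ r = 1 ∨ r = m - 1 := by
    by_contra hcon
    push_neg at hcon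
    obtain ⟨h0, h1, h2⟩ := hcon
    have h3 : 2 ≤ r := by omega
    have h4 : r ≤ m - 2 := by omega
    nlinarith
  rcases hcases with h | h | h
  · exfalso
    rw [h] at hsqZ
    rcases le_or_gt (∑ i ∈ Λ, ((a i : ℤ) - q) ^ 2) 0 with hT | hT
    · have hm1 : (1 : ℤ) < m := by exact_mod_cast hm
      nlinarith
    · nlinarith
  · left; exact ⟨q, by linarith⟩
  · right; exact ⟨q + 1, by rw [hqr, h]; ring⟩

/-- in a cyclic quotient commutators are trivial -/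
theorem comm_mem_of_cyclic_quot {K : Type*} [Group K] (L : Subgroup K) [L.Normal]
    (h : IsCyclic (K ⧸ L)) (x y : K) : x * y * x⁻¹ * y⁻¹ ∈ L := by
  obtain ⟨g, hg⟩ := h.exists_generator
  obtain ⟨i, hi⟩ := Subgroup.mem_zpowers_iff.mp (hg (QuotientGroup.mk x))
  obtain ⟨j, hj⟩ := Subgroup.mem_zpowers_iff.mp (hg (QuotientGroup.mk y))
  rw [← QuotientGroup.eq_one_iff]
  simp only [QuotientGroup.mk_mul, QuotientGroup.mk_inv]
  rw [← hi, ← hj]
  group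

variable {Γ : Type u} [Group Γ]

/-- Frobenius action: the conjugators of an outside element into the complement form a coset -/
theorem frob_fiber_card [Fintype Γ] (G N C : Subgroup Γ) [hG : G.Normal] [hN : N.Normal]
    (hNG : N ≤ G) (hNC : N ≤ C) (hCG : ∀ c ∈ C, c ∈ G → c ∈ N) (hsup : C ⊔ G = ⊤)
    (hfrob : ∀ x : Γ, x ∉ G → ∀ g : Γ, g ∈ G → x * g * x⁻¹ * g⁻¹ ∈ N → g ∈ N)
    (γ : Γ) (hγ : γ ∉ G) :
    (Finset.univ.filter (fun g : Γ => g ∈ G ∧ g⁻¹ * γ * g ∈ C)).card = Nat.card N := by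
  -- existence
  have hex : ∃ g₁ : Γ, g₁ ∈ G ∧ g₁⁻¹ * γ * g₁ ∈ C := by
    have hγtop : γ ∈ C ⊔ G := by rw [hsup]; exact Subgroup.mem_top γ
    rw [Subgroup.mem_sup_of_normal_right] at hγtop
    obtain ⟨c, hc, g₀, hg₀, hcg⟩ := hγtop
    have hcG : c ∉ G := by
      intro h; apply hγ; rw [← hcg]; exact G.mul_mem h hg₀
    have hcG' : c⁻¹ ∉ G := fun h => hcG (by simpa using G.inv_mem h)
    have hfmem : ∀ g : G, c⁻¹ * (g : Γ)⁻¹ * c * g ∈ G := by
      intro g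
      have h1 : c⁻¹ * (g : Γ)⁻¹ * c ∈ G := by
        have := hG.conj_mem _ (G.inv_mem g.2) c⁻¹
        simpa using this
      exact G.mul_mem h1 g.2
    obtain ⟨F, hF⟩ : ∃ F : (G ⧸ N.subgroupOf G) → (G ⧸ N.subgroupOf G),
        F = fun q => QuotientGroup.mk ⟨c⁻¹ * (q.out : Γ)⁻¹ * c * q.out, hfmem q.out⟩ := ⟨_, rfl⟩
    have hFinj : Function.Injective F := by
      intro q₁ q₂ h12
      rw [hF] at h12
      simp only at h12
      rw [QuotientGroup.eq, Subgroup.mem_subgroupOf] at h12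
      simp only [Subgroup.coe_mul, Subgroup.coe_inv] at h12
      obtain ⟨g₁, hg₁⟩ : ∃ g₁ : G, g₁ = q₁.out := ⟨_, rfl⟩
      obtain ⟨g₂, hg₂⟩ : ∃ g₂ : G, g₂ = q₂.out := ⟨_, rfl⟩
      rw [← hg₁, ← hg₂] at h12
      have h2 : c⁻¹ * ((g₁ : Γ) * (g₂ : Γ)⁻¹) * (c⁻¹)⁻¹ * ((g₁ : Γ) * (g₂ : Γ)⁻¹)⁻¹ ∈ N := by
        have := hN.conj_mem _ h12 g₁
        convert this using 1
        group
      have h3 : (g₁ : Γ) * (g₂ : Γ)⁻¹ ∈ N :=
        hfrob c⁻¹ hcG' _ (G.mul_mem g₁.2 (G.inv_mem g₂.2)) h2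
      have h4 : (g₁ : Γ)⁻¹ * (g₂ : Γ) ∈ N := by
        have := hN.conj_mem _ (N.inv_mem h3) (g₁ : Γ)⁻¹
        convert this using 1
        group
      have h5 : (QuotientGroup.mk g₁ : G ⧸ N.subgroupOf G) = QuotientGroup.mk g₂ := by
        rw [QuotientGroup.eq, Subgroup.mem_subgroupOf]
        simpa using h4
      rw [hg₁, hg₂, QuotientGroup.out_eq', QuotientGroup.out_eq'] at h5
      exact h5
    have hFsurj : Function.Surjective F := Finite.injective_iff_surjective.mp hFinj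
    obtain ⟨q, hq⟩ := hFsurj (QuotientGroup.mk ⟨g₀, hg₀⟩)
    rw [hF] at hq
    simp only at hq
    rw [QuotientGroup.eq, Subgroup.mem_subgroupOf] at hq
    simp only [Subgroup.coe_mul, Subgroup.coe_inv] at hq
    obtain ⟨g, hg⟩ : ∃ g : G, g = q.out := ⟨_, rfl⟩
    rw [← hg] at hq
    refine ⟨(g : Γ)⁻¹, G.inv_mem g.2, ?_⟩
    -- g γ g⁻¹ = c * (g n g⁻¹)
    have h1 : ((g : Γ)⁻¹)⁻¹ * γ * (g : Γ)⁻¹ =
        c * ((g : Γ) * ((c⁻¹ * (g : Γ)⁻¹ * c * g)⁻¹ * g₀) * (g : Γ)⁻¹) := by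
      rw [← hcg]; group
    rw [h1]
    exact C.mul_mem hc (hNC (hN.conj_mem _ hq g))
  obtain ⟨g₁, hg₁, hg₁C⟩ := hex
  have hc₁G : g₁⁻¹ * γ * g₁ ∉ G := by
    intro h; apply hγ
    have := hG.conj_mem _ h g₁
    simpa [mul_assoc] using this
  have hset : Finset.univ.filter (fun g : Γ => g ∈ G ∧ g⁻¹ * γ * g ∈ C) =
      (Finset.univ.filter (fun n : Γ => n ∈ N)).image (fun n => g₁ * n) := by
    ext g
    simp only [Finset.mem_filter, Finset.mem_image, Finset.mem_univ, true_and]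
    constructor
    · rintro ⟨hg, hgC⟩
      refine ⟨g₁⁻¹ * g, ?_, by group⟩
      have hh : g₁⁻¹ * g ∈ G := G.mul_mem (G.inv_mem hg₁) hg
      have h1 : (g₁⁻¹ * γ * g₁)⁻¹ * (g⁻¹ * γ * g) ∈ C := C.mul_mem (C.inv_mem hg₁C) hgC
      have h2 : (g₁⁻¹ * γ * g₁)⁻¹ * (g⁻¹ * γ * g) =
          (g₁⁻¹ * γ * g₁)⁻¹ * (g₁⁻¹ * g)⁻¹ * ((g₁⁻¹ * γ * g₁)⁻¹)⁻¹ * ((g₁⁻¹ * g)⁻¹)⁻¹ := by
        group
      have h3 : (g₁⁻¹ * γ * g₁)⁻¹ * (g⁻¹ * γ * g) ∈ G := by
        rw [h2]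
        have h4 : (g₁⁻¹ * γ * g₁)⁻¹ * (g₁⁻¹ * g)⁻¹ * ((g₁⁻¹ * γ * g₁)⁻¹)⁻¹ ∈ G :=
          hG.conj_mem _ (G.inv_mem hh) _
        have h5 : ((g₁⁻¹ * g)⁻¹)⁻¹ ∈ G := by rw [inv_inv]; exact hh
        exact G.mul_mem h4 h5
      have h6 := hCG _ h1 h3
      rw [h2] at h6
      have h7 := hfrob (g₁⁻¹ * γ * g₁)⁻¹ (fun h => hc₁G (by simpa using G.inv_mem h))
        (g₁⁻¹ * g)⁻¹ (G.inv_mem hh) h6
      simpa using N.inv_mem h7
    · rintro ⟨n, hn, rfl⟩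
      refine ⟨G.mul_mem hg₁ (hNG hn), ?_⟩
      have h1 : (g₁ * n)⁻¹ * γ * (g₁ * n) = n⁻¹ * (g₁⁻¹ * γ * g₁) * n := by group
      rw [h1]
      exact C.mul_mem (C.mul_mem (C.inv_mem (hNC hn)) hg₁C) (hNC hn)
  rw [hset, Finset.card_image_of_injective _ (mul_right_injective g₁)]
  exact (Nat.subtype_card _ (by simp)).symm

/-- double counting for the Frobenius action -/
theorem frob_count_sum [Fintype Γ] (G N C : Subgroup Γ) [hG : G.Normal] [hN : N.Normal]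
    (hNG : N ≤ G) (hNC : N ≤ C) (hCG : ∀ c ∈ C, c ∈ G → c ∈ N) (hsup : C ⊔ G = ⊤)
    (hfrob : ∀ x : Γ, x ∉ G → ∀ g : Γ, g ∈ G → x * g * x⁻¹ * g⁻¹ ∈ N → g ∈ N)
    (F : Γ → ℂ) (hF : ∀ x g : Γ, F (g * x * g⁻¹) = F x) :
    (Nat.card N : ℂ) * ∑ γ : Γ, (if γ ∈ G then 0 else F γ) =
      (Nat.card G : ℂ) * ∑ c : Γ, (if c ∈ C ∧ c ∉ N then F c else 0) := by
  have hL : ∑ g : Γ, ∑ γ : Γ, (if g ∈ G ∧ γ ∉ G ∧ g⁻¹ * γ * g ∈ C then F γ else 0) =
      (Nat.card N : ℂ) * ∑ γ : Γ, (if γ ∈ G then 0 else F γ) := by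
    rw [Finset.sum_comm, Finset.mul_sum]
    apply Finset.sum_congr rfl
    intro γ _
    by_cases hγ : γ ∈ G
    · rw [if_pos hγ, mul_zero]
      apply Finset.sum_eq_zero
      intro g _
      rw [if_neg]
      rintro ⟨_, h, _⟩
      exact h hγ
    · rw [if_neg hγ]
      have h1 : ∀ g : Γ, (if g ∈ G ∧ γ ∉ G ∧ g⁻¹ * γ * g ∈ C then F γ else 0) =
          if g ∈ G ∧ g⁻¹ * γ * g ∈ C then F γ else 0 := by
        intro g
        apply if_congr _ rfl rfl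
        constructor
        · rintro ⟨a, _, b⟩; exact ⟨a, b⟩
        · rintro ⟨a, b⟩; exact ⟨a, hγ, b⟩
      simp_rw [h1]
      rw [← Finset.sum_filter, Finset.sum_const,
        frob_fiber_card G N C hNG hNC hCG hsup hfrob γ hγ, nsmul_eq_mul]
  have hR : ∑ g : Γ, ∑ γ : Γ, (if g ∈ G ∧ γ ∉ G ∧ g⁻¹ * γ * g ∈ C then F γ else 0) =
      (Nat.card G : ℂ) * ∑ c : Γ, (if c ∈ C ∧ c ∉ N then F c else 0) := by
    have h1 : ∀ g : Γ, ∑ γ : Γ, (if g ∈ G ∧ γ ∉ G ∧ g⁻¹ * γ * g ∈ C then F γ else 0) =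
        if g ∈ G then ∑ c : Γ, (if c ∈ C ∧ c ∉ N then F c else 0) else 0 := by
      intro g
      by_cases hg : g ∈ G
      · rw [if_pos hg]
        rw [← Equiv.sum_comp (MulAut.conj g).toEquiv]
        apply Finset.sum_congr rfl
        intro c _
        simp only [MulEquiv.toEquiv_eq_coe, EquivLike.coe_coe, MulAut.conj_apply]
        have h2 : g⁻¹ * (g * c * g⁻¹) * g = c := by group
        rw [hF]
        apply if_congr _ rfl rfl
        rw [h2]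
        constructor
        · rintro ⟨_, h3, h4⟩
          exact ⟨h4, fun hn => h3 (hG.conj_mem c (hNG hn) g)⟩
        · rintro ⟨h3, h4⟩
          refine ⟨hg, fun h => h4 (hCG c h3 ?_), h3⟩
          have := hG.conj_mem _ h g⁻¹
          simpa [mul_assoc] using this
      · rw [if_neg hg]
        apply Finset.sum_eq_zero
        intro γ _
        rw [if_neg]
        rintro ⟨h, _⟩
        exact hg h
    simp_rw [h1]
    rw [← Finset.sum_filter, Finset.sum_const, nsmul_eq_mul]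
    congr 2
    exact (Nat.subtype_card _ (by simp)).symm
  rw [← hL, hR]

/-- sums over a subgroup as indicator sums -/
theorem sum_subgroup_eq_ite [Fintype Γ] (H : Subgroup Γ) [Fintype H] (f : Γ → ℂ) :
    ∑ h : H, f h = ∑ γ : Γ, (if γ ∈ H then f γ else 0) := by
  rw [← Finset.sum_subtype (Finset.univ.filter (fun k : Γ => k ∈ H)) (by intro x; simp) f,
    Finset.sum_filter]

/-- the norm of the restriction to the Frobenius complement -/
theorem frob_norm [Fintype Γ] (G N C : Subgroup Γ) [hG : G.Normal] [hN : N.Normal]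
    [Fintype G] [Fintype N] [Fintype C]
    (hNG : N ≤ G) (hNC : N ≤ C) (hCG : ∀ c ∈ C, c ∈ G → c ∈ N) (hsup : C ⊔ G = ⊤)
    (hfrob : ∀ x : Γ, x ∉ G → ∀ g : Γ, g ∈ G → x * g * x⁻¹ * g⁻¹ ∈ N → g ∈ N)
    (ψ : Γ → ℂ) (hψ : IsClassFunction Γ ψ) (e : ℂ)
    (h1 : classInner ψ ψ = 1)
    (h2 : classInner (fun g : G => ψ g) (fun g : G => ψ g) = 1)
    (h3 : classInner (fun n : N => ψ n) (fun n : N => ψ n) = e ^ 2) :
    (Nat.card C : ℂ) = (G.index : ℂ) * (Nat.card N : ℂ) ∧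
    (G.index : ℂ) * classInner (fun c : C => ψ c) (fun c : C => ψ c) =
      (G.index : ℂ) + e ^ 2 - 1 := by
  obtain ⟨F, hFdef⟩ : ∃ F : Γ → ℂ, F = fun γ => ψ γ * conj (ψ γ) := ⟨_, rfl⟩
  have hFcf : ∀ x g : Γ, F (g * x * g⁻¹) = F x := by
    intro x g; rw [hFdef]; simp only; rw [hψ x g]
  have hg0 : (Nat.card G : ℂ) ≠ 0 := by exact_mod_cast Nat.card_pos.ne'
  have hn0 : (Nat.card N : ℂ) ≠ 0 := by exact_mod_cast Nat.card_pos.ne'
  have ht0 : (Nat.card Γ : ℂ) ≠ 0 := by exact_mod_cast Nat.card_pos.ne'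
  have hc0 : (Nat.card C : ℂ) ≠ 0 := by exact_mod_cast Nat.card_pos.ne'
  have hm0 : (G.index : ℂ) ≠ 0 := by
    exact_mod_cast Subgroup.index_ne_zero_of_finite
  have hE0 : (Nat.card Γ : ℂ) = (Nat.card G : ℂ) * (G.index : ℂ) := by
    rw [← Nat.cast_mul, Subgroup.card_mul_index]
  -- the sums
  have hSΓ : ∑ γ : Γ, F γ = (Nat.card Γ : ℂ) := by
    unfold classInner at h1
    rw [hFdef]
    field_simp at h1
    exact h1
  have hSG : ∑ γ : Γ, (if γ ∈ G then F γ else 0) = (Nat.card G : ℂ) := by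
    unfold classInner at h2
    rw [← sum_subgroup_eq_ite G F, hFdef]
    field_simp at h2
    exact h2
  have hSN : ∑ γ : Γ, (if γ ∈ N then F γ else 0) = e ^ 2 * (Nat.card N : ℂ) := by
    unfold classInner at h3
    rw [← sum_subgroup_eq_ite N F, hFdef]
    field_simp at h3
    show ∑ h : N, ψ h * conj (ψ h) = _
    rw [h3, mul_comm]
  have hSC : ∑ γ : Γ, (if γ ∈ C then F γ else 0) =
      (Nat.card C : ℂ) * classInner (fun c : C => ψ c) (fun c : C => ψ c) := by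
    unfold classInner
    rw [← sum_subgroup_eq_ite C F, hFdef]
    field_simp
  have hone : ∀ H : Subgroup Γ, ∑ γ : Γ, (if γ ∈ H then (1 : ℂ) else 0) = (Nat.card H : ℂ) := by
    intro H
    rw [← Finset.sum_filter, Finset.sum_const, nsmul_eq_mul, mul_one]
    congr 1
    exact (Nat.subtype_card _ (by simp)).symm
  have hsplit1 : ∀ f : Γ → ℂ, ∑ γ : Γ, (if γ ∈ G then 0 else f γ) =
      ∑ γ : Γ, f γ - ∑ γ : Γ, (if γ ∈ G then f γ else 0) := by
    intro f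
    rw [← Finset.sum_sub_distrib]
    apply Finset.sum_congr rfl
    intro γ _
    by_cases h : γ ∈ G
    · rw [if_pos h, if_pos h, sub_self]
    · rw [if_neg h, if_neg h, sub_zero]
  have hsplit2 : ∀ f : Γ → ℂ, ∑ c : Γ, (if c ∈ C ∧ c ∉ N then f c else 0) =
      ∑ γ : Γ, (if γ ∈ C then f γ else 0) - ∑ γ : Γ, (if γ ∈ N then f γ else 0) := by
    intro f
    rw [← Finset.sum_sub_distrib]
    apply Finset.sum_congr rfl
    intro γ _
    by_cases h : γ ∈ N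
    · rw [if_neg (fun hh => hh.2 h), if_pos h, if_pos (hNC h), sub_self]
    · by_cases h' : γ ∈ C
      · rw [if_pos ⟨h', h⟩, if_pos h', if_neg h, sub_zero]
      · rw [if_neg (fun hh => h' hh.1), if_neg h', if_neg h, sub_zero]
  have hcount1 := frob_count_sum G N C hNG hNC hCG hsup hfrob (fun _ => (1 : ℂ)) (fun _ _ => rfl)
  have hcountF := frob_count_sum G N C hNG hNC hCG hsup hfrob F hFcf
  rw [hsplit1, hsplit2] at hcount1 hcountF
  rw [hone G, hone C, hone N] at hcount1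
  have hall : ∑ γ : Γ, (1 : ℂ) = (Nat.card Γ : ℂ) := by
    rw [Finset.sum_const, Finset.card_univ, nsmul_eq_mul, mul_one, Nat.card_eq_fintype_card]
  rw [hall, hE0] at hcount1
  rw [hSΓ, hSG, hSN, hSC, hE0] at hcountF
  have hcard : (Nat.card C : ℂ) = (G.index : ℂ) * (Nat.card N : ℂ) := by
    have h4 : (Nat.card G : ℂ) * ((Nat.card N : ℂ) * ((G.index : ℂ) - 1)) =
        (Nat.card G : ℂ) * ((Nat.card C : ℂ) - (Nat.card N : ℂ)) := by
      rw [← hcount1]; ring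
    have h5 := mul_left_cancel₀ hg0 h4
    linear_combination -h5
  refine ⟨hcard, ?_⟩
  have h4 : (Nat.card G : ℂ) * ((Nat.card N : ℂ) * ((G.index : ℂ) - 1)) =
      (Nat.card G : ℂ) * ((Nat.card C : ℂ) * classInner (fun c : C => ψ c) (fun c : C => ψ c) -
        e ^ 2 * (Nat.card N : ℂ)) := by
    rw [← hcountF]; ring
  have h5 := mul_left_cancel₀ hg0 h4
  rw [hcard] at h5
  have h6 : (Nat.card N : ℂ) * ((G.index : ℂ) *
      classInner (fun c : C => ψ c) (fun c : C => ψ c)) =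
      (Nat.card N : ℂ) * ((G.index : ℂ) + e ^ 2 - 1) := by
    linear_combination -h5
  exact mul_left_cancel₀ hn0 h6

end FrobRam

end Cfsg.Agent.Lib.Helper8
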