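import Mathlib
import Cfsg.Prelude.Def_Characters
import Cfsg.Agent.Lib.Helper8.FrobRam

set_option autoImplicit false
set_option maxHeartbeats 1000000

namespace Cfsg.Agent.Lib.Helper8
open Cfsg
open scoped ComplexConjugate
open scoped Classical

universe u

section FrobRam2

theorem classInner_const_mul_left {H : Type*} [Group H] [Fintype H] (c : ℂ) (f g : H → ℂ) :
    classInner (fun x => c * f x) g = c * classInner f g := by
  unfold classInner
  simp_rw [mul_assoc]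
  rw [← Finset.mul_sum]
  ring

theorem classInner_const_mul_right {H : Type*} [Group H] [Fintype H] (c : ℂ) (f g : H → ℂ) :
    classInner f (fun x => c * g x) = conj c * classInner f g := by
  unfold classInner
  simp_rw [map_mul]
  have : ∀ x, f x * (conj c * conj (g x)) = conj c * (f x * conj (g x)) := by intro x; ring
  simp_rw [this]
  rw [← Finset.mul_sum]
  ring

/-- the character induced from an invariant character is invariant -/
theorem indFun_subOf_conj {Γ : Type u} [Group Γ] (G N : Subgroup Γ) [hG : G.Normal]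
    [hN : N.Normal] [Fintype G]
    (θ : N → ℂ) (hinv : ∀ (x : Γ) (n : N), θ ⟨x * n * x⁻¹, hN.conj_mem n n.2 x⟩ = θ n)
    (x : Γ) (g : G) :
    indFun (N.subgroupOf G) (subOfFun N G θ) ⟨x * g * x⁻¹, hG.conj_mem g g.2 x⟩ =
      indFun (N.subgroupOf G) (subOfFun N G θ) g := by
  rw [indFun_apply, indFun_apply]
  congr 1
  have hext : ∀ z : G, extendByZero (N.subgroupOf G) (subOfFun N G θ) (MulAut.conjNormal x z) =
      extendByZero (N.subgroupOf G) (subOfFun N G θ) z := by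
    intro z
    by_cases hz : z ∈ N.subgroupOf G
    · have hz' : MulAut.conjNormal x z ∈ N.subgroupOf G := by
        rw [Subgroup.mem_subgroupOf, MulAut.conjNormal_apply]
        exact hN.conj_mem _ (Subgroup.mem_subgroupOf.mp hz) x
      rw [extendByZero_mem _ _ hz, extendByZero_mem _ _ hz']
      exact hinv x ⟨z, Subgroup.mem_subgroupOf.mp hz⟩
    · have hz' : MulAut.conjNormal x z ∉ N.subgroupOf G := by
        intro h; apply hz
        rw [Subgroup.mem_subgroupOf, MulAut.conjNormal_apply] at h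
        rw [Subgroup.mem_subgroupOf]
        have := hN.conj_mem _ h x⁻¹
        simpa [mul_assoc] using this
      rw [extendByZero_not_mem _ _ hz, extendByZero_not_mem _ _ hz']
  symm
  apply Fintype.sum_equiv (MulAut.conjNormal x : G ≃* G).toEquiv
  intro y
  rw [← hext (y⁻¹ * g * y)]
  congr 1
  apply Subtype.ext
  simp only [MulEquiv.toEquiv_eq_coe, EquivLike.coe_coe, MulAut.conjNormal_apply, Subgroup.coe_mul,
    Subgroup.coe_inv]
  group

/-- consequences of full ramification -/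
theorem ram_facts {Γ : Type u} [Group Γ] [Fintype Γ] (G N : Subgroup Γ) [hG : G.Normal]
    [hN : N.Normal] [Fintype G] [Fintype N] (hNG : N ≤ G) (θ : IrrCharacter N)
    (hinv : ∀ (x : Γ) (n : N), θ.1 ⟨x * n * x⁻¹, hN.conj_mem n n.2 x⟩ = θ.1 n)
    (χ : IrrCharacter G) (e : ℕ)
    (hram : indFun (N.subgroupOf G) (subOfFun N G θ.1) = fun g => (e : ℂ) * χ.1 g) :
    e ≠ 0 ∧ (∀ n : N, χ.1 ⟨n, hNG n.2⟩ = (e : ℂ) * θ.1 n) ∧
      (∀ (x : Γ) (g : G), χ.1 ⟨x * g * x⁻¹, hG.conj_mem g g.2 x⟩ = χ.1 g) := by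
  haveI : Fintype (N.subgroupOf G) := Fintype.ofFinite _
  have hN' : (N.subgroupOf G).Normal := inferInstance
  have hθ' : IsIrrCharacter (N.subgroupOf G) (subOfFun N G θ.1) := subOfFun_irr hNG θ.2
  have hinv' : ∀ g : G, conjChar hN' (subOfFun N G θ.1) g = subOfFun N G θ.1 := by
    intro g; funext n
    exact hinv g ⟨n, n.2⟩
  have hnorm := norm_indFun_invariant hN' hθ' hinv'
  rw [hram] at hnorm
  rw [classInner_const_mul_left, classInner_const_mul_right, irr_classInner χ.2 χ.2,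
    if_pos rfl] at hnorm
  have hidx : ((N.subgroupOf G).index : ℂ) ≠ 0 := by
    exact_mod_cast Subgroup.index_ne_zero_of_finite
  have he : e ≠ 0 := by
    intro h0; apply hidx; rw [← hnorm, h0]; simp
  have heC : (e : ℂ) ≠ 0 := by exact_mod_cast he
  refine ⟨he, ?_, ?_⟩
  · have hχcf := isClassFunction_of_isCharacter (irr_isCharacter χ.2)
    have hfr := frobenius_reciprocity (N.subgroupOf G) (subOfFun N G θ.1) χ.1 hχcf
    rw [hram, classInner_const_mul_left, irr_classInner χ.2 χ.2, if_pos rfl, mul_one] at hfr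
    have hcon : classInner (fun n : N.subgroupOf G => χ.1 n) (subOfFun N G θ.1) = (e : ℂ) := by
      rw [classInner_conj_symm, ← hfr]; simp
    have hres := clifford_invariant hN' χ.2 hθ' (by rw [hcon]; exact heC) hinv'
    rw [hcon] at hres
    intro n
    have h1 := congrFun hres ⟨⟨n, hNG n.2⟩, n.2⟩
    rw [Pi.smul_apply, smul_eq_mul] at h1
    exact h1
  · intro x g
    have h1 := indFun_subOf_conj G N θ.1 hinv x g
    rw [hram] at h1
    simp only at h1
    exact mul_left_cancel₀ heC h1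

/-- the Frobenius complement (over `N`) for a cyclic quotient -/
theorem exists_frob_complement {Γ : Type u} [Group Γ] (G N : Subgroup Γ) [hG : G.Normal]
    [hN : N.Normal] (hNG : N ≤ G) (hGlt : G ≠ ⊤) (hcyc : IsCyclic (Γ ⧸ G))
    (hfrob : ∀ x : Γ, x ∉ G → ∀ g : Γ, g ∈ G → x * g * x⁻¹ * g⁻¹ ∈ N → g ∈ N) :
    ∃ C : Subgroup Γ, N ≤ C ∧ (∀ c ∈ C, c ∈ G → c ∈ N) ∧ C ⊔ G = ⊤ ∧
      IsCyclic (↥C ⧸ N.subgroupOf C) := by
  obtain ⟨x0, hx0⟩ := hcyc.exists_generator
  obtain ⟨x, rfl⟩ := QuotientGroup.mk_surjective x0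
  have hxG : x ∉ G := by
    intro hx; apply hGlt; rw [eq_top_iff]; intro γ _
    obtain ⟨k, hk⟩ := Subgroup.mem_zpowers_iff.mp (hx0 (QuotientGroup.mk γ))
    have h1 : (QuotientGroup.mk x : Γ ⧸ G) = 1 := (QuotientGroup.eq_one_iff x).mpr hx
    rw [h1, one_zpow] at hk
    exact (QuotientGroup.eq_one_iff γ).mp hk.symm
  have hxC : ∀ k : ℤ, x ^ k ∈ N ⊔ Subgroup.zpowers x := fun k =>
    Subgroup.mem_sup_right (Subgroup.zpow_mem_zpowers x k)
  refine ⟨N ⊔ Subgroup.zpowers x, le_sup_left, ?_, ?_, ?_⟩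
  · intro c hc hcG
    rw [Subgroup.mem_sup_of_normal_left] at hc
    obtain ⟨n, hn, z, hz, rfl⟩ := hc
    obtain ⟨k, rfl⟩ := Subgroup.mem_zpowers_iff.mp hz
    have hxk : x ^ k ∈ G := by
      have := G.mul_mem (G.inv_mem (hNG hn)) hcG
      simpa using this
    have h2 := hfrob x hxG (x ^ k) hxk (by
      have : x * x ^ k * x⁻¹ * (x ^ k)⁻¹ = 1 := by group
      rw [this]; exact N.one_mem)
    exact N.mul_mem hn h2
  · rw [eq_top_iff]; intro γ _
    obtain ⟨k, hk⟩ := Subgroup.mem_zpowers_iff.mp (hx0 (QuotientGroup.mk γ))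
    rw [← QuotientGroup.mk_zpow, QuotientGroup.eq] at hk
    have h1 : γ = x ^ k * ((x ^ k)⁻¹ * γ) := by group
    rw [h1]
    exact Subgroup.mul_mem_sup (hxC k) hk
  · refine ⟨⟨QuotientGroup.mk ⟨x, by simpa using hxC 1⟩, ?_⟩⟩
    intro y
    obtain ⟨c, rfl⟩ := QuotientGroup.mk_surjective y
    obtain ⟨c, hc⟩ := c
    have hc' := hc
    rw [Subgroup.mem_sup_of_normal_left] at hc'
    obtain ⟨n, hn, z, hz, hnz⟩ := hc'
    obtain ⟨k, rfl⟩ := Subgroup.mem_zpowers_iff.mp hz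
    refine ⟨k, ?_⟩
    show (QuotientGroup.mk ⟨x, _⟩ : ↥(N ⊔ Subgroup.zpowers x) ⧸ _) ^ k = _
    rw [← QuotientGroup.mk_zpow, QuotientGroup.eq, Subgroup.mem_subgroupOf]
    simp only [Subgroup.coe_mul, Subgroup.coe_inv, Subgroup.coe_zpow]
    rw [← hnz]
    have := hN.conj_mem n hn (x ^ k)⁻¹
    simpa [mul_assoc] using this

/-- Gallagher decomposition of a character lying over a fully extendible character -/
theorem gallagher_decomp {K : Type u} [Group K] [Fintype K] [Fintype (IrrCharacter K)]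
    (L : Subgroup K) [hL : L.Normal] [Fintype L]
    (hab : ∀ x y : K, x * y * x⁻¹ * y⁻¹ ∈ L)
    (θL : L → ℂ) (hθL : IsIrrCharacter L θL)
    (hinv : ∀ (g : K) (n : L), θL ⟨g * n * g⁻¹, hL.conj_mem (n : K) n.2 g⟩ = θL n)
    (θh : K → ℂ) (hθh : IsIrrCharacter K θh) (hext : ∀ n : L, θh n = θL n)
    (Ψ : K → ℂ) (hΨ : IsCharacter K Ψ) (e : ℕ) (hΨL : ∀ n : L, Ψ n = (e : ℂ) * θL n) :
    ∃ (Λ : Finset (IrrCharacter K)) (a : IrrCharacter K → ℕ), Λ.card = L.index ∧
      ∑ μ ∈ Λ, a μ = e ∧ classInner Ψ Ψ = ∑ μ ∈ Λ, ((a μ : ℂ)) ^ 2 := by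
  obtain ⟨Λ, hΛ⟩ : ∃ Λ : Finset (IrrCharacter K), Λ = Finset.univ.filter
      (fun ψ : IrrCharacter K => ψ.1 1 = 1 ∧ ∀ x ∈ L, ψ.1 x = 1) := ⟨_, rfl⟩
  have hmemΛ : ∀ μ, μ ∈ Λ ↔ (μ.1 1 = 1 ∧ ∀ x ∈ L, μ.1 x = 1) := by
    intro μ; rw [hΛ]; simp
  have hθhcf : IsClassFunction K θh := isClassFunction_of_isCharacter (irr_isCharacter hθh)
  have hind1 := ind_principal_eq_sum L hL hab
  rw [← hΛ] at hind1
  -- card
  have hcard : Λ.card = L.index := by
    have h1 := congrFun hind1 1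
    rw [indFun_one] at h1
    simp only [mul_one] at h1
    have h2 : ∑ ψ ∈ Λ, ψ.1 1 = (Λ.card : ℂ) := by
      rw [Finset.sum_congr rfl (fun μ hμ => ((hmemΛ μ).mp hμ).1)]
      simp
    rw [h2] at h1
    exact_mod_cast h1.symm
  -- induced character of θL
  have hindθ : indFun L θL = fun g => ∑ μ ∈ Λ, (1 : ℂ) * (μ.1 * θh) g := by
    have h1 := indFun_mul_restrict L (fun _ : L => (1 : ℂ)) hθhcf
    have h2 : (fun n : L => (1 : ℂ) * θh n) = θL := by funext n; rw [one_mul, hext]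
    rw [h2, hind1] at h1
    rw [h1]
    funext g
    rw [Pi.mul_apply, Finset.sum_mul]
    apply Finset.sum_congr rfl
    intro μ _
    rw [one_mul, Pi.mul_apply]
  -- the map ι
  obtain ⟨ι, hι⟩ : ∃ ι : IrrCharacter K → IrrCharacter K, ∀ μ ∈ Λ, (ι μ).1 = μ.1 * θh := by
    refine ⟨fun μ => if h : μ.1 1 = 1 then ⟨μ.1 * θh, linear_mul_isIrr μ h hθh⟩ else μ, ?_⟩
    intro μ hμ
    have h := ((hmemΛ μ).mp hμ).1
    simp only [dif_pos h]
  -- injectivity
  have hinj : Set.InjOn ι (Λ : Set (IrrCharacter K)) := by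
    have h1irr : IsIrrCharacter L (fun _ => (1 : ℂ)) := principal_isIrrCharacter
    have hprodeq : (fun _ : L => (1 : ℂ)) * θL = θL := by ext n; simp
    have hbij := Cfsg.Agent.S0856.result L (fun _ => (1 : ℂ)) θL h1irr hθL
      (fun _ _ => rfl) hinv (by rw [hprodeq]; exact hθL) θh hθh hext
    intro μ hμ μ' hμ' hμμ'
    have hμ1 := (hmemΛ μ).mp (Finset.mem_coe.mp hμ)
    have hμ'1 := (hmemΛ μ').mp (Finset.mem_coe.mp hμ')
    have h1 : μ.1 ∈ {β : K → ℂ | IsIrrCharacter K β ∧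
        classInner (indFun L (fun _ : L => (1 : ℂ))) β ≠ 0} :=
      ⟨μ.2, over_principal_of_ker μ (fun k hk => by rw [hμ1.2 k hk, hμ1.1])⟩
    have h2 : μ'.1 ∈ {β : K → ℂ | IsIrrCharacter K β ∧
        classInner (indFun L (fun _ : L => (1 : ℂ))) β ≠ 0} :=
      ⟨μ'.2, over_principal_of_ker μ' (fun k hk => by rw [hμ'1.2 k hk, hμ'1.1])⟩
    apply Subtype.ext
    apply hbij.injOn h1 h2
    show μ.1 * θh = μ'.1 * θh
    rw [← hι μ (Finset.mem_coe.mp hμ), ← hι μ' (Finset.mem_coe.mp hμ'), hμμ']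
  -- decomposition
  obtain ⟨a, ha⟩ := isCharacter_decomp hΨ
  have hΨeq : Ψ = fun g => ∑ ξ : IrrCharacter K, (a ξ : ℂ) * ξ.1 g := funext ha
  have haξ : ∀ ξ : IrrCharacter K, classInner Ψ ξ.1 = (a ξ : ℂ) := by
    intro ξ; rw [hΨeq]; exact classInner_comb_irr (fun ξ => (a ξ : ℂ)) ξ
  have hsupp : ∀ ξ : IrrCharacter K, a ξ ≠ 0 → ∃ μ ∈ Λ, ι μ = ξ := by
    intro ξ hξ
    have hΨξ : classInner Ψ ξ.1 ≠ 0 := by rw [haξ]; exact_mod_cast hξ
    have hξL : IsCharacter L (fun n : L => ξ.1 n) := isCharacter_restrict L (irr_isCharacter ξ.2)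
    have hξL0 : (fun n : L => ξ.1 n) ≠ 0 := by
      intro h0
      have := congrFun h0 1
      exact irr_one_ne_zero ξ (by simpa using this)
    obtain ⟨η, hη⟩ := exists_constituent_of_ne_zero hξL hξL0
    have h1 := constituent_restrict_ne_zero hΨ ξ hΨξ L η hη
    have hΨL' : (fun s : L => Ψ s) = fun s : L => (e : ℂ) * θL s := funext hΨL
    have hηθ : η.1 = θL := by
      by_contra hne
      apply h1
      rw [hΨL', classInner_const_mul_left, irr_classInner hθL η.2,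
        if_neg (fun h => hne h.symm), mul_zero]
    rw [hηθ] at hη
    have hfr := frobenius_reciprocity L θL ξ.1
      (isClassFunction_of_isCharacter (irr_isCharacter ξ.2))
    have hne : classInner (indFun L θL) ξ.1 ≠ 0 := by
      rw [hfr, classInner_conj_symm]
      intro h0
      apply hη
      have := congrArg conj h0
      simpa using this
    rw [hindθ, classInner_sum_left] at hne
    obtain ⟨μ, hμ, hμne⟩ := Finset.exists_ne_zero_of_sum_ne_zero hne
    refine ⟨μ, hμ, ?_⟩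
    have hirr : IsIrrCharacter K (μ.1 * θh) := by rw [← hι μ hμ]; exact (ι μ).2
    rw [one_mul, irr_classInner hirr ξ.2] at hμne
    by_contra hne'
    apply hμne
    rw [if_neg]
    intro h
    apply hne'
    apply Subtype.ext
    rw [hι μ hμ, h]
  -- reindexing
  have hre : ∀ f : IrrCharacter K → ℂ, (∀ ξ, a ξ = 0 → f ξ = 0) →
      ∑ ξ : IrrCharacter K, f ξ = ∑ μ ∈ Λ, f (ι μ) := by
    intro f hf
    rw [← Finset.sum_image (f := f) hinj]
    symm
    apply Finset.sum_subset (Finset.subset_univ _)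
    intro ξ _ hξ
    apply hf
    by_contra h
    obtain ⟨μ, hμ, rfl⟩ := hsupp ξ h
    exact hξ (Finset.mem_image_of_mem ι hμ)
  refine ⟨Λ, fun μ => a (ι μ), hcard, ?_, ?_⟩
  · have h1 : Ψ 1 = ∑ μ ∈ Λ, (a (ι μ) : ℂ) * (ι μ).1 1 := by
      rw [ha 1]
      exact hre (fun ξ => (a ξ : ℂ) * ξ.1 1) (fun ξ h => by simp [h])
    have h2 : ∑ μ ∈ Λ, (a (ι μ) : ℂ) * (ι μ).1 1 = (∑ μ ∈ Λ, (a (ι μ) : ℂ)) * θh 1 := by
      rw [Finset.sum_mul]
      apply Finset.sum_congr rfl
      intro μ hμ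
      rw [hι μ hμ, Pi.mul_apply, ((hmemΛ μ).mp hμ).1, one_mul]
    have h3 : Ψ 1 = (e : ℂ) * θh 1 := by
      have h4 := hΨL 1
      have h5 := hext 1
      simp only [Subgroup.coe_one] at h4 h5
      rw [h4, h5]
    have h5 : θh 1 ≠ 0 := irr_one_ne_zero ⟨θh, hθh⟩
    rw [h2, h3] at h1
    have h6 := mul_right_cancel₀ h5 h1
    exact_mod_cast h6.symm
  · rw [hΨeq, norm_nat_comb]
    exact hre (fun ξ => ((a ξ : ℂ)) ^ 2) (fun ξ h => by simp [h])

/-- the main argument -/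
theorem frobram_main {Γ : Type u} [Group Γ] [Fintype Γ] (G N : Subgroup Γ) [hG : G.Normal]
    [hN : N.Normal] [Fintype G] [Fintype N]
    (hNG : N ≤ G) (hGlt : G ≠ ⊤) (hcyc : IsCyclic (Γ ⧸ G))
    (hfrob : ∀ x : Γ, x ∉ G → ∀ g : Γ, g ∈ G → x * g * x⁻¹ * g⁻¹ ∈ N → g ∈ N)
    (θ : IrrCharacter N)
    (hinv : ∀ (x : Γ) (n : N), θ.1 ⟨x * n * x⁻¹, hN.conj_mem n n.2 x⟩ = θ.1 n)
    (χ : IrrCharacter G) (e : ℕ)
    (hram : indFun (N.subgroupOf G) (subOfFun N G θ.1) = fun g => (e : ℂ) * χ.1 g) :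
    (G.index : ℤ) ∣ (e : ℤ) - 1 ∨ (G.index : ℤ) ∣ (e : ℤ) + 1 := by
  obtain ⟨he, hχN, hχinv⟩ := ram_facts G N hNG θ hinv χ e hram
  obtain ⟨ψ, hψ, hψG⟩ := Cfsg.Agent.S0886.result G hcyc χ.1 χ.2 hχinv
  obtain ⟨C, hNC, hCG, hsup, hcycC⟩ := exists_frob_complement G N hNG hGlt hcyc hfrob
  haveI : Fintype C := Fintype.ofFinite _
  haveI : Fintype (N.subgroupOf C) := Fintype.ofFinite _
  haveI : Finite (IrrCharacter C) := irr_finite
  haveI : Fintype (IrrCharacter C) := Fintype.ofFinite _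
  have hθC : IsIrrCharacter (N.subgroupOf C) (subOfFun N C θ.1) := subOfFun_irr hNC θ.2
  have hNC' : (N.subgroupOf C).Normal := inferInstance
  have hinvC : ∀ (g : C) (n : N.subgroupOf C),
      subOfFun N C θ.1 ⟨g * n * g⁻¹, hNC'.conj_mem (n : C) n.2 g⟩ = subOfFun N C θ.1 n :=
    fun g n => hinv g ⟨n, n.2⟩
  obtain ⟨θh, hθh, hθhext⟩ :=
    Cfsg.Agent.S0886.result (N.subgroupOf C) hcycC (subOfFun N C θ.1) hθC hinvC
  have hab := comm_mem_of_cyclic_quot (N.subgroupOf C) hcycC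
  have hψchar := irr_isCharacter hψ
  have hψcf := isClassFunction_of_isCharacter hψchar
  have hΨ : IsCharacter C (fun c : C => ψ c) := isCharacter_restrict C hψchar
  have hψN : ∀ n : N, ψ n = (e : ℂ) * θ.1 n := by
    intro n
    have h1 := hψG ⟨n, hNG n.2⟩
    rw [← hχN n, ← h1]
  have hΨL : ∀ n : N.subgroupOf C, (fun c : C => ψ c) n = (e : ℂ) * subOfFun N C θ.1 n := by
    intro n
    exact hψN ⟨n, n.2⟩
  obtain ⟨Λ, a, hcard, hsum, hnorm⟩ := gallagher_decomp (N.subgroupOf C) hab (subOfFun N C θ.1)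
    hθC hinvC θh hθh hθhext (fun c : C => ψ c) hΨ e hΨL
  have h1 : classInner ψ ψ = 1 := by rw [irr_classInner hψ hψ, if_pos rfl]
  have h2 : classInner (fun g : G => ψ g) (fun g : G => ψ g) = 1 := by
    have h : (fun g : G => ψ g) = χ.1 := funext hψG
    rw [h, irr_classInner χ.2 χ.2, if_pos rfl]
  have h3 : classInner (fun n : N => ψ n) (fun n : N => ψ n) = (e : ℂ) ^ 2 := by
    have h : (fun n : N => ψ n) = fun n => (e : ℂ) * θ.1 n := funext hψN
    rw [h, classInner_const_mul_left, classInner_const_mul_right, irr_classInner θ.2 θ.2,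
      if_pos rfl]
    simp [sq]
  obtain ⟨hcardC, hfn⟩ := frob_norm G N C hNG hNC hCG hsup hfrob ψ hψcf (e : ℂ) h1 h2 h3
  have hidx : (N.subgroupOf C).index = G.index := by
    have h4 : G ⊓ C = N := le_antisymm (fun c hc => hCG c hc.2 hc.1) (le_inf hNG hNC)
    show N.relIndex C = G.index
    rw [← h4, Subgroup.inf_relIndex_right, ← Subgroup.relIndex_sup_right (H := C) (K := G), hsup,
      Subgroup.relIndex_top_right]
  have hm : 1 < G.index := by
    have h5 : G.index ≠ 1 := fun h => hGlt (Subgroup.index_eq_one.mp h)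
    have h6 : G.index ≠ 0 := Subgroup.index_ne_zero_of_finite
    omega
  rw [hidx] at hcard
  apply frobram_arith Λ a G.index e hm hcard hsum
  rw [hnorm] at hfn
  have h7 : ((G.index * ∑ i ∈ Λ, (a i) ^ 2 + 1 : ℕ) : ℂ) = ((G.index + e ^ 2 : ℕ) : ℂ) := by
    push_cast
    linear_combination hfn
  exact_mod_cast h7

end FrobRam2

end Cfsg.Agent.Lib.Helper8
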