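import Mathlib
import Cfsg.Agent.Lib.Helper8.CharClifford3
import Cfsg.Agent.Lib.Helper8.CharPerm
import Cfsg.Agent.Lib.Helper8.CharBurnside

set_option autoImplicit false

namespace Cfsg.Agent.Lib.Helper8
open Cfsg
open scoped ComplexConjugate

/-- In a Frobenius-type situation, a non-identity element of `H` fixes only the principal
irreducible character of `K`. -/
theorem fixed_irr_trivial_of_fpf {G : Type*} [Group G] [Finite G] (K : Subgroup G) (hKn : K.Normal)
    (h : G) (hfpf : ∀ k ∈ K, h * k = k * h → k = 1)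
    (τ : IrrCharacter K) (hfix : conjChar hKn τ.1 h = τ.1) : τ.1 = fun _ => 1 := by
  classical
  set β : K ≃* K := @MulAut.conjNormal G _ K hKn h with hβ
  have hβapp : ∀ c : K, ((β c : K) : G) = h * c * h⁻¹ := fun c => rfl
  have hperm := perm_lemma (G := K) (fun c => β c)
    (by
      intro a b hab
      obtain ⟨c, hc⟩ := isConj_iff.mp hab
      exact isConj_iff.mpr ⟨β c, by rw [← hc]; simp⟩)
    (fun χ => isIrrCharacter_comp_surjective β.toMonoidHom β.surjective χ.2)
  -- only the trivial class is fixed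
  have hclass : ∀ c : K, IsConj (β c) c → c = 1 := by
    intro c hc
    obtain ⟨k, hk⟩ := isConj_iff.mp hc
    -- k * β c * k⁻¹ = c, so (k h) c (k h)⁻¹ = c
    have h1 : ((k : G) * h) * (c : G) * ((k : G) * h)⁻¹ = c := by
      have := congrArg (fun x : K => (x : G)) hk
      simp only [Subgroup.coe_mul, Subgroup.coe_inv, hβapp] at this
      calc ((k : G) * h) * (c : G) * ((k : G) * h)⁻¹ = (k : G) * (h * (c : G) * h⁻¹) * (k : G)⁻¹ := by group
        _ = c := this
    -- the map m ↦ m h m⁻¹ h⁻¹ is a bijection of K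
    let f : K → K := fun m => ⟨(m : G) * h * (m : G)⁻¹ * h⁻¹, by
      have h2 := hKn.conj_mem (m⁻¹ : K) (m⁻¹ : K).2 h
      have h3 := K.mul_mem m.2 h2
      simpa [mul_assoc] using h3⟩
    have hfinj : Function.Injective f := by
      intro m m' hmm
      have h2 : (m : G) * h * (m : G)⁻¹ * h⁻¹ = (m' : G) * h * (m' : G)⁻¹ * h⁻¹ := congrArg Subtype.val hmm
      have h3 : h * ((m' : G)⁻¹ * (m : G)) = ((m' : G)⁻¹ * (m : G)) * h := by
        have h4 : (m : G) * h * (m : G)⁻¹ = (m' : G) * h * (m' : G)⁻¹ := mul_right_cancel h2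
        calc h * ((m' : G)⁻¹ * (m : G)) = (m' : G)⁻¹ * ((m' : G) * h * (m' : G)⁻¹) * (m : G) := by group
          _ = (m' : G)⁻¹ * ((m : G) * h * (m : G)⁻¹) * (m : G) := by rw [h4]
          _ = ((m' : G)⁻¹ * (m : G)) * h := by group
      have h5 := hfpf ((m' : G)⁻¹ * (m : G)) (K.mul_mem (K.inv_mem m'.2) m.2) h3
      apply Subtype.ext
      have := inv_mul_eq_one.mp h5
      exact this.symm
    have hfsurj : Function.Surjective f := Finite.surjective_of_injective hfinj
    obtain ⟨m, hm⟩ := hfsurj k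
    have hm' : (m : G) * h * (m : G)⁻¹ = (k : G) * h := by
      have := congrArg Subtype.val hm
      simp only [f] at this
      rw [← this]; group
    rw [← hm'] at h1
    -- m⁻¹ c m commutes with h
    have h6 : h * ((m : G)⁻¹ * (c : G) * (m : G)) = ((m : G)⁻¹ * (c : G) * (m : G)) * h := by
      have h7 : (m : G) * h * (m : G)⁻¹ * (c : G) = (c : G) * ((m : G) * h * (m : G)⁻¹) := by
        calc (m : G) * h * (m : G)⁻¹ * (c : G)
            = ((m : G) * h * (m : G)⁻¹ * (c : G) * ((m : G) * h * (m : G)⁻¹)⁻¹) * ((m : G) * h * (m : G)⁻¹) := by group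
          _ = (c : G) * ((m : G) * h * (m : G)⁻¹) := by rw [h1]
      calc h * ((m : G)⁻¹ * (c : G) * (m : G)) = (m : G)⁻¹ * ((m : G) * h * (m : G)⁻¹ * (c : G)) * (m : G) := by group
        _ = (m : G)⁻¹ * ((c : G) * ((m : G) * h * (m : G)⁻¹)) * (m : G) := by rw [h7]
        _ = ((m : G)⁻¹ * (c : G) * (m : G)) * h := by group
    have h8 := hfpf _ (K.mul_mem (K.mul_mem (K.inv_mem m.2) c.2) m.2) h6
    apply Subtype.ext
    have : (c : G) = (m : G) * ((m : G)⁻¹ * (c : G) * (m : G)) * (m : G)⁻¹ := by group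
    rw [this, h8]; simp
  have hone : Nat.card {C : ConjClasses K // ∀ c : K, ConjClasses.mk c = C → IsConj (β c) c} = 1 := by
    rw [Nat.card_eq_one_iff_unique]
    refine ⟨⟨?_⟩, ⟨⟨ConjClasses.mk 1, ?_⟩⟩⟩
    · rintro ⟨C, hC⟩ ⟨D, hD⟩
      apply Subtype.ext
      obtain ⟨c, rfl⟩ := ConjClasses.mk_surjective C
      obtain ⟨d, rfl⟩ := ConjClasses.mk_surjective D
      show ConjClasses.mk c = ConjClasses.mk d
      rw [hclass c (hC c rfl), hclass d (hD d rfl)]
    · intro c hc
      have : c = 1 := by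
        rw [ConjClasses.mk_eq_mk_iff_isConj, isConj_one_left] at hc
        exact hc
      rw [this]; simp
  rw [hone] at hperm
  have hsub := (Nat.card_eq_one_iff_unique.mp hperm.symm).1
  have hprin : ((⟨fun _ => (1 : ℂ), principal_isIrrCharacter⟩ : IrrCharacter K).1 ∘ fun c => β c) =
      (⟨fun _ => (1 : ℂ), principal_isIrrCharacter⟩ : IrrCharacter K).1 := by
    ext c; rfl
  have hτfix : (τ.1 ∘ fun c => β c) = τ.1 := by
    ext c
    have h1 := congrFun hfix c
    simp only [Function.comp_apply]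
    rw [← h1]
    rfl
  have := hsub.elim ⟨τ, hτfix⟩ ⟨⟨fun _ => (1 : ℂ), principal_isIrrCharacter⟩, hprin⟩
  exact congrArg (fun x => x.1.1) this


end Cfsg.Agent.Lib.Helper8
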