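import Mathlib
import Cfsg.Prelude.Def_Characters
import Cfsg.Agent.Lib.Helper8.CharExceptional
import Cfsg.Agent.Lib.Helper8.GlaubDet
import Cfsg.Agent.Lib.Helper8.BrauerSpan
import Cfsg.Agent.Lib.Helper8.CharBurnside
import Cfsg.Agent.S1528

set_option autoImplicit false

namespace Cfsg.Agent.Lib.Helper8
open Cfsg
open scoped ComplexConjugate

section Tifn
variable {G : Type*} [Group G]

/-- A function induced from a normal subgroup vanishes outside it. -/
theorem indFun_normal_not_mem [Fintype G] (K : Subgroup G) [K.Normal] (φ : K → ℂ) {x : G}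
    (hx : x ∉ K) : indFun K φ x = 0 := by
  rw [indFun_apply, Finset.sum_eq_zero, mul_zero]
  intro y _
  apply extendByZero_not_mem
  intro hmem
  apply hx
  have := ‹K.Normal›.conj_mem _ hmem y
  have e : y * (y⁻¹ * x * y) * y⁻¹ = x := by group
  rwa [e] at this

/-- In a TI subgroup with Frobenius normalizer: an irreducible character of the normalizer which is
nontrivial on `K` is induced from an irreducible character of `K`, hence vanishes off `K`. -/
theorem tifn_relevant_induced [Fintype G] (K : Subgroup G)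
    [Fintype ↥(Subgroup.normalizer (K : Set G))]
    (hC : ∀ k ∈ K, k ≠ 1 → Subgroup.centralizer ({k} : Set G) ≤ K)
    (χ : ↥(Subgroup.normalizer (K : Set G)) → ℂ)
    (hχ : IsIrrCharacter ↥(Subgroup.normalizer (K : Set G)) χ)
    (hrel : ∃ k : ↥(Subgroup.normalizer (K : Set G)), (k : G) ∈ K ∧ χ k ≠ χ 1) :
    ∃ φ : ↥(K.subgroupOf (Subgroup.normalizer (K : Set G))) → ℂ,
      IsIrrCharacter ↥(K.subgroupOf (Subgroup.normalizer (K : Set G))) φ ∧
      χ = indFun (K.subgroupOf (Subgroup.normalizer (K : Set G))) φ := by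
  classical
  have hC' : ∀ n ∈ K.subgroupOf (Subgroup.normalizer (K : Set G)), n ≠ 1 →
      Subgroup.centralizer ({n} : Set ↥(Subgroup.normalizer (K : Set G))) ≤
        K.subgroupOf (Subgroup.normalizer (K : Set G)) := by
    intro n hn hn1 c hc
    rw [Subgroup.mem_subgroupOf] at hn ⊢
    apply hC (n : G) hn (fun h => hn1 (Subtype.ext h))
    rw [Subgroup.mem_centralizer_iff] at hc ⊢
    intro z hz
    rw [Set.mem_singleton_iff.mp hz]
    have := hc n rfl
    have h2 := congrArg Subtype.val this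
    simpa using h2
  obtain ⟨k, hkK, hk⟩ := hrel
  have := Cfsg.Agent.S1528.result (G := ↥(Subgroup.normalizer (K : Set G)))
    (K.subgroupOf (Subgroup.normalizer (K : Set G))) hC' χ hχ
    ⟨k, Subgroup.mem_subgroupOf.mpr hkK, hk⟩
  exact this

theorem tifn_relevant_vanish [Fintype G] (K : Subgroup G)
    [Fintype ↥(Subgroup.normalizer (K : Set G))]
    (hC : ∀ k ∈ K, k ≠ 1 → Subgroup.centralizer ({k} : Set G) ≤ K)
    (χ : ↥(Subgroup.normalizer (K : Set G)) → ℂ)
    (hχ : IsIrrCharacter ↥(Subgroup.normalizer (K : Set G)) χ)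
    (hrel : ∃ k : ↥(Subgroup.normalizer (K : Set G)), (k : G) ∈ K ∧ χ k ≠ χ 1)
    (x : ↥(Subgroup.normalizer (K : Set G))) (hx : (x : G) ∉ K) : χ x = 0 := by
  classical
  obtain ⟨φ, -, rfl⟩ := tifn_relevant_induced K hC χ hχ hrel
  apply indFun_normal_not_mem
  rw [Subgroup.mem_subgroupOf]
  exact hx

theorem tifn_relevant_degree_abelian [Fintype G] (K : Subgroup G)
    [Fintype ↥(Subgroup.normalizer (K : Set G))]
    (hC : ∀ k ∈ K, k ≠ 1 → Subgroup.centralizer ({k} : Set G) ≤ K)
    (hab : ∀ a ∈ K, ∀ b ∈ K, a * b = b * a)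
    (χ : ↥(Subgroup.normalizer (K : Set G)) → ℂ)
    (hχ : IsIrrCharacter ↥(Subgroup.normalizer (K : Set G)) χ)
    (hrel : ∃ k : ↥(Subgroup.normalizer (K : Set G)), (k : G) ∈ K ∧ χ k ≠ χ 1) :
    χ 1 = ((K.subgroupOf (Subgroup.normalizer (K : Set G))).index : ℂ) := by
  classical
  obtain ⟨φ, hφ, rfl⟩ := tifn_relevant_induced K hC χ hχ hrel
  rw [indFun_one]
  have hcomm : ∀ a b : ↥(K.subgroupOf (Subgroup.normalizer (K : Set G))), a * b = b * a := by
    intro a b
    apply Subtype.ext
    apply Subtype.ext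
    have := hab _ (Subgroup.mem_subgroupOf.mp a.2) _ (Subgroup.mem_subgroupOf.mp b.2)
    simpa using this
  have := irr_linear_of_comm hcomm ⟨φ, hφ⟩
  simp only at this
  rw [this, mul_one]

end Tifn
end Cfsg.Agent.Lib.Helper8
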