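import Mathlib
import Cfsg.Prelude.Def_Characters
import Cfsg.Prelude.Def_OddOrderChar
import Cfsg.Agent.Lib.Helper8.CharDecomp
import Cfsg.Agent.Lib.Helper8.CharSigned
import Cfsg.Agent.Lib.Helper8.CharClifford
import Cfsg.Agent.Lib.Helper8.CharDegree

set_option autoImplicit false

namespace Cfsg.Agent.Lib.Helper8
open Cfsg
open scoped ComplexConjugate

variable {G : Type*} [Group G]

theorem classInner_sub_sub_gen [Fintype G] (α β γ δ : G → ℂ) :
    classInner (α - β) (γ - δ) =
      classInner α γ - classInner α δ - classInner β γ + classInner β δ := by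
  have := classInner_expand4 α β γ δ 1 1
  simpa using this

theorem classInner_neg_left' [Fintype G] (α β : G → ℂ) :
    classInner (-α) β = - classInner α β := by
  unfold classInner
  simp only [Pi.neg_apply, neg_mul, Finset.sum_neg_distrib, mul_neg]

theorem classInner_neg_right' [Fintype G] (α β : G → ℂ) :
    classInner α (-β) = - classInner α β := by
  unfold classInner
  simp only [Pi.neg_apply, map_neg, mul_neg, Finset.sum_neg_distrib]

theorem classInner_conjFun_conjFun [Fintype G] (α β : G → ℂ) :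
    classInner (conjFun α) (conjFun β) = conj (classInner α β) := by
  unfold classInner conjFun
  rw [map_mul, map_inv₀, map_natCast, map_sum]
  congr 1
  apply Finset.sum_congr rfl
  intro g _
  rw [map_mul]

theorem conjFun_conjFun {X : Type*} (α : X → ℂ) : conjFun (conjFun α) = α := by
  funext x; simp [conjFun]

theorem classInner_genchar_int [Fintype G] {α β : G → ℂ} (hα : IsGeneralizedCharacter G α)
    (hβ : IsGeneralizedCharacter G β) : ∃ m : ℤ, classInner α β = m := by
  obtain ⟨a1, a2, ha1, ha2, rfl⟩ := hα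
  obtain ⟨b1, b2, hb1, hb2, rfl⟩ := hβ
  obtain ⟨k1, h1⟩ := classInner_character_nat ha1 hb1
  obtain ⟨k2, h2⟩ := classInner_character_nat ha1 hb2
  obtain ⟨k3, h3⟩ := classInner_character_nat ha2 hb1
  obtain ⟨k4, h4⟩ := classInner_character_nat ha2 hb2
  refine ⟨(k1:ℤ) - k2 - k3 + k4, ?_⟩
  rw [classInner_sub_sub_gen, h1, h2, h3, h4]; push_cast; rfl

/-- A generalized character is an integer combination of irreducible characters. -/
theorem genchar_decomp [Finite G] [Fintype (IrrCharacter G)] {θ : G → ℂ}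
    (hθ : IsGeneralizedCharacter G θ) :
    ∃ n : IrrCharacter G → ℤ, θ = fun g => ∑ ψ : IrrCharacter G, (n ψ : ℂ) * ψ.1 g := by
  obtain ⟨a, b, ha, hb, rfl⟩ := hθ
  obtain ⟨m1, h1⟩ := isCharacter_decomp ha
  obtain ⟨m2, h2⟩ := isCharacter_decomp hb
  refine ⟨fun ψ => (m1 ψ : ℤ) - m2 ψ, ?_⟩
  funext g
  rw [Pi.sub_apply, h1, h2, ← Finset.sum_sub_distrib]
  apply Finset.sum_congr rfl
  intro ψ _
  push_cast; ring

/-- A generalized character of norm `2` vanishing at `1` is a difference of two distinct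
irreducible characters. -/
theorem genchar_norm_two [Fintype G] {θ : G → ℂ} (hθ : IsGeneralizedCharacter G θ)
    (h2 : classInner θ θ = 2) (h1 : θ 1 = 0) :
    ∃ a b : IrrCharacter G, a ≠ b ∧ θ = a.1 - b.1 := by
  classical
  have := irr_finite (G := G)
  have : Fintype (IrrCharacter G) := Fintype.ofFinite _
  obtain ⟨n, hn⟩ := genchar_decomp hθ
  have hnorm : classInner θ θ = ∑ ψ : IrrCharacter G, ((n ψ * n ψ : ℤ) : ℂ) := by
    conv_lhs => rw [hn]
    rw [classInner_sum_left]
    apply Finset.sum_congr rfl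
    intro ψ _
    rw [classInner_conj_symm, classInner_comb_irr (fun ψ => (n ψ : ℂ)) ψ]
    simp
  rw [h2] at hnorm
  have hint : ∑ ψ : IrrCharacter G, n ψ * n ψ = 2 := by
    have : ((∑ ψ : IrrCharacter G, n ψ * n ψ : ℤ) : ℂ) = 2 := by
      rw [hnorm]; push_cast; rfl
    exact_mod_cast this
  have hnn : ∀ ψ, 0 ≤ n ψ * n ψ := fun ψ => mul_self_nonneg _
  -- first nonzero coefficient
  have hex : ∃ a, n a ≠ 0 := by
    by_contra hcon
    push Not at hcon
    simp [hcon] at hint
  obtain ⟨a, ha⟩ := hex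
  have hsplit : n a * n a + ∑ ψ ∈ Finset.univ.erase a, n ψ * n ψ = 2 := by
    rw [Finset.add_sum_erase _ (fun ψ => n ψ * n ψ) (Finset.mem_univ a)]; exact hint
  have hrest_nn : 0 ≤ ∑ ψ ∈ Finset.univ.erase a, n ψ * n ψ :=
    Finset.sum_nonneg (fun ψ _ => hnn ψ)
  have ha1 : n a * n a = 1 := by
    have hle : n a * n a ≤ 2 := by linarith
    have hpos : 1 ≤ n a * n a := by
      have : 0 < n a * n a := mul_self_pos.mpr ha
      linarith
    rcases lt_or_eq_of_le hle with h | h
    · omega
    · -- n a * n a = 2 impossible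
      exfalso
      have habs : |n a| < 2 := by
        rw [← abs_mul_abs_self] at h
        nlinarith [abs_nonneg (n a)]
      have habs1 : 1 ≤ |n a| := Int.one_le_abs ha
      have : |n a| = 1 := by omega
      rw [← abs_mul_abs_self, this] at h
      norm_num at h
  have hrest : ∑ ψ ∈ Finset.univ.erase a, n ψ * n ψ = 1 := by linarith
  have hex2 : ∃ b ∈ Finset.univ.erase a, n b ≠ 0 := by
    by_contra hcon
    push Not at hcon
    rw [Finset.sum_eq_zero (fun ψ hψ => by rw [hcon ψ hψ, mul_zero])] at hrest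
    norm_num at hrest
  obtain ⟨b, hb, hb0⟩ := hex2
  have hba : b ≠ a := (Finset.mem_erase.mp hb).1
  have hsplit2 : n b * n b + ∑ ψ ∈ (Finset.univ.erase a).erase b, n ψ * n ψ = 1 := by
    rw [Finset.add_sum_erase _ (fun ψ => n ψ * n ψ) hb]; exact hrest
  have hrest2_nn : 0 ≤ ∑ ψ ∈ (Finset.univ.erase a).erase b, n ψ * n ψ :=
    Finset.sum_nonneg (fun ψ _ => hnn ψ)
  have hb1 : n b * n b = 1 := by
    have hpos : 0 < n b * n b := mul_self_pos.mpr hb0
    linarith
  have hrest2 : ∑ ψ ∈ (Finset.univ.erase a).erase b, n ψ * n ψ = 0 := by linarith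
  have hzero : ∀ ψ, ψ ≠ a → ψ ≠ b → n ψ = 0 := by
    intro ψ h1 h2
    have hmem : ψ ∈ (Finset.univ.erase a).erase b :=
      Finset.mem_erase.mpr ⟨h2, Finset.mem_erase.mpr ⟨h1, Finset.mem_univ _⟩⟩
    have := (Finset.sum_eq_zero_iff_of_nonneg (fun ψ _ => hnn ψ)).mp hrest2 ψ hmem
    exact mul_self_eq_zero.mp this
  -- θ = n a • a + n b • b
  have hθab : ∀ g, θ g = (n a : ℂ) * a.1 g + (n b : ℂ) * b.1 g := by
    intro g
    rw [hn]
    show ∑ ψ : IrrCharacter G, (n ψ : ℂ) * ψ.1 g = _
    rw [← Finset.add_sum_erase _ (fun ψ : IrrCharacter G => (n ψ : ℂ) * ψ.1 g) (Finset.mem_univ a), ← Finset.add_sum_erase _ (fun ψ : IrrCharacter G => (n ψ : ℂ) * ψ.1 g) hb]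
    rw [Finset.sum_eq_zero, add_zero]
    intro ψ hψ
    have h2 := (Finset.mem_erase.mp hψ).1
    have h1 := (Finset.mem_erase.mp (Finset.mem_erase.mp hψ).2).1
    rw [hzero ψ h1 h2]; simp
  have hna : n a = 1 ∨ n a = -1 := by
    have : (n a - 1) * (n a + 1) = 0 := by ring_nf; linarith
    rcases mul_eq_zero.mp this with h | h
    · left; omega
    · right; omega
  have hnb : n b = 1 ∨ n b = -1 := by
    have : (n b - 1) * (n b + 1) = 0 := by ring_nf; linarith
    rcases mul_eq_zero.mp this with h | h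
    · left; omega
    · right; omega
  have hdeg := hθab 1
  rw [h1, irr_one_eq_charDegree a, irr_one_eq_charDegree b] at hdeg
  have hda := charDegree_pos a
  have hdb := charDegree_pos b
  have hdegZ : (n a) * (charDegree a.1 : ℤ) + (n b) * (charDegree b.1 : ℤ) = 0 := by
    have : (((n a) * (charDegree a.1 : ℤ) + (n b) * (charDegree b.1 : ℤ) : ℤ) : ℂ) = 0 := by
      push_cast; exact hdeg.symm
    exact_mod_cast this
  have hda' : (0:ℤ) < charDegree a.1 := by exact_mod_cast hda
  have hdb' : (0:ℤ) < charDegree b.1 := by exact_mod_cast hdb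
  rcases hna with hna | hna <;> rcases hnb with hnb | hnb
  · exfalso; rw [hna, hnb] at hdegZ; linarith
  · refine ⟨a, b, hba.symm, ?_⟩
    funext g; rw [hθab g, hna, hnb]; simp [sub_eq_add_neg]
  · refine ⟨b, a, hba, ?_⟩
    funext g; rw [hθab g, hna, hnb]; simp [sub_eq_add_neg, add_comm]
  · exfalso; rw [hna, hnb] at hdegZ; linarith

theorem classInner_finset_sum_right [Fintype G] {ι : Type*} (s : Finset ι) (f : ι → G → ℂ)
    (ψ : G → ℂ) : classInner ψ (∑ i ∈ s, f i) = ∑ i ∈ s, classInner ψ (f i) := by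
  have h : (∑ i ∈ s, f i) = fun g => ∑ i ∈ s, (1:ℂ) * f i g := by
    funext g; rw [Finset.sum_apply]; simp
  rw [h, classInner_sum_right]
  simp

theorem classInner_finset_sum_left [Fintype G] {ι : Type*} (s : Finset ι) (f : ι → G → ℂ)
    (ψ : G → ℂ) : classInner (∑ i ∈ s, f i) ψ = ∑ i ∈ s, classInner (f i) ψ := by
  have h : (∑ i ∈ s, f i) = fun g => ∑ i ∈ s, (1:ℂ) * f i g := by
    funext g; rw [Finset.sum_apply]; simp
  rw [h, classInner_sum_left]
  simp

end Cfsg.Agent.Lib.Helper8
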