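import Mathlib
import Cfsg.Prelude.Def_Characters
import Cfsg.Prelude.Def_OddOrderChar
import Cfsg.Agent.Lib.Helper8.Coherence

set_option autoImplicit false

namespace Cfsg.Agent.Lib.Helper8
open Cfsg
open scoped ComplexConjugate

variable {G : Type*} [Group G]

theorem classInner_add_left' [Fintype G] (a b ψ : G → ℂ) :
    classInner (a + b) ψ = classInner a ψ + classInner b ψ := by
  unfold classInner
  simp only [Pi.add_apply, add_mul, Finset.sum_add_distrib, mul_add]

theorem classInner_add_right' [Fintype G] (a b ψ : G → ℂ) :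
    classInner ψ (a + b) = classInner ψ a + classInner ψ b := by
  unfold classInner
  simp only [Pi.add_apply, map_add, mul_add, Finset.sum_add_distrib]

theorem classInner_sub_left'' [Fintype G] (a b ψ : G → ℂ) :
    classInner (a - b) ψ = classInner a ψ - classInner b ψ := by
  unfold classInner
  simp only [Pi.sub_apply, sub_mul, Finset.sum_sub_distrib, mul_sub]

theorem classInner_sub_right'' [Fintype G] (a b ψ : G → ℂ) :
    classInner ψ (a - b) = classInner ψ a - classInner ψ b := by
  unfold classInner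
  simp only [Pi.sub_apply, map_sub, mul_sub, Finset.sum_sub_distrib]

theorem classInner_zsmul_left [Fintype G] (n : ℤ) (a ψ : G → ℂ) :
    classInner (n • a) ψ = (n : ℂ) * classInner a ψ := by
  unfold classInner
  simp only [Pi.smul_apply, zsmul_eq_mul, Finset.mul_sum]
  apply Finset.sum_congr rfl
  intro g _; ring

theorem classInner_zsmul_right [Fintype G] (n : ℤ) (a ψ : G → ℂ) :
    classInner ψ (n • a) = (n : ℂ) * classInner ψ a := by
  unfold classInner
  simp only [Pi.smul_apply, zsmul_eq_mul, Finset.mul_sum, map_mul, map_intCast]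
  apply Finset.sum_congr rfl
  intro g _; ring

theorem classInner_zero_left' [Fintype G] (ψ : G → ℂ) : classInner (0 : G → ℂ) ψ = 0 := by
  unfold classInner; simp

theorem classInner_zero_right' [Fintype G] (ψ : G → ℂ) : classInner ψ (0 : G → ℂ) = 0 := by
  unfold classInner; simp

theorem classInner_self_re_nonneg [Fintype G] (f : G → ℂ) : 0 ≤ (classInner f f).re := by
  unfold classInner
  have h : ∀ g, f g * conj (f g) = ((Complex.normSq (f g) : ℝ) : ℂ) := fun g => Complex.mul_conj _
  simp_rw [h]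
  rw [← Complex.ofReal_sum, ← Complex.ofReal_natCast, ← Complex.ofReal_inv, ← Complex.ofReal_mul,
    Complex.ofReal_re]
  apply mul_nonneg
  · exact inv_nonneg.mpr (Nat.cast_nonneg _)
  · exact Finset.sum_nonneg (fun g _ => Complex.normSq_nonneg _)

theorem genchar_zero : IsGeneralizedCharacter G (0 : G → ℂ) :=
  ⟨0, 0, isCharacter_zero, isCharacter_zero, (sub_zero _).symm⟩

theorem genchar_add {a b : G → ℂ} (ha : IsGeneralizedCharacter G a)
    (hb : IsGeneralizedCharacter G b) : IsGeneralizedCharacter G (a + b) := by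
  obtain ⟨a1, a2, h1, h2, rfl⟩ := ha
  obtain ⟨b1, b2, h3, h4, rfl⟩ := hb
  exact ⟨a1 + b1, a2 + b2, isCharacter_add h1 h3, isCharacter_add h2 h4, by abel⟩

theorem genchar_neg {a : G → ℂ} (ha : IsGeneralizedCharacter G a) :
    IsGeneralizedCharacter G (-a) := by
  obtain ⟨a1, a2, h1, h2, rfl⟩ := ha
  exact ⟨a2, a1, h2, h1, by abel⟩

theorem genchar_sub {a b : G → ℂ} (ha : IsGeneralizedCharacter G a)
    (hb : IsGeneralizedCharacter G b) : IsGeneralizedCharacter G (a - b) := by
  rw [sub_eq_add_neg]; exact genchar_add ha (genchar_neg hb)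

theorem genchar_nsmul {a : G → ℂ} (ha : IsGeneralizedCharacter G a) (n : ℕ) :
    IsGeneralizedCharacter G (n • a) := by
  induction n with
  | zero => rw [zero_smul]; exact genchar_zero
  | succ n ih => rw [succ_nsmul]; exact genchar_add ih ha

theorem genchar_zsmul {a : G → ℂ} (ha : IsGeneralizedCharacter G a) (n : ℤ) :
    IsGeneralizedCharacter G (n • a) := by
  cases n with
  | ofNat n => rw [Int.ofNat_eq_natCast, natCast_zsmul]; exact genchar_nsmul ha n
  | negSucc n => rw [negSucc_zsmul]; exact genchar_neg (genchar_nsmul ha (n + 1))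

theorem genchar_sum {ι : Type*} (s : Finset ι) (f : ι → G → ℂ)
    (h : ∀ i ∈ s, IsGeneralizedCharacter G (f i)) : IsGeneralizedCharacter G (∑ i ∈ s, f i) := by
  classical
  induction s using Finset.induction_on with
  | empty => rw [Finset.sum_empty]; exact genchar_zero
  | insert a s ha ih =>
    rw [Finset.sum_insert ha]
    exact genchar_add (h a (Finset.mem_insert_self _ _))
      (ih (fun i hi => h i (Finset.mem_insert_of_mem hi)))

theorem genchar_of_irr {a : G → ℂ} (ha : IsIrrCharacter G a) : IsGeneralizedCharacter G a :=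
  ⟨a, 0, irr_isCharacter ha, isCharacter_zero, (sub_zero _).symm⟩

/-- A generalized character of norm zero is zero. -/
theorem genchar_norm_zero [Fintype G] {θ : G → ℂ} (hθ : IsGeneralizedCharacter G θ)
    (h0 : classInner θ θ = 0) : θ = 0 := by
  classical
  have := irr_finite (G := G)
  have : Fintype (IrrCharacter G) := Fintype.ofFinite _
  obtain ⟨n, hn⟩ := genchar_decomp hθ
  have hnorm : classInner θ θ = ∑ ψ : IrrCharacter G, ((n ψ * n ψ : ℤ) : ℂ) := by
    conv_lhs => rw [hn]
    rw [classInner_sum_left]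
    apply Finset.sum_congr rfl
    intro ψ _
    rw [classInner_conj_symm, classInner_comb_irr (fun ψ => (n ψ : ℂ)) ψ]
    simp
  rw [h0] at hnorm
  have hint : ∑ ψ : IrrCharacter G, n ψ * n ψ = 0 := by
    have : ((∑ ψ : IrrCharacter G, n ψ * n ψ : ℤ) : ℂ) = 0 := by
      rw [hnorm]; push_cast; rfl
    exact_mod_cast this
  have hz : ∀ ψ, n ψ = 0 := by
    intro ψ
    have := (Finset.sum_eq_zero_iff_of_nonneg (fun ψ _ => mul_self_nonneg (n ψ))).mp hint ψ
      (Finset.mem_univ _)
    exact mul_self_eq_zero.mp this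
  rw [hn]
  funext g
  simp [hz]

/-- A generalized character of norm one is, up to sign, irreducible; in particular its value at `1`
is nonzero. -/
theorem genchar_norm_one [Fintype G] {θ : G → ℂ} (hθ : IsGeneralizedCharacter G θ)
    (h1 : classInner θ θ = 1) : ∃ a : IrrCharacter G, θ = a.1 ∨ θ = -a.1 := by
  classical
  have := irr_finite (G := G)
  have : Fintype (IrrCharacter G) := Fintype.ofFinite _
  obtain ⟨n, hn⟩ := genchar_decomp hθ
  have hnorm : classInner θ θ = ∑ ψ : IrrCharacter G, ((n ψ * n ψ : ℤ) : ℂ) := by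
    conv_lhs => rw [hn]
    rw [classInner_sum_left]
    apply Finset.sum_congr rfl
    intro ψ _
    rw [classInner_conj_symm, classInner_comb_irr (fun ψ => (n ψ : ℂ)) ψ]
    simp
  rw [h1] at hnorm
  have hint : ∑ ψ : IrrCharacter G, n ψ * n ψ = 1 := by
    have : ((∑ ψ : IrrCharacter G, n ψ * n ψ : ℤ) : ℂ) = 1 := by
      rw [hnorm]; push_cast; rfl
    exact_mod_cast this
  have hnn : ∀ ψ, 0 ≤ n ψ * n ψ := fun ψ => mul_self_nonneg _
  have hex : ∃ a, n a ≠ 0 := by
    by_contra hcon
    push Not at hcon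
    simp [hcon] at hint
  obtain ⟨a, ha⟩ := hex
  have hsplit : n a * n a + ∑ ψ ∈ Finset.univ.erase a, n ψ * n ψ = 1 := by
    rw [Finset.add_sum_erase _ (fun ψ => n ψ * n ψ) (Finset.mem_univ a)]; exact hint
  have hrest_nn : 0 ≤ ∑ ψ ∈ Finset.univ.erase a, n ψ * n ψ :=
    Finset.sum_nonneg (fun ψ _ => hnn ψ)
  have hpos : 0 < n a * n a := mul_self_pos.mpr ha
  have ha1 : n a * n a = 1 := by linarith
  have hrest : ∑ ψ ∈ Finset.univ.erase a, n ψ * n ψ = 0 := by linarith
  have hzero : ∀ ψ, ψ ≠ a → n ψ = 0 := by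
    intro ψ h1
    have hmem : ψ ∈ Finset.univ.erase a := Finset.mem_erase.mpr ⟨h1, Finset.mem_univ _⟩
    have := (Finset.sum_eq_zero_iff_of_nonneg (fun ψ _ => hnn ψ)).mp hrest ψ hmem
    exact mul_self_eq_zero.mp this
  have hθa : ∀ g, θ g = (n a : ℂ) * a.1 g := by
    intro g
    rw [hn]
    show ∑ ψ : IrrCharacter G, (n ψ : ℂ) * ψ.1 g = _
    rw [← Finset.add_sum_erase _ (fun ψ : IrrCharacter G => (n ψ : ℂ) * ψ.1 g) (Finset.mem_univ a)]
    rw [Finset.sum_eq_zero, add_zero]
    intro ψ hψ
    rw [hzero ψ (Finset.mem_erase.mp hψ).1]; simp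
  have hna : n a = 1 ∨ n a = -1 := by
    have : (n a - 1) * (n a + 1) = 0 := by ring_nf; linarith
    rcases mul_eq_zero.mp this with h | h
    · left; omega
    · right; omega
  refine ⟨a, ?_⟩
  rcases hna with h | h
  · left; funext g; rw [hθa g, h]; simp
  · right; funext g; rw [hθa g, h]; simp

theorem genchar_norm_one_ne_zero [Fintype G] {θ : G → ℂ} (hθ : IsGeneralizedCharacter G θ)
    (h1 : classInner θ θ = 1) : θ 1 ≠ 0 := by
  obtain ⟨a, h | h⟩ := genchar_norm_one hθ h1
  · rw [h]; exact irr_one_ne_zero a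
  · rw [h, Pi.neg_apply, neg_ne_zero]; exact irr_one_ne_zero a

/-- A map that is `ℤ`-linear on the span of a set, as a linear map on the span. -/
noncomputable def isoLin {L : Type*} [Group L] [Fintype L] [Fintype G] (S : Set (L → ℂ))
    (τ : (L → ℂ) → (G → ℂ)) (hτ : IsLinearIsometryOn (zspan S) τ) :
    ↥(Submodule.span ℤ S) →ₗ[ℤ] (G → ℂ) where
  toFun x := τ x.1
  map_add' x y := hτ.1 x.1 x.2 y.1 y.2
  map_smul' n x := hτ.2.1 x.1 x.2 n

theorem isoLin_apply {L : Type*} [Group L] [Fintype L] [Fintype G] (S : Set (L → ℂ))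
    (τ : (L → ℂ) → (G → ℂ)) (hτ : IsLinearIsometryOn (zspan S) τ) (x : ↥(Submodule.span ℤ S)) :
    isoLin S τ hτ x = τ x.1 := rfl

theorem iso_sub {L : Type*} [Group L] [Fintype L] [Fintype G] {S : Set (L → ℂ)}
    {τ : (L → ℂ) → (G → ℂ)} (hτ : IsLinearIsometryOn (zspan S) τ) {x y : L → ℂ}
    (hx : x ∈ zspan S) (hy : y ∈ zspan S) : τ (x - y) = τ x - τ y := by
  have := (isoLin S τ hτ).map_sub ⟨x, hx⟩ ⟨y, hy⟩
  exact this

theorem iso_zero {L : Type*} [Group L] [Fintype L] [Fintype G] {S : Set (L → ℂ)}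
    {τ : (L → ℂ) → (G → ℂ)} (hτ : IsLinearIsometryOn (zspan S) τ) : τ 0 = 0 := by
  have := (isoLin S τ hτ).map_zero
  exact this

/-- Orthogonality to the images of generators extends to the whole span. -/
theorem iso_orth_span {L : Type*} [Group L] [Fintype L] [Fintype G] {S : Set (L → ℂ)}
    {τ : (L → ℂ) → (G → ℂ)} (hτ : IsLinearIsometryOn (zspan S) τ) (Γ : G → ℂ)
    (h : ∀ ξ ∈ S, classInner Γ (τ ξ) = 0) : ∀ z ∈ zspan S, classInner Γ (τ z) = 0 := by
  intro z hz
  have hz' : z ∈ Submodule.span ℤ S := hz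
  induction hz' using Submodule.span_induction with
  | mem x hx => exact h x hx
  | zero => rw [iso_zero hτ, classInner_zero_right']
  | add x y hx hy ihx ihy =>
    rw [hτ.1 x hx y hy, classInner_add_right', ihx hx, ihy hy, add_zero]
  | smul n x hx ihx =>
    rw [hτ.2.1 x hx n, classInner_zsmul_right, ihx hx, mul_zero]

/-- A function orthogonal to all generators is orthogonal to the span. -/
theorem orth_span {L : Type*} [Group L] [Fintype L] {S : Set (L → ℂ)} (χ : L → ℂ)
    (h : ∀ ξ ∈ S, classInner ξ χ = 0) : ∀ z ∈ zspan S, classInner z χ = 0 := by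
  intro z hz
  have hz' : z ∈ Submodule.span ℤ S := hz
  induction hz' using Submodule.span_induction with
  | mem x hx => exact h x hx
  | zero => exact classInner_zero_left' _
  | add x y hx hy ihx ihy => rw [classInner_add_left', ihx hx, ihy hy, add_zero]
  | smul n x hx ihx => rw [classInner_zsmul_left, ihx hx, mul_zero]

theorem zsmul_fun_apply' {X : Type*} (n : ℤ) (f : X → ℂ) (x : X) : (n • f) x = (n : ℂ) * f x := by
  simp

theorem classInner_self_eq_zero [Fintype G] {f : G → ℂ} (h : classInner f f = 0) : f = 0 := by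
  unfold classInner at h
  have hGne : (Nat.card G : ℂ) ≠ 0 := Nat.cast_ne_zero.mpr Nat.card_pos.ne'
  have h0 : ∑ g : G, f g * conj (f g) = 0 := by
    rcases mul_eq_zero.mp h with h | h
    · exact absurd (inv_eq_zero.mp h) hGne
    · exact h
  have h1 : ∀ g, f g * conj (f g) = ((Complex.normSq (f g) : ℝ) : ℂ) := fun g => Complex.mul_conj _
  simp_rw [h1] at h0
  rw [← Complex.ofReal_sum] at h0
  have h2 : ∑ g : G, Complex.normSq (f g) = 0 := by exact_mod_cast h0
  funext g
  have := (Finset.sum_eq_zero_iff_of_nonneg (fun g _ => Complex.normSq_nonneg (f g))).mp h2 g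
    (Finset.mem_univ _)
  exact Complex.normSq_eq_zero.mp this

/-- Two generalized characters of norm one are orthogonal or equal up to sign. -/
theorem genchar_norm_one_pair [Fintype G] {A B : G → ℂ} (hA : IsGeneralizedCharacter G A)
    (hB : IsGeneralizedCharacter G B) (hA1 : classInner A A = 1) (hB1 : classInner B B = 1)
    (hne : classInner A B ≠ 0) :
    ∃ ε : ℤ, (ε = 1 ∨ ε = -1) ∧ A = ε • B ∧ classInner A B = (ε : ℂ) := by
  obtain ⟨a, ha⟩ := genchar_norm_one hA hA1
  obtain ⟨b, hb⟩ := genchar_norm_one hB hB1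
  have hab : a.1 = b.1 := by
    by_contra h
    apply hne
    have h0 : classInner a.1 b.1 = 0 := by rw [irr_classInner a.2 b.2, if_neg h]
    rcases ha with ha | ha <;> rcases hb with hb | hb <;> rw [ha, hb]
    · exact h0
    · rw [classInner_neg_right', h0, neg_zero]
    · rw [classInner_neg_left', h0, neg_zero]
    · rw [classInner_neg_left', classInner_neg_right', h0, neg_zero, neg_zero]
  have h1 : classInner b.1 b.1 = 1 := by rw [irr_classInner b.2 b.2, if_pos rfl]
  rcases ha with ha | ha <;> rcases hb with hb | hb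
  · refine ⟨1, Or.inl rfl, by rw [ha, hb, hab, one_smul], ?_⟩
    rw [ha, hb, hab, h1]; simp
  · refine ⟨-1, Or.inr rfl, by rw [ha, hb, hab]; simp, ?_⟩
    rw [ha, hb, hab, classInner_neg_right', h1]; simp
  · refine ⟨-1, Or.inr rfl, by rw [ha, hb, hab]; simp, ?_⟩
    rw [ha, hb, hab, classInner_neg_left', h1]; simp
  · refine ⟨1, Or.inl rfl, by rw [ha, hb, hab, one_smul], ?_⟩
    rw [ha, hb, hab, classInner_neg_left', classInner_neg_right', h1]; simp

/-- right-hand version of `orth_span`. -/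
theorem orth_span_right {L : Type*} [Group L] [Fintype L] {S : Set (L → ℂ)} (χ : L → ℂ)
    (h : ∀ ξ ∈ S, classInner χ ξ = 0) : ∀ z ∈ zspan S, classInner χ z = 0 := by
  intro z hz
  have hz' : z ∈ Submodule.span ℤ S := hz
  induction hz' using Submodule.span_induction with
  | mem x hx => exact h x hx
  | zero => exact classInner_zero_right' _
  | add x y hx hy ihx ihy => rw [classInner_add_right', ihx hx, ihy hy, add_zero]
  | smul n x hx ihx => rw [classInner_zsmul_right, ihx hx, mul_zero]

theorem zspanOn_add {X : Type*} {S : Set (X → ℂ)} {A : Set X} {a b : X → ℂ} (ha : a ∈ zspanOn S A)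
    (hb : b ∈ zspanOn S A) : a + b ∈ zspanOn S A :=
  ⟨Submodule.add_mem _ ha.1 hb.1, fun x hx => by rw [Pi.add_apply, ha.2 x hx, hb.2 x hx, add_zero]⟩

theorem zspanOn_smul {X : Type*} {S : Set (X → ℂ)} {A : Set X} {a : X → ℂ} (ha : a ∈ zspanOn S A)
    (n : ℤ) : n • a ∈ zspanOn S A :=
  ⟨Submodule.smul_mem _ n ha.1, fun x hx => by rw [zsmul_fun_apply', ha.2 x hx, mul_zero]⟩

theorem zspanOn_mono {X : Type*} {S T : Set (X → ℂ)} {A : Set X} (h : S ⊆ T) {a : X → ℂ}
    (ha : a ∈ zspanOn S A) : a ∈ zspanOn T A :=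
  ⟨Submodule.span_mono h ha.1, ha.2⟩

/-- values at `1` of integer combinations of irreducible characters are integers. -/
theorem zspan_one_int {L : Type*} [Group L] {S : Set (L → ℂ)} (hS : ∀ ξ ∈ S, IsIrrCharacter L ξ) :
    ∀ z ∈ zspan S, ∃ k : ℤ, z 1 = k := by
  intro z hz
  have hz' : z ∈ Submodule.span ℤ S := hz
  induction hz' using Submodule.span_induction with
  | mem x hx =>
    refine ⟨(charDegree x : ℤ), ?_⟩
    have h1 : x 1 = (charDegree x : ℂ) := irr_one_eq_charDegree ⟨x, hS x hx⟩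
    rw [h1]; simp
  | zero => exact ⟨0, by simp⟩
  | add x y hx hy ihx ihy =>
    obtain ⟨k, hk⟩ := ihx hx
    obtain ⟨l, hl⟩ := ihy hy
    exact ⟨k + l, by rw [Pi.add_apply, hk, hl]; push_cast; ring⟩
  | smul n x hx ihx =>
    obtain ⟨k, hk⟩ := ihx hx
    exact ⟨n * k, by rw [zsmul_fun_apply', hk]; push_cast; ring⟩

end Cfsg.Agent.Lib.Helper8
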