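import Mathlib
import Cfsg.Prelude.Def_Characters
import Cfsg.Prelude.Def_OddOrderChar
import Cfsg.Agent.Lib.Helper8.Tifn
import Cfsg.Agent.Lib.Helper8.Coherence2
import Cfsg.Agent.Lib.Helper8.CharComplete2
import Cfsg.Agent.Lib.Helper8.CharSigned

set_option autoImplicit false

namespace Cfsg.Agent.Lib.Helper8
open Cfsg
open scoped ComplexConjugate

section Tifn2
variable {G : Type*} [Group G]

theorem genchar_isClassFunction {θ : G → ℂ} (hθ : IsGeneralizedCharacter G θ) :
    IsClassFunction G θ := by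
  obtain ⟨a, b, ha, hb, rfl⟩ := hθ
  intro g h
  simp only [Pi.sub_apply, isClassFunction_of_isCharacter ha g h,
    isClassFunction_of_isCharacter hb g h]

/-- Sum of `θ(1) θ(k)` over the irreducible characters vanishes for `k ≠ 1`. -/
theorem irr_sum_deg_mul [Fintype G] [Fintype (IrrCharacter G)] {k : G} (hk : k ≠ 1) :
    ∑ θ : IrrCharacter G, θ.1 1 * θ.1 k = 0 := by
  classical
  have := irr_sum_mul_conj (G := G) k 1
  rw [if_neg] at this
  · rw [← this]
    apply Finset.sum_congr rfl
    intro θ _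
    rw [irr_one_real, mul_comm]
  · intro hc
    apply hk
    rw [isConj_iff] at hc
    obtain ⟨c, hc⟩ := hc
    have : k = c⁻¹ * 1 * c := by rw [← hc]; group
    rw [this]; group

open Classical in
/-- Core lemma: a class function of the normalizer orthogonal to the degree-zero part of the
lattice spanned by the relevant characters is constant on the nonidentity elements of `K`. -/
theorem tifn_core [Fintype G] (K : Subgroup G) [Fintype ↥(Subgroup.normalizer (K : Set G))]
    [Fintype (IrrCharacter ↥(Subgroup.normalizer (K : Set G)))]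
    (S : Set (↥(Subgroup.normalizer (K : Set G)) → ℂ))
    (hS : S = {χ : ↥(Subgroup.normalizer (K : Set G)) → ℂ |
      IsIrrCharacter ↥(Subgroup.normalizer (K : Set G)) χ ∧
      ∃ k : ↥(Subgroup.normalizer (K : Set G)), (k : G) ∈ K ∧ χ k ≠ χ 1})
    (hne : S.Nonempty) (δ : ↥(Subgroup.normalizer (K : Set G)) → ℂ)
    (hδ : IsClassFunction ↥(Subgroup.normalizer (K : Set G)) δ)
    (horth : ∀ α ∈ zspan S, α 1 = 0 → classInner δ α = 0) :
    ∃ t : ℂ, (∀ ξ ∈ S, classInner δ ξ = t * ξ 1) ∧
      ∀ k : ↥(Subgroup.normalizer (K : Set G)), (k : G) ∈ K → k ≠ 1 →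
      δ k = -t * (∑ θ ∈ Finset.univ.filter
          (fun θ : IrrCharacter ↥(Subgroup.normalizer (K : Set G)) => θ.1 ∉ S), θ.1 1 * θ.1 1)
        + ∑ θ ∈ Finset.univ.filter
          (fun θ : IrrCharacter ↥(Subgroup.normalizer (K : Set G)) => θ.1 ∉ S),
            classInner δ θ.1 * θ.1 1 := by
  obtain ⟨ξ₀, hξ₀⟩ := hne
  have hSirr : ∀ ξ ∈ S, IsIrrCharacter ↥(Subgroup.normalizer (K : Set G)) ξ := by
    intro ξ hξ; rw [hS] at hξ; exact hξ.1
  have hprop : ∀ ξ ∈ S, ∀ χ' ∈ S, ξ 1 * classInner δ χ' = χ' 1 * classInner δ ξ := by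
    intro ξ hξ χ' hχ'
    have h1 : ξ 1 = ((charDegree ξ : ℤ) : ℂ) := by
      have := irr_one_eq_charDegree ⟨ξ, hSirr ξ hξ⟩
      simp only at this
      rw [this]; simp
    have h2 : χ' 1 = ((charDegree χ' : ℤ) : ℂ) := by
      have := irr_one_eq_charDegree ⟨χ', hSirr χ' hχ'⟩
      simp only at this
      rw [this]; simp
    have hmem : ((charDegree ξ : ℤ) • χ' - (charDegree χ' : ℤ) • ξ) ∈ zspan S := by
      unfold zspan
      exact Submodule.sub_mem _ (Submodule.smul_mem _ _ (Submodule.subset_span hχ'))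
        (Submodule.smul_mem _ _ (Submodule.subset_span hξ))
    have h0 : ((charDegree ξ : ℤ) • χ' - (charDegree χ' : ℤ) • ξ) 1 = 0 := by
      rw [Pi.sub_apply, zsmul_fun_apply', zsmul_fun_apply', ← h1, ← h2]; ring
    have := horth _ hmem h0
    rw [classInner_sub_right'', classInner_zsmul_right, classInner_zsmul_right, ← h1, ← h2] at this
    linear_combination this
  have hξ₀ne : ξ₀ 1 ≠ 0 := irr_one_ne_zero ⟨ξ₀, hSirr ξ₀ hξ₀⟩
  refine ⟨classInner δ ξ₀ / ξ₀ 1, ?_, ?_⟩
  · intro ξ hξ
    have := hprop ξ₀ hξ₀ ξ hξ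
    field_simp
    linear_combination this
  · intro k hkK hk1
    obtain ⟨t, ht⟩ : ∃ t, t = classInner δ ξ₀ / ξ₀ 1 := ⟨_, rfl⟩
    rw [← ht]
    have htS : ∀ ξ ∈ S, classInner δ ξ = t * ξ 1 := by
      intro ξ hξ
      have := hprop ξ₀ hξ₀ ξ hξ
      rw [ht]
      field_simp
      linear_combination this
    have hexp := congrFun (classFunction_eq_sum hδ) k
    rw [Finset.sum_apply] at hexp
    rw [hexp]
    have hterm : ∀ θ : IrrCharacter ↥(Subgroup.normalizer (K : Set G)),
        (classInner δ θ.1 • θ.1) k = t * (θ.1 1 * θ.1 k) +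
          (if θ.1 ∉ S then (-t * (θ.1 1 * θ.1 1) + classInner δ θ.1 * θ.1 1) else 0) := by
      intro θ
      rw [Pi.smul_apply, smul_eq_mul]
      by_cases hθ : θ.1 ∈ S
      · rw [if_neg (not_not.mpr hθ), htS θ.1 hθ]; ring
      · rw [if_pos hθ]
        have hk' : θ.1 k = θ.1 1 := by
          by_contra hne'
          apply hθ
          rw [hS]
          exact ⟨θ.2, k, hkK, hne'⟩
        rw [hk']; ring
    rw [Finset.sum_congr rfl (fun θ _ => hterm θ), Finset.sum_add_distrib, ← Finset.mul_sum,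
      irr_sum_deg_mul hk1, mul_zero, zero_add, ← Finset.sum_filter, Finset.sum_add_distrib,
      ← Finset.mul_sum]

theorem zspanOn_of_one_eq_zero {X : Type*} [One X] {S : Set (X → ℂ)} {α : X → ℂ}
    (hα : α ∈ zspan S) (h1 : α 1 = 0) : α ∈ zspanOn S ({1}ᶜ : Set X) := by
  refine ⟨hα, ?_⟩
  intro x hx
  have : x = 1 := by
    by_contra hne
    exact hx hne
  rw [this, h1]

/-- The restriction of `star χ` minus `χ` is orthogonal to the degree zero part of the lattice. -/
theorem tifn_star_orth [Fintype G] (K : Subgroup G) [Fintype ↥(Subgroup.normalizer (K : Set G))]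
    (S : Set (↥(Subgroup.normalizer (K : Set G)) → ℂ))
    (star : (↥(Subgroup.normalizer (K : Set G)) → ℂ) → (G → ℂ))
    (hstar : IsLinearIsometryOn (zspan S) star)
    (hext : ∀ α ∈ zspanOn S ({1}ᶜ : Set ↥(Subgroup.normalizer (K : Set G))),
      star α = indFun (Subgroup.normalizer (K : Set G)) α)
    (χ : ↥(Subgroup.normalizer (K : Set G)) → ℂ) (hχ : χ ∈ zspan S) :
    ∀ α ∈ zspan S, α 1 = 0 →
      classInner ((fun x : ↥(Subgroup.normalizer (K : Set G)) => star χ x) - χ) α = 0 := by
  intro α hα h1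
  have hcf : IsClassFunction G (star χ) := genchar_isClassFunction (hstar.2.2.2 χ hχ)
  rw [classInner_sub_left'', classInner_conj_symm α,
    ← frobenius_reciprocity (Subgroup.normalizer (K : Set G)) α (star χ) hcf,
    ← hext α (zspanOn_of_one_eq_zero hα h1), hstar.2.2.1 α hα χ hχ, ← classInner_conj_symm,
    sub_self]

/-- A class function of `G` orthogonal to all `star α` restricts to a function orthogonal to the
degree zero part of the lattice. -/
theorem tifn_orth_of_star_orth [Fintype G] (K : Subgroup G)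
    [Fintype ↥(Subgroup.normalizer (K : Set G))]
    (S : Set (↥(Subgroup.normalizer (K : Set G)) → ℂ))
    (star : (↥(Subgroup.normalizer (K : Set G)) → ℂ) → (G → ℂ))
    (hext : ∀ α ∈ zspanOn S ({1}ᶜ : Set ↥(Subgroup.normalizer (K : Set G))),
      star α = indFun (Subgroup.normalizer (K : Set G)) α)
    (ψ : G → ℂ) (hψ : IsClassFunction G ψ)
    (h0 : ∀ α ∈ zspan S, classInner (star α) ψ = 0) :
    ∀ α ∈ zspan S, α 1 = 0 →
      classInner (fun x : ↥(Subgroup.normalizer (K : Set G)) => ψ x) α = 0 := by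
  intro α hα h1
  rw [classInner_conj_symm α,
    ← frobenius_reciprocity (Subgroup.normalizer (K : Set G)) α ψ hψ,
    ← hext α (zspanOn_of_one_eq_zero hα h1), h0 α hα, map_zero]

end Tifn2
end Cfsg.Agent.Lib.Helper8
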