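import Mathlib
import Cfsg.Prelude.Def_Characters
import Cfsg.Prelude.Def_OddOrderChar
import Cfsg.Agent.Lib.Helper8.Tifn2
import Cfsg.Agent.Lib.Helper8.CharIto
import Cfsg.Agent.Lib.Helper8.CharClassSum

set_option autoImplicit false

namespace Cfsg.Agent.Lib.Helper8
open Cfsg
open scoped ComplexConjugate

section Tifn3
variable {G : Type*} [Group G]

theorem irr_sum_deg_sq [Fintype G] [Fintype (IrrCharacter G)] :
    ∑ θ : IrrCharacter G, θ.1 1 * θ.1 1 = (Nat.card G : ℂ) := by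
  classical
  have := irr_sum_mul_conj (G := G) 1 1
  rw [if_pos (IsConj.refl 1)] at this
  have hc : Subgroup.centralizer ({1} : Set G) = ⊤ := by
    ext x; simp [Subgroup.mem_centralizer_iff]
  rw [hc, Subgroup.card_top] at this
  rw [← this]
  apply Finset.sum_congr rfl
  intro θ _
  rw [irr_one_real]

theorem genchar_restrict (H : Subgroup G) {θ : G → ℂ} (hθ : IsGeneralizedCharacter G θ) :
    IsGeneralizedCharacter H (fun h : H => θ h) := by
  obtain ⟨a, b, ha, hb, rfl⟩ := hθ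
  exact ⟨_, _, isCharacter_restrict H ha, isCharacter_restrict H hb, rfl⟩

open Classical in
/-- `|K| · Σ_{θ ∉ S} θ(1)² = |N|`. -/
theorem tifn_nonrel_sq_sum [Fintype G] (K : Subgroup G)
    [Fintype ↥(Subgroup.normalizer (K : Set G))]
    [Fintype (IrrCharacter ↥(Subgroup.normalizer (K : Set G)))]
    (hC : ∀ k ∈ K, k ≠ 1 → Subgroup.centralizer ({k} : Set G) ≤ K)
    (S : Set (↥(Subgroup.normalizer (K : Set G)) → ℂ))
    (hS : S = {χ : ↥(Subgroup.normalizer (K : Set G)) → ℂ |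
      IsIrrCharacter ↥(Subgroup.normalizer (K : Set G)) χ ∧
      ∃ k : ↥(Subgroup.normalizer (K : Set G)), (k : G) ∈ K ∧ χ k ≠ χ 1}) :
    (Nat.card ↥(K.subgroupOf (Subgroup.normalizer (K : Set G))) : ℂ) *
      ∑ θ ∈ Finset.univ.filter
        (fun θ : IrrCharacter ↥(Subgroup.normalizer (K : Set G)) => θ.1 ∉ S), θ.1 1 * θ.1 1
      = (Nat.card ↥(Subgroup.normalizer (K : Set G)) : ℂ) := by
  have hNne : (Nat.card ↥(Subgroup.normalizer (K : Set G)) : ℂ) ≠ 0 :=
    Nat.cast_ne_zero.mpr Nat.card_pos.ne'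
  have hT1 : ∑ x : ↥(Subgroup.normalizer (K : Set G)),
      (if (x : G) ∈ K then ∑ θ : IrrCharacter ↥(Subgroup.normalizer (K : Set G)),
        θ.1 1 * θ.1 x else 0) = (Nat.card ↥(Subgroup.normalizer (K : Set G)) : ℂ) := by
    rw [Finset.sum_eq_single (1 : ↥(Subgroup.normalizer (K : Set G)))]
    · rw [if_pos (by rw [Subgroup.coe_one]; exact K.one_mem)]
      exact irr_sum_deg_sq
    · intro x _ hx1
      by_cases hxK : (x : G) ∈ K
      · rw [if_pos hxK, irr_sum_deg_mul hx1]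
      · rw [if_neg hxK]
    · intro h; exact absurd (Finset.mem_univ _) h
  have hT2 : ∑ x : ↥(Subgroup.normalizer (K : Set G)),
      (if (x : G) ∈ K then ∑ θ : IrrCharacter ↥(Subgroup.normalizer (K : Set G)),
        θ.1 1 * θ.1 x else 0) =
      ∑ θ : IrrCharacter ↥(Subgroup.normalizer (K : Set G)),
        θ.1 1 * ∑ x : ↥(Subgroup.normalizer (K : Set G)), (if (x : G) ∈ K then θ.1 x else 0) := by
    simp_rw [Finset.mul_sum]
    rw [Finset.sum_comm]
    apply Finset.sum_congr rfl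
    intro x _
    by_cases hxK : (x : G) ∈ K
    · simp only [if_pos hxK]
    · simp only [if_neg hxK, mul_zero, Finset.sum_const_zero]
  have hinner : ∀ θ : IrrCharacter ↥(Subgroup.normalizer (K : Set G)),
      ∑ x : ↥(Subgroup.normalizer (K : Set G)), (if (x : G) ∈ K then θ.1 x else 0) =
        if θ.1 ∉ S then
          (Nat.card ↥(K.subgroupOf (Subgroup.normalizer (K : Set G))) : ℂ) * θ.1 1 else 0 := by
    intro θ
    by_cases hθ : θ.1 ∈ S
    · rw [if_neg (not_not.mpr hθ)]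
      have hrel : ∃ k : ↥(Subgroup.normalizer (K : Set G)), (k : G) ∈ K ∧ θ.1 k ≠ θ.1 1 := by
        rw [hS] at hθ; exact hθ.2
      have hvan := tifn_relevant_vanish K hC θ.1 θ.2 hrel
      have hx : ∀ x : ↥(Subgroup.normalizer (K : Set G)),
          (if (x : G) ∈ K then θ.1 x else 0) = θ.1 x := by
        intro x
        by_cases h : (x : G) ∈ K
        · rw [if_pos h]
        · rw [if_neg h, hvan x h]
      simp_rw [hx]
      have h1 : classInner θ.1 (fun _ => (1 : ℂ)) = 0 := by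
        rw [irr_classInner θ.2 principal_isIrrCharacter, if_neg]
        intro h
        obtain ⟨k, _, hk⟩ := hrel
        apply hk; rw [h]
      unfold classInner at h1
      rcases mul_eq_zero.mp h1 with h | h
      · exact absurd (inv_eq_zero.mp h) hNne
      · simpa using h
    · rw [if_pos hθ]
      have hx : ∀ x : ↥(Subgroup.normalizer (K : Set G)),
          (if (x : G) ∈ K then θ.1 x else 0) = if (x : G) ∈ K then θ.1 1 else 0 := by
        intro x
        by_cases h : (x : G) ∈ K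
        · rw [if_pos h, if_pos h]
          by_contra hne
          exact hθ (by rw [hS]; exact ⟨θ.2, x, h, hne⟩)
        · rw [if_neg h, if_neg h]
      simp_rw [hx]
      rw [← Finset.sum_filter, Finset.sum_const, nsmul_eq_mul]
      congr 2
      rw [← Nat.card_eq_finsetCard]
      exact Nat.card_congr (Equiv.subtypeEquivRight (by intro x; simp [Subgroup.mem_subgroupOf]))
  rw [hT2] at hT1
  rw [← hT1, Finset.mul_sum, Finset.sum_filter]
  apply Finset.sum_congr rfl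
  intro θ _
  rw [hinner θ]
  by_cases hθ : θ.1 ∉ S
  · rw [if_pos hθ, if_pos hθ]; ring
  · rw [if_neg hθ, if_neg hθ, mul_zero]

open Classical in
/-- The degrees `χ(1)/e` of the relevant characters are coprime (Bézout form). -/
theorem tifn_bezout [Fintype G] (K : Subgroup G)
    [Fintype ↥(Subgroup.normalizer (K : Set G))]
    [Fintype (IrrCharacter ↥(Subgroup.normalizer (K : Set G)))]
    (hC : ∀ k ∈ K, k ≠ 1 → Subgroup.centralizer ({k} : Set G) ≤ K)
    (S : Set (↥(Subgroup.normalizer (K : Set G)) → ℂ))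
    (hS : S = {χ : ↥(Subgroup.normalizer (K : Set G)) → ℂ |
      IsIrrCharacter ↥(Subgroup.normalizer (K : Set G)) χ ∧
      ∃ k : ↥(Subgroup.normalizer (K : Set G)), (k : G) ∈ K ∧ χ k ≠ χ 1})
    (hne : S.Nonempty) :
    ∃ (f : IrrCharacter ↥(Subgroup.normalizer (K : Set G)) → ℕ)
      (u : IrrCharacter ↥(Subgroup.normalizer (K : Set G)) → ℤ),
      (∀ θ : IrrCharacter ↥(Subgroup.normalizer (K : Set G)), θ.1 ∈ S →
        θ.1 1 = ((K.subgroupOf (Subgroup.normalizer (K : Set G))).index : ℂ) * (f θ : ℂ)) ∧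
      ∑ θ ∈ Finset.univ.filter
        (fun θ : IrrCharacter ↥(Subgroup.normalizer (K : Set G)) => θ.1 ∈ S),
          (f θ : ℤ) * u θ = 1 := by
  obtain ⟨e, he⟩ : ∃ e : ℕ, e = (K.subgroupOf (Subgroup.normalizer (K : Set G))).index :=
    ⟨_, rfl⟩
  obtain ⟨c, hc⟩ : ∃ c : ℕ, c = Nat.card ↥(K.subgroupOf (Subgroup.normalizer (K : Set G))) :=
    ⟨_, rfl⟩
  rw [← he]
  have hcard : e * c = Nat.card ↥(Subgroup.normalizer (K : Set G)) := by
    rw [he, hc]; exact Subgroup.index_mul_card _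
  have hcpos : 0 < c := by rw [hc]; exact Nat.card_pos
  have hepos : 0 < e := by
    rcases Nat.eq_zero_or_pos e with h | h
    · rw [h, zero_mul] at hcard
      exact absurd hcard.symm Nat.card_pos.ne'
    · exact h
  have hex : ∀ θ : IrrCharacter ↥(Subgroup.normalizer (K : Set G)), θ.1 ∈ S →
      ∃ d : ℕ, θ.1 1 = (e : ℂ) * (d : ℂ) ∧ d ∣ c := by
    intro θ hθ
    have hrel : ∃ k : ↥(Subgroup.normalizer (K : Set G)), (k : G) ∈ K ∧ θ.1 k ≠ θ.1 1 := by
      rw [hS] at hθ; exact hθ.2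
    obtain ⟨φ, hφ, hθφ⟩ := tifn_relevant_induced K hC θ.1 θ.2 hrel
    refine ⟨charDegree φ, ?_, ?_⟩
    · have hdeg := irr_one_eq_charDegree ⟨φ, hφ⟩
      simp only at hdeg
      rw [hθφ, indFun_one, ← he, hdeg]
    · have := ito_character (G := ↥(K.subgroupOf (Subgroup.normalizer (K : Set G))))
        ⊥ (by
          intro a ha b hb
          rw [Subgroup.mem_bot] at ha hb
          rw [ha, hb]) ⟨φ, hφ⟩
      rw [Subgroup.index_bot, ← hc] at this
      exact this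
  obtain ⟨f, hf⟩ : ∃ f : IrrCharacter ↥(Subgroup.normalizer (K : Set G)) → ℕ,
      ∀ θ, θ.1 ∈ S → θ.1 1 = (e : ℂ) * (f θ : ℂ) ∧ f θ ∣ c := by
    refine ⟨fun θ => if h : θ.1 ∈ S then Classical.choose (hex θ h) else 0, ?_⟩
    intro θ hθ
    simp only [dif_pos hθ]
    exact Classical.choose_spec (hex θ hθ)
  obtain ⟨Sfin, hSfin⟩ : ∃ Sfin : Finset (IrrCharacter ↥(Subgroup.normalizer (K : Set G))),
      Sfin = Finset.univ.filter (fun θ => θ.1 ∈ S) := ⟨_, rfl⟩
  rw [← hSfin]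
  have hmemS : ∀ θ, θ ∈ Sfin ↔ θ.1 ∈ S := by intro θ; rw [hSfin]; simp
  -- the sum of squares
  have hsq : (e : ℤ) * ∑ θ ∈ Sfin, (f θ : ℤ) * (f θ : ℤ) = (c : ℤ) - 1 := by
    have htot := irr_sum_deg_sq (G := ↥(Subgroup.normalizer (K : Set G)))
    have hsplit := Finset.sum_filter_add_sum_filter_not Finset.univ
      (fun θ : IrrCharacter ↥(Subgroup.normalizer (K : Set G)) => θ.1 ∈ S)
      (fun θ => θ.1 1 * θ.1 1)
    rw [htot, ← hSfin] at hsplit
    have hE := tifn_nonrel_sq_sum K hC S hS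
    rw [← hc, ← hcard] at hE
    have hcC : (c : ℂ) ≠ 0 := Nat.cast_ne_zero.mpr hcpos.ne'
    have heC : (e : ℂ) ≠ 0 := Nat.cast_ne_zero.mpr hepos.ne'
    have hE2 : ∑ θ ∈ Finset.univ.filter
        (fun θ : IrrCharacter ↥(Subgroup.normalizer (K : Set G)) => θ.1 ∉ S), θ.1 1 * θ.1 1
        = (e : ℂ) := by
      have : (c : ℂ) * ∑ θ ∈ Finset.univ.filter
        (fun θ : IrrCharacter ↥(Subgroup.normalizer (K : Set G)) => θ.1 ∉ S), θ.1 1 * θ.1 1
          = (c : ℂ) * (e : ℂ) := by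
        rw [hE]; push_cast; ring
      exact mul_left_cancel₀ hcC this
    rw [hE2, ← hcard] at hsplit
    have h1 : ∑ θ ∈ Sfin, θ.1 1 * θ.1 1 =
        (e : ℂ) * (e : ℂ) * ∑ θ ∈ Sfin, ((f θ : ℂ) * (f θ : ℂ)) := by
      rw [Finset.mul_sum]
      apply Finset.sum_congr rfl
      intro θ hθ
      rw [(hf θ ((hmemS θ).mp hθ)).1]; ring
    rw [h1] at hsplit
    push_cast at hsplit
    have h2 : (e : ℂ) * ∑ θ ∈ Sfin, ((f θ : ℂ) * (f θ : ℂ)) = (c : ℂ) - 1 := by
      apply mul_left_cancel₀ heC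
      linear_combination hsplit
    have h3 : (((e : ℤ) * ∑ θ ∈ Sfin, (f θ : ℤ) * (f θ : ℤ) : ℤ) : ℂ) = (((c : ℤ) - 1 : ℤ) : ℂ) := by
      push_cast
      exact h2
    exact_mod_cast h3
  obtain ⟨u, hu⟩ := Finset.gcd_eq_sum_mul Sfin (fun θ => (f θ : ℤ))
  obtain ⟨d, hd⟩ : ∃ d : ℤ, d = Sfin.gcd (fun θ => (f θ : ℤ)) := ⟨_, rfl⟩
  rw [← hd] at hu
  have hdvd : ∀ θ ∈ Sfin, d ∣ (f θ : ℤ) := by
    intro θ hθ; rw [hd]; exact Finset.gcd_dvd hθ
  obtain ⟨ξ₀, hξ₀⟩ := hne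
  have hξ₀irr : IsIrrCharacter ↥(Subgroup.normalizer (K : Set G)) ξ₀ := by
    rw [hS] at hξ₀; exact hξ₀.1
  have hθ₀ : (⟨ξ₀, hξ₀irr⟩ : IrrCharacter ↥(Subgroup.normalizer (K : Set G))) ∈ Sfin :=
    (hmemS _).mpr hξ₀
  have hd1 : d ∣ (c : ℤ) :=
    dvd_trans (hdvd _ hθ₀) (Int.natCast_dvd_natCast.mpr (hf _ hξ₀).2)
  have hd2 : d ∣ (c : ℤ) - 1 := by
    rw [← hsq]
    apply Dvd.dvd.mul_left
    apply Finset.dvd_sum
    intro θ hθ
    exact Dvd.dvd.mul_right (hdvd θ hθ) _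
  have hd3 : d ∣ 1 := by
    have := dvd_sub hd1 hd2
    simpa using this
  obtain ⟨w, hw⟩ := hd3
  refine ⟨f, fun θ => u θ * w, fun θ hθ => (hf θ hθ).1, ?_⟩
  have : ∑ θ ∈ Sfin, (f θ : ℤ) * (u θ * w) = (∑ θ ∈ Sfin, (f θ : ℤ) * u θ) * w := by
    rw [Finset.sum_mul]
    apply Finset.sum_congr rfl
    intro θ _; ring
  rw [this, ← hu, ← hw]

open Classical in
/-- `Σ_{θ ∉ S} θ(1)² = |N : K|`. -/
theorem tifn_nonrel_sq_sum_index [Fintype G] (K : Subgroup G)
    [Fintype ↥(Subgroup.normalizer (K : Set G))]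
    [Fintype (IrrCharacter ↥(Subgroup.normalizer (K : Set G)))]
    (hC : ∀ k ∈ K, k ≠ 1 → Subgroup.centralizer ({k} : Set G) ≤ K)
    (S : Set (↥(Subgroup.normalizer (K : Set G)) → ℂ))
    (hS : S = {χ : ↥(Subgroup.normalizer (K : Set G)) → ℂ |
      IsIrrCharacter ↥(Subgroup.normalizer (K : Set G)) χ ∧
      ∃ k : ↥(Subgroup.normalizer (K : Set G)), (k : G) ∈ K ∧ χ k ≠ χ 1}) :
    ∑ θ ∈ Finset.univ.filter
        (fun θ : IrrCharacter ↥(Subgroup.normalizer (K : Set G)) => θ.1 ∉ S), θ.1 1 * θ.1 1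
      = ((K.subgroupOf (Subgroup.normalizer (K : Set G))).index : ℂ) := by
  have hE := tifn_nonrel_sq_sum K hC S hS
  have hcard := Subgroup.index_mul_card (K.subgroupOf (Subgroup.normalizer (K : Set G)))
  have hcC : (Nat.card ↥(K.subgroupOf (Subgroup.normalizer (K : Set G))) : ℂ) ≠ 0 :=
    Nat.cast_ne_zero.mpr Nat.card_pos.ne'
  apply mul_left_cancel₀ hcC
  rw [hE, ← hcard]
  push_cast
  ring

end Tifn3
end Cfsg.Agent.Lib.Helper8
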