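import Mathlib
import Cfsg.Prelude.Def_Characters
import Cfsg.Prelude.Def_Transfer
import Cfsg.Agent.Lib.Helper8.AbelChief
import Cfsg.Agent.Lib.Helper8.CharSchur
import Cfsg.Agent.Lib.Helper8.CharCenter
import Cfsg.Agent.Lib.Helper8.CharItoSolv
import Cfsg.Agent.Lib.Helper8.Tifn2
import Cfsg.Agent.Lib.Helper8.Tifn3
import Cfsg.Agent.Lib.Helper8.Tifn

set_option autoImplicit false

namespace Cfsg.Agent.Lib.Helper8
open Cfsg
open scoped ComplexConjugate

universe u

section OnePSing

/-- a central element acts as a nonzero scalar on an irreducible character -/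
theorem irr_central_mul {G : Type*} [Group G] [Finite G] (χ : IrrCharacter G) {z : G}
    (hz : z ∈ Subgroup.center G) : ∃ ε : ℂ, ε ≠ 0 ∧ ∀ g : G, χ.1 (z * g) = ε * χ.1 g := by
  obtain ⟨n, ρ, hρ, hρχ⟩ := χ.2
  obtain ⟨c, hc⟩ := central_scalar hρ hz
  have hnt : Nontrivial (Fin n → ℂ) := irreducible_nontrivial hρ
  have hρz : ρ z = c • (LinearMap.id : (Fin n → ℂ) →ₗ[ℂ] (Fin n → ℂ)) :=
    LinearMap.ext fun v => by rw [hc v]; rfl
  refine ⟨c, ?_, ?_⟩
  · intro h0
    obtain ⟨v, hv⟩ := exists_ne (0 : Fin n → ℂ)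
    have h1 : ρ (z * z⁻¹) v = v := by rw [mul_inv_cancel, map_one]; rfl
    rw [map_mul, Module.End.mul_apply, hc, h0, zero_smul] at h1
    exact hv h1.symm
  · intro g
    rw [← hρχ]
    show LinearMap.trace ℂ _ (ρ (z * g)) = c * LinearMap.trace ℂ _ (ρ g)
    rw [map_mul, hρz, smul_mul_assoc, map_smul, smul_eq_mul]
    rfl

/-- iterated commutators of a subgroup with the whole group -/
def commChain {G : Type*} [Group G] (N : Subgroup G) : ℕ → Subgroup G
  | 0 => N
  | (i + 1) => ⁅commChain N i, (⊤ : Subgroup G)⁆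

/-- a nontrivial normal subgroup of a nilpotent group meets the centre -/
theorem normal_inf_center_ne_bot {G : Type*} [Group G] [Group.IsNilpotent G] (N : Subgroup G)
    [hN : N.Normal] (hN1 : N ≠ ⊥) : ∃ z ∈ N, z ∈ Subgroup.center G ∧ z ≠ 1 := by
  classical
  obtain ⟨M, hMdef⟩ : ∃ M : ℕ → Subgroup G, M = commChain N := ⟨_, rfl⟩
  have hM0 : M 0 = N := by rw [hMdef]; rfl
  have hMs : ∀ i, M (i + 1) = ⁅M i, (⊤ : Subgroup G)⁆ := fun i => by rw [hMdef]; rfl
  have hMN : ∀ i, M i ≤ N := by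
    intro i
    induction i with
    | zero => exact hM0.le
    | succ i ih =>
      rw [hMs]
      exact (Subgroup.commutator_mono ih le_rfl).trans (Subgroup.commutator_le_left N ⊤)
  have hMl : ∀ i, M i ≤ Subgroup.lowerCentralSeries (⊤ : Subgroup G) i := by
    intro i
    induction i with
    | zero => rw [Subgroup.lowerCentralSeries_zero]; exact le_top
    | succ i ih =>
      rw [hMs, Subgroup.lowerCentralSeries_succ]
      exact Subgroup.commutator_mono ih le_rfl
  have hex : ∃ i, M i = ⊥ := by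
    refine ⟨Group.nilpotencyClass G, ?_⟩
    rw [eq_bot_iff, ← Subgroup.lowerCentralSeries_nilpotencyClass]
    exact hMl _
  obtain ⟨i, hi⟩ := hex
  have key : ∀ i, M i = ⊥ → ∃ z ∈ N, z ∈ Subgroup.center G ∧ z ≠ 1 := by
    intro i
    induction i with
    | zero =>
      intro h
      rw [hM0] at h
      exact absurd h hN1
    | succ j ih =>
      intro h
      by_cases hj : M j = ⊥
      · exact ih hj
      · rw [hMs, Subgroup.commutator_eq_bot_iff_le_centralizer] at h
        obtain ⟨⟨z, hzM⟩, hz1⟩ := (Subgroup.ne_bot_iff_exists_ne_one).1 hj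
        refine ⟨z, hMN j hzM, ?_, fun h' => hz1 (Subtype.ext h')⟩
        have := h hzM
        rw [Subgroup.mem_centralizer_iff] at this
        rw [Subgroup.mem_center_iff]
        intro g
        exact this g (Subgroup.mem_top g)
  exact key i hi

/-- a nilpotent group of order divisible by `q` has a central element of order `q` -/
theorem exists_central_prime_order {G : Type*} [Group G] [Finite G] [Group.IsNilpotent G]
    (q : ℕ) [hq : Fact q.Prime] (hdvd : q ∣ Nat.card G) :
    ∃ z ∈ Subgroup.center G, orderOf z = q := by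
  obtain ⟨Q⟩ : Nonempty (Sylow q G) := inferInstance
  have hQ1 : (Q : Subgroup G) ≠ ⊥ := Sylow.ne_bot_of_dvd_card Q hdvd
  obtain ⟨z₀, hz₀Q, hz₀Z, hz₀1⟩ := normal_inf_center_ne_bot (Q : Subgroup G) hQ1
  obtain ⟨k, hk⟩ := Q.2 ⟨z₀, hz₀Q⟩
  have hk' : z₀ ^ q ^ k = 1 := by
    have := congrArg Subtype.val hk
    simpa using this
  have hdvd2 : orderOf z₀ ∣ q ^ k := orderOf_dvd_of_pow_eq_one hk'
  obtain ⟨j, _, hj⟩ := (Nat.dvd_prime_pow hq.out).1 hdvd2
  have hj0 : j ≠ 0 := by
    intro h0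
    rw [h0, pow_zero, orderOf_eq_one_iff] at hj
    exact hz₀1 hj
  have hqd : q ∣ orderOf z₀ := by rw [hj]; exact dvd_pow_self q hj0
  refine ⟨z₀ ^ (orderOf z₀ / q), Subgroup.pow_mem _ hz₀Z _, ?_⟩
  exact orderOf_pow_orderOf_div (orderOf_pos z₀).ne' hqd

end OnePSing

end Cfsg.Agent.Lib.Helper8
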