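import Mathlib
import Cfsg.Prelude.Def_Characters
import Cfsg.Agent.Lib.Helper8.AbelChief
import Cfsg.Agent.Lib.Helper8.OnePSing
import Cfsg.Agent.Lib.Helper8.GlaubDet
import Cfsg.Agent.Lib.Helper8.CharClassSum
import Cfsg.Agent.Lib.Helper8.CharComplete2
import Cfsg.Agent.Lib.Helper8.FrobRam2

set_option autoImplicit false
set_option maxHeartbeats 1000000

namespace Cfsg.Agent.Lib.Helper8
open Cfsg
open scoped ComplexConjugate
open scoped Classical

universe u

section CentralGood

/-- counting conjugacy classes satisfying an invariant predicate -/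
theorem card_classes_with {X : Type*} [Group X] [Fintype X] (P : X → Prop)
    (hP : ∀ x y : X, IsConj x y → (P x ↔ P y)) :
    (Nat.card {C : ConjClasses X // ∃ x : X, ConjClasses.mk x = C ∧ P x} : ℂ) * (Nat.card X : ℂ) =
      ∑ x : X, (if P x then (Nat.card (Subgroup.centralizer ({x} : Set X)) : ℂ) else 0) := by
  haveI : Fintype (ConjClasses X) := Fintype.ofFinite _
  rw [← Finset.sum_fiberwise (s := Finset.univ) (g := fun x : X => ConjClasses.mk x)]
  have hinner : ∀ C : ConjClasses X,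
      ∑ x ∈ Finset.univ.filter (fun x : X => ConjClasses.mk x = C),
        (if P x then (Nat.card (Subgroup.centralizer ({x} : Set X)) : ℂ) else 0) =
      if (∃ x : X, ConjClasses.mk x = C ∧ P x) then (Nat.card X : ℂ) else 0 := by
    intro C
    obtain ⟨x₀, rfl⟩ := ConjClasses.mk_surjective C
    by_cases hPx : P x₀
    · rw [if_pos ⟨x₀, rfl, hPx⟩]
      -- orbit-stabilizer for each element of the class
      have hos : ∀ x : X, (Nat.card X : ℂ) =
          (Nat.card (Subgroup.centralizer ({x} : Set X)) : ℂ) *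
            ((Finset.univ.filter (fun y : X => IsConj x y)).card : ℂ) := by
        intro x
        have h := sum_conj_eq x (fun _ => (1 : ℂ))
        rw [Finset.sum_const, Finset.card_univ, nsmul_eq_mul, mul_one, Finset.sum_const,
          nsmul_eq_mul, mul_one, ← Nat.card_eq_fintype_card] at h
        exact h
      have hcls : ∀ x : X, ConjClasses.mk x = ConjClasses.mk x₀ →
          Finset.univ.filter (fun y : X => IsConj x y) =
            Finset.univ.filter (fun y : X => ConjClasses.mk y = ConjClasses.mk x₀) := by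
        intro x hx
        ext y
        simp only [Finset.mem_filter, Finset.mem_univ, true_and]
        rw [← hx, ConjClasses.mk_eq_mk_iff_isConj, isConj_comm]
      have hm0 : ((Finset.univ.filter
          (fun y : X => ConjClasses.mk y = ConjClasses.mk x₀)).card : ℂ) ≠ 0 := by
        have : x₀ ∈ Finset.univ.filter (fun y : X => ConjClasses.mk y = ConjClasses.mk x₀) := by
          simp
        exact_mod_cast (Finset.card_pos.mpr ⟨x₀, this⟩).ne'
      have hterm : ∀ x ∈ Finset.univ.filter (fun x : X => ConjClasses.mk x = ConjClasses.mk x₀),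
          (if P x then (Nat.card (Subgroup.centralizer ({x} : Set X)) : ℂ) else 0) =
          (Nat.card X : ℂ) / ((Finset.univ.filter
            (fun y : X => ConjClasses.mk y = ConjClasses.mk x₀)).card : ℂ) := by
        intro x hx
        have hx' : ConjClasses.mk x = ConjClasses.mk x₀ := (Finset.mem_filter.mp hx).2
        have hPx' : P x := (hP x x₀ (ConjClasses.mk_eq_mk_iff_isConj.mp hx')).mpr hPx
        rw [if_pos hPx', hos x, hcls x hx']
        field_simp
      rw [Finset.sum_congr rfl hterm, Finset.sum_const, nsmul_eq_mul]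
      field_simp
    · rw [if_neg]
      · apply Finset.sum_eq_zero
        intro x hx
        have hx' : ConjClasses.mk x = ConjClasses.mk x₀ := (Finset.mem_filter.mp hx).2
        rw [if_neg]
        intro hPx'
        exact hPx ((hP x x₀ (ConjClasses.mk_eq_mk_iff_isConj.mp hx')).mp hPx')
      · rintro ⟨x, hx, hPx'⟩
        exact hPx ((hP x x₀ (ConjClasses.mk_eq_mk_iff_isConj.mp hx)).mp hPx')
  rw [Finset.sum_congr rfl (fun C _ => hinner C), ← Finset.sum_filter, Finset.sum_const,
    nsmul_eq_mul]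
  congr 2
  exact Nat.subtype_card _ (by simp)

/-- summing over the fibres of the quotient map -/
theorem sum_comp_mk {G : Type*} [Group G] [Fintype G] (N : Subgroup G) [N.Normal]
    [Fintype (G ⧸ N)] (F : G ⧸ N → ℂ) :
    ∑ g : G, F (QuotientGroup.mk g) = (Nat.card N : ℂ) * ∑ q : G ⧸ N, F q := by
  rw [← Finset.sum_fiberwise (s := Finset.univ) (g := fun g : G => (QuotientGroup.mk g : G ⧸ N)),
    Finset.mul_sum]
  apply Finset.sum_congr rfl
  intro q _
  obtain ⟨g₀, rfl⟩ := QuotientGroup.mk_surjective q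
  have hterm : ∀ g ∈ Finset.univ.filter
      (fun g : G => (QuotientGroup.mk g : G ⧸ N) = QuotientGroup.mk g₀),
      F (QuotientGroup.mk g) = F (QuotientGroup.mk g₀) := by
    intro g hg
    rw [(Finset.mem_filter.mp hg).2]
  rw [Finset.sum_congr rfl hterm, Finset.sum_const, nsmul_eq_mul]
  congr 2
  have hset : Finset.univ.filter
      (fun g : G => (QuotientGroup.mk g : G ⧸ N) = QuotientGroup.mk g₀) =
      (Finset.univ.filter (fun n : G => n ∈ N)).image (fun n => g₀ * n) := by
    ext g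
    simp only [Finset.mem_filter, Finset.mem_image, Finset.mem_univ, true_and]
    constructor
    · intro h
      refine ⟨g₀⁻¹ * g, ?_, by group⟩
      exact QuotientGroup.eq.mp h.symm
    · rintro ⟨n, hn, rfl⟩
      symm
      rw [QuotientGroup.eq]
      simpa using hn
  rw [hset, Finset.card_image_of_injective _ (mul_right_injective g₀)]
  exact (Nat.subtype_card _ (by simp)).symm

variable {G : Type u} [Group G] [Fintype G]

/-- special (good) elements relative to a central subgroup -/
def centralSpecial (N : Subgroup G) (g : G) : Prop :=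
  ∀ x : G, x⁻¹ * g⁻¹ * x * g ∈ N → x * g = g * x

theorem centralSpecial_conj (N : Subgroup G) [hNn : N.Normal] {g : G} (hg : centralSpecial N g)
    (y : G) : centralSpecial N (y * g * y⁻¹) := by
  intro x hx
  have h1 : (y⁻¹ * x * y)⁻¹ * g⁻¹ * (y⁻¹ * x * y) * g ∈ N := by
    have := hNn.conj_mem _ hx y⁻¹
    convert this using 1
    group
  have h2 := hg _ h1
  calc x * (y * g * y⁻¹) = y * ((y⁻¹ * x * y) * g) * y⁻¹ := by group
    _ = y * (g * (y⁻¹ * x * y)) * y⁻¹ := by rw [h2]
    _ = y * g * y⁻¹ * x := by group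

theorem centralSpecial_mul (N : Subgroup G) (hN : N ≤ Subgroup.center G) {g : G}
    (hg : centralSpecial N g) {n : G} (hn : n ∈ N) : centralSpecial N (g * n) := by
  have hnc : ∀ z : G, z * n = n * z := fun z => Subgroup.mem_center_iff.mp (hN hn) z
  have hnc' : ∀ z : G, z * n⁻¹ = n⁻¹ * z := fun z =>
    Subgroup.mem_center_iff.mp (hN (N.inv_mem hn)) z
  intro x hx
  have h1 : x⁻¹ * (g * n)⁻¹ * x * (g * n) = x⁻¹ * g⁻¹ * x * g := by
    calc x⁻¹ * (g * n)⁻¹ * x * (g * n) = x⁻¹ * (n⁻¹ * g⁻¹) * x * (g * n) := by rw [mul_inv_rev]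
      _ = x⁻¹ * (g⁻¹ * n⁻¹) * x * (g * n) := by rw [← hnc' g⁻¹]
      _ = x⁻¹ * g⁻¹ * (n⁻¹ * x) * g * n := by group
      _ = x⁻¹ * g⁻¹ * (x * n⁻¹) * g * n := by rw [hnc' x]
      _ = x⁻¹ * g⁻¹ * x * (n⁻¹ * g) * n := by group
      _ = x⁻¹ * g⁻¹ * x * (g * n⁻¹) * n := by rw [← hnc' g]
      _ = x⁻¹ * g⁻¹ * x * g := by group
  rw [h1] at hx
  have h2 := hg x hx
  calc x * (g * n) = (x * g) * n := by group
    _ = (g * x) * n := by rw [h2]
    _ = g * (x * n) := by group
    _ = g * (n * x) := by rw [hnc x]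
    _ = g * n * x := by group

variable [Fintype (IrrCharacter G)]

/-- the group-theoretic sum -/
theorem good_sum (N : Subgroup G) [Fintype N] (hN : N ≤ Subgroup.center G)
    (ψ : IrrCharacter N) (hψ1 : ψ.1 1 = 1)
    (hfaith : ∀ n : N, ψ.1 n = ψ.1 1 → n = 1) (g : G) :
    ∑ n : N, (if IsConj ((n : G) * g) g then conj (ψ.1 n) else 0) =
      if centralSpecial N g then 1 else 0 := by
  have hcen : ∀ (n : N) (z : G), z * (n : G) = (n : G) * z := fun n z =>
    Subgroup.mem_center_iff.mp (hN n.2) z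
  by_cases hs : centralSpecial N g
  · rw [if_pos hs, Finset.sum_eq_single (1 : N)]
    · rw [if_pos (by rw [Subgroup.coe_one, one_mul]), hψ1, map_one]
    · intro n _ hn1
      rw [if_neg]
      intro hc
      obtain ⟨c, hc⟩ := isConj_iff.mp hc
      apply hn1
      have h1 : c * g * c⁻¹ = (n : G)⁻¹ * g := by
        have h2 : c * ((n : G) * g) * c⁻¹ = (n : G) * (c * g * c⁻¹) := by
          calc c * ((n : G) * g) * c⁻¹ = (c * (n : G)) * g * c⁻¹ := by group
            _ = ((n : G) * c) * g * c⁻¹ := by rw [hcen n c]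
            _ = (n : G) * (c * g * c⁻¹) := by group
        rw [h2] at hc
        calc c * g * c⁻¹ = (n : G)⁻¹ * ((n : G) * (c * g * c⁻¹)) := by group
          _ = (n : G)⁻¹ * g := by rw [hc]
      have h3 : (c⁻¹)⁻¹ * g⁻¹ * c⁻¹ * g ∈ N := by
        have h4 : (c⁻¹)⁻¹ * g⁻¹ * c⁻¹ * g = (c * g * c⁻¹)⁻¹ * g := by group
        rw [h4, h1]
        have h5 : ((n : G)⁻¹ * g)⁻¹ * g = g⁻¹ * (n : G) * g := by group
        rw [h5]
        have h6 : g⁻¹ * (n : G) * g = (n : G) := by
          calc g⁻¹ * (n : G) * g = g⁻¹ * ((n : G) * g) := by group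
            _ = g⁻¹ * (g * (n : G)) := by rw [hcen n g]
            _ = (n : G) := by group
        rw [h6]; exact n.2
      have h7 := hs c⁻¹ h3
      have h8 : c * g * c⁻¹ = g := by
        calc c * g * c⁻¹ = c * (g * c⁻¹) := by group
          _ = c * (c⁻¹ * g) := by rw [h7]
          _ = g := by group
      rw [h8] at h1
      apply Subtype.ext
      have h9 : (n : G)⁻¹ = 1 := by
        have := congrArg (fun z => z * g⁻¹) h1
        simpa using this.symm
      simpa using h9
    · intro h; exact absurd (Finset.mem_univ _) h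
  · rw [if_neg hs]
    unfold centralSpecial at hs
    push_neg at hs
    obtain ⟨x₀, hx₀N, hx₀⟩ := hs
    obtain ⟨d, hd⟩ : ∃ d : N, (d : G) = (x₀⁻¹ * g⁻¹ * x₀ * g)⁻¹ := ⟨⟨_, N.inv_mem hx₀N⟩, rfl⟩
    have hd1 : d ≠ 1 := by
      intro h
      apply hx₀
      have h1 : (x₀⁻¹ * g⁻¹ * x₀ * g)⁻¹ = 1 := by rw [← hd, h]; rfl
      have h2 : x₀⁻¹ * g⁻¹ * x₀ * g = 1 := inv_eq_one.mp h1
      calc x₀ * g = g * x₀ * (x₀⁻¹ * g⁻¹ * x₀ * g) := by group
        _ = g * x₀ := by rw [h2, mul_one]
    have hψd : ψ.1 d ≠ 1 := by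
      intro h; apply hd1; apply hfaith; rw [h, hψ1]
    -- conjugating d g back to g
    have hconj : x₀ * ((d : G) * g) * x₀⁻¹ = g := by
      rw [← hcen d g, hd]; group
    have hD : ∀ n : N, IsConj (((d * n : N) : G) * g) g ↔ IsConj ((n : G) * g) g := by
      intro n
      constructor
      · intro h
        obtain ⟨c, hc⟩ := isConj_iff.mp h
        rw [isConj_iff]
        refine ⟨x₀⁻¹ * c, ?_⟩
        have h1 : c * ((n : G) * g) * c⁻¹ = (d : G)⁻¹ * g := by
          have h2 : c * (((d * n : N) : G) * g) * c⁻¹ = (d : G) * (c * ((n : G) * g) * c⁻¹) := by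
            rw [Subgroup.coe_mul]
            calc c * ((d : G) * (n : G) * g) * c⁻¹ = (c * (d : G)) * ((n : G) * g) * c⁻¹ := by group
              _ = ((d : G) * c) * ((n : G) * g) * c⁻¹ := by rw [hcen d c]
              _ = (d : G) * (c * ((n : G) * g) * c⁻¹) := by group
          rw [h2] at hc
          calc c * ((n : G) * g) * c⁻¹ = (d : G)⁻¹ * ((d : G) * (c * ((n : G) * g) * c⁻¹)) := by
                group
            _ = (d : G)⁻¹ * g := by rw [hc]
        have h3 : x₀⁻¹ * ((d : G)⁻¹ * g) * x₀ = g := by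
          have h4 : x₀⁻¹ * g * x₀ = (d : G) * g := by
            calc x₀⁻¹ * g * x₀ = x₀⁻¹ * (x₀ * ((d : G) * g) * x₀⁻¹) * x₀ := by rw [hconj]
              _ = (d : G) * g := by group
          calc x₀⁻¹ * ((d : G)⁻¹ * g) * x₀ = (x₀⁻¹ * (d : G)⁻¹) * g * x₀ := by group
            _ = ((d : G)⁻¹ * x₀⁻¹) * g * x₀ := by
                have := Subgroup.mem_center_iff.mp (hN (N.inv_mem d.2)) x₀⁻¹
                rw [this]
            _ = (d : G)⁻¹ * (x₀⁻¹ * g * x₀) := by group
            _ = g := by rw [h4]; group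
        calc x₀⁻¹ * c * ((n : G) * g) * (x₀⁻¹ * c)⁻¹
            = x₀⁻¹ * (c * ((n : G) * g) * c⁻¹) * x₀ := by group
          _ = g := by rw [h1, h3]
      · intro h
        obtain ⟨c, hc⟩ := isConj_iff.mp h
        rw [isConj_iff]
        refine ⟨x₀ * c, ?_⟩
        have h2 : c * (((d * n : N) : G) * g) * c⁻¹ = (d : G) * (c * ((n : G) * g) * c⁻¹) := by
          rw [Subgroup.coe_mul]
          calc c * ((d : G) * (n : G) * g) * c⁻¹ = (c * (d : G)) * ((n : G) * g) * c⁻¹ := by group
            _ = ((d : G) * c) * ((n : G) * g) * c⁻¹ := by rw [hcen d c]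
            _ = (d : G) * (c * ((n : G) * g) * c⁻¹) := by group
        calc x₀ * c * (((d * n : N) : G) * g) * (x₀ * c)⁻¹
            = x₀ * (c * (((d * n : N) : G) * g) * c⁻¹) * x₀⁻¹ := by group
          _ = x₀ * ((d : G) * g) * x₀⁻¹ := by rw [h2, hc]
          _ = g := hconj
    obtain ⟨f, hf⟩ : ∃ f : N → ℂ,
        f = fun n : N => if IsConj ((n : G) * g) g then conj (ψ.1 n) else 0 := ⟨_, rfl⟩
    have hfd : ∀ n : N, f (d * n) = conj (ψ.1 d) * f n := by
      intro n
      rw [hf]
      show (if IsConj (((d * n : N) : G) * g) g then conj (ψ.1 (d * n)) else 0) =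
        conj (ψ.1 d) * (if IsConj ((n : G) * g) g then conj (ψ.1 n) else 0)
      by_cases hn : IsConj ((n : G) * g) g
      · rw [if_pos ((hD n).mpr hn), if_pos hn, linear_char_mul ψ hψ1, map_mul]
      · rw [if_neg (fun h => hn ((hD n).mp h)), if_neg hn, mul_zero]
    obtain ⟨S, hS⟩ : ∃ S : ℂ, S = ∑ n : N, f n := ⟨_, rfl⟩
    have hshift : S = conj (ψ.1 d) * S := by
      rw [hS, Finset.mul_sum]
      conv_lhs => rw [← Equiv.sum_comp (Equiv.mulLeft d) f]
      apply Finset.sum_congr rfl
      intro n _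
      exact hfd n
    have hgoal : ∑ n : N, (if IsConj ((n : G) * g) g then conj (ψ.1 n) else 0) = S := by
      rw [hS, hf]
    rw [hgoal]
    have h1 : (1 - conj (ψ.1 d)) * S = 0 := by linear_combination hshift
    rcases mul_eq_zero.mp h1 with h2 | h2
    · exfalso
      apply hψd
      have h3 : conj (ψ.1 d) = 1 := by linear_combination -h2
      have h4 := congrArg conj h3
      simpa using h4
    · exact h2

/-- the central character formula -/
theorem central_mul_formula (N : Subgroup G) (hN : N ≤ Subgroup.center G) (χ : IrrCharacter G)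
    (n : N) (g : G) : χ.1 ((n : G) * g) = χ.1 n / χ.1 1 * χ.1 g := by
  obtain ⟨ε, _, hε⟩ := irr_central_mul χ (hN n.2)
  have h1 := hε 1
  rw [mul_one] at h1
  have h0 : χ.1 1 ≠ 0 := irr_one_ne_zero χ
  rw [hε g, h1]
  field_simp

/-- the count of characters over a faithful central character -/
theorem central_over_count (N : Subgroup G) [hNn : N.Normal] [Fintype N]
    (hN : N ≤ Subgroup.center G) (ψ : IrrCharacter N)
    (hfaith : ∀ n : N, ψ.1 n = ψ.1 1 → n = 1) :
    (Nat.card {χ : IrrCharacter G // classInner (fun n : N => χ.1 n) ψ.1 ≠ 0} : ℂ) *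
      ((Nat.card G : ℂ) * (Nat.card N : ℂ)) =
      ∑ g : G, (if centralSpecial N g then
        (Nat.card (Subgroup.centralizer ({g} : Set G)) : ℂ) else 0) := by
  have hNcomm : ∀ a b : N, a * b = b * a := by
    intro a b
    apply Subtype.ext
    rw [Subgroup.coe_mul, Subgroup.coe_mul]
    exact (Subgroup.mem_center_iff.mp (hN a.2) b).symm
  have hψ1 : ψ.1 1 = 1 := irr_linear_of_comm hNcomm ψ
  have hG0 : (Nat.card G : ℂ) ≠ 0 := by exact_mod_cast Nat.card_pos.ne'
  have hN0 : (Nat.card N : ℂ) ≠ 0 := by exact_mod_cast Nat.card_pos.ne'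
  have hinvψ : ∀ g : G, conjChar hNn ψ.1 g = ψ.1 := by
    intro g; funext n
    rw [conjChar_apply]
    apply congrArg ψ.1
    apply Subtype.ext
    show g * (n : G) * g⁻¹ = n
    rw [Subgroup.mem_center_iff.mp (hN n.2) g]; group
  obtain ⟨E, hE⟩ : ∃ E : IrrCharacter G → ℂ,
      E = fun χ => classInner (fun n : N => χ.1 n) ψ.1 := ⟨_, rfl⟩
  have hE1 : ∀ χ : IrrCharacter G, E χ ≠ 0 → E χ = χ.1 1 := by
    intro χ h
    rw [hE] at h ⊢
    have hres := clifford_invariant hNn χ.2 ψ.2 h hinvψ
    have h1 := congrFun hres 1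
    rw [Pi.smul_apply, smul_eq_mul, hψ1, mul_one] at h1
    simp only [Subgroup.coe_one] at h1
    exact h1.symm
  -- the count as a sum
  have hcount : (Nat.card {χ : IrrCharacter G // classInner (fun n : N => χ.1 n) ψ.1 ≠ 0} : ℂ) =
      ∑ χ : IrrCharacter G, E χ / χ.1 1 := by
    rw [Nat.subtype_card (Finset.univ.filter
      (fun χ : IrrCharacter G => classInner (fun n : N => χ.1 n) ψ.1 ≠ 0)) (by simp),
      Finset.card_filter]
    push_cast
    apply Finset.sum_congr rfl
    intro χ _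
    have h0 : χ.1 1 ≠ 0 := irr_one_ne_zero χ
    by_cases h : E χ = 0
    · have h' : ¬ classInner (fun n : N => χ.1 n) ψ.1 ≠ 0 := by
        rw [hE] at h; simpa using h
      rw [if_neg h', h, zero_div]
    · have h' : classInner (fun n : N => χ.1 n) ψ.1 ≠ 0 := by rw [hE] at h; exact h
      rw [if_pos h', hE1 χ h, div_self h0]
  -- the key formula for each χ, g
  have hkey : ∀ (χ : IrrCharacter G) (g : G),
      ∑ n : N, conj (ψ.1 n) * χ.1 ((n : G) * g) = (Nat.card N : ℂ) * (E χ / χ.1 1) * χ.1 g := by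
    intro χ g
    have h1 : ∀ n : N, conj (ψ.1 n) * χ.1 ((n : G) * g) =
        (χ.1 n * conj (ψ.1 n)) * (χ.1 g / χ.1 1) := by
      intro n
      rw [central_mul_formula N hN χ n g]; ring
    rw [Finset.sum_congr rfl (fun n _ => h1 n), ← Finset.sum_mul, hE]
    simp only
    unfold classInner
    field_simp
  -- norm one
  have hnorm : ∀ χ : IrrCharacter G, ∑ g : G, χ.1 g * conj (χ.1 g) = (Nat.card G : ℂ) := by
    intro χ
    have h1 := irr_classInner χ.2 χ.2
    rw [if_pos rfl] at h1
    unfold classInner at h1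
    field_simp at h1
    exact h1
  -- assemble
  rw [hcount]
  have hstep1 : (∑ χ : IrrCharacter G, E χ / χ.1 1) * ((Nat.card G : ℂ) * (Nat.card N : ℂ)) =
      ∑ g : G, ∑ n : N, conj (ψ.1 n) * ∑ χ : IrrCharacter G, χ.1 ((n : G) * g) * conj (χ.1 g) := by
    have h1 : ∀ g : G, ∑ n : N, conj (ψ.1 n) *
        ∑ χ : IrrCharacter G, χ.1 ((n : G) * g) * conj (χ.1 g) =
        ∑ χ : IrrCharacter G, (Nat.card N : ℂ) * (E χ / χ.1 1) * (χ.1 g * conj (χ.1 g)) := by
      intro g
      simp_rw [Finset.mul_sum]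
      rw [Finset.sum_comm]
      apply Finset.sum_congr rfl
      intro χ _
      have h2 : ∀ n : N, conj (ψ.1 n) * (χ.1 ((n : G) * g) * conj (χ.1 g)) =
          (conj (ψ.1 n) * χ.1 ((n : G) * g)) * conj (χ.1 g) := by intro n; ring
      rw [Finset.sum_congr rfl (fun n _ => h2 n), ← Finset.sum_mul, hkey χ g]
      ring
    rw [Finset.sum_congr rfl (fun g _ => h1 g), Finset.sum_comm, Finset.sum_mul]
    apply Finset.sum_congr rfl
    intro χ _
    rw [← Finset.mul_sum, hnorm χ]
    ring
  rw [hstep1]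
  apply Finset.sum_congr rfl
  intro g _
  have h2 : ∀ n : N, conj (ψ.1 n) * ∑ χ : IrrCharacter G, χ.1 ((n : G) * g) * conj (χ.1 g) =
      (if IsConj ((n : G) * g) g then conj (ψ.1 n) else 0) *
        (Nat.card (Subgroup.centralizer ({g} : Set G)) : ℂ) := by
    intro n
    rw [irr_sum_mul_conj]
    by_cases h : IsConj ((n : G) * g) g
    · rw [if_pos h, if_pos h]
    · rw [if_neg h, if_neg h, mul_zero, zero_mul]
  rw [Finset.sum_congr rfl (fun n _ => h2 n), ← Finset.sum_mul, good_sum N hN ψ hψ1 hfaith g]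
  by_cases hs : centralSpecial N g
  · rw [if_pos hs, if_pos hs, one_mul]
  · rw [if_neg hs, if_neg hs, zero_mul]

/-- the centralizer of a special element and of its image -/
theorem special_centralizer_card (N : Subgroup G) [hNn : N.Normal] [Fintype (G ⧸ N)]
    {g : G} (hg : centralSpecial N g) :
    (Nat.card (Subgroup.centralizer ({g} : Set G)) : ℂ) =
      (Nat.card N : ℂ) * (Nat.card (Subgroup.centralizer
        ({(QuotientGroup.mk g : G ⧸ N)} : Set (G ⧸ N))) : ℂ) := by
  have h1 : Nat.card (Subgroup.centralizer ({g} : Set G)) =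
      (Finset.univ.filter (fun x : G => x * g = g * x)).card := by
    apply Nat.subtype_card
    intro x
    simp [Subgroup.mem_centralizer_singleton_iff]
  have h2 : Nat.card (Subgroup.centralizer ({(QuotientGroup.mk g : G ⧸ N)} : Set (G ⧸ N))) =
      (Finset.univ.filter (fun q : G ⧸ N => q * QuotientGroup.mk g = QuotientGroup.mk g * q)).card := by
    apply Nat.subtype_card
    intro x
    simp [Subgroup.mem_centralizer_singleton_iff]
  rw [h1, h2, Finset.card_filter, Finset.card_filter]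
  push_cast
  rw [← sum_comp_mk N (fun q : G ⧸ N =>
    if q * QuotientGroup.mk g = QuotientGroup.mk g * q then (1 : ℂ) else 0)]
  apply Finset.sum_congr rfl
  intro x _
  apply if_congr _ rfl rfl
  constructor
  · intro h
    rw [← QuotientGroup.mk_mul, ← QuotientGroup.mk_mul, h]
  · intro h
    rw [← QuotientGroup.mk_mul, ← QuotientGroup.mk_mul, QuotientGroup.eq] at h
    apply hg
    have h3 : x⁻¹ * g⁻¹ * x * g = ((x * g)⁻¹ * (g * x))⁻¹ := by group
    rw [h3]
    exact N.inv_mem h

/-- the number of characters over a faithful central character equals the number of special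
classes of the quotient -/
theorem central_good_main (N : Subgroup G) [hNn : N.Normal] [Fintype N]
    (hN : N ≤ Subgroup.center G) (ψ : IrrCharacter N)
    (hfaith : ∀ n : N, ψ.1 n = ψ.1 1 → n = 1) :
    Nat.card {χ : IrrCharacter G // classInner (fun n : N => χ.1 n) ψ.1 ≠ 0} =
      Nat.card {C : ConjClasses (G ⧸ N) // ∃ g : G, ConjClasses.mk (g : G ⧸ N) = C ∧
        ∀ x : G, x⁻¹ * g⁻¹ * x * g ∈ N → x * g = g * x} := by
  haveI : Fintype (G ⧸ N) := Fintype.ofFinite _
  have hG0 : (Nat.card G : ℂ) ≠ 0 := by exact_mod_cast Nat.card_pos.ne'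
  have hN0 : (Nat.card N : ℂ) ≠ 0 := by exact_mod_cast Nat.card_pos.ne'
  have h1 := central_over_count N hN ψ hfaith
  obtain ⟨P, hPdef⟩ : ∃ P : G ⧸ N → Prop,
      P = fun q => ∃ g : G, (QuotientGroup.mk g : G ⧸ N) = q ∧ centralSpecial N g := ⟨_, rfl⟩
  have hPmk : ∀ g : G, P (QuotientGroup.mk g) ↔ centralSpecial N g := by
    intro g
    rw [hPdef]
    constructor
    · rintro ⟨g', hg', hs⟩
      have h2 : g'⁻¹ * g ∈ N := QuotientGroup.eq.mp hg'
      have h3 := centralSpecial_mul N hN hs h2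
      have h4 : g' * (g'⁻¹ * g) = g := by group
      rw [h4] at h3
      exact h3
    · intro hs; exact ⟨g, rfl, hs⟩
  have hPconj : ∀ q q' : G ⧸ N, IsConj q q' → (P q ↔ P q') := by
    have hone : ∀ q q' : G ⧸ N, IsConj q q' → P q → P q' := by
      intro q q' hc hq
      obtain ⟨c, hc⟩ := isConj_iff.mp hc
      obtain ⟨y, rfl⟩ := QuotientGroup.mk_surjective c
      obtain ⟨g, rfl⟩ := QuotientGroup.mk_surjective q
      rw [← hc, ← QuotientGroup.mk_inv, ← QuotientGroup.mk_mul, ← QuotientGroup.mk_mul, hPmk]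
      exact centralSpecial_conj N ((hPmk g).mp hq) y
    intro q q' hc
    exact ⟨hone q q' hc, hone q' q hc.symm⟩
  have h2 := card_classes_with P hPconj
  -- rewrite the class set
  have hset : Nat.card {C : ConjClasses (G ⧸ N) // ∃ g : G, ConjClasses.mk (g : G ⧸ N) = C ∧
        ∀ x : G, x⁻¹ * g⁻¹ * x * g ∈ N → x * g = g * x} =
      Nat.card {C : ConjClasses (G ⧸ N) // ∃ q : G ⧸ N, ConjClasses.mk q = C ∧ P q} := by
    apply Nat.card_congr
    apply Equiv.subtypeEquivRight
    intro C
    constructor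
    · rintro ⟨g, hg, hs⟩
      exact ⟨QuotientGroup.mk g, hg, (hPmk g).mpr hs⟩
    · rintro ⟨q, hq, hP⟩
      obtain ⟨g, rfl⟩ := QuotientGroup.mk_surjective q
      exact ⟨g, hq, (hPmk g).mp hP⟩
  rw [hset]
  -- the sums
  have h3 : ∑ g : G, (if centralSpecial N g then
        (Nat.card (Subgroup.centralizer ({g} : Set G)) : ℂ) else 0) =
      (Nat.card N : ℂ) * ((Nat.card N : ℂ) * ∑ q : G ⧸ N, (if P q then
        (Nat.card (Subgroup.centralizer ({q} : Set (G ⧸ N))) : ℂ) else 0)) := by
    rw [← sum_comp_mk N (fun q : G ⧸ N => if P q then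
        (Nat.card (Subgroup.centralizer ({q} : Set (G ⧸ N))) : ℂ) else 0), Finset.mul_sum]
    apply Finset.sum_congr rfl
    intro g _
    by_cases hs : centralSpecial N g
    · rw [if_pos hs, if_pos ((hPmk g).mpr hs), special_centralizer_card N hs]
    · rw [if_neg hs, if_neg (fun h => hs ((hPmk g).mp h)), mul_zero]
  rw [h3, ← h2] at h1
  have h4 : (Nat.card G : ℂ) = (Nat.card (G ⧸ N) : ℂ) * (Nat.card N : ℂ) := by
    rw [← Nat.cast_mul, ← Subgroup.card_eq_card_quotient_mul_card_subgroup]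
  rw [h4] at h1
  have hQ0 : (Nat.card (G ⧸ N) : ℂ) ≠ 0 := by exact_mod_cast Nat.card_pos.ne'
  have h5 : (Nat.card {χ : IrrCharacter G // classInner (fun n : N => χ.1 n) ψ.1 ≠ 0} : ℂ) =
      (Nat.card {C : ConjClasses (G ⧸ N) // ∃ q : G ⧸ N, ConjClasses.mk q = C ∧ P q} : ℂ) := by
    have h6 : (Nat.card {χ : IrrCharacter G // classInner (fun n : N => χ.1 n) ψ.1 ≠ 0} : ℂ) *
        ((Nat.card (G ⧸ N) : ℂ) * (Nat.card N : ℂ) * (Nat.card N : ℂ)) =
        (Nat.card {C : ConjClasses (G ⧸ N) // ∃ q : G ⧸ N, ConjClasses.mk q = C ∧ P q} : ℂ) *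
        ((Nat.card (G ⧸ N) : ℂ) * (Nat.card N : ℂ) * (Nat.card N : ℂ)) := by
      linear_combination h1
    exact mul_right_cancel₀ (mul_ne_zero (mul_ne_zero hQ0 hN0) hN0) h6
  exact_mod_cast h5

end CentralGood

end Cfsg.Agent.Lib.Helper8
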