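import Mathlib

set_option autoImplicit false

namespace Cfsg.Agent.Lib.Helper8

variable {n : ℕ}

theorem stdBasis_repr_apply (M : Matrix (Fin n) (Fin n) ℂ) (i j : Fin n) :
    (Matrix.stdBasis ℂ (Fin n) (Fin n)).repr M (i, j) = M i j := by
  simp [Matrix.stdBasis]

theorem trace_matrix_end (f : Matrix (Fin n) (Fin n) ℂ →ₗ[ℂ] Matrix (Fin n) (Fin n) ℂ) :
    LinearMap.trace ℂ _ f = ∑ i, ∑ j, f (Matrix.single i j 1) i j := by
  rw [LinearMap.trace_eq_matrix_trace ℂ (Matrix.stdBasis ℂ (Fin n) (Fin n))]
  simp only [Matrix.trace, Matrix.diag_apply, LinearMap.toMatrix_apply]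
  rw [Fintype.sum_prod_type]
  apply Finset.sum_congr rfl
  intro i _
  apply Finset.sum_congr rfl
  intro j _
  rw [Matrix.stdBasis_eq_single, stdBasis_repr_apply]

/-- The linear map `M ↦ Aᵀ * M * A`. -/
noncomputable def formAct (A : Matrix (Fin n) (Fin n) ℂ) :
    Matrix (Fin n) (Fin n) ℂ →ₗ[ℂ] Matrix (Fin n) (Fin n) ℂ :=
  (LinearMap.mulLeft ℂ A.transpose).comp (LinearMap.mulRight ℂ A)

theorem formAct_apply (A M : Matrix (Fin n) (Fin n) ℂ) : formAct A M = A.transpose * M * A := by
  simp [formAct, mul_assoc]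

/-- transpose as a linear map -/
noncomputable def transposeLin : Matrix (Fin n) (Fin n) ℂ →ₗ[ℂ] Matrix (Fin n) (Fin n) ℂ :=
  (Matrix.transposeLinearEquiv (Fin n) (Fin n) ℂ ℂ).toLinearMap

theorem transposeLin_apply (M : Matrix (Fin n) (Fin n) ℂ) : transposeLin M = M.transpose := rfl

theorem sandwich_single (C D : Matrix (Fin n) (Fin n) ℂ) (i j a b : Fin n) :
    (C * Matrix.single i j (1 : ℂ) * D) a b = C a i * D j b := by
  rw [Matrix.mul_apply, Finset.sum_eq_single j]
  · rw [Matrix.mul_apply, Finset.sum_eq_single i]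
    · simp
    · intro y _ hy
      simp [Matrix.single_apply, Ne.symm hy]
    · intro h; exact absurd (Finset.mem_univ _) h
  · intro x _ hx
    have : (C * Matrix.single i j (1 : ℂ)) a x = 0 := by
      rw [Matrix.mul_apply]
      apply Finset.sum_eq_zero
      intro y _
      simp [Matrix.single_apply, Ne.symm hx]
    rw [this, zero_mul]
  · intro h; exact absurd (Finset.mem_univ _) h

theorem trace_formAct (A : Matrix (Fin n) (Fin n) ℂ) :
    LinearMap.trace ℂ _ (formAct A) = A.trace ^ 2 := by
  rw [trace_matrix_end]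
  simp only [formAct_apply]
  have : ∀ i j : Fin n, (A.transpose * Matrix.single i j (1 : ℂ) * A) i j = A i i * A j j := by
    intro i j
    rw [sandwich_single]; rfl
  simp_rw [this]
  rw [sq, Matrix.trace, Finset.sum_mul_sum]
  rfl

theorem trace_formAct_transpose (A : Matrix (Fin n) (Fin n) ℂ) :
    LinearMap.trace ℂ _ ((formAct A).comp transposeLin) = (A * A).trace := by
  rw [trace_matrix_end]
  simp only [LinearMap.comp_apply, transposeLin_apply, formAct_apply, Matrix.transpose_single]
  have : ∀ i j : Fin n, (A.transpose * Matrix.single j i (1 : ℂ) * A) i j = A j i * A i j := by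
    intro i j
    rw [sandwich_single]; rfl
  simp_rw [this]
  simp only [Matrix.trace, Matrix.diag_apply, Matrix.mul_apply]
  rw [Finset.sum_comm]


/-- A commuting idempotent / involution pair with the idempotent of trace 0 or 1. -/
theorem proj_involution {E : Type*} [AddCommGroup E] [Module ℂ E] [FiniteDimensional ℂ E]
    (Φ T : E →ₗ[ℂ] E) (hΦ : ∀ v, Φ (Φ v) = Φ v) (hT : ∀ v, T (T v) = v)
    (hcomm : ∀ v, Φ (T v) = T (Φ v)) :
    (LinearMap.trace ℂ E Φ = 0 → Φ = 0) ∧
    (LinearMap.trace ℂ E Φ = 1 → ∃ c : ℂ, (c = 1 ∨ c = -1) ∧ (∀ M, Φ M = M → T M = c • M) ∧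
      LinearMap.trace ℂ E (Φ.comp T) = c ∧ ∃ M, M ≠ 0 ∧ Φ M = M) := by
  have hid : IsIdempotentElem Φ := by
    apply LinearMap.ext
    intro v
    exact hΦ v
  constructor
  · intro h0
    exact (LinearMap.IsIdempotentElem.trace_eq_zero_iff hid).mp h0
  · intro h1
    have hfr : Module.finrank ℂ (LinearMap.range Φ) = 1 := by
      have := (LinearMap.IsIdempotentElem.isProj_range Φ hid).trace
      rw [h1] at this
      exact_mod_cast this.symm
    obtain ⟨⟨w, hwmem⟩, hw0, hw⟩ := finrank_eq_one_iff'.mp hfr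
    have hw0' : w ≠ 0 := fun h => hw0 (Subtype.ext h)
    have hΦw : Φ w = w := by
      obtain ⟨u, rfl⟩ := hwmem
      exact hΦ u
    have hspan : ∀ M, Φ M = M → ∃ a : ℂ, M = a • w := by
      intro M hM
      obtain ⟨a, ha⟩ := hw ⟨M, ⟨M, hM⟩⟩
      exact ⟨a, (congrArg Subtype.val ha).symm⟩
    obtain ⟨c, hc⟩ := hspan (T w) (by rw [hcomm, hΦw])
    have hc2 : c * c = 1 := by
      have h2 := hT w
      rw [hc, map_smul, hc, smul_smul] at h2
      have h3 : (c * c - 1) • w = 0 := by rw [sub_smul, h2, one_smul, sub_self]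
      rcases smul_eq_zero.mp h3 with h4 | h4
      · linear_combination h4
      · exact absurd h4 hw0'
    have hTM : ∀ M, Φ M = M → T M = c • M := by
      intro M hM
      obtain ⟨a, rfl⟩ := hspan M hM
      rw [map_smul, hc, smul_comm]
    refine ⟨c, ?_, hTM, ?_, w, hw0', hΦw⟩
    · have : (c - 1) * (c + 1) = 0 := by linear_combination hc2
      rcases mul_eq_zero.mp this with h | h
      · left; linear_combination h
      · right; linear_combination h
    · have : Φ.comp T = c • Φ := by
        apply LinearMap.ext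
        intro v
        rw [LinearMap.comp_apply, hcomm, LinearMap.smul_apply]
        exact hTM (Φ v) (hΦ v)
      rw [this, map_smul, h1, smul_eq_mul, mul_one]


section rep
variable {G : Type*} [Group G] [Fintype G] (X : G → Matrix (Fin n) (Fin n) ℂ)

/-- averaging projection onto the invariant bilinear forms -/
noncomputable def formProj : Matrix (Fin n) (Fin n) ℂ →ₗ[ℂ] Matrix (Fin n) (Fin n) ℂ :=
  (Nat.card G : ℂ)⁻¹ • ∑ g : G, formAct (X g)

theorem formProj_apply (M : Matrix (Fin n) (Fin n) ℂ) :
    formProj X M = (Nat.card G : ℂ)⁻¹ • ∑ g : G, (X g).transpose * M * X g := by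
  simp [formProj, formAct_apply, LinearMap.sum_apply]

theorem formProj_invariant (hX : ∀ g h : G, X (g * h) = X g * X h) (M : Matrix (Fin n) (Fin n) ℂ) (h : G) :
    (X h).transpose * formProj X M * X h = formProj X M := by
  rw [formProj_apply, Matrix.mul_smul, Matrix.smul_mul]
  congr 1
  rw [Finset.mul_sum, Finset.sum_mul]
  symm
  apply Fintype.sum_equiv (Equiv.mulRight h⁻¹)
  intro g
  simp only [Equiv.coe_mulRight]
  have : X g = X (g * h⁻¹) * X h := by
    rw [← hX, inv_mul_cancel_right]
  rw [this, Matrix.transpose_mul]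
  simp only [Matrix.mul_assoc]

theorem formProj_of_invariant (M : Matrix (Fin n) (Fin n) ℂ)
    (hM : ∀ g : G, (X g).transpose * M * X g = M) :
    formProj X M = M := by
  rw [formProj_apply, Finset.sum_congr rfl (fun g _ => hM g), Finset.sum_const, Finset.card_univ,
    ← Nat.card_eq_fintype_card, ← Nat.cast_smul_eq_nsmul ℂ, smul_smul]
  have hGne : (Nat.card G : ℂ) ≠ 0 := Nat.cast_ne_zero.mpr Nat.card_pos.ne'
  rw [inv_mul_cancel₀ hGne, one_smul]

theorem formProj_idem (hX : ∀ g h : G, X (g * h) = X g * X h) (M : Matrix (Fin n) (Fin n) ℂ) :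
    formProj X (formProj X M) = formProj X M :=
  formProj_of_invariant X _ (fun g => formProj_invariant X hX M g)

theorem formProj_transpose (M : Matrix (Fin n) (Fin n) ℂ) :
    formProj X (transposeLin M) = transposeLin (formProj X M) := by
  rw [formProj_apply, formProj_apply, transposeLin_apply, transposeLin_apply, Matrix.transpose_smul,
    Matrix.transpose_sum]
  congr 1
  apply Finset.sum_congr rfl
  intro g _
  rw [Matrix.transpose_mul, Matrix.transpose_mul, Matrix.transpose_transpose, Matrix.mul_assoc]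

theorem trace_formProj :
    LinearMap.trace ℂ _ (formProj X) = (Nat.card G : ℂ)⁻¹ * ∑ g : G, (X g).trace ^ 2 := by
  rw [formProj, map_smul, map_sum, smul_eq_mul]
  congr 1
  apply Finset.sum_congr rfl
  intro g _
  rw [trace_formAct]

theorem trace_formProj_transpose :
    LinearMap.trace ℂ _ ((formProj X).comp transposeLin) =
      (Nat.card G : ℂ)⁻¹ * ∑ g : G, (X g * X g).trace := by
  have : (formProj X).comp transposeLin =
      (Nat.card G : ℂ)⁻¹ • ∑ g : G, (formAct (X g)).comp transposeLin := by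
    apply LinearMap.ext
    intro M
    simp [formProj, LinearMap.sum_apply]
  rw [this, map_smul, map_sum, smul_eq_mul]
  congr 1
  apply Finset.sum_congr rfl
  intro g _
  rw [trace_formAct_transpose]

end rep

end Cfsg.Agent.Lib.Helper8
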