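import Mathlib
import Cfsg.Agent.Lib.Helper8.FormProj
import Cfsg.Agent.Lib.Helper8.CharPerm
import Cfsg.Agent.Lib.Helper8.CharComplete

set_option autoImplicit false

namespace Cfsg.Agent.Lib.Helper8
open Cfsg
open scoped ComplexConjugate

variable {G : Type*} [Group G]

theorem fs_main [Fintype G] (n : ℕ) (ρ : Representation ℂ G (Fin n → ℂ)) (hρ : ρ.IsIrreducible) :
    (¬ (∀ g : G, (ρ.character g).im = 0) →
      (Nat.card G : ℂ)⁻¹ * ∑ s : G, ρ.character (s * s) = 0 ∧
      ∀ M : Matrix (Fin n) (Fin n) ℂ, (∀ g : G, (LinearMap.toMatrix' (ρ g)).transpose * M * LinearMap.toMatrix' (ρ g) = M) → M = 0) ∧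
    ((∀ g : G, (ρ.character g).im = 0) →
      ((Nat.card G : ℂ)⁻¹ * ∑ s : G, ρ.character (s * s) = 1 ∨
        (Nat.card G : ℂ)⁻¹ * ∑ s : G, ρ.character (s * s) = -1) ∧
      (∃ M : Matrix (Fin n) (Fin n) ℂ, M ≠ 0 ∧ ∀ g : G, (LinearMap.toMatrix' (ρ g)).transpose * M * LinearMap.toMatrix' (ρ g) = M) ∧
      ∀ M : Matrix (Fin n) (Fin n) ℂ, (∀ g : G, (LinearMap.toMatrix' (ρ g)).transpose * M * LinearMap.toMatrix' (ρ g) = M) →
        M.transpose = ((Nat.card G : ℂ)⁻¹ * ∑ s : G, ρ.character (s * s)) • M) := by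
  classical
  set X : G → Matrix (Fin n) (Fin n) ℂ := fun g => LinearMap.toMatrix' (ρ g) with hXdef
  have hX : ∀ g h : G, X (g * h) = X g * X h := by
    intro g h
    simp only [hXdef]
    rw [map_mul, LinearMap.toMatrix'_mul]
  have htr : ∀ g : G, (X g).trace = ρ.character g := by
    intro g
    simp only [hXdef]
    rw [Representation.character, LinearMap.trace_eq_matrix_trace ℂ (Pi.basisFun ℂ (Fin n)),
      LinearMap.toMatrix_eq_toMatrix']
  have hirr : IsIrrCharacter G ρ.character := ⟨n, ρ, hρ, rfl⟩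
  have htrΦ : LinearMap.trace ℂ _ (formProj X) =
      if ρ.character = (fun g => conj (ρ.character g)) then 1 else 0 := by
    rw [trace_formProj, ← irr_classInner hirr (irr_conj hirr)]
    unfold classInner
    congr 1
    apply Finset.sum_congr rfl
    intro g _
    rw [htr, Complex.conj_conj, sq]
  have htrT : LinearMap.trace ℂ _ ((formProj X).comp transposeLin) =
      (Nat.card G : ℂ)⁻¹ * ∑ s : G, ρ.character (s * s) := by
    rw [trace_formProj_transpose]
    congr 1
    apply Finset.sum_congr rfl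
    intro g _
    rw [← hX, htr]
  have hreal_iff : ρ.character = (fun g => conj (ρ.character g)) ↔ ∀ g : G, (ρ.character g).im = 0 := by
    constructor
    · intro h g
      have := congrFun h g
      exact Complex.conj_eq_iff_im.mp this.symm
    · intro h
      ext g
      exact (Complex.conj_eq_iff_im.mpr (h g)).symm
  obtain ⟨h0, h1⟩ := proj_involution (formProj X) transposeLin (formProj_idem X hX)
    (fun M => by simp [transposeLin_apply]) (formProj_transpose X)
  constructor
  · intro hnr
    rw [if_neg (fun h => hnr (hreal_iff.mp h))] at htrΦ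
    have hΦ0 := h0 htrΦ
    constructor
    · rw [← htrT, hΦ0]; simp
    · intro M hM
      have := formProj_of_invariant X M hM
      rw [hΦ0] at this
      exact this.symm
  · intro hr
    rw [if_pos (hreal_iff.mpr hr)] at htrΦ
    obtain ⟨c, hc, hTM, htrc, M₀, hM₀, hΦM₀⟩ := h1 htrΦ
    rw [htrT] at htrc
    refine ⟨by rw [htrc]; exact hc, ⟨M₀, hM₀, ?_⟩, ?_⟩
    · intro g
      rw [← hΦM₀]
      exact formProj_invariant X hX M₀ g
    · intro M hM
      rw [htrc]
      exact hTM M (formProj_of_invariant X M hM)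

end Cfsg.Agent.Lib.Helper8
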