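import Mathlib
import Cfsg.Prelude.Def_Characters
import Cfsg.Prelude.Def_Transfer
import Cfsg.Agent.Lib.Helper8.CharAvg
import Cfsg.Agent.Lib.Helper8.CharClassSum
import Cfsg.Agent.Lib.Helper8.CharRamified
import Cfsg.Agent.Lib.Helper8.CharNormalAvg
import Cfsg.Agent.Lib.Helper8.CharBurnside

set_option autoImplicit false

namespace Cfsg.Agent.Lib.Helper8
open Cfsg
open scoped ComplexConjugate

variable {G : Type*} [Group G]

/-- Extraction of the data of a character nonzero on exactly two classes. -/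
theorem two_class_data [Finite G] (χ : IrrCharacter G)
    (hχ : Nat.card {C : ConjClasses G // ∃ g ∈ C.carrier, χ.1 g ≠ 0} = 2) :
    ∃ x : G, x ≠ 1 ∧ χ.1 x ≠ 0 ∧ ∀ g : G, χ.1 g ≠ 0 → g = 1 ∨ IsConj x g := by
  classical
  have h1 : χ.1 1 ≠ 0 := irr_one_ne_zero χ
  let c₁ : {C : ConjClasses G // ∃ g ∈ C.carrier, χ.1 g ≠ 0} :=
    ⟨ConjClasses.mk 1, 1, ConjClasses.mem_carrier_mk, h1⟩
  obtain ⟨a, b, hab, huniv⟩ := Nat.card_eq_two_iff.mp hχ
  have hmem : ∀ c : {C : ConjClasses G // ∃ g ∈ C.carrier, χ.1 g ≠ 0}, c = a ∨ c = b := by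
    intro c
    have : c ∈ ({a, b} : Set _) := by rw [huniv]; exact Set.mem_univ c
    simpa using this
  obtain ⟨o, ho1, hoall⟩ : ∃ o : {C : ConjClasses G // ∃ g ∈ C.carrier, χ.1 g ≠ 0},
      o ≠ c₁ ∧ ∀ c, c = c₁ ∨ c = o := by
    rcases hmem c₁ with h | h
    · refine ⟨b, ?_, ?_⟩
      · rw [h]; exact hab.symm
      · intro c; rw [h]; exact hmem c
    · refine ⟨a, ?_, ?_⟩
      · rw [h]; exact hab
      · intro c; rw [h]; exact (hmem c).symm
  rcases o with ⟨C₂, x, hxC, hxne⟩
  have hC₂ : ConjClasses.mk x = C₂ := ConjClasses.mem_carrier_iff_mk_eq.mp hxC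
  refine ⟨x, ?_, hxne, ?_⟩
  · intro hx1
    apply ho1
    apply Subtype.ext
    show C₂ = ConjClasses.mk 1
    rw [← hC₂, hx1]
  · intro g hg
    rcases hoall ⟨ConjClasses.mk g, g, ConjClasses.mem_carrier_mk, hg⟩ with h | h
    · left
      have h2 : ConjClasses.mk g = ConjClasses.mk 1 := congrArg Subtype.val h
      rw [ConjClasses.mk_eq_mk_iff_isConj] at h2
      exact isConj_one_left.mp h2
    · right
      have h2 : ConjClasses.mk g = C₂ := congrArg Subtype.val h
      rw [← hC₂, ConjClasses.mk_eq_mk_iff_isConj] at h2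
      exact h2.symm

theorem gagola_core [Fintype G] (χ : IrrCharacter G) (hG : 2 < Nat.card G) {x : G} (hx1 : x ≠ 1)
    (hxne : χ.1 x ≠ 0) (hsupp : ∀ g : G, χ.1 g ≠ 0 → g = 1 ∨ IsConj x g) :
    (∀ u v : G, χ.1 u ≠ 0 → χ.1 v ≠ 0 → χ.1 (u * v) ≠ 0) ∧
    (∃ c : ℕ, 0 < c ∧ χ.1 1 + (c : ℂ) * χ.1 x = 0) := by
  classical
  set C := Finset.univ.filter (fun g : G => IsConj x g) with hC
  have hcf : IsClassFunction G χ.1 := isClassFunction_of_isCharacter (irr_isCharacter χ.2)
  have hmemC : ∀ g, g ∈ C ↔ IsConj x g := by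
    intro g; rw [hC, Finset.mem_filter]; simp
  have hCval : ∀ g ∈ C, χ.1 g = χ.1 x := by
    intro g hg
    obtain ⟨t, ht⟩ := isConj_iff.mp ((hmemC g).mp hg)
    rw [← ht, hcf x t]
  have hxC : x ∈ C := (hmemC x).mpr (IsConj.refl x)
  have h1C : (1 : G) ∉ C := by
    intro h
    exact hx1 (isConj_one_left.mp ((hmemC 1).mp h))
  have hsum : ∀ F : G → ℂ, (∀ g, g ≠ 1 → g ∉ C → F g = 0) →
      ∑ g : G, F g = F 1 + ∑ g ∈ C, F g := by
    intro F hF
    rw [← Finset.sum_insert h1C]
    symm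
    apply Finset.sum_subset (Finset.subset_univ _)
    intro g _ hg
    rw [Finset.mem_insert, not_or] at hg
    exact hF g hg.1 hg.2
  have hvan : ∀ g, g ≠ 1 → g ∉ C → χ.1 g = 0 := by
    intro g hg1 hgC
    by_contra hne
    rcases hsupp g hne with h | h
    · exact hg1 h
    · exact hgC ((hmemC g).mpr h)
  have ha0 : χ.1 1 ≠ 0 := irr_one_ne_zero χ
  have hGne : (Nat.card G : ℂ) ≠ 0 := Nat.cast_ne_zero.mpr Nat.card_pos.ne'
  have hcpos : 0 < C.card := Finset.card_pos.mpr ⟨x, hxC⟩
  have hc0 : (C.card : ℂ) ≠ 0 := Nat.cast_ne_zero.mpr hcpos.ne'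
  -- class size times centralizer
  have hclass : Nat.card G = Nat.card (Subgroup.centralizer ({x} : Set G)) * C.card := by
    have h1 := sum_conj_eq x (fun _ => (1 : ℂ))
    simp only [Finset.sum_const, Finset.card_univ, nsmul_eq_mul, mul_one] at h1
    rw [← Nat.card_eq_fintype_card] at h1
    have h2 : (Finset.univ.filter (fun y : G => IsConj x y)) = C := by
      rw [hC]
    rw [h2] at h1
    exact_mod_cast h1
  -- χ is not principal
  have hnp : χ.1 ≠ fun _ => (1 : ℂ) := by
    intro hpr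
    have hall : ∀ g : G, g = 1 ∨ g ∈ C := by
      intro g
      have h1 : χ.1 g ≠ 0 := by rw [hpr]; exact one_ne_zero
      rcases hsupp g h1 with h | h
      · left; exact h
      · right; exact (hmemC g).mpr h
    have hcardG : Nat.card G = C.card + 1 := by
      have h1 : (Finset.univ : Finset G) = insert 1 C := by
        ext g
        simp only [Finset.mem_univ, Finset.mem_insert, true_iff]
        exact hall g
      rw [Nat.card_eq_fintype_card, ← Finset.card_univ, h1, Finset.card_insert_of_notMem h1C]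
    have hcent : 1 < Nat.card (Subgroup.centralizer ({x} : Set G)) := by
      rw [Subgroup.one_lt_card_iff_ne_bot]
      intro hbot
      have hx : x ∈ Subgroup.centralizer ({x} : Set G) := by
        rw [Subgroup.mem_centralizer_iff]
        intro y hy
        rw [Set.mem_singleton_iff] at hy
        rw [hy]
      rw [hbot, Subgroup.mem_bot] at hx
      exact hx1 hx
    nlinarith
  -- sum of values
  have hF2 : χ.1 1 + (C.card : ℂ) * χ.1 x = 0 := by
    have h1 := irr_classInner χ.2 (principal_isIrrCharacter (G := G))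
    rw [if_neg hnp] at h1
    unfold classInner at h1
    have h2 : ∑ g : G, χ.1 g = 0 := by
      have h3 : ∑ g : G, χ.1 g * conj ((fun _ : G => (1 : ℂ)) g) = 0 := by
        rcases mul_eq_zero.mp h1 with h | h
        · exact absurd (inv_eq_zero.mp h) hGne
        · exact h
      simpa using h3
    rw [hsum χ.1 hvan, Finset.sum_congr rfl hCval, Finset.sum_const, nsmul_eq_mul] at h2
    exact h2
  refine ⟨?_, C.card, hcpos, hF2⟩
  -- norm
  have hF3 : χ.1 1 * χ.1 1 + (C.card : ℂ) * (χ.1 x * conj (χ.1 x)) = (Nat.card G : ℂ) := by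
    have h1 := irr_norm_sum χ.2
    rw [hsum (fun g => χ.1 g * conj (χ.1 g)) (fun g h1 h2 => by
      show χ.1 g * conj (χ.1 g) = 0
      rw [hvan g h1 h2, zero_mul])] at h1
    rw [Finset.sum_congr rfl (fun g hg => by rw [hCval g hg] :
      ∀ g ∈ C, χ.1 g * conj (χ.1 g) = χ.1 x * conj (χ.1 x)), Finset.sum_const, nsmul_eq_mul,
      irr_one_real] at h1
    exact h1
  -- convolution
  set D := C.filter (fun z => z⁻¹ * x ∈ C) with hD
  have hF4 : χ.1 1 * χ.1 x + χ.1 x * (χ.1 1 + (D.card : ℂ) * χ.1 x) =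
      (Nat.card G : ℂ) * χ.1 x / χ.1 1 := by
    have h1 := irr_convolution χ χ x
    rw [if_pos rfl] at h1
    rw [hsum (fun z => χ.1 z * χ.1 (z⁻¹ * x)) (fun g h1 h2 => by
      show χ.1 g * χ.1 (g⁻¹ * x) = 0
      rw [hvan g h1 h2, zero_mul])] at h1
    simp only [inv_one, one_mul] at h1
    rw [← h1]
    congr 1
    have h2 : ∀ z ∈ C, χ.1 z * χ.1 (z⁻¹ * x) =
        χ.1 x * ((if z = x then χ.1 1 else 0) + (if z⁻¹ * x ∈ C then χ.1 x else 0)) := by
      intro z hz
      rw [hCval z hz]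
      congr 1
      by_cases hzx : z = x
      · rw [if_pos hzx, hzx, inv_mul_cancel, if_neg h1C, add_zero]
      · rw [if_neg hzx, zero_add]
        by_cases hzC : z⁻¹ * x ∈ C
        · rw [if_pos hzC, hCval _ hzC]
        · rw [if_neg hzC]
          apply hvan _ _ hzC
          intro h
          apply hzx
          have : x = z := by
            have := inv_mul_eq_one.mp h
            exact this.symm
          exact this.symm
    rw [Finset.sum_congr rfl h2, ← Finset.mul_sum, Finset.sum_add_distrib,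
      Finset.sum_ite_eq' C x, if_pos hxC, ← Finset.sum_filter, Finset.sum_const, nsmul_eq_mul]
  -- solve
  have hb : χ.1 x = -(χ.1 1) / (C.card : ℂ) := by
    field_simp
    linear_combination hF2
  have hbreal : conj (χ.1 x) = χ.1 x := by
    rw [hb, map_div₀, map_neg, irr_one_real, map_natCast]
  have hDcard : D.card + 1 = C.card := by
    have h1 : (D.card : ℂ) + 1 = (C.card : ℂ) := by
      rw [hbreal] at hF3
      have hF4' : χ.1 1 * (χ.1 1 * χ.1 x + χ.1 x * (χ.1 1 + (D.card : ℂ) * χ.1 x)) =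
          (Nat.card G : ℂ) * χ.1 x := by
        rw [hF4]; field_simp
      rw [← hF3] at hF4'
      rw [hb] at hF4'
      field_simp at hF4'
      linear_combination hF4'
    exact_mod_cast h1
  have hDsub : D ⊆ C.erase x := by
    intro z hz
    rw [hD, Finset.mem_filter] at hz
    rw [Finset.mem_erase]
    refine ⟨?_, hz.1⟩
    intro hzx
    rw [hzx, inv_mul_cancel] at hz
    exact h1C hz.2
  have hDeq : D = C.erase x := by
    apply Finset.eq_of_subset_of_card_le hDsub
    rw [Finset.card_erase_of_mem hxC]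
    omega
  have hK : ∀ z ∈ C, z ≠ x → z⁻¹ * x ∈ C := by
    intro z hz hzx
    have : z ∈ D := by rw [hDeq, Finset.mem_erase]; exact ⟨hzx, hz⟩
    rw [hD, Finset.mem_filter] at this
    exact this.2
  have hSC : ∀ g, χ.1 g ≠ 0 → g ≠ 1 → g ∈ C := by
    intro g hg hg1
    rcases hsupp g hg with h | h
    · exact absurd h hg1
    · exact (hmemC g).mpr h
  intro u v hu hv
  by_cases hu1 : u = 1
  · rw [hu1, one_mul]; exact hv
  by_cases hv1 : v = 1
  · rw [hv1, mul_one]; exact hu
  have hvC := hSC v hv hv1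
  obtain ⟨g, hg⟩ := isConj_iff.mp ((hmemC v).mp hvC)
  set u' := g⁻¹ * u * g with hu'
  have hu'val : χ.1 u' = χ.1 u := by
    have := hcf u g⁻¹
    rw [inv_inv] at this
    exact this
  have hu'1 : u' ≠ 1 := by
    intro h
    apply hu1
    have : u = g * u' * g⁻¹ := by rw [hu']; group
    rw [this, h]; group
  set z := u'⁻¹ with hz
  have hzne : χ.1 z ≠ 0 := by
    rw [hz, irr_inv, hu'val]
    intro h
    apply hu
    have := congrArg conj h
    simpa using this
  have hz1 : z ≠ 1 := by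
    intro h
    apply hu'1
    rw [hz] at h
    exact inv_eq_one.mp h
  have hzC := hSC z hzne hz1
  have huv : u * v = g * (z⁻¹ * x) * g⁻¹ := by
    rw [← hg, hz, inv_inv, hu']; group
  rw [huv, hcf]
  by_cases hzx : z = x
  · rw [hzx, inv_mul_cancel]; exact ha0
  · rw [hCval _ (hK z hzC hzx)]; exact hxne

theorem gagola_values [Finite G] (hG : 2 < Nat.card G) (χ : IrrCharacter G)
    (hχ : Nat.card {C : ConjClasses G // ∃ g ∈ C.carrier, χ.1 g ≠ 0} = 2) :
    ∃ (x : G) (c : ℕ), x ≠ 1 ∧ χ.1 x ≠ 0 ∧ 0 < c ∧ χ.1 1 + (c : ℂ) * χ.1 x = 0 ∧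
      ∀ g : G, χ.1 g ≠ 0 → g ≠ 1 → χ.1 g = χ.1 x := by
  classical
  have : Fintype G := Fintype.ofFinite G
  obtain ⟨x, hx1, hxne, hsupp⟩ := two_class_data χ hχ
  obtain ⟨_, c, hc, hsum0⟩ := gagola_core χ hG hx1 hxne hsupp
  have hcf := isClassFunction_of_isCharacter (irr_isCharacter χ.2)
  refine ⟨x, c, hx1, hxne, hc, hsum0, ?_⟩
  intro g hg hg1
  rcases hsupp g hg with h | h
  · exact absurd h hg1
  · obtain ⟨t, ht⟩ := isConj_iff.mp h
    rw [← ht, hcf x t]

theorem gagola_faithful [Finite G] (hG : 2 < Nat.card G) (χ : IrrCharacter G)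
    (hχ : Nat.card {C : ConjClasses G // ∃ g ∈ C.carrier, χ.1 g ≠ 0} = 2) :
    ∀ g : G, χ.1 g = χ.1 1 → g = 1 := by
  obtain ⟨x, c, hx1, hxne, hc, hsum0, hval⟩ := gagola_values hG χ hχ
  intro g hg
  by_contra hg1
  have ha0 : χ.1 1 ≠ 0 := irr_one_ne_zero χ
  have h1 : χ.1 g = χ.1 x := hval g (by rw [hg]; exact ha0) hg1
  rw [← h1, hg] at hsum0
  have h2 : χ.1 1 * (1 + (c : ℂ)) = 0 := by linear_combination hsum0
  rcases mul_eq_zero.mp h2 with h | h
  · exact ha0 h
  · have h3 : ((1 + c : ℕ) : ℂ) = 0 := by push_cast; exact h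
    have h4 : (1 + c : ℕ) = 0 := by exact_mod_cast h3
    omega

theorem gagola_structure [Finite G] (hG : 2 < Nat.card G) (χ : IrrCharacter G)
    (hχ : Nat.card {C : ConjClasses G // ∃ g ∈ C.carrier, χ.1 g ≠ 0} = 2) :
    ∃ N : Subgroup G, N.Normal ∧ N ≠ ⊥ ∧ (∀ K : Subgroup G, K.Normal → K ≠ ⊥ → N ≤ K) ∧
      (∃ p : ℕ, p.Prime ∧ IsElementaryAbelian p N) ∧
      (∀ g : G, χ.1 g ≠ 0 ↔ g ∈ N) ∧
      (∀ x ∈ N, ∀ y ∈ N, x ≠ 1 → y ≠ 1 → ∃ g : G, g * x * g⁻¹ = y) := by
  classical
  have : Fintype G := Fintype.ofFinite G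
  obtain ⟨x, hx1, hxne, hsupp⟩ := two_class_data χ hχ
  obtain ⟨hmul, c, hc, hsum0⟩ := gagola_core χ hG hx1 hxne hsupp
  have hcf := isClassFunction_of_isCharacter (irr_isCharacter χ.2)
  let N : Subgroup G :=
    { carrier := {g | χ.1 g ≠ 0}
      one_mem' := irr_one_ne_zero χ
      mul_mem' := fun {u v} hu hv => hmul u v hu hv
      inv_mem' := by
        intro u hu
        show χ.1 u⁻¹ ≠ 0
        rw [irr_inv]
        intro h
        apply hu
        have := congrArg conj h
        simpa using this }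
  have hmemN : ∀ g, g ∈ N ↔ χ.1 g ≠ 0 := fun g => Iff.rfl
  have hNn : N.Normal := ⟨fun n hn g => by
    rw [hmemN] at hn ⊢
    rw [hcf n g]; exact hn⟩
  have hconjN : ∀ u ∈ N, ∀ v ∈ N, u ≠ 1 → v ≠ 1 → ∃ g : G, g * u * g⁻¹ = v := by
    intro u hu v hv hu1 hv1
    rcases hsupp u hu with h | h
    · exact absurd h hu1
    rcases hsupp v hv with h' | h'
    · exact absurd h' hv1
    exact isConj_iff.mp (h.symm.trans h')
  have hxN : x ∈ N := hxne
  refine ⟨N, hNn, ?_, ?_, ?_, fun g => (hmemN g).symm, hconjN⟩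
  · intro hbot
    have h1 : x ∈ (⊥ : Subgroup G) := hbot ▸ hxN
    exact hx1 (Subgroup.mem_bot.mp h1)
  · intro K hK hKbot
    have : Fintype K := Fintype.ofFinite K
    by_cases hex : ∃ k ∈ K, k ≠ 1 ∧ χ.1 k ≠ 0
    · obtain ⟨k, hkK, hk1, hkne⟩ := hex
      intro n hn
      by_cases hn1 : n = 1
      · rw [hn1]; exact K.one_mem
      · obtain ⟨g, hg⟩ := hconjN k hkne n hn hk1 hn1
        rw [← hg]; exact hK.conj_mem k hkK g
    · exfalso
      push Not at hex
      have h2 := (irr_normal_avg χ K).2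
      by_cases hker : ∃ k ∈ K, χ.1 k ≠ χ.1 1
      · have h3 := h2 hker 1
        rw [Finset.sum_eq_single (1 : K)] at h3
        · simp only [OneMemClass.coe_one, mul_one] at h3
          exact irr_one_ne_zero χ h3
        · intro k _ hk1
          rw [one_mul]
          apply hex k k.2
          intro h; apply hk1; exact Subtype.ext h
        · intro h; exact absurd (Finset.mem_univ _) h
      · push Not at hker
        obtain ⟨k, hk1⟩ := (Subgroup.ne_bot_iff_exists_ne_one).mp hKbot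
        have h3 := hker k k.2
        have h4 := hex k k.2 (fun h => hk1 (Subtype.ext h))
        rw [h4] at h3
        exact irr_one_ne_zero χ h3.symm
  · have hordx : orderOf x ≠ 1 := by
      intro h
      exact hx1 (orderOf_eq_one_iff.mp h)
    obtain ⟨p, hp, hpdvd⟩ := Nat.exists_prime_and_dvd hordx
    set y := x ^ (orderOf x / p) with hy
    have hyord : orderOf y = p := orderOf_pow_orderOf_div (orderOf_pos x).ne' hpdvd
    have hyN : y ∈ N := N.pow_mem hxN _
    have hy1 : y ≠ 1 := by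
      intro h
      rw [h, orderOf_one] at hyord
      exact hp.one_lt.ne hyord
    obtain ⟨g, hg⟩ := hconjN y hyN x hxN hy1 hx1
    have hxord : orderOf x = p := by
      rw [← hg, ← hyord]
      exact (MulAut.conj g).orderOf_eq y
    have hpow : ∀ n ∈ N, n ^ p = 1 := by
      intro n hn
      by_cases hn1 : n = 1
      · rw [hn1, one_pow]
      · obtain ⟨g, hg⟩ := hconjN x hxN n hn hx1 hn1
        rw [← hg, conj_pow, ← hxord, pow_orderOf_eq_one]; group
    refine ⟨p, hp, ?_, hpow⟩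
    have : Fact p.Prime := ⟨hp⟩
    have hNp : IsPGroup p N := by
      intro n
      refine ⟨1, ?_⟩
      rw [pow_one]
      apply Subtype.ext
      have := hpow n n.2
      simpa using this
    have hNnt : Nontrivial N := ⟨⟨x, hxN⟩, 1, fun h => hx1 (congrArg Subtype.val h)⟩
    have hcen := hNp.center_nontrivial
    obtain ⟨z, hz1⟩ := exists_ne (1 : Subgroup.center N)
    have hzG1 : ((z : N) : G) ≠ 1 := by
      intro h
      apply hz1
      apply Subtype.ext
      apply Subtype.ext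
      exact h
    have hzcomm : ∀ n ∈ N, ((z : N) : G) * n = n * ((z : N) : G) := by
      intro n hn
      have := Subgroup.mem_center_iff.mp z.2 ⟨n, hn⟩
      exact (congrArg Subtype.val this).symm
    have hall : ∀ u ∈ N, ∀ n ∈ N, u * n = n * u := by
      intro u hu n hn
      by_cases hu1 : u = 1
      · rw [hu1]; simp
      · obtain ⟨g, hg⟩ := hconjN ((z : N) : G) (z : N).2 u hu hzG1 hu1
        have hn' : g⁻¹ * n * g ∈ N := by
          have := hNn.conj_mem n hn g⁻¹
          rwa [inv_inv] at this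
        have h1 := hzcomm _ hn'
        rw [← hg]
        calc g * ((z : N) : G) * g⁻¹ * n = g * (((z : N) : G) * (g⁻¹ * n * g)) * g⁻¹ := by group
          _ = g * ((g⁻¹ * n * g) * ((z : N) : G)) * g⁻¹ := by rw [h1]
          _ = n * (g * ((z : N) : G) * g⁻¹) := by group
    exact ⟨⟨fun a b => Subtype.ext (hall a a.2 b b.2)⟩⟩

theorem gagola_unique [Finite G] (hG : 2 < Nat.card G) (χ : IrrCharacter G)
    (hχ : Nat.card {C : ConjClasses G // ∃ g ∈ C.carrier, χ.1 g ≠ 0} = 2)
    (ψ : IrrCharacter G) (hψ : ∀ g : G, ψ.1 g = ψ.1 1 → g = 1) : ψ = χ := by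
  classical
  have : Fintype G := Fintype.ofFinite G
  obtain ⟨x, c, hx1, hxne, hc, hsum0, hval⟩ := gagola_values hG χ hχ
  obtain ⟨N, hNn, hNbot, _, _, hmemN, _⟩ := gagola_structure hG χ hχ
  have : Fintype N := Fintype.ofFinite N
  have ha0 : χ.1 1 ≠ 0 := irr_one_ne_zero χ
  have hc0 : (c : ℂ) ≠ 0 := Nat.cast_ne_zero.mpr hc.ne'
  have hxN : x ∈ N := (hmemN x).mp hxne
  -- Σ_{n:N} ψ n = 0
  have hzero : ∑ n : N, ψ.1 (n : G) = 0 := by
    have h2 := (irr_normal_avg ψ N).2 ⟨x, hxN, fun h => hx1 (hψ x h)⟩ 1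
    simpa using h2
  -- inner product
  have hinner : (Nat.card G : ℂ) * classInner ψ.1 χ.1 = ψ.1 1 * conj (χ.1 1 - χ.1 x) := by
    unfold classInner
    have hGne : (Nat.card G : ℂ) ≠ 0 := Nat.cast_ne_zero.mpr Nat.card_pos.ne'
    rw [← mul_assoc, mul_inv_cancel₀ hGne, one_mul]
    rw [sum_eq_sum_subgroup_add N (fun g => ψ.1 g * conj (χ.1 g))]
    have hout : ∑ g ∈ Finset.univ.filter (fun g => g ∉ N), ψ.1 g * conj (χ.1 g) = 0 := by
      apply Finset.sum_eq_zero
      intro g hg
      rw [Finset.mem_filter] at hg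
      have : χ.1 g = 0 := by
        by_contra hne
        exact hg.2 ((hmemN g).mp hne)
      rw [this, map_zero, mul_zero]
    rw [hout, add_zero]
    have hterm : ∀ n : N, ψ.1 (n : G) * conj (χ.1 (n : G)) =
        ψ.1 (n : G) * conj (χ.1 x) + (if n = 1 then ψ.1 1 * conj (χ.1 1 - χ.1 x) else 0) := by
      intro n
      by_cases hn1 : n = 1
      · rw [if_pos hn1, hn1, OneMemClass.coe_one, map_sub]; ring
      · rw [if_neg hn1, add_zero]
        have hnG : (n : G) ≠ 1 := fun h => hn1 (Subtype.ext h)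
        rw [hval (n : G) ((hmemN _).mpr n.2) hnG]
    rw [Finset.sum_congr rfl (fun n _ => hterm n), Finset.sum_add_distrib, ← Finset.sum_mul, hzero,
      zero_mul, zero_add, Finset.sum_ite_eq' Finset.univ (1 : N), if_pos (Finset.mem_univ _)]
  have hne : classInner ψ.1 χ.1 ≠ 0 := by
    intro h
    rw [h, mul_zero] at hinner
    rcases mul_eq_zero.mp hinner.symm with h1 | h1
    · exact irr_one_ne_zero ψ h1
    · have h2 : χ.1 1 - χ.1 x = 0 := by
        have := congrArg conj h1
        simpa using this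
      have h3 : χ.1 x = χ.1 1 := (sub_eq_zero.mp h2).symm
      rw [h3] at hsum0
      have h4 : χ.1 1 * (1 + (c : ℂ)) = 0 := by linear_combination hsum0
      rcases mul_eq_zero.mp h4 with h | h
      · exact ha0 h
      · have h5 : ((1 + c : ℕ) : ℂ) = 0 := by push_cast; exact h
        have h6 : (1 + c : ℕ) = 0 := by exact_mod_cast h5
        omega
  have h1 := irr_classInner ψ.2 χ.2
  by_contra hne'
  rw [if_neg (fun h => hne' (Subtype.ext h))] at h1
  exact hne h1

end Cfsg.Agent.Lib.Helper8
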