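import Mathlib
import Cfsg.Prelude.Def_Characters
import Cfsg.Agent.Lib.Helper8.CharItoSolv
import Cfsg.Agent.Lib.Helper8.CharLinear

set_option autoImplicit false
set_option maxHeartbeats 1000000

universe u

namespace Cfsg.Agent.Lib.Helper8
open Cfsg
open scoped ComplexConjugate

theorem charDegree_comp_mk {G : Type*} [Group G] (K : Subgroup G) [K.Normal] (ψ : G ⧸ K → ℂ) :
    charDegree (ψ ∘ (QuotientGroup.mk' K)) = charDegree ψ := by
  unfold charDegree
  simp

/-- If `A` is an abelian normal `p'`-subgroup with `G/A` a `p`-group and all irreducible character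
degrees of `G` are prime to `p`, then `A` is central. -/
theorem central_of_pquotient {G : Type u} [Group G] [Fintype G] (p : ℕ) (hp : p.Prime)
    (A : Subgroup G) (hA : A.Normal) (hAab : ∀ a ∈ A, ∀ b ∈ A, a * b = b * a) {k : ℕ}
    (hk : A.index = p ^ k) (hdeg : ∀ χ : IrrCharacter G, ¬ p ∣ charDegree χ.1) :
    ∀ a ∈ A, ∀ g : G, g * a = a * g := by
  classical
  letI := irrConjAction hA
  have hfix : ∀ (θ : IrrCharacter A) (g : G), conjChar hA θ.1 g = θ.1 := by
    intro θ g
    by_contra hne
    have hnf : ∃ a : G, a • θ ≠ θ := by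
      refine ⟨g⁻¹, ?_⟩
      intro h
      apply hne
      have := congrArg Subtype.val h
      rw [irrConjAction_smul, inv_inv] at this
      exact this
    have h1 := irr_stab_dvd' p hp A hA hk θ hnf
    obtain ⟨χ, e, _, h2⟩ := exists_over_degree A hA θ
    apply hdeg χ
    rw [h2]
    exact Dvd.dvd.mul_right (Dvd.dvd.mul_left h1 e) _
  intro a ha g
  have hc : g * a * g⁻¹ * a⁻¹ ∈ A := A.mul_mem (hA.conj_mem a ha g) (A.inv_mem ha)
  have hAab' : ∀ x y : A, x * y = y * x := fun x y => Subtype.ext (hAab x x.2 y y.2)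
  have h1 : (⟨g * a * g⁻¹ * a⁻¹, hc⟩ : A) = 1 := by
    apply eq_one_of_forall_hom hAab'
    intro lam
    have h2 := congrFun (hfix ⟨linFun lam, linFun_isIrr lam⟩ g) ⟨a, ha⟩
    rw [conjChar_apply] at h2
    have h3 : lam ⟨g * a * g⁻¹, hA.conj_mem a ha g⟩ = lam ⟨a, ha⟩ := Units.ext h2
    have h4 : (⟨g * a * g⁻¹ * a⁻¹, hc⟩ : A) = ⟨g * a * g⁻¹, hA.conj_mem a ha g⟩ * ⟨a, ha⟩⁻¹ := rfl
    rw [h4, map_mul, map_inv, h3, mul_inv_cancel]
  have h5 := congrArg Subtype.val h1
  simp only [OneMemClass.coe_one] at h5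
  have : g * a = (g * a * g⁻¹ * a⁻¹) * (a * g) := by group
  rw [this, h5, one_mul]

/-- Itô: a finite solvable group all of whose irreducible character degrees are prime to `p`
has a normal Sylow `p`-subgroup. -/
theorem ito_solvable_aux (p : ℕ) (hp : p.Prime) : ∀ (n : ℕ) (G : Type u) [Group G] [Finite G],
    Nat.card G = n → Group.IsSolvable G → (∀ χ : IrrCharacter G, ¬ p ∣ charDegree χ.1) →
    ∃ P : Subgroup G, P.Normal ∧ IsPGroup p P ∧ ¬ p ∣ P.index := by
  intro n
  induction n using Nat.strong_induction_on with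
  | _ n ih =>
  intro G _ _ hcard hsolv hdeg
  classical
  haveI : Fact p.Prime := ⟨hp⟩
  haveI := hsolv
  have : Fintype G := Fintype.ofFinite G
  by_cases hpG : p ∣ Nat.card G
  swap
  · refine ⟨⊥, inferInstance, IsPGroup.of_bot, ?_⟩
    rw [Subgroup.index_bot]; exact hpG
  have hnt : Nontrivial G := by
    rw [← Finite.one_lt_card_iff_nontrivial]
    have := Nat.le_of_dvd Nat.card_pos hpG
    have := hp.two_le
    omega
  obtain ⟨A, hAn, hAab, hAne⟩ := exists_normal_abelian_of_solvable G hsolv
  haveI := hAn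
  -- quotient step
  have hquot : ∀ (K : Subgroup G) [K.Normal], K ≠ ⊥ →
      ∃ Pb : Subgroup (G ⧸ K), Pb.Normal ∧ IsPGroup p Pb ∧ ¬ p ∣ Pb.index := by
    intro K _ hK
    have hlt : Nat.card (G ⧸ K) < n := by
      rw [← hcard, Subgroup.card_eq_card_quotient_mul_card_subgroup K]
      have h1 : 1 < Nat.card K := by
        rw [Subgroup.one_lt_card_iff_ne_bot]; exact hK
      have h2 : 0 < Nat.card (G ⧸ K) := Nat.card_pos
      nlinarith
    apply ih _ hlt (G ⧸ K) rfl inferInstance
    intro χb
    have hirr := isIrrCharacter_comp_surjective (QuotientGroup.mk' K)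
      (QuotientGroup.mk'_surjective K) χb.2
    have := hdeg ⟨_, hirr⟩
    rw [charDegree_comp_mk] at this
    exact this
  by_cases hpA : p ∣ Nat.card A
  · -- case (i)
    obtain ⟨a, ha⟩ := exists_prime_orderOf_dvd_card' p hpA
    let K : Subgroup G :=
      { carrier := {x | x ∈ A ∧ x ^ p = 1}
        mul_mem' := by
          rintro x y ⟨hx, hx1⟩ ⟨hy, hy1⟩
          refine ⟨A.mul_mem hx hy, ?_⟩
          have hc : Commute x y := hAab x hx y hy
          rw [hc.mul_pow, hx1, hy1, one_mul]
        one_mem' := ⟨A.one_mem, one_pow p⟩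
        inv_mem' := by
          rintro x ⟨hx, hx1⟩
          exact ⟨A.inv_mem hx, by rw [inv_pow, hx1, inv_one]⟩ }
    have hKn : K.Normal := by
      constructor
      rintro x ⟨hx, hx1⟩ g
      refine ⟨hAn.conj_mem x hx g, ?_⟩
      rw [conj_pow, hx1, mul_one, mul_inv_cancel]
    haveI := hKn
    have hKne : K ≠ ⊥ := by
      intro h
      have hmem : (a : G) ∈ K := by
        refine ⟨a.2, ?_⟩
        have : a ^ p = 1 := by rw [← ha]; exact pow_orderOf_eq_one a
        have := congrArg Subtype.val this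
        simpa using this
      rw [h, Subgroup.mem_bot] at hmem
      have : a = 1 := Subtype.ext hmem
      rw [this, orderOf_one] at ha
      exact hp.ne_one ha.symm
    have hKp : IsPGroup p K := by
      intro x
      refine ⟨1, ?_⟩
      apply Subtype.ext
      rw [pow_one]
      exact x.2.2
    obtain ⟨Pb, hPbn, hPbp, hPbi⟩ := hquot K hKne
    refine ⟨Pb.comap (QuotientGroup.mk' K), hPbn.comap _, ?_, ?_⟩
    · apply hPbp.comap_of_ker_isPGroup
      rw [QuotientGroup.ker_mk']; exact hKp
    · rw [Subgroup.index_comap_of_surjective Pb (QuotientGroup.mk'_surjective K)]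
      exact hPbi
  · -- case (ii)
    obtain ⟨Pb, hPbn, hPbp, hPbi⟩ := hquot A hAne
    set L : Subgroup G := Pb.comap (QuotientGroup.mk' A) with hL
    have hLn : L.Normal := hPbn.comap _
    haveI := hLn
    have hLidx : L.index = Pb.index :=
      Subgroup.index_comap_of_surjective Pb (QuotientGroup.mk'_surjective A)
    by_cases hLtop : L = ⊤
    · -- G/A is a p-group
      have hPbtop : Pb = ⊤ := by
        rw [eq_top_iff]
        intro x _
        obtain ⟨g, rfl⟩ := QuotientGroup.mk'_surjective A x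
        have : g ∈ L := by rw [hLtop]; trivial
        exact this
      have hpg : IsPGroup p (G ⧸ A) := by
        intro x
        obtain ⟨k, hk⟩ := hPbp ⟨x, by rw [hPbtop]; trivial⟩
        exact ⟨k, by simpa using congrArg Subtype.val hk⟩
      obtain ⟨k, hk⟩ := hpg.exists_card_eq
      have hAidx : A.index = p ^ k := by rw [Subgroup.index_eq_card, hk]
      have hcent := central_of_pquotient p hp A hAn hAab hAidx hdeg
      let P : Sylow p G := default
      have hsup : A ⊔ (P : Subgroup G) = ⊤ := by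
        rw [← Subgroup.index_eq_one]
        have h1 : (A ⊔ (P : Subgroup G)).index ∣ (P : Subgroup G).index :=
          Subgroup.index_dvd_of_le le_sup_right
        have h2 : (A ⊔ (P : Subgroup G)).index ∣ p ^ k := by
          rw [← hAidx]; exact Subgroup.index_dvd_of_le le_sup_left
        obtain ⟨i, _, hi⟩ := (Nat.dvd_prime_pow hp).mp h2
        rcases Nat.eq_zero_or_pos i with h0 | hpos
        · rw [hi, h0, pow_zero]
        · exfalso
          apply P.not_dvd_index
          apply dvd_trans _ h1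
          rw [hi]; exact dvd_pow_self p hpos.ne'
      have hnorm : (P : Subgroup G).Normal := by
        rw [← Subgroup.normalizer_eq_top_iff, eq_top_iff, ← hsup, sup_le_iff]
        refine ⟨?_, Subgroup.le_normalizer⟩
        intro a ha
        rw [Subgroup.mem_normalizer_iff]
        intro h
        have : a * h * a⁻¹ = h := by
          rw [← hcent a ha h, mul_inv_cancel_right]
        rw [this]
      exact ⟨P, hnorm, P.2, P.not_dvd_index⟩
    · -- induction on L
      have hLlt : Nat.card L < n := by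
        rw [← hcard, ← Subgroup.card_mul_index L]
        have h1 : L.index ≠ 1 := fun h => hLtop (Subgroup.index_eq_one.mp h)
        have h2 : L.index ≠ 0 := Subgroup.index_ne_zero_of_finite
        have h3 : 0 < Nat.card L := Nat.card_pos
        have : 2 ≤ L.index := by omega
        nlinarith
      have : Fintype L := Fintype.ofFinite L
      obtain ⟨P₀, hP₀n, hP₀p, hP₀i⟩ := ih _ hLlt L rfl inferInstance (by
        intro θ
        obtain ⟨χ, hχ⟩ := charDegree_dvd_of_normal L hLn θ
        intro h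
        exact hdeg χ (dvd_trans h hχ))
      haveI := hP₀n
      refine ⟨P₀.map L.subtype, ?_, hP₀p.map _, ?_⟩
      · constructor
        rintro x ⟨y, hy, rfl⟩ g
        obtain ⟨k, hk⟩ := hP₀p ⟨y, hy⟩
        have hyk : y ^ p ^ k = 1 := by simpa using congrArg Subtype.val hk
        have hmemL : g * (y : G) * g⁻¹ ∈ L := hLn.conj_mem y y.2 g
        have hpow : (⟨g * (y : G) * g⁻¹, hmemL⟩ : L) ^ p ^ k = 1 := by
          apply Subtype.ext
          simp only [Subgroup.coe_pow, OneMemClass.coe_one]
          rw [conj_pow]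
          have : ((y : G)) ^ p ^ k = 1 := by
            have := congrArg Subtype.val hyk
            simpa using this
          rw [this, mul_one, mul_inv_cancel]
        have := mem_of_normal_sylow P₀ hP₀i hp _ hpow
        exact ⟨⟨g * (y : G) * g⁻¹, hmemL⟩, this, rfl⟩
      · rw [Subgroup.index_map_subtype, hLidx]
        exact (Nat.Prime.dvd_mul hp).not.mpr (not_or.mpr ⟨hP₀i, hPbi⟩)

/-- Itô's theorem for solvable groups. -/
theorem ito_solvable {G : Type u} [Group G] [Finite G] (hsolv : Group.IsSolvable G) (p : ℕ)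
    (hp : p.Prime) (hdeg : ∀ χ : IrrCharacter G, ¬ p ∣ charDegree χ.1) :
    ∃ P : Subgroup G, P.Normal ∧ (∀ x ∈ P, ∀ y ∈ P, x * y = y * x) ∧ IsPGroup p P ∧
      ¬ p ∣ P.index := by
  classical
  have : Fintype G := Fintype.ofFinite G
  haveI : Fact p.Prime := ⟨hp⟩
  obtain ⟨P, hPn, hPp, hPi⟩ := ito_solvable_aux p hp _ G rfl hsolv hdeg
  refine ⟨P, hPn, ?_, hPp, hPi⟩
  have : Fintype P := Fintype.ofFinite P
  have hlin : ∀ θ : IrrCharacter P, charDegree θ.1 = 1 := by
    intro θ
    obtain ⟨χ, hχ⟩ := charDegree_dvd_of_normal P hPn θ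
    have h1 : ¬ p ∣ charDegree θ.1 := fun h => hdeg χ (dvd_trans h hχ)
    obtain ⟨a, ha⟩ := hPp.exists_card_eq
    have h2 : charDegree θ.1 ∣ p ^ a := by rw [← ha]; exact charDegree_dvd_card θ
    obtain ⟨i, _, hi⟩ := (Nat.dvd_prime_pow hp).mp h2
    rcases Nat.eq_zero_or_pos i with h0 | hpos
    · rw [hi, h0, pow_zero]
    · exfalso; apply h1; rw [hi]; exact dvd_pow_self p hpos.ne'
  have hab := abelian_of_all_linear hlin
  intro x hx y hy
  have := hab ⟨x, hx⟩ ⟨y, hy⟩
  exact congrArg Subtype.val this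

end Cfsg.Agent.Lib.Helper8
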