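import Mathlib
import Cfsg.Agent.Lib.Helper8.CharPerm

set_option autoImplicit false

namespace Cfsg.Agent.Lib.Helper8
open Cfsg
open scoped ComplexConjugate

variable {G : Type*} [Group G]

theorem eq_one_of_isConj_inv_of_odd [Finite G] (hodd : Odd (Nat.card G)) {g : G} (h : IsConj g g⁻¹) :
    g = 1 := by
  obtain ⟨c, hc⟩ := isConj_iff.mp h
  -- c^2 commutes with g
  have h2 : Commute (c ^ 2) g := by
    have h3 : c * g⁻¹ * c⁻¹ = g := by
      have := congrArg (fun t => t⁻¹) hc
      simp only [mul_inv_rev, inv_inv] at this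
      rw [← mul_assoc] at this
      exact this
    show c ^ 2 * g = g * c ^ 2
    have h4 : c ^ 2 * g * (c ^ 2)⁻¹ = g := by
      calc c ^ 2 * g * (c ^ 2)⁻¹ = c * (c * g * c⁻¹) * c⁻¹ := by rw [pow_two]; group
        _ = c * g⁻¹ * c⁻¹ := by rw [hc]
        _ = g := h3
    calc c ^ 2 * g = (c ^ 2 * g * (c ^ 2)⁻¹) * c ^ 2 := by group
      _ = g * c ^ 2 := by rw [h4]
  have hcodd : Odd (orderOf c) := Odd.of_dvd_nat hodd (orderOf_dvd_natCard c)
  obtain ⟨k, hk⟩ := hcodd
  have hc1 : c = (c ^ 2) ^ (k + 1) := by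
    rw [← pow_mul]
    have : 2 * (k + 1) = orderOf c + 1 := by omega
    rw [this, pow_succ, pow_orderOf_eq_one, one_mul]
  have h5 : Commute c g := by
    rw [hc1]; exact h2.pow_left _
  have h6 : g = g⁻¹ := by
    rw [← hc]
    have : c * g = g * c := h5
    rw [this]; group
  have h7 : g ^ 2 = 1 := by
    rw [pow_two]
    nth_rewrite 1 [h6]
    exact inv_mul_cancel g
  have h8 : orderOf g ∣ 2 := orderOf_dvd_of_pow_eq_one h7
  have h9 : Odd (orderOf g) := Odd.of_dvd_nat hodd (orderOf_dvd_natCard g)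
  have h10 : orderOf g = 1 := by
    rcases (Nat.dvd_prime Nat.prime_two).mp h8 with h | h
    · exact h
    · rw [h] at h9; exact absurd h9 (by decide)
  exact orderOf_eq_one_iff.mp h10

theorem card_real_irr_eq [Finite G] :
    Nat.card {χ : IrrCharacter G // ∀ g : G, (χ.1 g).im = 0} =
      Nat.card {C : ConjClasses G // ∀ g : G, ConjClasses.mk g = C → IsConj g g⁻¹} := by
  classical
  have h := perm_lemma (G := G) (fun g => g⁻¹)
    (by
      intro g h hgh
      obtain ⟨c, hc⟩ := isConj_iff.mp hgh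
      exact isConj_iff.mpr ⟨c, by rw [← hc]; group⟩)
    (fun χ => by
      have h1 := irr_conj χ.2
      have h2 : (χ.1 ∘ fun g => g⁻¹) = fun g => (starRingEnd ℂ) (χ.1 g) := by
        ext g
        simp only [Function.comp_apply]
        exact irr_inv χ g
      rw [h2]; exact h1)
  have h2 : Nat.card {C : ConjClasses G // ∀ g : G, ConjClasses.mk g = C → IsConj g g⁻¹} =
      Nat.card {C : ConjClasses G // ∀ g : G, ConjClasses.mk g = C → IsConj g⁻¹ g} := by
    apply Nat.card_congr
    apply Equiv.subtypeEquivRight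
    intro C
    exact ⟨fun hC g hg => (hC g hg).symm, fun hC g hg => (hC g hg).symm⟩
  have h3 : Nat.card {χ : IrrCharacter G // ∀ g : G, ((χ : G → ℂ) g).im = 0} =
      Nat.card {χ : IrrCharacter G // (χ.1 ∘ fun g => g⁻¹) = χ.1} := by
    apply Nat.card_congr
    apply Equiv.subtypeEquivRight
    intro χ
    constructor
    · intro hχ
      ext g
      simp only [Function.comp_apply]
      rw [irr_inv χ g]
      exact Complex.conj_eq_iff_im.mpr (hχ g)
    · intro hχ g
      have := congrFun hχ g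
      simp only [Function.comp_apply] at this
      rw [irr_inv χ g] at this
      exact Complex.conj_eq_iff_im.mp this
  rw [h2, h3, h]

/-- In a group of odd order the only real-valued irreducible character is the principal one. -/
theorem real_irr_of_odd [Finite G] (hodd : Odd (Nat.card G)) (χ : IrrCharacter G)
    (hreal : ∀ g : G, (χ.1 g).im = 0) : χ.1 = fun _ => 1 := by
  classical
  have h1 := card_real_irr_eq (G := G)
  have h2 : Nat.card {C : ConjClasses G // ∀ g : G, ConjClasses.mk g = C → IsConj g g⁻¹} = 1 := by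
    rw [Nat.card_eq_one_iff_unique]
    refine ⟨⟨?_⟩, ⟨⟨ConjClasses.mk 1, ?_⟩⟩⟩
    · rintro ⟨C, hC⟩ ⟨D, hD⟩
      apply Subtype.ext
      obtain ⟨g, rfl⟩ := ConjClasses.mk_surjective C
      obtain ⟨h, rfl⟩ := ConjClasses.mk_surjective D
      show ConjClasses.mk g = ConjClasses.mk h
      rw [eq_one_of_isConj_inv_of_odd hodd (hC g rfl), eq_one_of_isConj_inv_of_odd hodd (hD h rfl)]
    · intro g hg
      have : g = 1 := by
        rw [ConjClasses.mk_eq_mk_iff_isConj, isConj_one_left] at hg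
        exact hg
      rw [this]; simp
  rw [h2, Nat.card_eq_one_iff_unique] at h1
  obtain ⟨hsub, _⟩ := h1
  have hprin : ∀ g : G, ((⟨fun _ => (1 : ℂ), principal_isIrrCharacter⟩ : IrrCharacter G).1 g).im = 0 := by
    intro g; simp
  have := hsub.elim ⟨χ, hreal⟩ ⟨⟨fun _ => (1 : ℂ), principal_isIrrCharacter⟩, hprin⟩
  exact congrArg (fun x => x.1.1) this


theorem card_mod_sixteen_of_odd [Finite G] (hodd : Odd (Nat.card G)) :
    Nat.card G ≡ Nat.card (ConjClasses G) [MOD 16] := by
  classical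
  have : Fintype G := Fintype.ofFinite G
  have := irr_finite (G := G)
  have : Fintype (IrrCharacter G) := Fintype.ofFinite _
  -- degrees
  have hdegex : ∀ ψ : IrrCharacter G, ∃ d : ℕ, 0 < d ∧ ψ.1 1 = d ∧ d ∣ Nat.card G := by
    intro ψ
    obtain ⟨n, σ, hσ, hσψ⟩ := ψ.2
    have hdvd := degree_dvd_card hσ
    have hnt : Nontrivial (Fin n → ℂ) := irreducible_nontrivial hσ
    refine ⟨Module.finrank ℂ (Fin n → ℂ), Module.finrank_pos, ?_, hdvd⟩
    rw [← hσψ, Representation.char_one]
  choose d hdpos hd1 hddvd using hdegex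
  have hdodd : ∀ ψ, Odd (d ψ) := fun ψ => Odd.of_dvd_nat hodd (hddvd ψ)
  -- |G| = ∑ d²
  have hsq : Nat.card G = ∑ ψ : IrrCharacter G, d ψ ^ 2 := by
    have key := irr_sum_mul_conj (1 : G) 1
    rw [if_pos (IsConj.refl 1)] at key
    have hc : Subgroup.centralizer ({1} : Set G) = ⊤ := by
      rw [eq_top_iff]
      intro x _
      rw [Subgroup.mem_centralizer_iff]
      intro y hy
      rw [Set.mem_singleton_iff.mp hy]
      simp
    rw [hc, Nat.card_congr (Subgroup.topEquiv (G := G)).toEquiv] at key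
    have : ((Nat.card G : ℕ) : ℂ) = ((∑ ψ : IrrCharacter G, d ψ ^ 2 : ℕ) : ℂ) := by
      rw [← key]; push_cast
      apply Finset.sum_congr rfl
      intro ψ _
      rw [hd1 ψ]; simp [sq]
    exact_mod_cast this
  have hk : Nat.card (ConjClasses G) = ∑ ψ : IrrCharacter G, 1 := by
    rw [← card_irr_eq, Nat.card_eq_fintype_card]; simp
  -- the involution
  let cj : IrrCharacter G → IrrCharacter G := fun χ => ⟨fun g => conj (χ.1 g), irr_conj χ.2⟩
  have hcjd : ∀ χ, d (cj χ) = d χ := by
    intro χ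
    have h1 := hd1 (cj χ)
    have h2 : (cj χ).1 1 = conj (χ.1 1) := rfl
    rw [h2, hd1 χ, Complex.conj_natCast] at h1
    exact_mod_cast h1.symm
  have hcjinv : ∀ χ, cj (cj χ) = χ := by
    intro χ
    apply Subtype.ext
    ext g
    simp [cj]
  -- t d = (d^2 - 1) / 8
  have ht : ∀ ψ, d ψ ^ 2 = 1 + 8 * ((d ψ ^ 2 - 1) / 8) := by
    intro ψ
    obtain ⟨m, hm⟩ := hdodd ψ
    have h8 : 8 ∣ d ψ ^ 2 - 1 := by
      rw [hm]
      have : (2 * m + 1) ^ 2 - 1 = 4 * (m * (m + 1)) := by
        have : (2 * m + 1) ^ 2 = 4 * (m * (m + 1)) + 1 := by ring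
        omega
      rw [this]
      have : 2 ∣ m * (m + 1) := (Nat.even_mul_succ_self m).two_dvd
      obtain ⟨r, hr⟩ := this
      exact ⟨r, by rw [hr]; ring⟩
    have hpos : 1 ≤ d ψ ^ 2 := Nat.one_le_pow _ _ (hdpos ψ)
    have := Nat.mul_div_cancel' h8
    omega
  have heven : (∑ ψ : IrrCharacter G, (((d ψ ^ 2 - 1) / 8 : ℕ) : ZMod 2)) = 0 := by
    apply Finset.sum_involution (fun χ _ => cj χ)
    · intro χ _
      rw [hcjd χ]
      have : ∀ x : ZMod 2, x + x = 0 := by decide
      exact this _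
    · intro χ _ hne hfix
      apply hne
      have hreal : ∀ g : G, (χ.1 g).im = 0 := by
        intro g
        have := congrArg (fun x : IrrCharacter G => x.1 g) hfix
        simp only [cj] at this
        exact Complex.conj_eq_iff_im.mp this
      have h1 := real_irr_of_odd hodd χ hreal
      have h2 : d χ = 1 := by
        have := hd1 χ
        rw [h1] at this
        simp only at this
        exact_mod_cast this.symm
      rw [h2]; simp
    · intro χ _; exact Finset.mem_univ _
    · intro χ _; exact hcjinv χ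
  have heven' : 2 ∣ ∑ ψ : IrrCharacter G, (d ψ ^ 2 - 1) / 8 := by
    rw [← Nat.cast_sum] at heven
    exact (ZMod.natCast_eq_zero_iff _ 2).mp heven
  obtain ⟨r, hr⟩ := heven'
  have hfinal : Nat.card G = Nat.card (ConjClasses G) + 16 * r := by
    rw [hsq, hk, Finset.sum_congr rfl (fun ψ _ => ht ψ), Finset.sum_add_distrib, ← Finset.mul_sum, hr]
    ring
  rw [hfinal]
  have : Nat.card (ConjClasses G) + 16 * r ≡ Nat.card (ConjClasses G) + 0 [MOD 16] :=
    Nat.ModEq.add_left _ ((Nat.modEq_zero_iff_dvd).mpr (Dvd.intro _ rfl))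
  exact this

end Cfsg.Agent.Lib.Helper8
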