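import Mathlib
import Cfsg.Prelude.Def_Characters
import Cfsg.Agent.Lib.Helper8.ProjLift
import Cfsg.Agent.Lib.Helper8.CharCosetAvg
import Cfsg.Agent.Lib.Helper8.CharIto
import Cfsg.Agent.Lib.Helper8.CharDegree
import Cfsg.Agent.Lib.Helper8.CharSmallDegree
import Cfsg.Agent.S0856

set_option autoImplicit false

namespace Cfsg.Agent.Lib.Helper8
open Cfsg
open scoped ComplexConjugate

universe u

/-- Elements of the lifting group lying over `1` are central. -/
theorem liftGroup_ker_central {G : Type u} [Group G] {V : Type*} [AddCommGroup V] [Module ℂ V]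
    [FiniteDimensional ℂ V] (N : Subgroup G) [hN : N.Normal] (Y : Representation ℂ N V) (L : ℕ)
    (hY : Y.IsIrreducible) (w : liftGroup N Y L) (hw : w.1.1 = 1) :
    w ∈ Subgroup.center (liftGroup N Y L) := by
  obtain ⟨c, hc, -⟩ := liftGroup_ker_scalar N Y L hY w hw
  rw [Subgroup.mem_center_iff]
  intro y
  apply Subtype.ext
  apply Prod.ext
  · show y.1.1 * w.1.1 = w.1.1 * y.1.1
    rw [hw, mul_one, one_mul]
  · apply LinearEquiv.ext
    intro v
    show y.1.2 (w.1.2 v) = w.1.2 (y.1.2 v)
    rw [hc, hc, map_smul]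

/-- The ramification index of an invariant irreducible character of a normal subgroup divides
the index. -/
theorem invariant_ratio_dvd {G : Type u} [Group G] [Fintype G] (N : Subgroup G) [hN : N.Normal]
    [Fintype N] (ψ : IrrCharacter G) (ϑ : IrrCharacter N)
    (hinv : ∀ (g : G) (n : N), ϑ.1 (MulAut.conjNormal g n) = ϑ.1 n)
    (hcon : classInner (fun n : N => ψ.1 n) ϑ.1 ≠ 0) :
    ∃ e : ℕ, charDegree ψ.1 = e * charDegree ϑ.1 ∧ e ∣ N.index := by
  classical
  obtain ⟨d, Y, hY, hYϑ⟩ := ϑ.2
  set L := Nat.card N with hLdef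
  have hL : ∀ n : N, n ^ L = 1 := fun n => pow_card_eq_one'
  have hLpos : 0 < L := Nat.card_pos
  have hfin : Finite (liftGroup N Y L) := liftGroup_finite N Y L hY hLpos
  have : Fintype (liftGroup N Y L) := Fintype.ofFinite _
  have hπ : Function.Surjective (liftProj N Y L) :=
    liftProj_surjective N Y L hY (by rw [hYϑ]; exact hinv)
  have hX : (liftRep N Y L).IsIrreducible := liftRep_irreducible N Y L hL hY
  -- the image of `N`
  set Ns : Subgroup (liftGroup N Y L) := (liftIncl N Y L hL).range with hNs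
  have hNsn : Ns.Normal := by
    constructor
    rintro _ ⟨n, rfl⟩ x
    refine ⟨MulAut.conjNormal x.1.1 n, ?_⟩
    apply Subtype.ext
    apply Prod.ext
    · show ((MulAut.conjNormal x.1.1 n : N) : G) = x.1.1 * (n : G) * x.1.1⁻¹
      rw [MulAut.conjNormal_apply]
    · apply LinearEquiv.ext
      intro v
      show Y (MulAut.conjNormal x.1.1 n) v = x.1.2 (Y n (x.1.2⁻¹ v))
      rw [x.2.1 n, ← LinearEquiv.mul_apply, mul_inv_cancel]
      rfl
  have : Fintype Ns := Fintype.ofFinite _
  -- the equivalence N ≃ Ns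
  let e : N ≃ Ns := Equiv.ofBijective (liftIncl N Y L hL).rangeRestrict
    ⟨by
      intro a b hab
      apply liftIncl_injective N Y L hL
      exact congrArg Subtype.val hab, MonoidHom.rangeRestrict_surjective _⟩
  have he : ∀ n : N, ((e n : Ns) : liftGroup N Y L) = liftIncl N Y L hL n := fun n => rfl
  -- characters
  have hψs : IsIrrCharacter (liftGroup N Y L) (ψ.1 ∘ liftProj N Y L) :=
    isIrrCharacter_comp_surjective _ hπ ψ.2
  have hϑh : IsIrrCharacter (liftGroup N Y L) (liftRep N Y L).character :=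
    isIrrCharacter_of_irreducible hX
  have hϑhcf : IsClassFunction (liftGroup N Y L) (liftRep N Y L).character :=
    isClassFunction_of_isCharacter (irr_isCharacter hϑh)
  have hXN : ∀ n : N, (liftRep N Y L).character (liftIncl N Y L hL n) = ϑ.1 n := by
    intro n
    rw [← hYϑ]
    show LinearMap.trace ℂ _ (liftRep N Y L (liftIncl N Y L hL n)) = _
    rw [liftRep_liftIncl]
    rfl
  -- the restriction to Ns is irreducible
  have hres : IsIrrCharacter Ns (fun n : Ns => (liftRep N Y L).character n) := by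
    refine ⟨d, (liftRep N Y L).comp Ns.subtype, ?_, rfl⟩
    apply irreducible_of_comp (liftIncl N Y L hL).rangeRestrict
    have : (((liftRep N Y L).comp Ns.subtype).comp (liftIncl N Y L hL).rangeRestrict :
        Representation ℂ N (Fin d → ℂ)) = Y := by
      apply MonoidHom.ext
      intro n
      exact liftRep_liftIncl N Y L hL n
    rw [this]; exact hY
  have h1irr : IsIrrCharacter Ns (fun _ => (1 : ℂ)) := principal_isIrrCharacter
  have hprodeq : (fun _ : Ns => (1 : ℂ)) * (fun n : Ns => (liftRep N Y L).character n) =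
      fun n : Ns => (liftRep N Y L).character n := by
    ext n
    simp
  have hbij := Cfsg.Agent.S0856.result Ns (fun _ => (1 : ℂ))
    (fun n : Ns => (liftRep N Y L).character n) h1irr hres (fun _ _ => rfl)
    (fun g n => by
      show (liftRep N Y L).character (g * n * g⁻¹) = _
      exact hϑhcf n g)
    (by rw [hprodeq]; exact hres) (liftRep N Y L).character hϑh (fun n => rfl)
  -- ψ∘π lies over the restriction
  have hmem : (ψ.1 ∘ liftProj N Y L) ∈ {ψ' : liftGroup N Y L → ℂ |
      IsIrrCharacter (liftGroup N Y L) ψ' ∧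
      classInner (indFun Ns ((fun _ : Ns => (1 : ℂ)) *
        (fun n : Ns => (liftRep N Y L).character n))) ψ' ≠ 0} := by
    refine ⟨hψs, ?_⟩
    rw [hprodeq, frobenius_reciprocity Ns _ _
      (isClassFunction_of_isCharacter (irr_isCharacter hψs)), classInner_conj_symm]
    have h1 : classInner (fun h : Ns => (ψ.1 ∘ liftProj N Y L) h)
        (fun n : Ns => (liftRep N Y L).character n) = classInner (fun n : N => ψ.1 n) ϑ.1 := by
      unfold classInner
      have hcard : Nat.card Ns = Nat.card N := (Nat.card_congr e).symm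
      rw [hcard]
      congr 1
      symm
      apply Fintype.sum_equiv e
      intro n
      rw [← hXN n]
      rfl
    rw [h1]
    intro h0
    apply hcon
    have := congrArg (starRingEnd ℂ) h0
    simpa using this
  obtain ⟨β, ⟨hβirr, hβne⟩, hβeq⟩ := hbij.surjOn hmem
  simp only at hβeq
  have hker := ker_of_over_principal hNsn ⟨β, hβirr⟩ hβne
  -- degrees
  obtain ⟨k, ρ, hρ, hρβ⟩ := hβirr
  have hβ1 : β 1 = (k : ℂ) := by
    rw [← hρβ, Representation.char_one]; simp
  have hdegϑ : (charDegree ϑ.1 : ℂ) = d := by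
    rw [← irr_one_eq_charDegree ϑ, ← hYϑ, Representation.char_one]; simp
  have hdeg : charDegree ψ.1 = k * charDegree ϑ.1 := by
    have h1 := congrFun hβeq 1
    simp only [Pi.mul_apply, Function.comp_apply, map_one] at h1
    rw [hβ1, Representation.char_one, irr_one_eq_charDegree ψ] at h1
    have h2 : ((k * charDegree ϑ.1 : ℕ) : ℂ) = (charDegree ψ.1 : ℂ) := by
      push_cast
      rw [hdegϑ, ← h1]
      simp
    exact_mod_cast h2.symm
  refine ⟨k, hdeg, ?_⟩
  -- scalars on the preimage of N
  have hscal : ∀ z ∈ N.comap (liftProj N Y L), ∃ c : ℂ, ∀ v : Fin k → ℂ, ρ z v = c • v := by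
    intro z hz
    set n : N := ⟨liftProj N Y L z, hz⟩ with hn
    set kk := liftIncl N Y L hL n with hkk
    have hkkNs : kk ∈ Ns := ⟨n, rfl⟩
    have hk2 : β kk = β 1 := hker kk hkkNs
    have hρkk : ρ kk = LinearMap.id := by
      rw [← character_eq_degree_iff, hρβ, hk2, hβ1]
      simp
    have hw : (kk⁻¹ * z).1.1 = 1 := by
      show (kk.1.1)⁻¹ * z.1.1 = 1
      have : kk.1.1 = z.1.1 := rfl
      rw [this, inv_mul_cancel]
    have hcen := liftGroup_ker_central N Y L hY (kk⁻¹ * z) hw
    obtain ⟨c, hc⟩ := central_scalar hρ hcen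
    refine ⟨c, ?_⟩
    intro v
    have h1 : z = kk * (kk⁻¹ * z) := by group
    rw [h1, map_mul, Module.End.mul_apply, hρkk, LinearMap.id_apply, hc]
  have hdvd := degree_dvd_index_of_scalar hρ (N.comap (liftProj N Y L)) hscal
  rw [N.index_comap_of_surjective hπ] at hdvd
  simpa using hdvd

end Cfsg.Agent.Lib.Helper8
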