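import Mathlib
import Cfsg.Prelude.Def_Characters
import Cfsg.Prelude.Def_Transfer
import Cfsg.Agent.Lib.Helper8.DadeElem
import Cfsg.Agent.Lib.Helper8.CharDegree
import Cfsg.Agent.Lib.Helper8.ProjLift2

set_option autoImplicit false
set_option maxHeartbeats 1000000

universe u

namespace Cfsg.Agent.Lib.Helper8
open Cfsg
open scoped ComplexConjugate

/-- The regular character. -/
noncomputable def regChar (G : Type*) [Group G] : G → ℂ := fun g =>
  haveI := Classical.propDecidable (g = 1)
  if g = 1 then (Nat.card G : ℂ) else 0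

theorem regChar_one (G : Type*) [Group G] : regChar G 1 = (Nat.card G : ℂ) := by
  unfold regChar
  rw [if_pos rfl]

theorem regChar_ne {G : Type*} [Group G] {g : G} (hg : g ≠ 1) : regChar G g = 0 := by
  unfold regChar
  rw [if_neg hg]

theorem classInner_regChar {G : Type*} [Group G] [Fintype G] (α : G → ℂ) :
    classInner (regChar G) α = conj (α 1) := by
  classical
  unfold classInner
  rw [Finset.sum_eq_single 1]
  · rw [regChar_one]
    have : (Nat.card G : ℂ) ≠ 0 := Nat.cast_ne_zero.mpr Nat.card_pos.ne'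
    field_simp
  · intro g _ hg
    rw [regChar_ne hg, zero_mul]
  · intro h; exact absurd (Finset.mem_univ _) h

theorem regChar_isCharacter (G : Type*) [Group G] [Fintype G] : IsCharacter G (regChar G) := by
  apply isCharacter_of_classInner_nat
  · intro g x
    by_cases hg : g = 1
    · rw [hg]; simp
    · have : x * g * x⁻¹ ≠ 1 := by
        intro h
        apply hg
        have : g = x⁻¹ * (x * g * x⁻¹) * x := by group
        rw [this, h]; simp
      rw [regChar_ne hg, regChar_ne this]
  · intro θ
    refine ⟨charDegree θ.1, ?_⟩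
    rw [classInner_regChar, irr_one_eq_charDegree, Complex.conj_natCast]

theorem regChar_conj_invariant {G : Type*} [Group G] (N : Subgroup G) (hN : N.Normal) (g : G) :
    conjChar hN (regChar N) g = regChar N := by
  ext n
  rw [conjChar_apply]
  by_cases hn : n = 1
  · subst hn
    have : (⟨g * ((1 : N) : G) * g⁻¹, hN.conj_mem _ (1 : N).2 g⟩ : N) = 1 := by
      apply Subtype.ext; simp
    rw [this]
  · have : (⟨g * (n : G) * g⁻¹, hN.conj_mem _ n.2 g⟩ : N) ≠ 1 := by
      intro h
      apply hn
      have h2 := congrArg Subtype.val h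
      simp only [OneMemClass.coe_one] at h2
      apply Subtype.ext
      have : (n : G) = g⁻¹ * (g * n * g⁻¹) * g := by group
      rw [this, h2]; simp
    rw [regChar_ne hn, regChar_ne this]

/-- If `ϑ` is an invariant irreducible constituent of `χ_N` with multiplicity prime to `p`, and
`[G:N]` is a power of `p`, then `χ_N = ϑ`. -/
theorem restrict_eq_of_coprime_mult {G : Type u} [Group G] [Fintype G] (p : ℕ) (hp : p.Prime)
    (N : Subgroup G) [hN : N.Normal] [Fintype N] {k : ℕ} (hk : N.index = p ^ k) (χ : IrrCharacter G)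
    (ϑ : N → ℂ) (hϑ : IsIrrCharacter N ϑ) (hinv : ∀ g : G, conjChar hN ϑ g = ϑ) (e : ℕ)
    (he : classInner (fun n : N => χ.1 n) ϑ = e) (hpe : ¬ p ∣ e) :
    (fun n : N => χ.1 n) = ϑ := by
  classical
  have hϑc := irr_isCharacter hϑ
  have he0 : e ≠ 0 := by
    intro h; apply hpe; rw [h]; exact dvd_zero p
  have hcon : classInner (fun n : N => χ.1 n) ϑ ≠ 0 := by
    rw [he]; exact_mod_cast he0
  have hres := clifford_invariant hN χ.2 hϑ hcon hinv
  rw [he] at hres
  obtain ⟨e', he'deg, he'dvd⟩ := invariant_ratio_dvd N χ ⟨ϑ, hϑ⟩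
    (by
      intro g n
      have := congrFun (hinv g) n
      rw [conjChar_apply] at this
      exact this) hcon
  have h1 : χ.1 1 = (e : ℂ) * ϑ 1 := by
    have := congrFun hres 1
    simp only [Pi.smul_apply, smul_eq_mul] at this
    rw [← this]; rfl
  have hϑ1 : ϑ 1 = (charDegree ϑ : ℂ) := isCharacter_one_eq_charDegree hϑc
  have hχ1 : χ.1 1 = (charDegree χ.1 : ℂ) := irr_one_eq_charDegree χ
  have hdpos : 0 < charDegree ϑ := charDegree_pos ⟨ϑ, hϑ⟩
  have hee : e' = e := by
    have h2 : ((e' * charDegree ϑ : ℕ) : ℂ) = ((e * charDegree ϑ : ℕ) : ℂ) := by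
      rw [← he'deg]
      push_cast
      rw [← hχ1, h1, hϑ1]
    have h3 : e' * charDegree ϑ = e * charDegree ϑ := by exact_mod_cast h2
    exact Nat.eq_of_mul_eq_mul_right hdpos h3
  rw [hee, hk] at he'dvd
  have he1 : e = 1 := by
    obtain ⟨i, _, hi⟩ := (Nat.dvd_prime_pow hp).mp he'dvd
    rcases Nat.eq_zero_or_pos i with h0 | hpos
    · rw [hi, h0, pow_zero]
    · exfalso; apply hpe; rw [hi]; exact dvd_pow_self p hpos.ne'
  rw [hres, he1]
  simp

/-- An irreducible character of degree prime to `p` restricts irreducibly to a normal subgroup of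
`p`-power index. -/
theorem restrict_irr_of_pIndex {G : Type u} [Group G] [Fintype G] (p : ℕ) (hp : p.Prime)
    (N : Subgroup G) [hN : N.Normal] {k : ℕ} (hk : N.index = p ^ k) (χ : IrrCharacter G)
    (hχ : ¬ p ∣ charDegree χ.1) : IsIrrCharacter N (fun n : N => χ.1 n) := by
  classical
  have hα : IsCharacter N (fun n : N => χ.1 n) := isCharacter_restrict N (irr_isCharacter χ.2)
  have hαinv : ∀ g : G, conjChar hN (fun n : N => χ.1 n) g = fun n : N => χ.1 n :=
    fun g => conjChar_restrict hN (isClassFunction_of_isCharacter (irr_isCharacter χ.2)) g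
  have ht : classInner (regChar N) (fun n : N => χ.1 n) = (charDegree χ.1 : ℕ) := by
    rw [classInner_regChar]
    show conj (χ.1 ((1 : N) : G)) = _
    rw [OneMemClass.coe_one, irr_one_eq_charDegree, Complex.conj_natCast]
  obtain ⟨ψ, hψ, hψinv, c, hc, hpc⟩ := exists_invariant_constituent p hp N hN ⟨k, hk⟩
    (fun n : N => χ.1 n) (regChar N) hα (regChar_isCharacter N) hαinv
    (regChar_conj_invariant N hN) (charDegree χ.1) ht hχ
  rw [restrict_eq_of_coprime_mult p hp N hk χ ψ hψ hψinv c hc hpc]
  exact hψ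

/-- A homomorphism from a group generated by `p'`-elements to an abelian group has order prime
to `p`. -/
theorem orderOf_hom_coprime_of_generated {K : Type*} [Group K] [Finite K] {A : Type*}
    [CommGroup A] (p : ℕ) (hp : p.Prime)
    (hgen : Subgroup.closure {x : K | Nat.Coprime (orderOf x) p} = ⊤) (δ : K →* A) :
    Nat.Coprime (orderOf δ) p := by
  have hcard : Nat.card K ≠ 0 := Nat.card_pos.ne'
  set n := ordCompl[p] (Nat.card K) with hn
  have hcop : Nat.Coprime p n := Nat.coprime_ordCompl hp hcard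
  have hpow : δ ^ n = 1 := by
    apply MonoidHom.eq_of_eqOn_dense hgen
    intro x hx
    rw [MonoidHom.pow_apply, MonoidHom.one_apply, ← map_pow]
    have h1 : orderOf x ∣ Nat.card K := orderOf_dvd_natCard x
    rw [← Nat.ordProj_mul_ordCompl_eq_self (Nat.card K) p] at h1
    have h2 : orderOf x ∣ n := (Nat.Coprime.pow_right _ hx).dvd_of_dvd_mul_left h1
    rw [orderOf_dvd_iff_pow_eq_one.mp h2, map_one]
  have hdvd : orderOf δ ∣ n := orderOf_dvd_of_pow_eq_one hpow
  exact (Nat.Coprime.coprime_dvd_right hdvd hcop).symm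

theorem pResidual_normal (p : ℕ) (G : Type u) [Group G] : (pResidual p G).Normal := by
  constructor
  intro n hn g
  unfold pResidual at hn ⊢
  have h1 : (Subgroup.closure {g : G | Nat.Coprime (orderOf g) p}).map (MulAut.conj g).toMonoidHom ≤
      Subgroup.closure {g : G | Nat.Coprime (orderOf g) p} := by
    rw [MonoidHom.map_closure, Subgroup.closure_le]
    rintro _ ⟨x, hx, rfl⟩
    apply Subgroup.subset_closure
    show Nat.Coprime (orderOf (MulAut.conj g x)) p
    have : orderOf (MulAut.conj g x) = orderOf x :=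
      orderOf_injective (MulAut.conj g).toMonoidHom (MulAut.conj g).injective x
    rw [this]
    exact hx
  apply h1
  exact ⟨n, hn, by simp [MulAut.conj_apply]⟩

theorem pResidual_index (p : ℕ) (hp : p.Prime) (G : Type u) [Group G] [Finite G] :
    ∃ k : ℕ, (pResidual p G).index = p ^ k := by
  haveI := pResidual_normal p G
  haveI : Fact p.Prime := ⟨hp⟩
  have hpg : IsPGroup p (G ⧸ pResidual p G) := by
    intro x
    induction x using QuotientGroup.induction_on with
    | H g =>
    have ho : orderOf g ≠ 0 := (orderOf_pos g).ne'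
    obtain ⟨a, m, hm, hgm⟩ := Nat.exists_eq_pow_mul_and_not_dvd ho p hp.ne_one
    refine ⟨a, ?_⟩
    rw [← QuotientGroup.mk_pow, QuotientGroup.eq_one_iff]
    apply Subgroup.subset_closure
    show Nat.Coprime (orderOf (g ^ p ^ a)) p
    have h1 : (g ^ p ^ a) ^ m = 1 := by
      rw [← pow_mul, ← hgm, pow_orderOf_eq_one]
    have h2 : orderOf (g ^ p ^ a) ∣ m := orderOf_dvd_of_pow_eq_one h1
    have h3 : Nat.Coprime m p := ((Nat.Prime.coprime_iff_not_dvd hp).mpr hm).symm
    exact Nat.Coprime.coprime_dvd_left h2 h3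
  obtain ⟨k, hk⟩ := hpg.exists_card_eq
  exact ⟨k, by rw [Subgroup.index_eq_card, hk]⟩

theorem pResidual_generated (p : ℕ) (G : Type u) [Group G] :
    Subgroup.closure {x : ↥(pResidual p G) | Nat.Coprime (orderOf x) p} = ⊤ := by
  show Subgroup.closure {x : ↥(Subgroup.closure {g : G | Nat.Coprime (orderOf g) p}) |
    Nat.Coprime (orderOf x) p} = ⊤
  have h : {x : ↥(Subgroup.closure {g : G | Nat.Coprime (orderOf g) p}) |
      Nat.Coprime (orderOf x) p} =
      ((↑) : ↥(Subgroup.closure {g : G | Nat.Coprime (orderOf g) p}) → G) ⁻¹'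
        {g : G | Nat.Coprime (orderOf g) p} := by
    ext x
    show Nat.Coprime (orderOf x) p ↔ Nat.Coprime (orderOf (x : G)) p
    rw [Subgroup.orderOf_coe]
  rw [h]
  exact Subgroup.closure_closure_coe_preimage

end Cfsg.Agent.Lib.Helper8
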