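import Mathlib
import Cfsg.Prelude.Def_Characters
import Cfsg.Agent.Lib.Helper8.CharFrobThm
import Cfsg.Agent.Lib.Helper8.CharAbelQuot

set_option autoImplicit false

namespace Cfsg.Agent.Lib.Helper8
open Cfsg
open scoped ComplexConjugate commutatorElement

variable {G : Type*} [Group G]

theorem eq_one_of_forall_irr_eq [Finite G] {x : G} (h : ∀ χ : IrrCharacter G, χ.1 x = χ.1 1) :
    x = 1 := by
  classical
  have : Fintype G := Fintype.ofFinite G
  have := irr_finite (G := G)
  have : Fintype (IrrCharacter G) := Fintype.ofFinite _
  have key := irr_sum_mul_conj (G := G) x 1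
  have key1 := irr_sum_mul_conj (G := G) 1 1
  rw [if_pos (IsConj.refl 1)] at key1
  by_contra hx
  rw [if_neg (fun hc => hx (isConj_one_left.mp hc))] at key
  have h2 : ∑ χ : IrrCharacter G, χ.1 x * conj (χ.1 1) =
      ∑ χ : IrrCharacter G, χ.1 1 * conj (χ.1 1) :=
    Finset.sum_congr rfl (fun χ _ => by rw [h χ])
  rw [h2, key1] at key
  exact (Nat.cast_ne_zero.mpr Nat.card_pos.ne' :
    (Nat.card (Subgroup.centralizer ({1} : Set G)) : ℂ) ≠ 0) key

/-- Taketa's theorem. -/
theorem taketa [Fintype G]
    (hM : ∀ χ : G → ℂ, IsIrrCharacter G χ → ∃ (H : Subgroup G) (lam : H →* ℂˣ),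
      χ = indFun H (fun h => ((lam h : ℂˣ) : ℂ))) :
    Group.IsSolvable G := by
  classical
  have := irr_finite (G := G)
  have : Fintype (IrrCharacter G) := Fintype.ofFinite _
  set pr : IrrCharacter G := ⟨fun _ => (1 : ℂ), principal_isIrrCharacter⟩ with hpr
  have hprdeg : charDegree pr.1 = 1 := by
    have h1 := irr_one_eq_charDegree pr
    have h2 : pr.1 1 = 1 := rfl
    rw [h2] at h1
    exact_mod_cast h1.symm
  have hP : ∀ d : ℕ, ∀ χ : IrrCharacter G, charDegree χ.1 ≤ d →
      ∀ x ∈ derivedSeries G d, χ.1 x = χ.1 1 := by
    intro d
    induction d with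
    | zero =>
      intro χ hχ
      have := charDegree_pos χ
      omega
    | succ d ih =>
      intro χ hχ x hx
      by_cases hle : charDegree χ.1 ≤ d
      · exact ih χ hle x (derivedSeries_antitone G (Nat.le_succ d) hx)
      · have hdeg : charDegree χ.1 = d + 1 := by omega
        obtain ⟨H, lam, hlam⟩ := hM χ.1 χ.2
        have : Fintype H := Fintype.ofFinite H
        have hHne : (Nat.card H : ℂ) ≠ 0 := Nat.cast_ne_zero.mpr Nat.card_pos.ne'
        have hidx : H.index = d + 1 := by
          have h1 : indFun H (fun h => ((lam h : ℂˣ) : ℂ)) 1 = (charDegree χ.1 : ℂ) := by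
            rw [← hlam]; exact irr_one_eq_charDegree χ
          rw [indFun_one, map_one, Units.val_one, mul_one] at h1
          have h2 : H.index = charDegree χ.1 := by exact_mod_cast h1
          rw [h2, hdeg]
        -- G^(d) ≤ H
        have hDH : derivedSeries G d ≤ H := by
          by_cases hHtop : H = ⊤
          · rw [hHtop]; exact le_top
          · intro y hy
            set π := indFun H (fun _ : H => (1 : ℂ)) with hπ
            have hπchar : IsCharacter G π :=
              isCharacter_indFun H (irr_isCharacter (principal_isIrrCharacter (G := H)))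
            obtain ⟨m, hm⟩ := isCharacter_decomp hπchar
            have hπ1 : π 1 = (H.index : ℂ) := by rw [hπ, indFun_one]; simp
            have hm1 : m pr = 1 := by
              have h1 : classInner π pr.1 = 1 := by
                rw [hπ, frobenius_reciprocity H _ _ (fun _ _ => rfl)]
                exact classInner_one_one
              have h2 := classInner_comb_irr (fun ψ => (m ψ : ℂ)) pr
              rw [← funext hm, h1] at h2
              exact_mod_cast h2.symm
            have hsumN : H.index = ∑ ψ : IrrCharacter G, m ψ * charDegree ψ.1 := by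
              have h1 : (H.index : ℂ) = ((∑ ψ : IrrCharacter G, m ψ * charDegree ψ.1 : ℕ) : ℂ) := by
                rw [← hπ1, hm 1]; push_cast
                apply Finset.sum_congr rfl
                intro ψ _
                rw [irr_one_eq_charDegree]
              exact_mod_cast h1
            have hdegc : ∀ ψ : IrrCharacter G, m ψ ≠ 0 → charDegree ψ.1 ≤ d := by
              intro ψ hψ
              by_contra hgt
              push Not at hgt
              by_cases hψ1 : ψ = pr
              · have h1 : charDegree ψ.1 = 1 := by rw [hψ1]; exact hprdeg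
                have h2 : H.index = 1 := by omega
                exact hHtop (Subgroup.index_eq_one.mp h2)
              · have hsub : ({ψ, pr} : Finset (IrrCharacter G)) ⊆ Finset.univ :=
                  Finset.subset_univ _
                have h1 := Finset.sum_le_sum_of_subset (f := fun ψ => m ψ * charDegree ψ.1) hsub
                rw [Finset.sum_pair hψ1, ← hsumN, hm1, hprdeg] at h1
                have h2 : charDegree ψ.1 ≤ m ψ * charDegree ψ.1 :=
                  Nat.le_mul_of_pos_left _ (Nat.pos_of_ne_zero hψ)
                omega
            have hπy : π y = (H.index : ℂ) := by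
              rw [← hπ1, hm 1, hm y]
              apply Finset.sum_congr rfl
              intro ψ _
              by_cases hψ : m ψ = 0
              · rw [hψ]; simp
              · rw [ih ψ (hdegc ψ hψ) y hy]
            rw [hπ, indFun_apply] at hπy
            have hterm : ∀ z : G, extendByZero H (fun _ : H => (1 : ℂ)) (z⁻¹ * y * z) =
                if z⁻¹ * y * z ∈ H then 1 else 0 := by
              intro z
              by_cases hz : z⁻¹ * y * z ∈ H
              · rw [if_pos hz, extendByZero_mem H _ hz]
              · rw [if_neg hz, extendByZero_not_mem H _ hz]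
            simp_rw [hterm] at hπy
            rw [Finset.sum_boole] at hπy
            have hcardeq : (Finset.univ.filter (fun z : G => z⁻¹ * y * z ∈ H)).card =
                (Finset.univ : Finset G).card := by
              have h3 : ((Finset.univ.filter (fun z : G => z⁻¹ * y * z ∈ H)).card : ℂ) =
                  (Nat.card H : ℂ) * (H.index : ℂ) := by
                rw [← hπy]; field_simp
              have h4 : (Finset.univ.filter (fun z : G => z⁻¹ * y * z ∈ H)).card =
                  Nat.card H * H.index := by exact_mod_cast h3
              rw [h4, Subgroup.card_mul_index, Nat.card_eq_fintype_card, Finset.card_univ]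
            have hall := Finset.card_filter_eq_iff.mp hcardeq 1 (Finset.mem_univ _)
            simpa using hall
        -- G^(d+1) ≤ ker lam
        have hDlam : ∀ z : G, z ∈ derivedSeries G (d + 1) →
            ∃ hz : z ∈ H, lam ⟨z, hz⟩ = 1 := by
          have hle : derivedSeries G (d + 1) ≤ (MonoidHom.ker lam).map H.subtype := by
            rw [derivedSeries_succ, Subgroup.commutator_le]
            intro a ha b hb
            rw [Subgroup.mem_map]
            refine ⟨⁅(⟨a, hDH ha⟩ : H), (⟨b, hDH hb⟩ : H)⁆, ?_, rfl⟩
            rw [MonoidHom.mem_ker, map_commutatorElement]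
            exact commutatorElement_eq_one_iff_commute.mpr (Commute.all _ _)
          intro z hz
          obtain ⟨w, hw, rfl⟩ := Subgroup.mem_map.mp (hle hz)
          exact ⟨w.2, MonoidHom.mem_ker.mp hw⟩
        have hDn : (derivedSeries G (d + 1)).Normal := derivedSeries_normal G (d + 1)
        have hval : ∀ z : G, z ∈ derivedSeries G (d + 1) →
            indFun H (fun h => ((lam h : ℂˣ) : ℂ)) z = (Nat.card H : ℂ)⁻¹ * (Fintype.card G : ℂ) := by
          intro z hz
          rw [indFun_apply]
          congr 1
          have hterm : ∀ w : G, extendByZero H (fun h => ((lam h : ℂˣ) : ℂ)) (w⁻¹ * z * w) = 1 := by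
            intro w
            have h1 : w⁻¹ * z * w ∈ derivedSeries G (d + 1) := by
              have := hDn.conj_mem z hz w⁻¹
              rwa [inv_inv] at this
            obtain ⟨h2, h3⟩ := hDlam _ h1
            rw [extendByZero_mem H _ h2, h3, Units.val_one]
          rw [Finset.sum_congr rfl (fun w _ => hterm w)]
          simp
        rw [hlam, hval x hx, hval 1 (Subgroup.one_mem _)]
  -- conclusion
  set d₀ := ∑ χ : IrrCharacter G, charDegree χ.1 with hd₀
  rw [Group.isSolvable_def]
  refine ⟨d₀, ?_⟩
  rw [Subgroup.eq_bot_iff_forall]
  intro x hx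
  apply eq_one_of_forall_irr_eq
  intro χ
  apply hP d₀ χ _ x hx
  rw [hd₀]
  exact Finset.single_le_sum (f := fun χ : IrrCharacter G => charDegree χ.1)
    (fun _ _ => Nat.zero_le _) (Finset.mem_univ χ)

end Cfsg.Agent.Lib.Helper8
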