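import Mathlib
import Cfsg.Agent.Lib.Helper8.CharVanish
import Cfsg.Agent.Lib.Helper8.CharComplete
import Cfsg.Agent.Lib.Helper8.CharOrth

set_option autoImplicit false

namespace Cfsg.Agent.Lib.Helper8
open Cfsg
open scoped ComplexConjugate

variable {G : Type*} [Group G] {V : Type*} [AddCommGroup V] [Module ℂ V]

theorem irr_sum_norm_sq_real [Fintype G] {χ : G → ℂ} (hχ : IsIrrCharacter G χ) :
    ∑ g : G, ‖χ g‖ ^ 2 = (Fintype.card G : ℝ) := by
  have h3 := irr_classInner hχ hχ
  rw [if_pos rfl] at h3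
  unfold classInner at h3
  have hGne : (Nat.card G : ℂ) ≠ 0 := Nat.cast_ne_zero.mpr Nat.card_pos.ne'
  have h4 : ∑ g : G, χ g * conj (χ g) = (Nat.card G : ℂ) := by
    field_simp at h3
    exact h3
  have h5 : ∑ g : G, χ g * conj (χ g) = ((∑ g : G, ‖χ g‖ ^ 2 : ℝ) : ℂ) := by
    push_cast
    apply Finset.sum_congr rfl
    intro g _
    rw [Complex.mul_conj, Complex.normSq_eq_norm_sq]
    push_cast
    rfl
  rw [h5, Nat.card_eq_fintype_card] at h4
  exact_mod_cast h4

theorem pow_ne_one_of_coprime [Fintype G] {x : G} (hx : x ≠ 1) {k : ℕ} (hk : k.Coprime (Fintype.card G)) :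
    x ^ k ≠ 1 := by
  intro h
  have h1 : orderOf x ∣ k := orderOf_dvd_of_pow_eq_one h
  have h2 : orderOf x ∣ Fintype.card G := orderOf_dvd_card
  have h3 : orderOf x ∣ Nat.gcd k (Fintype.card G) := Nat.dvd_gcd h1 h2
  rw [hk] at h3
  exact hx (orderOf_eq_one_iff.mp (Nat.dvd_one.mp h3))

theorem exists_character_eq_zero [Fintype G] [FiniteDimensional ℂ V] (ρ : Representation ℂ G V)
    (hρ : ρ.IsIrreducible) (hdeg : 1 < Module.finrank ℂ V) : ∃ g : G, ρ.character g = 0 := by
  classical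
  by_contra hno
  push Not at hno
  have hirr := isIrrCharacter_of_irreducible hρ
  have hsum := irr_sum_norm_sq_real hirr
  have hT := card_nonvanishing_le_sum ρ (Finset.univ.erase (1 : G)) (by
    intro x hx k hk
    rw [Finset.mem_erase] at hx ⊢
    exact ⟨pow_ne_one_of_coprime hx.1 hk, Finset.mem_univ _⟩)
  have hfilter : (Finset.univ.erase (1 : G)).filter (fun x => ρ.character x ≠ 0) = Finset.univ.erase (1 : G) := by
    apply Finset.filter_true_of_mem
    intro x _
    exact hno x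
  rw [hfilter, Finset.card_erase_of_mem (Finset.mem_univ _), Finset.card_univ] at hT
  rw [← Finset.add_sum_erase Finset.univ _ (Finset.mem_univ (1 : G))] at hsum
  have h1 : ‖ρ.character 1‖ ^ 2 = (Module.finrank ℂ V : ℝ) ^ 2 := by
    rw [Representation.char_one]
    simp
  rw [h1] at hsum
  have h2 : (2 : ℝ) ≤ (Module.finrank ℂ V : ℝ) := by exact_mod_cast hdeg
  have h3 : (4 : ℝ) ≤ (Module.finrank ℂ V : ℝ) ^ 2 := by nlinarith
  have h4 : ((Fintype.card G - 1 : ℕ) : ℝ) = (Fintype.card G : ℝ) - 1 := by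
    rw [Nat.cast_sub Fintype.card_pos]; simp
  rw [h4] at hT
  linarith

end Cfsg.Agent.Lib.Helper8
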