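import Mathlib
import Cfsg.Agent.Lib.Helper8.CharVanish2
import Cfsg.Agent.Lib.Helper8.CharComplete
import Cfsg.Agent.Lib.Helper8.CharOrth
import Cfsg.Agent.Lib.Helper8.CharDegree
import Cfsg.Agent.S0138

set_option autoImplicit false

namespace Cfsg.Agent.Lib.Helper8
open Cfsg
open scoped ComplexConjugate

variable {G : Type*} [Group G] {V : Type*} [AddCommGroup V] [Module ℂ V]

theorem pow_coprime_inv [Fintype G] {k : ℕ} (hk : k.Coprime (Fintype.card G)) :
    ∃ k' : ℕ, ∀ x : G, (x ^ k) ^ k' = x := by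
  have hN : NeZero (Fintype.card G) := ⟨Fintype.card_ne_zero⟩
  set u := ZMod.unitOfCoprime k hk with hu
  refine ⟨((u⁻¹ : (ZMod (Fintype.card G))ˣ) : ZMod (Fintype.card G)).val, ?_⟩
  intro x
  rw [← pow_mul]
  have h1 : ((k * ((u⁻¹ : (ZMod (Fintype.card G))ˣ) : ZMod (Fintype.card G)).val : ℕ) : ZMod (Fintype.card G)) = ((1 : ℕ) : ZMod (Fintype.card G)) := by
    push_cast
    rw [ZMod.natCast_zmod_val]
    have : (k : ZMod (Fintype.card G)) = (u : ZMod (Fintype.card G)) := by rw [hu, ZMod.coe_unitOfCoprime]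
    rw [this]
    simp
  have h2 := (ZMod.natCast_eq_natCast_iff _ _ _).mp h1
  have h3 : orderOf x ∣ Fintype.card G := orderOf_dvd_card
  have h4 := h2.of_dvd h3
  conv_rhs => rw [← pow_one x]
  exact pow_eq_pow_iff_modEq.mpr h4

theorem norm_character_pow_eq [Finite G] [FiniteDimensional ℂ V] (ρ : Representation ℂ G V) {y : G}
    (hy : ‖ρ.character y‖ = (Module.finrank ℂ V : ℝ)) (j : ℕ) :
    ‖ρ.character (y ^ j)‖ = (Module.finrank ℂ V : ℝ) := by
  obtain ⟨ω, hω⟩ := (Cfsg.Agent.S0138.result ρ y).mp hy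
  apply (Cfsg.Agent.S0138.result ρ (y ^ j)).mpr
  refine ⟨ω ^ j, ?_⟩
  rw [map_pow, hω]
  apply LinearMap.ext
  intro v
  induction j with
  | zero => simp
  | succ n ih =>
    rw [pow_succ, Module.End.mul_apply, pow_succ]
    simp only [LinearMap.smul_apply, LinearMap.id_coe, id_eq] at ih ⊢
    rw [map_smul, ih, smul_smul, mul_comm]

theorem zeros_bound [Fintype G] [DecidableEq G] (χ : G → ℂ) (hχ : Cfsg.IsIrrCharacter G χ) :
    (Cfsg.charDegree χ ^ 2 - 1) * (Finset.univ.filter (fun g : G => ‖χ g‖ = (Cfsg.charDegree χ : ℝ))).card ≤ (Finset.univ.filter (fun g : G => χ g = 0)).card ∧ ((∀ g : G, ‖χ g‖ = 0 ∨ ‖χ g‖ = 1 ∨ ‖χ g‖ = (Cfsg.charDegree χ : ℝ)) → (Cfsg.charDegree χ ^ 2 - 1) * (Finset.univ.filter (fun g : G => ‖χ g‖ = (Cfsg.charDegree χ : ℝ))).card = (Finset.univ.filter (fun g : G => χ g = 0)).card) := by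
  classical
  have hsum := irr_sum_norm_sq_real hχ
  have hdpos : 0 < charDegree χ := charDegree_pos ⟨χ, hχ⟩
  obtain ⟨n, ρ, hρ, rfl⟩ := hχ
  set χ := ρ.character with hχdef
  set d := charDegree χ with hd
  have hdn : d = n := by
    have h1 := irr_one_eq_charDegree ⟨χ, ⟨n, ρ, hρ, rfl⟩⟩
    have h2 : χ 1 = (n : ℂ) := by rw [hχdef, Representation.char_one]; simp
    simp only at h1
    rw [h2] at h1
    exact (Nat.cast_injective h1).symm
  have hfin : (Module.finrank ℂ (Fin n → ℂ) : ℝ) = (d : ℝ) := by rw [Module.finrank_fin_fun, hdn]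
  set Z := Finset.univ.filter (fun g : G => ‖χ g‖ = (d : ℝ)) with hZ
  set zeros := Finset.univ.filter (fun g : G => χ g = 0) with hzeros
  set T := Finset.univ.filter (fun g : G => ‖χ g‖ ≠ (d : ℝ)) with hT
  have hTclosed : ∀ x ∈ T, ∀ k : ℕ, k.Coprime (Fintype.card G) → x ^ k ∈ T := by
    intro x hx k hk
    rw [hT, Finset.mem_filter] at hx ⊢
    refine ⟨Finset.mem_univ _, ?_⟩
    intro h
    apply hx.2
    obtain ⟨k', hk'⟩ := pow_coprime_inv (G := G) hk
    have := norm_character_pow_eq ρ (y := x ^ k) (by rw [hfin]; exact h) k'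
    rw [hk' x, hfin] at this
    exact this
  have hbound := card_nonvanishing_le_sum ρ T hTclosed
  -- T.filter (χ ≠ 0) = T \ zeros, zeros ⊆ T
  have hzT : zeros ⊆ T := by
    intro x hx
    rw [hzeros, Finset.mem_filter] at hx
    rw [hT, Finset.mem_filter]
    refine ⟨Finset.mem_univ _, ?_⟩
    rw [hx.2, norm_zero]
    intro h
    have : (d : ℝ) ≠ 0 := Nat.cast_ne_zero.mpr hdpos.ne'
    exact this h.symm
  have hfilt : T.filter (fun x => χ x ≠ 0) = T \ zeros := by
    ext x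
    simp only [Finset.mem_filter, Finset.mem_sdiff, hzeros, Finset.mem_univ, true_and]
  have hcardT : T.card + Z.card = Fintype.card G := by
    rw [hT, hZ, add_comm, ← Finset.card_univ (α := G)]
    exact Finset.card_filter_add_card_filter_not _
  have hsplit : ∑ g : G, ‖χ g‖ ^ 2 = (d : ℝ) ^ 2 * Z.card + ∑ g ∈ T, ‖χ g‖ ^ 2 := by
    rw [← Finset.sum_filter_add_sum_filter_not Finset.univ (fun g : G => ‖χ g‖ = (d : ℝ))]
    congr 1
    rw [← hZ]
    rw [Finset.sum_congr rfl (fun g hg => by rw [(Finset.mem_filter.mp hg).2])]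
    rw [Finset.sum_const, nsmul_eq_mul, mul_comm]
  rw [hfilt, Finset.card_sdiff_of_subset hzT] at hbound
  have hzle : zeros.card ≤ T.card := Finset.card_le_card hzT
  rw [Nat.cast_sub hzle] at hbound
  have hcardT' : (T.card : ℝ) + (Z.card : ℝ) = (Fintype.card G : ℝ) := by exact_mod_cast hcardT
  have hd1 : 1 ≤ d ^ 2 := Nat.one_le_pow _ _ hdpos
  constructor
  · have : ((d ^ 2 - 1 : ℕ) : ℝ) * (Z.card : ℝ) ≤ (zeros.card : ℝ) := by
      rw [Nat.cast_sub hd1]
      push_cast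
      nlinarith
    exact_mod_cast this
  · intro hvals
    have hTsum : ∑ g ∈ T, ‖χ g‖ ^ 2 = (T.card : ℝ) - (zeros.card : ℝ) := by
      have h1 : ∀ g ∈ T, ‖χ g‖ ^ 2 = if χ g ≠ 0 then (1 : ℝ) else 0 := by
        intro g hg
        rw [hT, Finset.mem_filter] at hg
        rcases hvals g with h0 | h1 | h2
        · have : χ g = 0 := norm_eq_zero.mp h0
          rw [if_neg (by simpa using this), h0]; simp
        · have : χ g ≠ 0 := by
            intro h; rw [h, norm_zero] at h1; exact zero_ne_one h1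
          rw [if_pos this, h1]; simp
        · exact absurd h2 hg.2
      rw [Finset.sum_congr rfl h1, ← Finset.sum_filter, hfilt, Finset.sum_const, nsmul_eq_mul, mul_one,
        Finset.card_sdiff_of_subset hzT, Nat.cast_sub hzle]
    have : ((d ^ 2 - 1 : ℕ) : ℝ) * (Z.card : ℝ) = (zeros.card : ℝ) := by
      rw [Nat.cast_sub hd1]
      push_cast
      nlinarith
    exact_mod_cast this

theorem restriction_norm_bound [Finite G] (H : Subgroup G) (χ : Cfsg.IrrCharacter G) :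
    (Nat.card ↥H : ℝ)⁻¹ * ∑ᶠ h : ↥H, ‖(χ : G → ℂ) h‖ ^ 2 ≤ 1 + (Set.ncard ({x : G | (χ : G → ℂ) x = 0} \ (H : Set G)) : ℝ) / (Nat.card ↥H : ℝ) := by
  classical
  have : Fintype G := Fintype.ofFinite G
  have hsum := irr_sum_norm_sq_real χ.2
  obtain ⟨n, ρ, hρ, hρχ⟩ := χ.2
  set T := Finset.univ.filter (fun g : G => g ∉ H) with hT
  set HH := Finset.univ.filter (fun g : G => g ∈ H) with hHH
  have hTclosed : ∀ x ∈ T, ∀ k : ℕ, k.Coprime (Fintype.card G) → x ^ k ∈ T := by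
    intro x hx k hk
    rw [hT, Finset.mem_filter] at hx ⊢
    refine ⟨Finset.mem_univ _, ?_⟩
    intro h
    apply hx.2
    obtain ⟨k', hk'⟩ := pow_coprime_inv (G := G) hk
    rw [← hk' x]
    exact H.pow_mem h k'
  have hbound := card_nonvanishing_le_sum ρ T hTclosed
  rw [hρχ] at hbound
  set zT := T.filter (fun x => χ.1 x = 0) with hzT
  have hfilt : (T.filter (fun x => χ.1 x ≠ 0)).card + zT.card = T.card := by
    rw [add_comm]
    exact Finset.card_filter_add_card_filter_not _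
  have hcard : T.card + HH.card = Fintype.card G := by
    rw [hT, hHH, add_comm, ← Finset.card_univ (α := G)]
    exact Finset.card_filter_add_card_filter_not _
  have hsplit : ∑ g : G, ‖χ.1 g‖ ^ 2 = ∑ g ∈ HH, ‖χ.1 g‖ ^ 2 + ∑ g ∈ T, ‖χ.1 g‖ ^ 2 := by
    rw [← Finset.sum_filter_add_sum_filter_not Finset.univ (fun g : G => g ∈ H)]
  have hHcard : Nat.card H = HH.card := by
    rw [Nat.card_eq_fintype_card, hHH, ← Fintype.card_subtype]
  have hfinsum : ∑ᶠ h : ↥H, ‖(χ : G → ℂ) h‖ ^ 2 = ∑ g ∈ HH, ‖χ.1 g‖ ^ 2 := by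
    rw [finsum_eq_sum_of_fintype]
    symm
    apply Finset.sum_subtype
    intro x
    simp [hHH]
  have hncard : Set.ncard ({x : G | (χ : G → ℂ) x = 0} \ (H : Set G)) = zT.card := by
    have : ({x : G | (χ : G → ℂ) x = 0} \ (H : Set G)) = (zT : Set G) := by
      ext x
      simp [hzT, hT, and_comm]
    rw [this, Set.ncard_coe_finset]
  rw [hfinsum, hncard, hHcard]
  have hHpos : (0 : ℝ) < (HH.card : ℝ) := by
    rw [← hHcard]
    exact_mod_cast Nat.card_pos
  have h1 : ((T.filter (fun x => χ.1 x ≠ 0)).card : ℝ) + (zT.card : ℝ) = (T.card : ℝ) := by exact_mod_cast hfilt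
  have h2 : (T.card : ℝ) + (HH.card : ℝ) = (Fintype.card G : ℝ) := by exact_mod_cast hcard
  have h3 : ∑ g ∈ HH, ‖χ.1 g‖ ^ 2 ≤ (HH.card : ℝ) + (zT.card : ℝ) := by linarith
  rw [inv_mul_le_iff₀ hHpos]
  have : (HH.card : ℝ) * (1 + (zT.card : ℝ) / (HH.card : ℝ)) = (HH.card : ℝ) + (zT.card : ℝ) := by
    field_simp
  rw [this]
  exact h3

end Cfsg.Agent.Lib.Helper8
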