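import Mathlib
import Cfsg.Prelude.Def_Characters
import Cfsg.Agent.Lib.Helper8.GlaubRefine
import Cfsg.Agent.Lib.Helper8.CharClifford2
import Cfsg.Agent.Lib.Helper4.CoprimeAct

set_option autoImplicit false

namespace Cfsg.Agent.Lib.Helper8
open Cfsg
open scoped ComplexConjugate

section CoprimeConst
variable {Γ : Type*} [Group Γ]

/-- Conjugation `n ↦ x⁻¹ n x` of a subgroup by an element of its normalizer. -/
def nconjEquiv (N : Subgroup Γ) (x : ↥(Subgroup.normalizer (N : Set Γ))) : ↥N ≃* ↥N where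
  toFun n := ⟨(x : Γ)⁻¹ * n * x, by
    have hx := (Subgroup.mem_normalizer_iff.mp (inv_mem x.2) (n : Γ)).mp n.2
    simpa using hx⟩
  invFun n := ⟨(x : Γ) * n * (x : Γ)⁻¹, (Subgroup.mem_normalizer_iff.mp x.2 (n : Γ)).mp n.2⟩
  left_inv n := by apply Subtype.ext; simp [mul_assoc]
  right_inv n := by apply Subtype.ext; simp [mul_assoc]
  map_mul' a b := by apply Subtype.ext; simp [mul_assoc]

theorem nconjEquiv_coe (N : Subgroup Γ) (x : ↥(Subgroup.normalizer (N : Set Γ))) (n : ↥N) :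
    ((nconjEquiv N x n : ↥N) : Γ) = (x : Γ)⁻¹ * n * x := rfl

/-- The action of the normalizer of `N` on the irreducible characters of `N`. -/
def irrAction (N : Subgroup Γ) :
    MulAction ↥(Subgroup.normalizer (N : Set Γ)) (IrrCharacter ↥N) where
  smul x θ := ⟨θ.1 ∘ nconjEquiv N x, isIrrCharacter_comp_equiv _ θ.2⟩
  one_smul θ := by
    apply Subtype.ext; funext n
    show θ.1 (nconjEquiv N 1 n) = θ.1 n
    exact congrArg θ.1 (Subtype.ext (by simp [nconjEquiv_coe]))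
  mul_smul x y θ := by
    apply Subtype.ext; funext n
    show θ.1 (nconjEquiv N (x * y) n) = θ.1 (nconjEquiv N y (nconjEquiv N x n))
    exact congrArg θ.1 (Subtype.ext (by simp [nconjEquiv_coe, mul_assoc]))

theorem irrAction_apply (N : Subgroup Γ) (x : ↥(Subgroup.normalizer (N : Set Γ)))
    (θ : IrrCharacter ↥N) (n : ↥N) :
    ((irrAction N).smul x θ).1 n = θ.1 (nconjEquiv N x n) := rfl

theorem le_normalizer_of_conj (H T : Subgroup Γ) (h : ∀ t ∈ T, ∀ n ∈ H, t * n * t⁻¹ ∈ H) :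
    T ≤ Subgroup.normalizer (H : Set Γ) := by
  intro t ht
  rw [Subgroup.mem_normalizer_iff]
  intro n
  constructor
  · intro hn; exact h t ht n hn
  · intro hn
    have := h t⁻¹ (inv_mem ht) _ hn
    have e : t⁻¹ * (t * n * t⁻¹) * t⁻¹⁻¹ = n := by group
    rw [e] at this
    exact this

/-- Coprime actions: an invariant irreducible character has an invariant irreducible constituent
on an invariant normal subgroup of coprime index. -/
theorem coprime_invariant_constituent_below [Fintype Γ] (G S N : Subgroup Γ) [Fintype G]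
    [Fintype N] (hnorm : ∀ s ∈ S, ∀ g ∈ G, s * g * s⁻¹ ∈ G) (hNG : N ≤ G)
    [hNn : (N.subgroupOf G).Normal] (hNS : ∀ s ∈ S, ∀ n ∈ N, s * n * s⁻¹ ∈ N)
    (hcop : (N.relIndex G).Coprime (Nat.card S))
    (hsolv : Group.IsSolvable S ∨ Group.IsSolvable (G ⧸ N.subgroupOf G)) (χ : IrrCharacter G)
    (hinv : ∀ s ∈ S, ∀ g g' : G, (g' : Γ) = s * g * s⁻¹ → χ.1 g' = χ.1 g) :
    ∃ θ : IrrCharacter N, classInner (fun n : N => χ.1 ⟨n, hNG n.2⟩) θ.1 ≠ 0 ∧
      ∀ s ∈ S, ∀ g g' : N, (g' : Γ) = s * g * s⁻¹ → θ.1 g' = θ.1 g := by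
  classical
  haveI : Finite (IrrCharacter ↥N) := irr_finite
  haveI : Fintype (IrrCharacter ↥N) := Fintype.ofFinite _
  haveI : Fintype ↥(N.subgroupOf G) := Fintype.ofFinite _
  haveI : Finite (IrrCharacter ↥(N.subgroupOf G)) := irr_finite
  haveI : Fintype (IrrCharacter ↥(N.subgroupOf G)) := Fintype.ofFinite _
  letI act : MulAction ↥(Subgroup.normalizer (N : Set Γ)) (IrrCharacter ↥N) := irrAction N
  have hsmul : ∀ (x : ↥(Subgroup.normalizer (N : Set Γ))) (θ : IrrCharacter ↥N) (n : ↥N),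
      (x • θ).1 n = θ.1 (nconjEquiv N x n) := fun x θ n => rfl
  -- conjugation by `G` and `S`
  have hGN : ∀ g ∈ G, ∀ n ∈ N, g * n * g⁻¹ ∈ N := by
    intro g hg n hn
    have := hNn.conj_mem ⟨n, hNG hn⟩ (Subgroup.mem_subgroupOf.2 hn) ⟨g, hg⟩
    rw [Subgroup.mem_subgroupOf] at this
    simpa using this
  have hG𝒩 : G ≤ Subgroup.normalizer (N : Set Γ) := le_normalizer_of_conj N G hGN
  have hS𝒩 : S ≤ Subgroup.normalizer (N : Set Γ) := le_normalizer_of_conj N S hNS
  obtain ⟨φ, hφ⟩ : ∃ φ : ↥(Subgroup.normalizer (N : Set Γ)) →* Equiv.Perm (IrrCharacter ↥N),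
      φ = MulAction.toPermHom _ _ := ⟨_, rfl⟩
  have hφap : ∀ x θ, φ x θ = x • θ := by
    intro x θ; rw [hφ, MulAction.toPermHom_apply, MulAction.toPerm_apply]
  obtain ⟨ψG, hψG⟩ : ∃ ψG : ↥G →* Equiv.Perm (IrrCharacter ↥N),
      ψG = φ.comp (Subgroup.inclusion hG𝒩) := ⟨_, rfl⟩
  obtain ⟨ψS, hψS⟩ : ∃ ψS : ↥S →* Equiv.Perm (IrrCharacter ↥N),
      ψS = φ.comp (Subgroup.inclusion hS𝒩) := ⟨_, rfl⟩
  have hψGap : ∀ (g : ↥G) (θ : IrrCharacter ↥N) (n : ↥N),
      (ψG g θ).1 n = θ.1 ⟨(g : Γ)⁻¹ * n * g, by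
        have := hGN (g : Γ)⁻¹ (inv_mem g.2) n n.2
        simpa using this⟩ := by
    intro g θ n
    rw [hψG, MonoidHom.comp_apply, hφap, hsmul]
    congr 1
  have hψSap : ∀ (s : ↥S) (θ : IrrCharacter ↥N) (n : ↥N),
      (ψS s θ).1 n = θ.1 ⟨(s : Γ)⁻¹ * n * s, by
        have := hNS (s : Γ)⁻¹ (inv_mem s.2) n n.2
        simpa using this⟩ := by
    intro s θ n
    rw [hψS, MonoidHom.comp_apply, hφap, hsmul]
    congr 1
  -- the restriction of χ
  obtain ⟨χN, hχN⟩ : ∃ χN : ↥N → ℂ, χN = fun n : N => χ.1 ⟨n, hNG n.2⟩ := ⟨_, rfl⟩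
  rw [← hχN]
  have hχcf : IsClassFunction ↥G χ.1 := isClassFunction_of_isCharacter (irr_isCharacter χ.2)
  have hχN_G : ∀ (g : ↥G) (n : ↥N) (h : (g : Γ)⁻¹ * n * g ∈ N),
      χN ⟨(g : Γ)⁻¹ * n * g, h⟩ = χN n := by
    intro g n h
    simp only [hχN]
    have := hχcf ⟨n, hNG n.2⟩ g⁻¹
    rw [← this]
    exact congrArg χ.1 (Subtype.ext (by simp))
  have hχN_S : ∀ (s : ↥S) (n : ↥N) (h : (s : Γ)⁻¹ * n * s ∈ N),
      χN ⟨(s : Γ)⁻¹ * n * s, h⟩ = χN n := by
    intro s n h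
    simp only [hχN]
    symm
    apply hinv s s.2
    simp only
    group
  -- inner products are preserved
  have hinnerG : ∀ (g : ↥G) (θ : IrrCharacter ↥N),
      classInner χN (ψG g θ).1 = classInner χN θ.1 := by
    intro g θ
    have h1 := classInner_comp_equiv (nconjEquiv N (Subgroup.inclusion hG𝒩 g)) χN θ.1
    rw [← h1]
    congr 1
    · funext n
      rw [Function.comp_apply]
      exact (hχN_G g n _).symm
    · funext n
      rw [hψGap]; rfl
  have hinnerS : ∀ (s : ↥S) (θ : IrrCharacter ↥N),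
      classInner χN (ψS s θ).1 = classInner χN θ.1 := by
    intro s θ
    have h1 := classInner_comp_equiv (nconjEquiv N (Subgroup.inclusion hS𝒩 s)) χN θ.1
    rw [← h1]
    congr 1
    · funext n
      rw [Function.comp_apply]
      exact (hχN_S s n _).symm
    · funext n
      rw [hψSap]; rfl
  -- transport to `N.subgroupOf G`
  obtain ⟨e₀, he₀⟩ : ∃ e₀ : ↥(N.subgroupOf G) ≃* ↥N, e₀ = Subgroup.subgroupOfEquivOfLe hNG :=
    ⟨_, rfl⟩
  have he₀coe : ∀ n' : ↥(N.subgroupOf G), ((e₀ n' : ↥N) : Γ) = ((n' : ↥G) : Γ) := by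
    intro n'; rw [he₀]; rfl
  have hχN' : (fun n' : ↥(N.subgroupOf G) => χ.1 (n' : ↥G)) = χN ∘ e₀ := by
    funext n'
    simp only [Function.comp_apply, hχN]
    exact congrArg χ.1 (Subtype.ext (he₀coe n').symm)
  have hinner' : ∀ θ : ↥N → ℂ,
      classInner (fun n' : ↥(N.subgroupOf G) => χ.1 (n' : ↥G)) (θ ∘ e₀) = classInner χN θ := by
    intro θ
    rw [hχN']
    exact classInner_comp_equiv e₀ χN θ
  -- a constituent
  obtain ⟨θ₀, hθ₀⟩ : ∃ θ₀ : IrrCharacter ↥N, classInner χN θ₀.1 ≠ 0 := by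
    by_contra hcon
    push_neg at hcon
    have hcf : IsClassFunction ↥N χN := by
      intro n h
      simp only [hχN]
      have := hχcf ⟨n, hNG n.2⟩ ⟨h, hNG h.2⟩
      rw [← this]
      exact congrArg χ.1 (Subtype.ext (by simp))
    have h1 := classFunction_eq_sum hcf
    have h2 : χN = 0 := by
      rw [h1]
      apply Finset.sum_eq_zero
      intro θ _
      rw [hcon θ, zero_smul]
    have h3 : χN 1 = 0 := by rw [h2]; rfl
    simp only [hχN] at h3
    exact irr_one_ne_zero χ h3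
  -- ranges
  have hAK : ψS.range ≤ Subgroup.normalizer (ψG.range : Set (Equiv.Perm (IrrCharacter ↥N))) := by
    apply le_normalizer_of_conj
    rintro _ ⟨s, rfl⟩ _ ⟨g, rfl⟩
    refine ⟨⟨(s : Γ) * g * (s : Γ)⁻¹, hnorm s s.2 g g.2⟩, ?_⟩
    rw [hψG, hψS]
    simp only [MonoidHom.comp_apply]
    rw [← map_inv, ← map_mul, ← map_mul]
    congr 1
  have hkerG : N.subgroupOf G ≤ ψG.ker := by
    intro n' hn'
    rw [MonoidHom.mem_ker]
    apply Equiv.ext
    intro θ
    apply Subtype.ext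
    funext n
    rw [hψGap]
    have hcf : IsClassFunction ↥N θ.1 := isClassFunction_of_isCharacter (irr_isCharacter θ.2)
    have hn'N : ((n' : ↥G) : Γ) ∈ N := Subgroup.mem_subgroupOf.1 hn'
    have := hcf n (⟨(n' : Γ), hn'N⟩ : ↥N)⁻¹
    rw [Equiv.Perm.coe_one, id]
    rw [← this]
    exact congrArg θ.1 (Subtype.ext (by simp))
  have hcopAK : (Nat.card ψS.range).Coprime (Nat.card ψG.range) := by
    have h1 : Nat.card ψS.range ∣ Nat.card S := Subgroup.card_range_dvd ψS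
    have h2 : Nat.card ψG.range ∣ N.relIndex G := by
      rw [← Subgroup.index_ker]
      exact Subgroup.index_dvd_of_le hkerG
    exact (Nat.Coprime.coprime_dvd_left h2 (Nat.Coprime.coprime_dvd_right h1 hcop)).symm
  have hsolvAK : Group.IsSolvable ψS.range ∨ Group.IsSolvable ψG.range := by
    rcases hsolv with h | h
    · left
      exact Group.isSolvable_of_surjective ψS.rangeRestrict_surjective
    · right
      have hker2 : N.subgroupOf G ≤ ψG.rangeRestrict.ker := by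
        intro n' hn'
        rw [MonoidHom.mem_ker]
        apply Subtype.ext
        have := hkerG hn'
        rw [MonoidHom.mem_ker] at this
        simpa using this
      have hsurj : Function.Surjective (QuotientGroup.lift (N.subgroupOf G) ψG.rangeRestrict hker2) := by
        intro y
        obtain ⟨g, hg⟩ := ψG.rangeRestrict_surjective y
        exact ⟨(g : ↥G ⧸ N.subgroupOf G), by rw [QuotientGroup.lift_mk]; exact hg⟩
      exact Group.isSolvable_of_surjective hsurj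
  -- the Glauberman hypothesis
  have hglaub : ∀ a ∈ ψS.range, ∃ k ∈ ψG.range, a • θ₀ = k • θ₀ := by
    rintro _ ⟨s, rfl⟩
    by_contra hcon
    push_neg at hcon
    have hψ : classInner χN (ψS s θ₀).1 ≠ 0 := by rw [hinnerS]; exact hθ₀
    have h1 : classInner (fun n' : ↥(N.subgroupOf G) => χ.1 (n' : ↥G)) (θ₀.1 ∘ e₀) ≠ 0 := by
      rw [hinner']; exact hθ₀
    have h2 := clifford_inner_nonconj hNn χ.2 (isIrrCharacter_comp_equiv e₀ θ₀.2) h1
      ⟨(ψS s θ₀).1 ∘ e₀, isIrrCharacter_comp_equiv e₀ (ψS s θ₀).2⟩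
    have h3 : ∃ g : ↥G, (ψS s θ₀).1 ∘ e₀ = conjChar hNn (θ₀.1 ∘ e₀) g := by
      by_contra hno
      have := h2 hno
      simp only at this
      rw [hinner'] at this
      exact hψ this
    obtain ⟨g, hg⟩ := h3
    apply hcon (ψG g⁻¹) ⟨g⁻¹, rfl⟩
    rw [Equiv.Perm.smul_def, Equiv.Perm.smul_def]
    apply Subtype.ext
    funext n
    have := congrFun hg (e₀.symm n)
    rw [Function.comp_apply, MulEquiv.apply_symm_apply, conjChar_apply, Function.comp_apply] at this
    rw [this, hψGap]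
    refine congrArg θ₀.1 (Subtype.ext ?_)
    rw [he₀coe]
    simp only [Subgroup.coe_mul, Subgroup.coe_inv, inv_inv]
    rw [← he₀coe (e₀.symm n), MulEquiv.apply_symm_apply]
  obtain ⟨k, ⟨g, rfl⟩, hk⟩ := Cfsg.Agent.Lib.Helper4.glauberman_fix ψS.range ψG.range hAK hcopAK
    hsolvAK θ₀ hglaub
  refine ⟨ψG g θ₀, ?_, ?_⟩
  · rw [hinnerG]; exact hθ₀
  · intro s hs n n' hnn'
    have := hk (ψS ⟨s, hs⟩) ⟨⟨s, hs⟩, rfl⟩
    rw [Equiv.Perm.smul_def, Equiv.Perm.smul_def] at this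
    have h2 : (ψS ⟨s, hs⟩ (ψG g θ₀)).1 n' = (ψG g θ₀).1 n' := by rw [this]
    rw [hψSap] at h2
    rw [← h2]
    refine congrArg (ψG g θ₀).1 (Subtype.ext ?_)
    show s⁻¹ * (n' : Γ) * s = (n : Γ)
    rw [hnn']
    group

end CoprimeConst
end Cfsg.Agent.Lib.Helper8
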