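import Mathlib
import Cfsg.Prelude.Def_Characters
import Cfsg.Agent.Lib.Helper8.CoprimeConst
import Cfsg.Agent.Lib.Helper8.CharAbelQuot
import Cfsg.Agent.Lib.Helper8.CharBessel
import Cfsg.Agent.Lib.Helper8.CharGallagher
import Cfsg.Agent.Lib.Helper8.CharPerm
import Cfsg.Agent.Lib.Helper8.CharDecomp
import Cfsg.Agent.Lib.Helper8.CharItoSolv
import Cfsg.Agent.Lib.Helper2.Index

set_option autoImplicit false

namespace Cfsg.Agent.Lib.Helper8
open Cfsg
open scoped ComplexConjugate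
open scoped commutatorElement

section CoprimeAbove

/-- two characters with a common irreducible constituent are not orthogonal -/
theorem classInner_ne_zero_of_common {H : Type*} [Group H] [Fintype H] {α β : H → ℂ}
    (hα : IsCharacter H α) (hβ : IsCharacter H β) (θ : IrrCharacter H)
    (h1 : classInner α θ.1 ≠ 0) (h2 : classInner β θ.1 ≠ 0) : classInner α β ≠ 0 := by
  classical
  haveI : Finite (IrrCharacter H) := irr_finite
  haveI : Fintype (IrrCharacter H) := Fintype.ofFinite _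
  obtain ⟨m, hm⟩ := isCharacter_decomp hβ
  have hβeq : β = fun g => ∑ ψ : IrrCharacter H, (m ψ : ℂ) * ψ.1 g := funext hm
  have hk : ∀ ψ : IrrCharacter H, ∃ k : ℕ, classInner α ψ.1 = k :=
    fun ψ => classInner_character_nat hα (irr_isCharacter ψ.2)
  choose k hk using hk
  have hmθ : m θ ≠ 0 := by
    intro h0
    apply h2
    rw [hβeq, classInner_comb_irr (fun ψ => (m ψ : ℂ)) θ, h0]; simp
  have hkθ : k θ ≠ 0 := by
    intro h0
    apply h1
    rw [hk θ, h0]; simp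
  have hsum : classInner α β = ((∑ ψ : IrrCharacter H, m ψ * k ψ : ℕ) : ℂ) := by
    rw [hβeq, classInner_sum_right]
    push_cast
    apply Finset.sum_congr rfl
    intro ψ _
    rw [hk ψ]; simp
  rw [hsum]
  have hpos : 0 < ∑ ψ : IrrCharacter H, m ψ * k ψ := by
    apply lt_of_lt_of_le _ (Finset.single_le_sum (fun ψ _ => Nat.zero_le _) (Finset.mem_univ θ))
    exact Nat.mul_pos (Nat.pos_of_ne_zero hmθ) (Nat.pos_of_ne_zero hkθ)
  exact_mod_cast hpos.ne'

/-- the permutation of the irreducible characters given by multiplication with a linear character -/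
noncomputable def linPerm {H : Type*} [Group H] [Fintype H] (lam : IrrCharacter H)
    (h1 : lam.1 1 = 1) : Equiv.Perm (IrrCharacter H) where
  toFun χ := ⟨lam.1 * χ.1, by
    apply isIrrCharacter_of_norm_one (isCharacter_mul (irr_isCharacter lam.2) (irr_isCharacter χ.2))
    rw [classInner_mul_linear lam h1, irr_classInner χ.2 χ.2, if_pos rfl]⟩
  invFun χ := ⟨(fun g => conj (lam.1 g)) * χ.1, by
    have hc : IsIrrCharacter H (fun g => conj (lam.1 g)) := irr_conj lam.2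
    have hc1 : (fun g => conj (lam.1 g)) 1 = 1 := by simp [h1]
    apply isIrrCharacter_of_norm_one (isCharacter_mul (irr_isCharacter hc) (irr_isCharacter χ.2))
    rw [classInner_mul_linear ⟨_, hc⟩ hc1, irr_classInner χ.2 χ.2, if_pos rfl]⟩
  left_inv χ := by
    apply Subtype.ext
    funext g
    have := linear_char_norm lam h1 g
    simp only [Pi.mul_apply]
    rw [← mul_assoc, mul_comm (conj (lam.1 g)), this, one_mul]
  right_inv χ := by
    apply Subtype.ext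
    funext g
    have := linear_char_norm lam h1 g
    simp only [Pi.mul_apply]
    rw [← mul_assoc, this, one_mul]

theorem linPerm_apply {H : Type*} [Group H] [Fintype H] (lam : IrrCharacter H)
    (h1 : lam.1 1 = 1) (χ : IrrCharacter H) : (linPerm lam h1 χ).1 = lam.1 * χ.1 := rfl

theorem linPerm_inv_apply {H : Type*} [Group H] [Fintype H] (lam : IrrCharacter H)
    (h1 : lam.1 1 = 1) (χ : IrrCharacter H) :
    ((linPerm lam h1)⁻¹ χ).1 = (fun g => conj (lam.1 g)) * χ.1 := rfl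

/-- For an abelian quotient, two irreducible characters lying over a common character of the
normal subgroup differ by a linear character trivial on the subgroup. -/
theorem exists_linear_of_common_below {G : Type*} [Group G] [Fintype G] (M : Subgroup G)
    [Fintype M] (hM : M.Normal) (hab : ∀ x y : G, x * y * x⁻¹ * y⁻¹ ∈ M)
    (χ χ' : IrrCharacter G) (η : IrrCharacter M)
    (h1 : classInner (fun m : M => χ.1 m) η.1 ≠ 0)
    (h2 : classInner (fun m : M => χ'.1 m) η.1 ≠ 0) :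
    ∃ lam : IrrCharacter G, lam.1 1 = 1 ∧ (∀ m ∈ M, lam.1 m = 1) ∧ χ'.1 = lam.1 * χ.1 := by
  classical
  haveI : Finite (IrrCharacter G) := irr_finite
  haveI : Fintype (IrrCharacter G) := Fintype.ofFinite _
  have hχcf : IsClassFunction G χ.1 := isClassFunction_of_isCharacter (irr_isCharacter χ.2)
  have hχ'cf : IsClassFunction G χ'.1 := isClassFunction_of_isCharacter (irr_isCharacter χ'.2)
  have hres : classInner (fun m : M => χ.1 m) (fun m : M => χ'.1 m) ≠ 0 :=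
    classInner_ne_zero_of_common (isCharacter_restrict M (irr_isCharacter χ.2))
      (isCharacter_restrict M (irr_isCharacter χ'.2)) η h1 h2
  rw [← frobenius_reciprocity M _ χ'.1 hχ'cf] at hres
  have hind : indFun M (fun m : M => χ.1 m) = indFun M (fun _ : M => (1 : ℂ)) * χ.1 := by
    have := indFun_mul_restrict M (fun _ : M => (1 : ℂ)) hχcf
    rw [← this]
    congr 1
    funext m
    rw [one_mul]
  have hΨ : IsCharacter G (indFun M (fun _ : M => (1 : ℂ))) :=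
    isCharacter_indFun M (irr_isCharacter principal_isIrrCharacter)
  obtain ⟨m, hm⟩ := isCharacter_decomp hΨ
  have hΨeq : indFun M (fun _ : M => (1 : ℂ)) =
      fun g => ∑ ψ : IrrCharacter G, (m ψ : ℂ) * ψ.1 g := funext hm
  have hprod : indFun M (fun _ : M => (1 : ℂ)) * χ.1 =
      fun g => ∑ ψ : IrrCharacter G, (m ψ : ℂ) * (ψ.1 * χ.1) g := by
    funext g
    rw [Pi.mul_apply, hm g, Finset.sum_mul]
    apply Finset.sum_congr rfl
    intro ψ _
    rw [Pi.mul_apply]; ring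
  rw [hind, hprod, classInner_sum_left] at hres
  obtain ⟨lam, -, hlam⟩ := Finset.exists_ne_zero_of_sum_ne_zero hres
  have hmlam : m lam ≠ 0 := by
    intro h0; apply hlam; rw [h0]; simp
  have hinner : classInner (lam.1 * χ.1) χ'.1 ≠ 0 := by
    intro h0; apply hlam; rw [h0, mul_zero]
  have hover : classInner (indFun M (fun _ : M => (1 : ℂ))) lam.1 ≠ 0 := by
    rw [hΨeq, classInner_comb_irr (fun ψ => (m ψ : ℂ)) lam]
    exact_mod_cast hmlam
  have hlin : lam.1 1 = 1 := linear_of_over_principal hM hab lam hover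
  refine ⟨lam, hlin, ?_, ?_⟩
  · intro x hx
    rw [frobenius_reciprocity M _ lam.1
      (isClassFunction_of_isCharacter (irr_isCharacter lam.2))] at hover
    have hirr : IsIrrCharacter M (fun h : M => lam.1 h) :=
      irr_of_degree_one (isCharacter_restrict M (irr_isCharacter lam.2)) (by simpa using hlin)
    rw [irr_classInner principal_isIrrCharacter hirr] at hover
    by_cases heq : (fun _ : M => (1 : ℂ)) = fun h : M => lam.1 h
    · have := congrFun heq ⟨x, hx⟩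
      exact this.symm
    · rw [if_neg heq] at hover
      exact absurd rfl hover
  · have hirr := (linPerm lam hlin χ).2
    rw [linPerm_apply] at hirr
    rw [irr_classInner hirr χ'.2] at hinner
    by_cases heq : lam.1 * χ.1 = χ'.1
    · exact heq.symm
    · rw [if_neg heq] at hinner
      exact absurd rfl hinner

theorem linPerm_pow_apply {H : Type*} [Group H] [Fintype H] (lam : IrrCharacter H)
    (h1 : lam.1 1 = 1) (n : ℕ) (χ : IrrCharacter H) (g : H) :
    (((linPerm lam h1) ^ n) χ).1 g = lam.1 g ^ n * χ.1 g := by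
  induction n generalizing χ with
  | zero => simp
  | succ k ih =>
    rw [pow_succ, Equiv.Perm.mul_apply, ih, linPerm_apply, Pi.mul_apply]
    ring

/-- The abelian step of the going-up theorem for coprime actions. -/
theorem coprime_above_abelian {Γ : Type*} [Group Γ] [Fintype Γ] (G S M : Subgroup Γ) [Fintype G]
    [Fintype M] (hnorm : ∀ s ∈ S, ∀ g ∈ G, s * g * s⁻¹ ∈ G) (hMG : M ≤ G)
    (hMn : ∀ g ∈ G, ∀ m ∈ M, g * m * g⁻¹ ∈ M) (hMS : ∀ s ∈ S, ∀ m ∈ M, s * m * s⁻¹ ∈ M)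
    (hab : ∀ a ∈ G, ∀ b ∈ G, a * b * a⁻¹ * b⁻¹ ∈ M)
    (hcop : (M.relIndex G).Coprime (Nat.card S)) (η : IrrCharacter M)
    (hinv : ∀ s ∈ S, ∀ g g' : M, (g' : Γ) = s * g * s⁻¹ → η.1 g' = η.1 g) :
    ∃ χ : IrrCharacter G, classInner (fun m : M => χ.1 ⟨m, hMG m.2⟩) η.1 ≠ 0 ∧
      ∀ s ∈ S, ∀ g g' : G, (g' : Γ) = s * g * s⁻¹ → χ.1 g' = χ.1 g := by
  classical
  haveI : Finite (IrrCharacter ↥G) := irr_finite
  haveI : Fintype (IrrCharacter ↥G) := Fintype.ofFinite _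
  haveI : Fintype ↥(M.subgroupOf G) := Fintype.ofFinite _
  have hM'n : (M.subgroupOf G).Normal := by
    constructor
    intro n hn g
    rw [Subgroup.mem_subgroupOf] at hn ⊢
    simpa using hMn g g.2 n hn
  have hab' : ∀ x y : ↥G, x * y * x⁻¹ * y⁻¹ ∈ M.subgroupOf G := by
    intro x y
    rw [Subgroup.mem_subgroupOf]
    simpa using hab x x.2 y y.2
  letI act : MulAction ↥(Subgroup.normalizer (G : Set Γ)) (IrrCharacter ↥G) := irrAction G
  have hsmul : ∀ (x : ↥(Subgroup.normalizer (G : Set Γ))) (θ : IrrCharacter ↥G) (n : ↥G),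
      (x • θ).1 n = θ.1 (nconjEquiv G x n) := fun x θ n => rfl
  have hS𝒩 : S ≤ Subgroup.normalizer (G : Set Γ) := le_normalizer_of_conj G S hnorm
  have hS𝒩M : S ≤ Subgroup.normalizer (M : Set Γ) := le_normalizer_of_conj M S hMS
  obtain ⟨ψS, hψS⟩ : ∃ ψS : ↥S →* Equiv.Perm (IrrCharacter ↥G),
      ψS = (MulAction.toPermHom _ _).comp (Subgroup.inclusion hS𝒩) := ⟨_, rfl⟩
  have hψSap : ∀ (s : ↥S) (θ : IrrCharacter ↥G) (n : ↥G),
      (ψS s θ).1 n = θ.1 ⟨(s : Γ)⁻¹ * n * s, by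
        have := hnorm (s : Γ)⁻¹ (inv_mem s.2) n n.2
        simpa using this⟩ := by
    intro s θ n
    rw [hψS, MonoidHom.comp_apply, MulAction.toPermHom_apply, MulAction.toPerm_apply, hsmul]
    congr 1
  -- restriction to M
  obtain ⟨e₀, he₀⟩ : ∃ e₀ : ↥(M.subgroupOf G) ≃* ↥M, e₀ = Subgroup.subgroupOfEquivOfLe hMG :=
    ⟨_, rfl⟩
  have he₀coe : ∀ n' : ↥(M.subgroupOf G), ((e₀ n' : ↥M) : Γ) = ((n' : ↥G) : Γ) := by
    intro n'; rw [he₀]; rfl
  have hinner' : ∀ (χ : ↥G → ℂ) (θ : ↥M → ℂ),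
      classInner (fun n' : ↥(M.subgroupOf G) => χ (n' : ↥G)) (θ ∘ e₀) =
        classInner (fun m : M => χ ⟨m, hMG m.2⟩) θ := by
    intro χ θ
    have h1 : (fun n' : ↥(M.subgroupOf G) => χ (n' : ↥G)) =
        (fun m : M => χ ⟨m, hMG m.2⟩) ∘ e₀ := by
      funext n'
      simp only [Function.comp_apply]
      exact congrArg χ (Subtype.ext (he₀coe n').symm)
    rw [h1]
    exact classInner_comp_equiv e₀ _ θ
  obtain ⟨η', hη'⟩ : ∃ η' : IrrCharacter ↥(M.subgroupOf G), η'.1 = η.1 ∘ e₀ :=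
    ⟨⟨η.1 ∘ e₀, isIrrCharacter_comp_equiv e₀ η.2⟩, rfl⟩
  -- the group of multiplications by linear characters trivial on M
  let K' : Subgroup (Equiv.Perm (IrrCharacter ↥G)) :=
    { carrier := {σ | ∃ (lam : IrrCharacter ↥G) (h1 : lam.1 1 = 1),
        (∀ g : ↥G, (g : Γ) ∈ M → lam.1 g = 1) ∧ σ = linPerm lam h1}
      one_mem' := by
        refine ⟨⟨fun _ => 1, principal_isIrrCharacter⟩, rfl, fun _ _ => rfl, ?_⟩
        apply Equiv.ext
        intro χ
        apply Subtype.ext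
        rw [linPerm_apply]
        funext g
        simp
      mul_mem' := by
        rintro _ _ ⟨lam, h1, hM1, rfl⟩ ⟨mu, h2, hM2, rfl⟩
        refine ⟨linPerm lam h1 mu, ?_, ?_, ?_⟩
        · rw [linPerm_apply, Pi.mul_apply, h1, h2, one_mul]
        · intro g hg
          rw [linPerm_apply, Pi.mul_apply, hM1 g hg, hM2 g hg, one_mul]
        · apply Equiv.ext
          intro χ
          apply Subtype.ext
          rw [Equiv.Perm.mul_apply, linPerm_apply, linPerm_apply, linPerm_apply, linPerm_apply,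
            mul_assoc]
      inv_mem' := by
        rintro _ ⟨lam, h1, hM1, rfl⟩
        have hc1 : (fun g => conj (lam.1 g)) 1 = 1 := by simp [h1]
        refine ⟨⟨fun g => conj (lam.1 g), irr_conj lam.2⟩, hc1, ?_, ?_⟩
        · intro g hg
          simp only
          rw [hM1 g hg, map_one]
        · apply Equiv.ext
          intro χ
          apply Subtype.ext
          rw [linPerm_inv_apply, linPerm_apply] }
  have hK'mem : ∀ σ, σ ∈ K' ↔ ∃ (lam : IrrCharacter ↥G) (h1 : lam.1 1 = 1),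
      (∀ g : ↥G, (g : Γ) ∈ M → lam.1 g = 1) ∧ σ = linPerm lam h1 := fun σ => Iff.rfl
  -- exponent
  have hexp : ∀ σ ∈ K', σ ^ (M.relIndex G) = 1 := by
    intro σ hσ
    obtain ⟨lam, h1, hM1, rfl⟩ := (hK'mem σ).1 hσ
    apply Equiv.ext
    intro χ
    apply Subtype.ext
    funext g
    rw [linPerm_pow_apply, Equiv.Perm.coe_one, id]
    have hpow : lam.1 g ^ (M.relIndex G) = lam.1 (g ^ (M.relIndex G)) := by
      have hmul := linear_char_mul lam h1
      generalize M.relIndex G = d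
      induction d with
      | zero => rw [pow_zero, pow_zero, h1]
      | succ k ih => rw [pow_succ, pow_succ, hmul, ih]
    rw [hpow]
    have hmem : g ^ (M.relIndex G) ∈ M.subgroupOf G := by
      have := Subgroup.pow_index_mem (M.subgroupOf G) g
      exact this
    rw [hM1 _ (Subgroup.mem_subgroupOf.1 hmem), one_mul]
  have hcopAK : (Nat.card ψS.range).Coprime (Nat.card K') := by
    by_contra hnc
    obtain ⟨q, hq, hq1, hq2⟩ := Nat.Prime.not_coprime_iff_dvd.mp hnc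
    haveI : Fact q.Prime := ⟨hq⟩
    obtain ⟨x, hx⟩ := exists_prime_orderOf_dvd_card' q hq2
    have hx1 : x ^ (M.relIndex G) = 1 := by
      apply Subtype.ext
      rw [Subgroup.coe_pow]
      exact hexp x x.2
    have hqd : q ∣ M.relIndex G := by
      rw [← hx]; exact orderOf_dvd_of_pow_eq_one hx1
    have hqS : q ∣ Nat.card S := dvd_trans hq1 (Subgroup.card_range_dvd ψS)
    have := Nat.dvd_gcd hqd hqS
    rw [hcop] at this
    exact hq.one_lt.ne' (Nat.dvd_one.mp this)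
  have hsolvAK : Group.IsSolvable ψS.range ∨ Group.IsSolvable K' := by
    right
    apply isSolvable_of_comm
    rintro ⟨a, ha⟩ ⟨b, hb⟩
    obtain ⟨lam, h1, -, rfl⟩ := (hK'mem a).1 ha
    obtain ⟨mu, h2, -, rfl⟩ := (hK'mem b).1 hb
    apply Subtype.ext
    apply Equiv.ext
    intro χ
    apply Subtype.ext
    show ((linPerm lam h1 * linPerm mu h2) χ).1 = ((linPerm mu h2 * linPerm lam h1) χ).1
    rw [Equiv.Perm.mul_apply, Equiv.Perm.mul_apply, linPerm_apply, linPerm_apply, linPerm_apply,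
      linPerm_apply, ← mul_assoc, ← mul_assoc, mul_comm lam.1 mu.1]
  have hAK : ψS.range ≤ Subgroup.normalizer (K' : Set (Equiv.Perm (IrrCharacter ↥G))) := by
    apply le_normalizer_of_conj
    rintro _ ⟨s, rfl⟩ σ hσ
    obtain ⟨lam, h1, hM1, rfl⟩ := (hK'mem σ).1 hσ
    rw [hK'mem]
    refine ⟨ψS s lam, ?_, ?_, ?_⟩
    · rw [hψSap]
      rw [← h1]
      exact congrArg lam.1 (Subtype.ext (by simp))
    · intro g hg
      rw [hψSap]
      apply hM1
      have := hMS (s : Γ)⁻¹ (inv_mem s.2) g hg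
      simpa using this
    · apply Equiv.ext
      intro χ
      apply Subtype.ext
      funext g
      rw [Equiv.Perm.mul_apply, Equiv.Perm.mul_apply, hψSap, linPerm_apply, linPerm_apply,
        Pi.mul_apply, Pi.mul_apply, hψSap, ← map_inv, hψSap]
      congr 1
      exact congrArg χ.1 (Subtype.ext (by simp [mul_assoc]))
  -- over η is preserved by S
  have hoverS : ∀ (s : ↥S) (χ : IrrCharacter ↥G),
      classInner (fun m : M => (ψS s χ).1 ⟨m, hMG m.2⟩) η.1 =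
        classInner (fun m : M => χ.1 ⟨m, hMG m.2⟩) η.1 := by
    intro s χ
    have h1 := classInner_comp_equiv (nconjEquiv M (Subgroup.inclusion hS𝒩M s))
      (fun m : M => χ.1 ⟨m, hMG m.2⟩) η.1
    rw [← h1]
    congr 1
    · funext m
      rw [hψSap]; rfl
    · funext m
      rw [Function.comp_apply]
      apply hinv s s.2
      show (m : Γ) = s * ((s : Γ)⁻¹ * m * s) * (s : Γ)⁻¹
      group
  -- a character over η
  obtain ⟨χ₀, hχ₀⟩ : ∃ χ₀ : IrrCharacter ↥G,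
      classInner (fun m : M => χ₀.1 ⟨m, hMG m.2⟩) η.1 ≠ 0 := by
    obtain ⟨χ, e, hχ, -⟩ := exists_over_degree (M.subgroupOf G) hM'n η'
    refine ⟨χ, ?_⟩
    rw [hη', hinner'] at hχ
    exact hχ
  have hglaub : ∀ a ∈ ψS.range, ∃ k ∈ K', a • χ₀ = k • χ₀ := by
    rintro _ ⟨s, rfl⟩
    have h2 : classInner (fun m : M => (ψS s χ₀).1 ⟨m, hMG m.2⟩) η.1 ≠ 0 := by
      rw [hoverS]; exact hχ₀
    have h1' : classInner (fun m : ↥(M.subgroupOf G) => χ₀.1 m) η'.1 ≠ 0 := by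
      rw [hη', hinner']; exact hχ₀
    have h2' : classInner (fun m : ↥(M.subgroupOf G) => (ψS s χ₀).1 m) η'.1 ≠ 0 := by
      rw [hη', hinner']; exact h2
    obtain ⟨lam, hl1, hlM, hleq⟩ :=
      exists_linear_of_common_below (M.subgroupOf G) hM'n hab' χ₀ (ψS s χ₀) η' h1' h2'
    refine ⟨linPerm lam hl1, ?_, ?_⟩
    · rw [hK'mem]
      exact ⟨lam, hl1, fun g hg => hlM g (Subgroup.mem_subgroupOf.2 hg), rfl⟩
    · rw [Equiv.Perm.smul_def, Equiv.Perm.smul_def]
      apply Subtype.ext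
      rw [linPerm_apply]
      exact hleq
  obtain ⟨k, hkK, hk⟩ := Cfsg.Agent.Lib.Helper4.glauberman_fix ψS.range K' hAK hcopAK
    hsolvAK χ₀ hglaub
  obtain ⟨lam, hl1, hlM, rfl⟩ := (hK'mem k).1 hkK
  refine ⟨linPerm lam hl1 χ₀, ?_, ?_⟩
  · have : (fun m : M => (linPerm lam hl1 χ₀).1 ⟨m, hMG m.2⟩) =
        fun m : M => χ₀.1 ⟨m, hMG m.2⟩ := by
      funext m
      rw [linPerm_apply, Pi.mul_apply, hlM ⟨m, hMG m.2⟩ m.2, one_mul]
    rw [this]; exact hχ₀
  · intro s hs g g' hgg'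
    have := hk (ψS ⟨s, hs⟩) ⟨⟨s, hs⟩, rfl⟩
    rw [Equiv.Perm.smul_def, Equiv.Perm.smul_def] at this
    have h2 : (ψS ⟨s, hs⟩ (linPerm lam hl1 χ₀)).1 g' = (linPerm lam hl1 χ₀).1 g' := by rw [this]
    rw [hψSap] at h2
    rw [← h2]
    refine congrArg (linPerm lam hl1 χ₀).1 (Subtype.ext ?_)
    show s⁻¹ * (g' : Γ) * s = (g : Γ)
    rw [hgg']
    group

/-- transitivity of lying over -/
theorem lies_over_trans {Γ : Type*} [Group Γ] (G M N : Subgroup Γ) [Fintype G] [Fintype M]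
    [Fintype N] (hNM : N ≤ M) (hMG : M ≤ G) (χ : IrrCharacter G) (η : IrrCharacter M)
    (θ : IrrCharacter N)
    (h1 : classInner (fun m : M => χ.1 ⟨m, hMG m.2⟩) η.1 ≠ 0)
    (h2 : classInner (fun n : N => η.1 ⟨n, hNM n.2⟩) θ.1 ≠ 0) :
    classInner (fun n : N => χ.1 ⟨n, hMG (hNM n.2)⟩) θ.1 ≠ 0 := by
  classical
  haveI : Finite (IrrCharacter ↥M) := irr_finite
  haveI : Fintype (IrrCharacter ↥M) := Fintype.ofFinite _
  have hχM : IsCharacter ↥M (fun m : M => χ.1 ⟨m, hMG m.2⟩) :=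
    isCharacter_comp (Subgroup.inclusion hMG) (irr_isCharacter χ.2)
  obtain ⟨a, ha⟩ := isCharacter_decomp hχM
  have hχMeq : (fun m : M => χ.1 ⟨m, hMG m.2⟩) =
      fun g => ∑ ψ : IrrCharacter ↥M, (a ψ : ℂ) * ψ.1 g := funext ha
  have haη : a η ≠ 0 := by
    intro h0
    apply h1
    rw [hχMeq, classInner_comb_irr (fun ψ => (a ψ : ℂ)) η, h0]; simp
  have hk : ∀ ψ : IrrCharacter ↥M, ∃ k : ℕ,
      classInner (fun n : N => ψ.1 ⟨n, hNM n.2⟩) θ.1 = k :=
    fun ψ => classInner_character_nat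
      (isCharacter_comp (Subgroup.inclusion hNM) (irr_isCharacter ψ.2)) (irr_isCharacter θ.2)
  choose k hk using hk
  have hkη : k η ≠ 0 := by
    intro h0
    apply h2
    rw [hk η, h0]; simp
  have hχN : (fun n : N => χ.1 ⟨n, hMG (hNM n.2)⟩) =
      fun n : N => ∑ ψ : IrrCharacter ↥M, (a ψ : ℂ) * (fun n : N => ψ.1 ⟨n, hNM n.2⟩) n := by
    funext n
    exact ha ⟨n, hNM n.2⟩
  have hsum : classInner (fun n : N => χ.1 ⟨n, hMG (hNM n.2)⟩) θ.1 =
      ((∑ ψ : IrrCharacter ↥M, a ψ * k ψ : ℕ) : ℂ) := by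
    rw [hχN, classInner_sum_left]
    push_cast
    apply Finset.sum_congr rfl
    intro ψ _
    rw [hk ψ]
  rw [hsum]
  have hpos : 0 < ∑ ψ : IrrCharacter ↥M, a ψ * k ψ := by
    apply lt_of_lt_of_le _ (Finset.single_le_sum (fun ψ _ => Nat.zero_le _) (Finset.mem_univ η))
    exact Nat.mul_pos (Nat.pos_of_ne_zero haη) (Nat.pos_of_ne_zero hkη)
  exact_mod_cast hpos.ne'

/-- commutators of a product `N D` with `D` normalizing `N` -/
theorem comm_mem_of_sup {Γ : Type*} [Group Γ] (N D : Subgroup Γ)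
    (hDN : ∀ d ∈ D, ∀ n ∈ N, d * n * d⁻¹ ∈ N)
    (hDD : ∀ a ∈ D, ∀ b ∈ D, a * b * a⁻¹ * b⁻¹ ∈ N) :
    ∀ a ∈ D ⊔ N, ∀ b ∈ D ⊔ N, a * b * a⁻¹ * b⁻¹ ∈ N := by
  have hle : D ≤ Subgroup.normalizer (N : Set Γ) := le_normalizer_of_conj N D hDN
  intro a ha b hb
  obtain ⟨d₁, hd₁, n₁, hn₁, rfl⟩ :=
    Cfsg.Agent.Lib.Helper2.exists_mul_of_mem_sup_of_le_normalizer hle ha
  obtain ⟨d₂, hd₂, n₂, hn₂, rfl⟩ :=
    Cfsg.Agent.Lib.Helper2.exists_mul_of_mem_sup_of_le_normalizer hle hb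
  have e : d₁ * n₁ * (d₂ * n₂) * (d₁ * n₁)⁻¹ * (d₂ * n₂)⁻¹ =
      (d₁ * d₂ * d₁⁻¹ * d₂⁻¹) * ((d₂ * d₁ * d₂⁻¹) * n₁ * (d₂ * d₁ * d₂⁻¹)⁻¹) *
        ((d₂ * d₁) * (n₂ * n₁⁻¹) * (d₂ * d₁)⁻¹) * (d₂ * n₂⁻¹ * d₂⁻¹) := by group
  rw [e]
  apply N.mul_mem (N.mul_mem (N.mul_mem (hDD d₁ hd₁ d₂ hd₂) ?_) ?_) ?_
  · exact hDN _ (D.mul_mem (D.mul_mem hd₂ hd₁) (D.inv_mem hd₂)) n₁ hn₁
  · exact hDN _ (D.mul_mem hd₂ hd₁) _ (N.mul_mem hn₂ (N.inv_mem hn₁))
  · exact hDN d₂ hd₂ _ (N.inv_mem hn₂)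

/-- Going up for coprime actions with a solvable quotient, by induction on the derived length. -/
theorem coprime_above_derived {Γ : Type*} [Group Γ] [Fintype Γ] (G S : Subgroup Γ) [Fintype G]
    (hnorm : ∀ s ∈ S, ∀ g ∈ G, s * g * s⁻¹ ∈ G) :
    ∀ (k : ℕ) (N : Subgroup Γ) [Fintype N] (hNG : N ≤ G),
    (∀ g ∈ G, ∀ n ∈ N, g * n * g⁻¹ ∈ N) → (∀ s ∈ S, ∀ n ∈ N, s * n * s⁻¹ ∈ N) →
    (N.relIndex G).Coprime (Nat.card S) →
    (∀ x ∈ derivedSeries ↥G k, (x : Γ) ∈ N) →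
    ∀ θ : IrrCharacter N,
    (∀ s ∈ S, ∀ g g' : N, (g' : Γ) = s * g * s⁻¹ → θ.1 g' = θ.1 g) →
    ∃ χ : IrrCharacter G, classInner (fun n : N => χ.1 ⟨n, hNG n.2⟩) θ.1 ≠ 0 ∧
      ∀ s ∈ S, ∀ g g' : G, (g' : Γ) = s * g * s⁻¹ → χ.1 g' = χ.1 g := by
  classical
  intro k
  induction k with
  | zero =>
    intro N instN hNG hNn hNS hcop hder θ hinv
    have hGN : G ≤ N := by
      intro g hg
      exact hder ⟨g, hg⟩ (by rw [derivedSeries_zero]; trivial)
    obtain rfl : N = G := le_antisymm hNG hGN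
    refine ⟨θ, ?_, hinv⟩
    have : (fun n : N => θ.1 ⟨n, hNG n.2⟩) = θ.1 := by
      funext n; rfl
    rw [this, @irr_classInner ↥N _ instN θ.1 θ.1 θ.2 θ.2, if_pos rfl]
    exact one_ne_zero
  | succ k ih =>
    intro N _ hNG hNn hNS hcop hder θ hinv
    -- the k-th derived subgroup inside Γ
    obtain ⟨D, hD⟩ : ∃ D : Subgroup Γ, D = (derivedSeries ↥G k).map G.subtype := ⟨_, rfl⟩
    have hDG : D ≤ G := by rw [hD]; exact Subgroup.map_subtype_le _
    have hDmem : ∀ x : Γ, x ∈ D ↔ ∃ hx : x ∈ G, (⟨x, hx⟩ : ↥G) ∈ derivedSeries ↥G k := by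
      intro x
      rw [hD]
      constructor
      · rintro ⟨y, hy, rfl⟩
        exact ⟨y.2, hy⟩
      · rintro ⟨hx, hy⟩
        exact ⟨⟨x, hx⟩, hy, rfl⟩
    have hDn : ∀ g ∈ G, ∀ d ∈ D, g * d * g⁻¹ ∈ D := by
      intro g hg d hd
      obtain ⟨hdG, hd'⟩ := (hDmem d).1 hd
      rw [hDmem]
      refine ⟨G.mul_mem (G.mul_mem hg hdG) (G.inv_mem hg), ?_⟩
      have := (derivedSeries_normal ↥G k).conj_mem _ hd' ⟨g, hg⟩
      exact this
    have hDS : ∀ s ∈ S, ∀ d ∈ D, s * d * s⁻¹ ∈ D := by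
      intro s hs d hd
      obtain ⟨hdG, hd'⟩ := (hDmem d).1 hd
      rw [hDmem]
      refine ⟨hnorm s hs d hdG, ?_⟩
      have hS𝒩 : S ≤ Subgroup.normalizer (G : Set Γ) := le_normalizer_of_conj G S hnorm
      have hchar := (Subgroup.characteristic_iff_map_le.mp (derivedSeries_characteristic ↥G k))
        (nconjEquiv G ⟨s⁻¹, hS𝒩 (inv_mem hs)⟩)
      have hmem : (nconjEquiv G ⟨s⁻¹, hS𝒩 (inv_mem hs)⟩) ⟨d, hdG⟩ ∈ derivedSeries ↥G k :=
        hchar ⟨⟨d, hdG⟩, hd', rfl⟩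
      have heq : (nconjEquiv G ⟨s⁻¹, hS𝒩 (inv_mem hs)⟩) ⟨d, hdG⟩ =
          (⟨s * d * s⁻¹, hnorm s hs d hdG⟩ : ↥G) := by
        apply Subtype.ext
        rw [nconjEquiv_coe]
        simp
      rw [heq] at hmem
      exact hmem
    have hDD : ∀ a ∈ D, ∀ b ∈ D, a * b * a⁻¹ * b⁻¹ ∈ N := by
      intro a ha b hb
      obtain ⟨haG, ha'⟩ := (hDmem a).1 ha
      obtain ⟨hbG, hb'⟩ := (hDmem b).1 hb
      have h1 : ⁅(⟨a, haG⟩ : ↥G), ⟨b, hbG⟩⁆ ∈ derivedSeries ↥G (k + 1) := by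
        rw [derivedSeries_succ]
        exact Subgroup.commutator_mem_commutator ha' hb'
      have := hder _ h1
      rw [commutatorElement_def] at this
      simpa using this
    obtain ⟨M, hMdef⟩ : ∃ M : Subgroup Γ, M = D ⊔ N := ⟨_, rfl⟩
    haveI : Fintype ↥M := Fintype.ofFinite _
    have hNM : N ≤ M := by rw [hMdef]; exact le_sup_right
    have hDM : D ≤ M := by rw [hMdef]; exact le_sup_left
    have hMG : M ≤ G := by rw [hMdef]; exact sup_le hDG hNG
    have hconj_sup : ∀ (x : Γ), (∀ d ∈ D, x * d * x⁻¹ ∈ D) → (∀ n ∈ N, x * n * x⁻¹ ∈ N) →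
        ∀ m ∈ M, x * m * x⁻¹ ∈ M := by
      intro x hxD hxN m hm
      rw [hMdef] at hm ⊢
      have hle : D ≤ Subgroup.normalizer (N : Set Γ) :=
        le_normalizer_of_conj N D (fun d hd n hn => hNn d (hDG hd) n hn)
      obtain ⟨d, hd, n, hn, rfl⟩ :=
        Cfsg.Agent.Lib.Helper2.exists_mul_of_mem_sup_of_le_normalizer hle hm
      have e : x * (d * n) * x⁻¹ = (x * d * x⁻¹) * (x * n * x⁻¹) := by group
      rw [e]
      exact Subgroup.mul_mem _ (Subgroup.mem_sup_left (hxD d hd)) (Subgroup.mem_sup_right (hxN n hn))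
    have hMn : ∀ g ∈ G, ∀ m ∈ M, g * m * g⁻¹ ∈ M :=
      fun g hg => hconj_sup g (hDn g hg) (hNn g hg)
    have hMS : ∀ s ∈ S, ∀ m ∈ M, s * m * s⁻¹ ∈ M :=
      fun s hs => hconj_sup s (hDS s hs) (hNS s hs)
    have habM : ∀ a ∈ M, ∀ b ∈ M, a * b * a⁻¹ * b⁻¹ ∈ N := by
      rw [hMdef]
      exact comm_mem_of_sup N D (fun d hd n hn => hNn d (hDG hd) n hn) hDD
    have hidx := Subgroup.relIndex_mul_relIndex N M G hNM hMG
    have hcop1 : (N.relIndex M).Coprime (Nat.card S) :=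
      Nat.Coprime.coprime_dvd_left (Dvd.intro _ hidx) hcop
    have hcop2 : (M.relIndex G).Coprime (Nat.card S) :=
      Nat.Coprime.coprime_dvd_left (Dvd.intro_left _ hidx) hcop
    -- step 1: from N to M
    obtain ⟨η, hη1, hη2⟩ := coprime_above_abelian M S N hMS hNM
      (fun g hg n hn => hNn g (hMG hg) n hn) hNS habM hcop1 θ hinv
    -- step 2: induction from M to G
    obtain ⟨χ, hχ1, hχ2⟩ := ih M hMG hMn hMS hcop2
      (fun x hx => hDM ((hDmem x).2 ⟨x.2, hx⟩)) η hη2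
    exact ⟨χ, lies_over_trans G M N hNM hMG χ η θ hχ1 hη1, hχ2⟩

end CoprimeAbove
end Cfsg.Agent.Lib.Helper8
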