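import Mathlib
import Cfsg.Prelude.Def_Characters
import Cfsg.Prelude.Def_OddOrderChar
import Cfsg.Prelude.Def_OddOrderLocal
import Cfsg.Agent.Lib.Helper8.CharInd
import Cfsg.Agent.Lib.Helper8.CharLinHom
import Cfsg.Agent.Lib.Helper8.CharOrth
import Cfsg.Agent.Lib.Helper8.Artin

set_option autoImplicit false

namespace Cfsg.Agent.Lib.Helper8
open Cfsg
open scoped ComplexConjugate

variable {G : Type*} [Group G]

theorem mem_sup_comm (W₁ W₂ : Subgroup G) (hcomm : ∀ a ∈ W₁, ∀ b ∈ W₂, a * b = b * a) {w : G}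
    (hw : w ∈ W₁ ⊔ W₂) : ∃ a ∈ W₁, ∃ b ∈ W₂, w = a * b := by
  rw [Subgroup.sup_eq_closure] at hw
  induction hw using Subgroup.closure_induction with
  | mem x hx =>
    rcases hx with hx | hx
    · exact ⟨x, hx, 1, W₂.one_mem, (mul_one x).symm⟩
    · exact ⟨1, W₁.one_mem, x, hx, (one_mul x).symm⟩
  | one => exact ⟨1, W₁.one_mem, 1, W₂.one_mem, (one_mul 1).symm⟩
  | mul x y _ _ hx hy =>
    obtain ⟨a, ha, b, hb, rfl⟩ := hx
    obtain ⟨a', ha', b', hb', rfl⟩ := hy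
    refine ⟨a * a', W₁.mul_mem ha ha', b * b', W₂.mul_mem hb hb', ?_⟩
    have := hcomm a' ha' b hb
    calc a * b * (a' * b') = a * (b * a') * b' := by group
      _ = a * (a' * b) * b' := by rw [this]
      _ = a * a' * (b * b') := by group
  | inv x _ hx =>
    obtain ⟨a, ha, b, hb, rfl⟩ := hx
    refine ⟨a⁻¹, W₁.inv_mem ha, b⁻¹, W₂.inv_mem hb, ?_⟩
    rw [mul_inv_rev, hcomm a⁻¹ (W₁.inv_mem ha) b⁻¹ (W₂.inv_mem hb)]

/-- Linear characters of `W₁ ⊔ W₂` which are trivial on `W₂` are determined by their values on `W₁`. -/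
theorem hom_eq_of_eq_on_left {A : Type*} [Monoid A] (W₁ W₂ : Subgroup G)
    (hcomm : ∀ a ∈ W₁, ∀ b ∈ W₂, a * b = b * a)
    (φ φ' : ↥(W₁ ⊔ W₂) →* A) (hφ : ∀ w : ↥(W₁ ⊔ W₂), (w : G) ∈ W₂ → φ w = 1)
    (hφ' : ∀ w : ↥(W₁ ⊔ W₂), (w : G) ∈ W₂ → φ' w = 1)
    (h : ∀ w : ↥(W₁ ⊔ W₂), (w : G) ∈ W₁ → φ w = φ' w) : φ = φ' := by
  ext w
  obtain ⟨a, ha, b, hb, hab⟩ := mem_sup_comm W₁ W₂ hcomm w.2
  have hw : w = (⟨a, Subgroup.mem_sup_left ha⟩ : ↥(W₁ ⊔ W₂)) * ⟨b, Subgroup.mem_sup_right hb⟩ :=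
    Subtype.ext hab
  rw [hw, map_mul, map_mul, hφ ⟨b, _⟩ hb, hφ' ⟨b, _⟩ hb, h ⟨a, _⟩ ha]

theorem hom_eq_of_eq_on_right {A : Type*} [Monoid A] (W₁ W₂ : Subgroup G)
    (hcomm : ∀ a ∈ W₁, ∀ b ∈ W₂, a * b = b * a)
    (ψ ψ' : ↥(W₁ ⊔ W₂) →* A) (hψ : ∀ w : ↥(W₁ ⊔ W₂), (w : G) ∈ W₁ → ψ w = 1)
    (hψ' : ∀ w : ↥(W₁ ⊔ W₂), (w : G) ∈ W₁ → ψ' w = 1)
    (h : ∀ w : ↥(W₁ ⊔ W₂), (w : G) ∈ W₂ → ψ w = ψ' w) : ψ = ψ' := by
  ext w
  obtain ⟨a, ha, b, hb, hab⟩ := mem_sup_comm W₁ W₂ hcomm w.2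
  have hw : w = (⟨a, Subgroup.mem_sup_left ha⟩ : ↥(W₁ ⊔ W₂)) * ⟨b, Subgroup.mem_sup_right hb⟩ :=
    Subtype.ext hab
  rw [hw, map_mul, map_mul, hψ ⟨a, _⟩ ha, hψ' ⟨a, _⟩ ha, h ⟨b, _⟩ hb]

/-- The product decomposition of linear characters of `W₁ × W₂` is unique. -/
theorem hom_prod_unique {A : Type*} [CommMonoid A] (W₁ W₂ : Subgroup G)
    (hcomm : ∀ a ∈ W₁, ∀ b ∈ W₂, a * b = b * a)
    (φ φ' ψ ψ' : ↥(W₁ ⊔ W₂) →* A) (hφ : ∀ w : ↥(W₁ ⊔ W₂), (w : G) ∈ W₂ → φ w = 1)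
    (hφ' : ∀ w : ↥(W₁ ⊔ W₂), (w : G) ∈ W₂ → φ' w = 1)
    (hψ : ∀ w : ↥(W₁ ⊔ W₂), (w : G) ∈ W₁ → ψ w = 1)
    (hψ' : ∀ w : ↥(W₁ ⊔ W₂), (w : G) ∈ W₁ → ψ' w = 1)
    (h : φ * ψ = φ' * ψ') : φ = φ' ∧ ψ = ψ' := by
  constructor
  · apply hom_eq_of_eq_on_left W₁ W₂ hcomm φ φ' hφ hφ'
    intro w hw
    have := DFunLike.congr_fun h w
    rw [MonoidHom.mul_apply, MonoidHom.mul_apply, hψ w hw, hψ' w hw, mul_one, mul_one] at this
    exact this
  · apply hom_eq_of_eq_on_right W₁ W₂ hcomm ψ ψ' hψ hψ'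
    intro w hw
    have := DFunLike.congr_fun h w
    rw [MonoidHom.mul_apply, MonoidHom.mul_apply, hφ w hw, hφ' w hw, one_mul, one_mul] at this
    exact this

theorem classInner_four_left [Fintype G] (a b c d ψ : G → ℂ) :
    classInner (fun w => a w - b w - c w + d w) ψ =
      classInner a ψ - classInner b ψ - classInner c ψ + classInner d ψ := by
  unfold classInner
  simp only [sub_mul, add_mul, Finset.sum_add_distrib, Finset.sum_sub_distrib, mul_add, mul_sub]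

theorem classInner_four_right [Fintype G] (a b c d ψ : G → ℂ) :
    classInner ψ (fun w => a w - b w - c w + d w) =
      classInner ψ a - classInner ψ b - classInner ψ c + classInner ψ d := by
  unfold classInner
  simp only [map_sub, map_add, mul_sub, mul_add, Finset.sum_add_distrib, Finset.sum_sub_distrib]

/-- In a self-normalising cyclic pair, the centraliser of an element outside `W₁ ∪ W₂` is `W`. -/
theorem snc_centralizer (W₁ W₂ : Subgroup G) (hW : IsSelfNormalizingCyclic W₁ W₂) {w : G}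
    (hw : w ∈ W₁ ⊔ W₂) (hw₁ : w ∉ W₁) (hw₂ : w ∉ W₂) :
    Subgroup.centralizer ({w} : Set G) = W₁ ⊔ W₂ := by
  obtain ⟨hW1, hW2, hdisj, hcomm, hcyc, hnorm⟩ := hW
  have hwmem : w ∈ (↑(W₁ ⊔ W₂) : Set G) \ (↑W₁ ∪ ↑W₂) := by
    refine ⟨hw, ?_⟩
    rintro (h | h)
    · exact hw₁ h
    · exact hw₂ h
  have hN : Subgroup.normalizer ({w} : Set G) = W₁ ⊔ W₂ :=
    hnorm {w} (Set.singleton_subset_iff.mpr hwmem) (Set.singleton_nonempty _)
  haveI := hcyc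
  apply le_antisymm
  · refine le_trans ?_ (le_of_eq hN)
    intro g hg
    rw [Subgroup.mem_set_normalizer_iff]
    intro h
    have hgw : g * w * g⁻¹ = w := by
      have := (Subgroup.mem_centralizer_iff.mp hg) w rfl
      rw [← this]; group
    simp only [Set.mem_singleton_iff]
    constructor
    · intro hh; rw [hh, hgw]
    · intro hh
      have : h = g⁻¹ * (g * h * g⁻¹) * g := by group
      have h5 : g⁻¹ * w * g = w := by
        conv_lhs => rw [← hgw]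
        group
      rw [this, hh, h5]
  · intro g hg
    rw [Subgroup.mem_centralizer_iff]
    intro h hh
    rw [Set.mem_singleton_iff] at hh
    rw [hh]
    have := comm_of_isCyclic (⟨g, hg⟩ : ↥(W₁ ⊔ W₂)) ⟨w, hw⟩
    exact (congrArg Subtype.val this).symm

/-- If `y` conjugates the cyclic group `W` into itself, then it acts on `W` as a power map; in
particular it maps every subgroup of `W` into itself. -/
theorem conj_mem_of_cyclic (W : Subgroup G) [hc : IsCyclic ↥W] (y : G)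
    (hy : ∀ h ∈ W, y * h * y⁻¹ ∈ W) (H : Subgroup G) {h : G} (hW : h ∈ W) (hH : h ∈ H) :
    y * h * y⁻¹ ∈ H := by
  obtain ⟨g₀, hg₀⟩ := hc.exists_generator
  obtain ⟨m, hm⟩ := Subgroup.mem_zpowers_iff.mp (hg₀ ⟨y * (g₀ : G) * y⁻¹, hy _ g₀.2⟩)
  obtain ⟨k, hk⟩ := Subgroup.mem_zpowers_iff.mp (hg₀ ⟨h, hW⟩)
  have hm' : y * (g₀ : G) * y⁻¹ = (g₀ : G) ^ m := by
    have := congrArg Subtype.val hm
    rw [Subgroup.coe_zpow] at this
    exact this.symm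
  have hk' : h = (g₀ : G) ^ k := by
    have := congrArg Subtype.val hk
    rw [Subgroup.coe_zpow] at this
    exact this.symm
  have : y * h * y⁻¹ = h ^ m := by
    rw [hk', ← zpow_mul, mul_comm k m, zpow_mul, ← hm']
    simp [conj_zpow]
  rw [this]
  exact H.zpow_mem hH m

theorem snc_conj_mem [Finite G] (W₁ W₂ : Subgroup G) (hW : IsSelfNormalizingCyclic W₁ W₂) {w x : G}
    (hw : w ∈ W₁ ⊔ W₂) (hw₁ : w ∉ W₁) (hw₂ : w ∉ W₂) (hx : x⁻¹ * w * x ∈ W₁ ⊔ W₂)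
    (hx₁ : x⁻¹ * w * x ∉ W₁) (hx₂ : x⁻¹ * w * x ∉ W₂) : x ∈ W₁ ⊔ W₂ := by
  have hC := snc_centralizer W₁ W₂ hW hw hw₁ hw₂
  have hC' := snc_centralizer W₁ W₂ hW hx hx₁ hx₂
  obtain ⟨hW1, hW2, hdisj, hcomm, hcyc, hnorm⟩ := hW
  haveI := hcyc
  -- x W x⁻¹ ⊆ W and x⁻¹ W x ⊆ W
  have hxW : ∀ h ∈ W₁ ⊔ W₂, x * h * x⁻¹ ∈ W₁ ⊔ W₂ := by
    intro h hh
    rw [← hC, Subgroup.mem_centralizer_iff]
    intro z hz
    rw [Set.mem_singleton_iff] at hz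
    rw [hz]
    have h1 : h ∈ Subgroup.centralizer ({x⁻¹ * w * x} : Set G) := by rw [hC']; exact hh
    have h2 := (Subgroup.mem_centralizer_iff.mp h1) _ rfl
    calc w * (x * h * x⁻¹) = x * ((x⁻¹ * w * x) * h) * x⁻¹ := by group
      _ = x * (h * (x⁻¹ * w * x)) * x⁻¹ := by rw [h2]
      _ = x * h * x⁻¹ * w := by group
  have hxW' : ∀ h ∈ W₁ ⊔ W₂, x⁻¹ * h * x⁻¹⁻¹ ∈ W₁ ⊔ W₂ := by
    intro h hh
    rw [← hC', Subgroup.mem_centralizer_iff]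
    intro z hz
    rw [Set.mem_singleton_iff] at hz
    rw [hz]
    have h1 : h ∈ Subgroup.centralizer ({w} : Set G) := by rw [hC]; exact hh
    have h2 := (Subgroup.mem_centralizer_iff.mp h1) _ rfl
    calc x⁻¹ * w * x * (x⁻¹ * h * x⁻¹⁻¹) = x⁻¹ * (w * h) * x := by group
      _ = x⁻¹ * (h * w) * x := by rw [h2]
      _ = x⁻¹ * h * x⁻¹⁻¹ * (x⁻¹ * w * x) := by group
  -- x normalises V
  have hV : x ∈ Subgroup.normalizer ((↑(W₁ ⊔ W₂) : Set G) \ (↑W₁ ∪ ↑W₂)) := by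
    rw [Subgroup.mem_set_normalizer_iff]
    intro n
    constructor
    · rintro ⟨hn, hn'⟩
      refine ⟨hxW n hn, ?_⟩
      rintro (h | h)
      · apply hn'; left
        have := conj_mem_of_cyclic (W₁ ⊔ W₂) x⁻¹ hxW' W₁ (hxW n hn) h
        have e : x⁻¹ * (x * n * x⁻¹) * x⁻¹⁻¹ = n := by group
        rw [e] at this; exact this
      · apply hn'; right
        have := conj_mem_of_cyclic (W₁ ⊔ W₂) x⁻¹ hxW' W₂ (hxW n hn) h
        have e : x⁻¹ * (x * n * x⁻¹) * x⁻¹⁻¹ = n := by group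
        rw [e] at this; exact this
    · rintro ⟨hn, hn'⟩
      have e : x⁻¹ * (x * n * x⁻¹) * x⁻¹⁻¹ = n := by group
      have hnW : n ∈ W₁ ⊔ W₂ := by
        have := hxW' _ hn
        rw [e] at this; exact this
      refine ⟨hnW, ?_⟩
      rintro (h | h)
      · apply hn'; left
        exact conj_mem_of_cyclic (W₁ ⊔ W₂) x hxW W₁ hnW h
      · apply hn'; right
        exact conj_mem_of_cyclic (W₁ ⊔ W₂) x hxW W₂ hnW h
  have hwmem : w ∈ (↑(W₁ ⊔ W₂) : Set G) \ (↑W₁ ∪ ↑W₂) := by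
    refine ⟨hw, ?_⟩
    rintro (h | h)
    · exact hw₁ h
    · exact hw₂ h
  rw [hnorm _ (le_refl _) ⟨w, hwmem⟩] at hV
  exact hV

/-- Induction from `W` of a function supported off `W₁ ∪ W₂` restricts back to the function off
`W₁ ∪ W₂`. -/
theorem indFun_snc [Fintype G] (W₁ W₂ : Subgroup G) (hW : IsSelfNormalizingCyclic W₁ W₂)
    (α : ↥(W₁ ⊔ W₂) → ℂ) (hα : ∀ w : ↥(W₁ ⊔ W₂), ((w : G) ∈ W₁ ∨ (w : G) ∈ W₂) → α w = 0)
    (w : ↥(W₁ ⊔ W₂)) (hw₁ : (w : G) ∉ W₁) (hw₂ : (w : G) ∉ W₂) :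
    indFun (W₁ ⊔ W₂) α (w : G) = α w := by
  classical
  have hcyc : IsCyclic ↥(W₁ ⊔ W₂) := hW.2.2.2.2.1
  rw [indFun_apply]
  have hterm : ∀ x : G, extendByZero (W₁ ⊔ W₂) α (x⁻¹ * (w : G) * x) =
      if x ∈ W₁ ⊔ W₂ then α w else 0 := by
    intro x
    by_cases hx : x ∈ W₁ ⊔ W₂
    · rw [if_pos hx]
      have : x⁻¹ * (w : G) * x = w := by
        have := comm_of_isCyclic (⟨x, hx⟩ : ↥(W₁ ⊔ W₂)) w
        have h2 := congrArg Subtype.val this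
        simp only [Subgroup.coe_mul] at h2
        rw [mul_assoc, ← h2]; group
      rw [this, extendByZero_mem _ _ w.2]
    · rw [if_neg hx]
      by_cases hmem : x⁻¹ * (w : G) * x ∈ W₁ ⊔ W₂
      · rw [extendByZero_mem _ _ hmem]
        apply hα
        by_contra hcon
        push Not at hcon
        exact hx (snc_conj_mem W₁ W₂ hW w.2 hw₁ hw₂ hmem hcon.1 hcon.2)
      · exact extendByZero_not_mem _ _ hmem
  simp_rw [hterm]
  rw [Finset.sum_ite, Finset.sum_const_zero, add_zero, Finset.sum_const, nsmul_eq_mul]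
  have hcard : (Finset.univ.filter (fun x : G => x ∈ W₁ ⊔ W₂)).card = Nat.card ↥(W₁ ⊔ W₂) := by
    rw [Nat.card_eq_fintype_card, Fintype.card_subtype]
  rw [hcard, ← mul_assoc, inv_mul_cancel₀, one_mul]
  exact Nat.cast_ne_zero.mpr Nat.card_pos.ne'

end Cfsg.Agent.Lib.Helper8
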