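import Mathlib

set_option autoImplicit false

namespace Cfsg.Agent.Lib.Helper8

theorem one_sub_eps_unit_factor {p : ℕ} (hp : p.Prime) {ε : ℂ} (hε : IsPrimitiveRoot ε p) (j : ℕ)
    (hj : ¬ p ∣ j) : ∃ u : ℂ, IsIntegral ℤ u ∧ (1 - ε) = u * (1 - ε ^ j) := by
  -- j j' ≡ 1 mod p
  have hcop : Nat.Coprime j p := (Nat.Coprime.symm ((Nat.Prime.coprime_iff_not_dvd hp).mpr hj))
  obtain ⟨j', -, hj'⟩ := Nat.exists_mul_mod_eq_one_of_coprime hcop hp.one_lt
  refine ⟨∑ i ∈ Finset.range j', (ε ^ j) ^ i, ?_, ?_⟩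
  · apply IsIntegral.sum
    intro i _
    exact ((hε.isIntegral hp.pos).pow j).pow i
  · have h1 : (ε ^ j) ^ j' = ε := by
      rw [← pow_mul]
      have : j * j' = p * (j * j' / p) + 1 := by
        have := Nat.div_add_mod (j * j') p
        omega
      rw [this, pow_add, pow_mul, hε.pow_eq_one, one_pow, one_mul, pow_one]
    have h2 := geom_sum_mul (ε ^ j) j'
    rw [h1] at h2
    linear_combination h2

theorem prime_dvd_of_eq_one_sub_eps_mul (p : ℕ) (hp : p.Prime) (n : ℤ) (ω : ℂ) (hω : IsIntegral ℤ ω) (h : (n : ℂ) = (1 - Complex.exp (2 * Real.pi * Complex.I / p)) * ω) : (p : ℤ) ∣ n := by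
  set ε : ℂ := Complex.exp (2 * Real.pi * Complex.I / p) with hεdef
  have hε : IsPrimitiveRoot ε p := Complex.isPrimitiveRoot_exp p hp.ne_zero
  obtain ⟨q, hq⟩ : ∃ q, p = q + 1 := ⟨p - 1, by have := hp.pos; omega⟩
  have hprod : ∏ k ∈ Finset.range q, (1 - ε ^ (k + 1)) = (p : ℂ) := by
    have := IsPrimitiveRoot.prod_one_sub_pow_eq_order (n := q) (μ := ε) (by rw [← hq]; exact hε)
    rw [this, hq]; push_cast; ring
  have hu : ∀ k ∈ Finset.range q, ∃ u : ℂ, IsIntegral ℤ u ∧ (1 - ε) = u * (1 - ε ^ (k + 1)) := by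
    intro k hk
    apply one_sub_eps_unit_factor hp hε
    intro hdvd
    have := Nat.le_of_dvd (Nat.succ_pos k) hdvd
    rw [Finset.mem_range] at hk
    omega
  choose! u hu_int hu_eq using hu
  have hpow : (1 - ε) ^ q = (∏ k ∈ Finset.range q, u k) * (p : ℂ) := by
    rw [← hprod, ← Finset.prod_mul_distrib]
    have : (1 - ε) ^ q = ∏ _k ∈ Finset.range q, (1 - ε) := by
      rw [Finset.prod_const, Finset.card_range]
    rw [this]
    apply Finset.prod_congr rfl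
    intro k hk
    exact hu_eq k hk
  have hU : IsIntegral ℤ (∏ k ∈ Finset.range q, u k) := IsIntegral.prod _ hu_int
  -- n^q = p * β
  set β : ℂ := (∏ k ∈ Finset.range q, u k) * ω ^ q with hβ
  have hβint : IsIntegral ℤ β := hU.mul (hω.pow q)
  have hnq : ((n ^ q : ℤ) : ℂ) = (p : ℂ) * β := by
    push_cast
    rw [h, mul_pow, hpow, hβ]; ring
  have hpC : (p : ℂ) ≠ 0 := Nat.cast_ne_zero.mpr hp.ne_zero
  -- β is rational
  have hβrat : β = algebraMap ℚ ℂ ((n ^ q : ℤ) / (p : ℚ)) := by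
    have : β = ((n ^ q : ℤ) : ℂ) / (p : ℂ) := by rw [hnq]; field_simp
    rw [this]; simp
  have h6 : IsIntegral ℤ ((n ^ q : ℤ) / (p : ℚ) : ℚ) := by
    rw [hβrat] at hβint
    exact (isIntegral_algebraMap_iff (algebraMap ℚ ℂ).injective).mp hβint
  obtain ⟨m, hm⟩ := IsIntegrallyClosed.isIntegral_iff.mp h6
  have hpQ : (p : ℚ) ≠ 0 := Nat.cast_ne_zero.mpr hp.ne_zero
  have h7 : ((n ^ q : ℤ) : ℚ) = (m : ℚ) * (p : ℚ) := by
    have : (m : ℚ) = ((n ^ q : ℤ) : ℚ) / (p : ℚ) := hm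
    rw [this]; field_simp
  have h8 : n ^ q = m * (p : ℤ) := by exact_mod_cast h7
  have hpZ : Prime (p : ℤ) := Nat.prime_iff_prime_int.mp hp
  exact hpZ.dvd_of_dvd_pow ⟨m, by rw [h8, mul_comm]⟩

end Cfsg.Agent.Lib.Helper8
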