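import Mathlib
import Cfsg.Prelude.Def_Characters
import Cfsg.Agent.Lib.Helper8.DadeExt
import Cfsg.Agent.Lib.Helper8.CharIto
import Cfsg.Agent.Lib.Helper8.CharDegree
import Cfsg.Agent.Lib.Helper8.ProjLift2

set_option autoImplicit false
set_option maxHeartbeats 1000000

universe u

namespace Cfsg.Agent.Lib.Helper8
open Cfsg
open scoped ComplexConjugate

/-- If a character `ψ` of `E` with `E N = G` restricts on `E ∩ N` to something having inner
product `c` (prime to `p`) with `ϑ`, and `[G:N]` is a power of `p`, then the invariant `ϑ` extends. -/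
theorem extends_of_induced {G : Type u} [Group G] [Fintype G] (p : ℕ) (hp : p.Prime)
    (N : Subgroup G) [hN : N.Normal] {k : ℕ} (hk : N.index = p ^ k)
    (ϑ : N → ℂ) (hϑ : IsIrrCharacter N ϑ) (hinv : ∀ g : G, conjChar hN ϑ g = ϑ)
    (E : Subgroup G) (hsup : E ⊔ N = ⊤) (ψ : E → ℂ) (hψc : IsCharacter E ψ)
    (c : ℕ) (hpc : ¬ p ∣ c)
    (hc : ∀ inst : Fintype ↥(N.subgroupOf E),
      @classInner _ _ inst (subOfFun N E ϑ) (fun d : ↥(N.subgroupOf E) => ψ d.1) = c) :
    ∃ χ : G → ℂ, IsIrrCharacter G χ ∧ ∀ n : N, χ n = ϑ n := by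
  classical
  have := irr_finite (G := G)
  have : Fintype (IrrCharacter G) := Fintype.ofFinite _
  have hc := hc inferInstance
  have hϑc := irr_isCharacter hϑ
  set D : Subgroup E := N.subgroupOf E with hDdef
  set ϑ0 : G → ℂ := extendByZero N ϑ with hϑ0
  have hϑ0cf : IsClassFunction G ϑ0 := by
    intro g x
    by_cases hg : g ∈ N
    · have hg' : x * g * x⁻¹ ∈ N := hN.conj_mem g hg x
      rw [hϑ0, extendByZero_mem N _ hg, extendByZero_mem N _ hg']
      have := congrFun (hinv x) ⟨g, hg⟩
      rw [conjChar_apply] at this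
      exact this
    · have hg' : x * g * x⁻¹ ∉ N := by
        intro h
        apply hg
        have := hN.conj_mem _ h x⁻¹
        simpa [mul_assoc] using this
      rw [hϑ0, extendByZero_not_mem N _ hg, extendByZero_not_mem N _ hg']
  have hconj0 : ∀ g, conj (ϑ0 g) = extendByZero N (fun n => conj (ϑ n)) g := by
    intro g
    by_cases hg : g ∈ N
    · rw [hϑ0, extendByZero_mem N _ hg, extendByZero_mem N _ hg]
    · rw [hϑ0, extendByZero_not_mem N _ hg, extendByZero_not_mem N _ hg, map_zero]
  have hEne : (Nat.card E : ℂ) ≠ 0 := Nat.cast_ne_zero.mpr Nat.card_pos.ne'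
  have hGne : (Nat.card G : ℂ) ≠ 0 := Nat.cast_ne_zero.mpr Nat.card_pos.ne'
  have hDne : (Nat.card D : ℂ) ≠ 0 := Nat.cast_ne_zero.mpr Nat.card_pos.ne'
  have hNne : (Nat.card N : ℂ) ≠ 0 := Nat.cast_ne_zero.mpr Nat.card_pos.ne'
  have hcard : Nat.card G * Nat.card D = Nat.card N * Nat.card E := by
    have h1 : Nat.card D * D.index = Nat.card E := Subgroup.card_mul_index D
    have h2 : D.index = N.relIndex E := rfl
    have h3 : N.relIndex (E ⊔ N) = N.relIndex E := Subgroup.relIndex_sup_right E N
    have h5 : Nat.card N * N.index = Nat.card G := Subgroup.card_mul_index N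
    rw [hsup, Subgroup.relIndex_top_right] at h3
    rw [← h5, ← h1, h2, ← h3]
    ring
  have hcardC : (Nat.card G : ℂ) * (Nat.card D : ℂ) = (Nat.card N : ℂ) * (Nat.card E : ℂ) := by
    exact_mod_cast hcard
  -- the key inner product
  have hkey : classInner (fun n : N => indFun E ψ n) ϑ = c := by
    have hfr := frobenius_reciprocity E ψ ϑ0 hϑ0cf
    unfold classInner at hfr
    have h1 : ∑ g : G, indFun E ψ g * conj (ϑ0 g) =
        ∑ n : N, indFun E ψ n * conj (ϑ n) := by
      have : ∑ g : G, indFun E ψ g * conj (ϑ0 g) =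
          ∑ g : G, extendByZero N (fun n => conj (ϑ n)) g * indFun E ψ g := by
        apply Finset.sum_congr rfl
        intro g _
        rw [hconj0, mul_comm]
      rw [this, sum_extendByZero N _ (indFun E ψ)]
      apply Finset.sum_congr rfl
      intro n _
      rw [mul_comm]
    have hϑE : ∀ x : E, conj (ϑ0 (x : G)) =
        extendByZero D (fun d : D => conj (subOfFun N E ϑ d)) x := by
      intro x
      by_cases hx : (x : G) ∈ N
      · rw [hϑ0, extendByZero_mem N _ hx, extendByZero_mem D _ (show x ∈ D from hx)]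
        rfl
      · rw [hϑ0, extendByZero_not_mem N _ hx, extendByZero_not_mem D _ (show x ∉ D from hx),
          map_zero]
    have h2 : ∑ x : E, ψ x * conj (ϑ0 (x : G)) = (Nat.card D : ℂ) * c := by
      have h3 : ∑ x : E, ψ x * conj (ϑ0 (x : G)) =
          ∑ x : E, extendByZero D (fun d : D => conj (subOfFun N E ϑ d)) x * ψ x := by
        apply Finset.sum_congr rfl
        intro x _
        rw [hϑE, mul_comm]
      rw [h3, sum_extendByZero D _ (fun x => ψ x)]
      have h4 := hc
      unfold classInner at h4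
      rw [inv_mul_eq_iff_eq_mul₀ hDne] at h4
      have h5 : ∑ d : D, conj (subOfFun N E ϑ d) * ψ d =
          conj (∑ d : D, subOfFun N E ϑ d * conj (ψ d.1)) := by
        rw [map_sum]
        apply Finset.sum_congr rfl
        intro d _
        rw [map_mul, Complex.conj_conj]
      rw [h5, h4, map_mul, Complex.conj_natCast, Complex.conj_natCast]
    rw [h1, h2] at hfr
    unfold classInner
    rw [inv_mul_eq_iff_eq_mul₀ hNne]
    have h6 : ∑ n : N, indFun E ψ n * conj (ϑ n) =
        (Nat.card G : ℂ) * ((Nat.card E : ℂ)⁻¹ * ((Nat.card D : ℂ) * c)) := by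
      rw [← hfr]
      field_simp
    rw [h6]
    field_simp
    linear_combination (c : ℂ) * hcardC
  -- decomposition
  have hind : IsCharacter G (indFun E ψ) := isCharacter_indFun E hψc
  obtain ⟨a, ha⟩ := isCharacter_decomp hind
  choose e he using fun χ : IrrCharacter G =>
    classInner_character_nat (isCharacter_restrict N (irr_isCharacter χ.2)) hϑc
  have hsum : (c : ℂ) = ∑ χ : IrrCharacter G, (a χ : ℂ) * (e χ : ℂ) := by
    rw [← hkey]
    have : (fun n : N => indFun E ψ n) =
        fun n : N => ∑ χ : IrrCharacter G, (a χ : ℂ) * (fun n : N => χ.1 n) n := by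
      ext n
      exact ha n
    rw [this, classInner_sum_left]
    apply Finset.sum_congr rfl
    intro χ _
    rw [he χ]
  have hsumN : c = ∑ χ : IrrCharacter G, a χ * e χ := by
    exact_mod_cast hsum
  have hex : ∃ χ : IrrCharacter G, ¬ p ∣ a χ * e χ := by
    by_contra hcon
    push Not at hcon
    apply hpc
    rw [hsumN]
    exact Finset.dvd_sum (fun χ _ => hcon χ)
  obtain ⟨χ, hχ⟩ := hex
  have hpe : ¬ p ∣ e χ := fun h => hχ (Dvd.dvd.mul_left h _)
  have he0 : e χ ≠ 0 := by
    intro h; apply hpe; rw [h]; exact dvd_zero p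
  have hcon : classInner (fun n : N => χ.1 n) ϑ ≠ 0 := by
    rw [he χ]; exact_mod_cast he0
  have hres := clifford_invariant hN χ.2 hϑ hcon hinv
  rw [he χ] at hres
  obtain ⟨e', he'deg, he'dvd⟩ := invariant_ratio_dvd N χ ⟨ϑ, hϑ⟩
    (by
      intro g n
      have := congrFun (hinv g) n
      rw [conjChar_apply] at this
      exact this) hcon
  -- e' = e χ
  have h1 : χ.1 1 = (e χ : ℂ) * ϑ 1 := by
    have := congrFun hres 1
    simp only [Pi.smul_apply, smul_eq_mul] at this
    rw [← this]; rfl
  have hϑ1 : ϑ 1 = (charDegree ϑ : ℂ) := isCharacter_one_eq_charDegree hϑc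
  have hχ1 : χ.1 1 = (charDegree χ.1 : ℂ) := irr_one_eq_charDegree χ
  have hdpos : 0 < charDegree ϑ := charDegree_pos ⟨ϑ, hϑ⟩
  have hee : e' = e χ := by
    have h2 : ((e' * charDegree ϑ : ℕ) : ℂ) = ((e χ * charDegree ϑ : ℕ) : ℂ) := by
      rw [← he'deg]
      push_cast
      rw [← hχ1, h1, hϑ1]
    have h3 : e' * charDegree ϑ = e χ * charDegree ϑ := by exact_mod_cast h2
    exact Nat.eq_of_mul_eq_mul_right hdpos h3
  rw [hee, hk] at he'dvd
  have he1 : e χ = 1 := by
    obtain ⟨i, _, hi⟩ := (Nat.dvd_prime_pow hp).mp he'dvd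
    rcases Nat.eq_zero_or_pos i with h0 | hpos
    · rw [hi, h0, pow_zero]
    · exfalso; apply hpe; rw [hi]; exact dvd_pow_self p hpos.ne'
  refine ⟨χ.1, χ.2, ?_⟩
  intro n
  have := congrFun hres n
  rw [he1] at this
  simpa using this

end Cfsg.Agent.Lib.Helper8
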