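import Mathlib
import Cfsg.Prelude.Def_Characters
import Cfsg.Agent.Lib.Helper8.DadeExt2

set_option autoImplicit false
set_option maxHeartbeats 1000000

universe u

namespace Cfsg.Agent.Lib.Helper8
open Cfsg
open scoped ComplexConjugate

/-- Dade's extension theorem. -/
theorem dade_extension {G : Type u} [Group G] [Fintype G] (p : ℕ) [hpf : Fact p.Prime]
    (N : Subgroup G) [hN : N.Normal] (hind : ∃ k : ℕ, N.index = p ^ k) (P : Sylow p G)
    (hcent : ∀ x ∈ (P : Subgroup G) ⊓ N, ∀ y ∈ (P : Subgroup G), x * y = y * x)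
    (hlin : ∀ lam : ↥((P : Subgroup G) ⊓ N) →* ℂˣ, ∃ m : ↥(P : Subgroup G) →* ℂˣ,
      ∀ x : ↥((P : Subgroup G) ⊓ N), m ⟨x, x.2.1⟩ = lam x)
    (ϑ : N → ℂ) (hϑ : IsIrrCharacter N ϑ) (hinv : ∀ g : G, conjChar hN ϑ g = ϑ) :
    ∃ χ : G → ℂ, IsIrrCharacter G χ ∧ ∀ n : N, χ n = ϑ n := by
  classical
  have hp : p.Prime := hpf.out
  obtain ⟨E, hE, hsup, φ', hφ', hφinv, c, hpc, hc⟩ := dade_elementary p hp N hind ϑ hϑ hinv
  obtain ⟨z, hzc, hzo, j, hzi⟩ := hE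
  let D : Subgroup E := N.subgroupOf E
  have hD : D.Normal := Subgroup.normal_subgroupOf
  obtain ⟨k, hk⟩ := hind
  have hzN : (z : G) ∈ N :=
    mem_of_coprime_order N hk (z : G) (by rw [Subgroup.orderOf_coe]; exact hzo)
  have hzD : z ∈ D := hzN
  let Q : Sylow p E := default
  have hdec := elementary_decomp z hzc hzi Q
  have hQp : IsPGroup p ((Q : Subgroup E).map E.subtype) := Q.2.map _
  obtain ⟨P', hP'⟩ := hQp.exists_le_sylow
  obtain ⟨g, hg⟩ := MulAction.exists_smul_eq G P P'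
  have hP₁ : ∀ y : G, y ∈ (P' : Subgroup G) ↔ g⁻¹ * y * g ∈ (P : Subgroup G) := by
    intro y
    rw [← hg, Sylow.coe_subgroup_smul, Subgroup.mem_pointwise_smul_iff_inv_smul_mem]
    simp [MulAut.smul_def]
  obtain ⟨hcent', hlin'⟩ := sylow_conj_hyp N (P : Subgroup G) (P' : Subgroup G) g hP₁ hcent hlin
  have hQP' : ∀ x : E, x ∈ (Q : Subgroup E) → (x : G) ∈ (P' : Subgroup G) :=
    fun x hx => hP' ⟨x, hx, rfl⟩
  -- D is abelian
  have hzcomm : ∀ (i : ℤ) (y : E), Commute (z ^ i) y := by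
    intro i y
    have := Subgroup.zpow_mem _ hzc i
    rw [Subgroup.mem_center_iff] at this
    exact (this y).symm
  have hDab : ∀ a b : D, a * b = b * a := by
    intro a b
    obtain ⟨q₁, hq₁, i₁, h₁⟩ := hdec a
    obtain ⟨q₂, hq₂, i₂, h₂⟩ := hdec b
    have hq₁D : q₁ ∈ D := by
      have : q₁ = a * (z ^ i₁)⁻¹ := by rw [h₁]; group
      rw [this]; exact D.mul_mem a.2 (D.inv_mem (D.zpow_mem hzD i₁))
    have hq₂D : q₂ ∈ D := by
      have : q₂ = b * (z ^ i₂)⁻¹ := by rw [h₂]; group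
      rw [this]; exact D.mul_mem b.2 (D.inv_mem (D.zpow_mem hzD i₂))
    have hcomm : q₁ * q₂ = q₂ * q₁ := by
      apply Subtype.ext
      exact hcent' (q₁ : G) ⟨hQP' q₁ hq₁, hq₁D⟩ (q₂ : G) (hQP' q₂ hq₂)
    apply Subtype.ext
    show (a : E) * b = b * a
    rw [h₁, h₂, (hzcomm i₁ q₂).mul_mul_mul_comm, (hzcomm i₂ q₁).mul_mul_mul_comm, hcomm,
      (hzcomm i₁ (z ^ i₂)).eq]
  -- φ' is linear
  have hφ1 : φ' 1 = 1 := by
    have h1 := ito_character (G := D) ⊤ (by intro a _ b _; exact hDab a b) ⟨φ', hφ'⟩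
    rw [Subgroup.index_top, Nat.dvd_one] at h1
    have h2 := irr_one_eq_charDegree ⟨φ', hφ'⟩
    simp only at h1 h2
    rw [h2, h1, Nat.cast_one]
  obtain ⟨ℓ, hℓ⟩ := exists_linFun (irr_isCharacter hφ') hφ1
  have hℓinv : ∀ (x : E) (d : D), ℓ ⟨x * d * x⁻¹, hD.conj_mem d d.2 x⟩ = ℓ d := by
    intro x d
    apply Units.ext
    have := congrFun (hφinv x) d
    rw [conjChar_apply, hℓ] at this
    exact this
  -- extension to the Sylow subgroup
  have hKab : ∀ a b : ↥((P' : Subgroup G) ⊓ N), a * b = b * a :=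
    fun a b => Subtype.ext (hcent' a a.2 b b.2.1)
  let R : Subgroup ↥((P' : Subgroup G) ⊓ N) := E.subgroupOf ((P' : Subgroup G) ⊓ N)
  let incl : R →* D :=
    { toFun := fun y => ⟨⟨((y : ↥((P' : Subgroup G) ⊓ N)) : G), y.2⟩,
        (y : ↥((P' : Subgroup G) ⊓ N)).2.2⟩
      map_one' := rfl
      map_mul' := fun _ _ => rfl }
  obtain ⟨lam, hlam⟩ := exists_hom_extension_abelian hKab R (ℓ.comp incl)
  obtain ⟨m', hm'⟩ := hlin' lam
  let ι : ↥(Q : Subgroup E) →* ↥(P' : Subgroup G) :=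
    { toFun := fun x => ⟨((x : E) : G), hQP' x x.2⟩
      map_one' := rfl
      map_mul' := fun _ _ => rfl }
  have hagree : ∀ (x : E) (hq : x ∈ (Q : Subgroup E)) (hd : x ∈ D),
      (m'.comp ι) ⟨x, hq⟩ = ℓ ⟨x, hd⟩ := by
    intro x hq hd
    have h1 := hm' ⟨(x : G), ⟨hQP' x hq, hd⟩⟩
    have h2 := hlam ⟨⟨(x : G), ⟨hQP' x hq, hd⟩⟩, x.2⟩
    rw [MonoidHom.comp_apply]
    exact h1.trans h2
  have hQD : ∀ x : E, ∃ q ∈ (Q : Subgroup E), ∃ d ∈ D, x = q * d := by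
    intro x
    obtain ⟨q, hq, i, hx⟩ := hdec x
    exact ⟨q, hq, z ^ i, D.zpow_mem hzD i, hx⟩
  obtain ⟨μ, hμ⟩ := glue_hom (Q : Subgroup E) D hQD (m'.comp ι) ℓ hℓinv hagree
  have hψD : (fun d : D => linFun μ d.1) = φ' := by
    ext d
    rw [hℓ]
    show ((μ d : ℂˣ) : ℂ) = ((ℓ d : ℂˣ) : ℂ)
    rw [hμ d]
  exact extends_of_induced p hp N hk ϑ hϑ hinv E hsup (linFun μ) (linFun_isCharacter μ) c hpc
    (by intro inst; rw [hψD]; exact hc inst)

end Cfsg.Agent.Lib.Helper8
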