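import Mathlib
import Cfsg.Prelude.Def_Characters
import Cfsg.Prelude.Def_OddOrderChar
import Cfsg.Agent.Lib.Helper2.Index

set_option autoImplicit false

namespace Cfsg.Agent.Lib.Helper8
open Cfsg
open scoped ComplexConjugate

section DadeIso
variable {G : Type*} [Group G]

theorem dade_pow_card_sub [Finite G] (K : Subgroup G) {x : G} (hx : x ∈ K) :
    x ^ Nat.card K = 1 := by
  have := pow_card_eq_one' (G := ↥K) (x := ⟨x, hx⟩)
  have h2 := congrArg Subtype.val this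
  rw [Subgroup.coe_pow, Subgroup.coe_one] at h2
  exact h2

theorem dade_self_mem_cent (a : G) : a ∈ Subgroup.centralizer ({a} : Set G) :=
  Subgroup.mem_centralizer_iff.mpr (fun h hh => by rw [Set.mem_singleton_iff.mp hh])

/-- F1: conjugating `a u` to `b v` conjugates `a` to `b` (by the same element). -/
theorem dade_conj_eq [Finite G] {A : Set G} {L : Subgroup G} {H : G → Subgroup G}
    (hD : DadeHypothesis A L H) {a b : G} (ha : a ∈ A) (hb : b ∈ A) {u v g : G}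
    (hu : u ∈ H a) (hv : v ∈ H b) (hg : g * (a * u) * g⁻¹ = b * v) : g * a * g⁻¹ = b := by
  classical
  have haL : a ∈ L := hD.subset ha
  have hbL : b ∈ L := hD.subset hb
  have haC : a ∈ L ⊓ Subgroup.centralizer ({a} : Set G) := ⟨haL, dade_self_mem_cent a⟩
  have hbC : b ∈ L ⊓ Subgroup.centralizer ({b} : Set G) := ⟨hbL, dade_self_mem_cent b⟩
  obtain ⟨na, hna⟩ : ∃ n, n = Nat.card (H a) := ⟨_, rfl⟩
  obtain ⟨nb, hnb⟩ : ∃ n, n = Nat.card (H b) := ⟨_, rfl⟩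
  obtain ⟨ca, hca⟩ : ∃ n, n = Nat.card ↥(L ⊓ Subgroup.centralizer ({a} : Set G)) := ⟨_, rfl⟩
  obtain ⟨cb, hcb⟩ : ∃ n, n = Nat.card ↥(L ⊓ Subgroup.centralizer ({b} : Set G)) := ⟨_, rfl⟩
  have hcop : Nat.Coprime (na * nb) (ca * cb) := by
    rw [hna, hnb, hca, hcb]
    apply Nat.Coprime.mul_left
    · exact Nat.Coprime.mul_right (hD.coprime a ha a ha) (hD.coprime a ha b hb)
    · exact Nat.Coprime.mul_right (hD.coprime b hb a ha) (hD.coprime b hb b hb)
  have hapow : a ^ (ca * cb) = 1 := by rw [pow_mul, hca, dade_pow_card_sub _ haC, one_pow]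
  have hbpow : b ^ (ca * cb) = 1 := by rw [mul_comm, pow_mul, hcb, dade_pow_card_sub _ hbC, one_pow]
  have hupow : u ^ (na * nb) = 1 := by rw [pow_mul, hna, dade_pow_card_sub _ hu, one_pow]
  have hvpow : v ^ (na * nb) = 1 := by rw [mul_comm, pow_mul, hnb, dade_pow_card_sub _ hv, one_pow]
  have hM : 1 < ca * cb := by
    by_contra hcon
    have hpos : 0 < ca * cb := by
      rw [hca, hcb]; exact Nat.mul_pos Nat.card_pos Nat.card_pos
    have h1 : ca * cb = 1 := by omega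
    rw [h1, pow_one] at hapow
    exact hD.one_not_mem (hapow ▸ ha)
  obtain ⟨e, -, he⟩ := Nat.exists_mul_mod_eq_one_of_coprime hcop hM
  have hmod : na * nb * e ≡ 1 [MOD ca * cb] := by
    unfold Nat.ModEq
    rw [he, Nat.mod_eq_of_lt hM]
  have hau : Commute a u := by
    have := Subgroup.mem_centralizer_iff.mp (hD.le_centralizer a ha hu) a rfl
    exact this
  have hbv : Commute b v := by
    have := Subgroup.mem_centralizer_iff.mp (hD.le_centralizer b hb hv) b rfl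
    exact this
  have h1 : (a * u) ^ (na * nb * e) = a := by
    rw [hau.mul_pow, pow_mul u, hupow, one_pow, mul_one]
    have := pow_eq_pow_of_modEq hmod hapow
    rw [this, pow_one]
  have h2 : (b * v) ^ (na * nb * e) = b := by
    rw [hbv.mul_pow, pow_mul v, hvpow, one_pow, mul_one]
    have := pow_eq_pow_of_modEq hmod hbpow
    rw [this, pow_one]
  rw [← h2, ← hg, conj_pow, h1]

theorem dade_le_normalizer {A : Set G} {L : Subgroup G} {H : G → Subgroup G}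
    (hD : DadeHypothesis A L H) {b : G} (hb : b ∈ A) :
    (L ⊓ Subgroup.centralizer ({b} : Set G)) ≤ Subgroup.normalizer ((H b : Subgroup G) : Set G) := by
  intro c hc
  rw [Subgroup.mem_normalizer_iff]
  intro h
  constructor
  · intro hh; exact hD.conj_mem_H b hb c hc.2 h hh
  · intro hh
    have := hD.conj_mem_H b hb c⁻¹ (inv_mem hc.2) _ hh
    have e : c⁻¹ * (c * h * c⁻¹) * c⁻¹⁻¹ = h := by group
    rwa [e] at this

/-- An element of `C(b)` of order prime to `|C_L(b)|` lies in `H b`. -/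
theorem dade_mem_H [Finite G] {A : Set G} {L : Subgroup G} {H : G → Subgroup G}
    (hD : DadeHypothesis A L H) {b : G} (hb : b ∈ A) {w : G}
    (hw : w ∈ Subgroup.centralizer ({b} : Set G)) {n : ℕ} (hn : w ^ n = 1)
    (hcop : Nat.Coprime n (Nat.card ↥(L ⊓ Subgroup.centralizer ({b} : Set G)))) : w ∈ H b := by
  have hw' : w ∈ (L ⊓ Subgroup.centralizer ({b} : Set G)) ⊔ H b := by
    rw [sup_comm, hD.sup_eq b hb]; exact hw
  obtain ⟨k, hk, x, hx, rfl⟩ :=
    Cfsg.Agent.Lib.Helper2.exists_mul_of_mem_sup_of_le_normalizer (dade_le_normalizer hD hb) hw'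
  have hpow : ∀ j : ℕ, ∃ y ∈ H b, (k * x) ^ j = k ^ j * y := by
    intro j
    induction j with
    | zero => exact ⟨1, one_mem _, by simp⟩
    | succ j ih =>
      obtain ⟨y, hy, hj⟩ := ih
      refine ⟨k⁻¹ * y * k⁻¹⁻¹ * x,
        mul_mem (hD.conj_mem_H b hb k⁻¹ (inv_mem hk.2) y hy) hx, ?_⟩
      rw [pow_succ, hj, pow_succ]; group
  obtain ⟨y, hy, hyn⟩ := hpow n
  rw [hn] at hyn
  have hkn : k ^ n = y⁻¹ := eq_inv_of_mul_eq_one_left hyn.symm
  have hmem : k ^ n ∈ H b ⊓ (L ⊓ Subgroup.centralizer ({b} : Set G)) :=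
    ⟨by rw [hkn]; exact (H b).inv_mem hy, pow_mem hk n⟩
  rw [hD.inf_eq_bot b hb, Subgroup.mem_bot] at hmem
  have hk1 : k ^ Nat.card ↥(L ⊓ Subgroup.centralizer ({b} : Set G)) = 1 :=
    dade_pow_card_sub _ hk
  have hord : orderOf k ∣ 1 := by
    have := Nat.dvd_gcd (orderOf_dvd_of_pow_eq_one hmem) (orderOf_dvd_of_pow_eq_one hk1)
    rwa [Nat.Coprime.gcd_eq_one hcop] at this
  have hk0 : k = 1 := orderOf_eq_one_iff.mp (Nat.dvd_one.mp hord)
  rw [hk0, one_mul]; exact hx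

/-- F2: `l (H a) l⁻¹ ⊆ H (l a l⁻¹)` for `l ∈ L`. -/
theorem dade_conj_mem_H [Finite G] {A : Set G} {L : Subgroup G} {H : G → Subgroup G}
    (hD : DadeHypothesis A L H) {a : G} (ha : a ∈ A) {l : G} (hl : l ∈ L) {u : G}
    (hu : u ∈ H a) : l * u * l⁻¹ ∈ H (l * a * l⁻¹) := by
  have hb : l * a * l⁻¹ ∈ A := hD.conj_mem l hl a ha
  apply dade_mem_H hD hb (n := Nat.card (H a))
  · rw [Subgroup.mem_centralizer_iff]
    intro h hh
    rw [Set.mem_singleton_iff.mp hh]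
    have hau : a * u = u * a := Subgroup.mem_centralizer_iff.mp (hD.le_centralizer a ha hu) a rfl
    calc l * a * l⁻¹ * (l * u * l⁻¹) = l * (a * u) * l⁻¹ := by group
      _ = l * (u * a) * l⁻¹ := by rw [hau]
      _ = _ := by group
  · rw [conj_pow, dade_pow_card_sub _ hu]; group
  · exact hD.coprime a ha _ hb

theorem dade_card_le [Finite G] {A : Set G} {L : Subgroup G} {H : G → Subgroup G}
    (hD : DadeHypothesis A L H) {a : G} (ha : a ∈ A) {l : G} (hl : l ∈ L) :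
    Nat.card (H a) ≤ Nat.card (H (l * a * l⁻¹)) := by
  apply Nat.card_le_card_of_injective
    (fun u : H a => (⟨l * u * l⁻¹, dade_conj_mem_H hD ha hl u.2⟩ : H (l * a * l⁻¹)))
  intro u v huv
  have := congrArg Subtype.val huv
  simp only at this
  exact Subtype.ext (mul_left_cancel (mul_right_cancel this))

theorem dade_card_conj [Finite G] {A : Set G} {L : Subgroup G} {H : G → Subgroup G}
    (hD : DadeHypothesis A L H) {a : G} (ha : a ∈ A) {l : G} (hl : l ∈ L) :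
    Nat.card (H (l * a * l⁻¹)) = Nat.card (H a) := by
  apply le_antisymm
  · have h1 := dade_card_le hD (hD.conj_mem l hl a ha) (inv_mem hl)
    have e : l⁻¹ * (l * a * l⁻¹) * l⁻¹⁻¹ = a := by group
    rwa [e] at h1
  · exact dade_card_le hD ha hl

open Classical in
/-- The "spread" of `α` over the cosets `a H(a)`, normalised by `|H a|`. -/
noncomputable def dadeTilde (A : Set G) (L : Subgroup G) [Fintype L] (H : G → Subgroup G)
    (α : L → ℂ) (z : G) : ℂ :=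
  ∑ a : L, if ((a : G) ∈ A ∧ (a : G)⁻¹ * z ∈ H a) then α a * (Nat.card (H a) : ℂ)⁻¹ else 0

theorem dadeTilde_coset [Finite G] {A : Set G} {L : Subgroup G} [Fintype L] {H : G → Subgroup G}
    (hD : DadeHypothesis A L H) (α : L → ℂ) (a₀ : L) (ha₀ : (a₀ : G) ∈ A) {u₀ : G}
    (hu₀ : u₀ ∈ H a₀) :
    dadeTilde A L H α (a₀ * u₀) = α a₀ * (Nat.card (H a₀) : ℂ)⁻¹ := by
  classical
  unfold dadeTilde
  rw [Finset.sum_eq_single a₀]
  · rw [if_pos]
    exact ⟨ha₀, by rw [inv_mul_cancel_left]; exact hu₀⟩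
  · intro a _ hne
    rw [if_neg]
    rintro ⟨haA, hmem⟩
    apply hne
    have := dade_conj_eq hD ha₀ haA hu₀ hmem (g := 1) (by group)
    apply Subtype.ext
    exact this.symm.trans (by group)
  · intro h; exact absurd (Finset.mem_univ _) h

theorem dadeTilde_ne_zero {A : Set G} {L : Subgroup G} [Fintype L] {H : G → Subgroup G}
    (α : L → ℂ) (z : G) (h : dadeTilde A L H α z ≠ 0) :
    ∃ a : L, (a : G) ∈ A ∧ (a : G)⁻¹ * z ∈ H a := by
  classical
  by_contra hcon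
  push_neg at hcon
  apply h
  unfold dadeTilde
  apply Finset.sum_eq_zero
  intro a _
  rw [if_neg]
  rintro ⟨h1, h2⟩
  exact hcon a h1 h2

theorem dade_tube_mem [Finite G] {A : Set G} {L : Subgroup G} {H : G → Subgroup G}
    (hD : DadeHypothesis A L H) {a₀ : G} (ha₀ : a₀ ∈ A) {u₀ : G} (hu₀ : u₀ ∈ H a₀) {y a u : G}
    (ha : a ∈ A) (hu : u ∈ H a) (hy : y * (a₀ * u₀) * y⁻¹ = a * u) :
    ∃ l ∈ L, ∃ h ∈ H a₀, y = l * h := by
  have h1 := dade_conj_eq hD ha₀ ha hu₀ hu hy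
  obtain ⟨l, hl, hla⟩ := hD.fusion a₀ ha₀ y (by rw [h1]; exact ha)
  have hc : l⁻¹ * y ∈ Subgroup.centralizer ({a₀} : Set G) := by
    rw [Subgroup.mem_centralizer_iff]
    intro h hh
    rw [Set.mem_singleton_iff.mp hh]
    have e : a₀ = l⁻¹ * (y * a₀ * y⁻¹) * l := by rw [← hla]; group
    calc a₀ * (l⁻¹ * y) = l⁻¹ * (y * a₀ * y⁻¹) * l * (l⁻¹ * y) := by rw [← e]
      _ = l⁻¹ * y * a₀ := by group
  rw [← hD.sup_eq a₀ ha₀, sup_comm] at hc
  obtain ⟨k, hk, x, hx, hkx⟩ :=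
    Cfsg.Agent.Lib.Helper2.exists_mul_of_mem_sup_of_le_normalizer (dade_le_normalizer hD ha₀) hc
  refine ⟨l * k, mul_mem hl hk.1, x, hx, ?_⟩
  rw [mul_assoc, ← hkx]; group

theorem dadeTilde_tube [Finite G] {A : Set G} {L : Subgroup G} [Fintype L] {H : G → Subgroup G}
    (hD : DadeHypothesis A L H) (α : L → ℂ) (hα : IsClassFunction L α) (a₀ : L)
    (ha₀ : (a₀ : G) ∈ A) {u₀ : G} (hu₀ : u₀ ∈ H a₀) (l : L) {h : G} (hh : h ∈ H a₀) :
    dadeTilde A L H α (((l : G) * h) * (a₀ * u₀) * ((l : G) * h)⁻¹)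
      = α a₀ * (Nat.card (H a₀) : ℂ)⁻¹ := by
  have hcomm : (a₀ : G) * h = h * a₀ :=
    Subgroup.mem_centralizer_iff.mp (hD.le_centralizer _ ha₀ hh) _ rfl
  have hcoe : ((l * a₀ * l⁻¹ : L) : G) = (l : G) * a₀ * (l : G)⁻¹ := rfl
  have e : ((l : G) * h) * (a₀ * u₀) * ((l : G) * h)⁻¹
      = ((l * a₀ * l⁻¹ : L) : G) * ((l : G) * (h * u₀ * h⁻¹) * (l : G)⁻¹) := by
    rw [hcoe]
    calc (l : G) * h * (a₀ * u₀) * ((l : G) * h)⁻¹
        = l * (h * a₀) * u₀ * h⁻¹ * (l : G)⁻¹ := by group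
      _ = l * (a₀ * h) * u₀ * h⁻¹ * (l : G)⁻¹ := by rw [hcomm]
      _ = _ := by group
  have hmem : (l : G) * (h * u₀ * h⁻¹) * (l : G)⁻¹ ∈ H ((l * a₀ * l⁻¹ : L) : G) := by
    rw [hcoe]
    exact dade_conj_mem_H hD ha₀ l.2 (mul_mem (mul_mem hh hu₀) (inv_mem hh))
  have hA : ((l * a₀ * l⁻¹ : L) : G) ∈ A := by
    rw [hcoe]; exact hD.conj_mem l l.2 a₀ ha₀
  rw [e, dadeTilde_coset hD α (l * a₀ * l⁻¹) hA hmem, hα a₀ l]
  have hcard : Nat.card (H ((l * a₀ * l⁻¹ : L) : G)) = Nat.card (H (a₀ : G)) := by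
    rw [hcoe]; exact dade_card_conj hD ha₀ l.2
  rw [hcard]

theorem dadeIsometry_eq [Finite G] {A : Set G} {L : Subgroup G} {H : G → Subgroup G}
    (hD : DadeHypothesis A L H) (α : L → ℂ) (hα : IsClassFunction L α) {g : G} (a₀ : L)
    (ha₀ : (a₀ : G) ∈ A) {x u₀ : G} (hu₀ : u₀ ∈ H a₀) (hx : x * g * x⁻¹ = a₀ * u₀) :
    dadeIsometry A L H α g = α a₀ := by
  have hP : ∃ a : ↥L, (a : G) ∈ A ∧ ∃ x : G, ∃ u ∈ H (a : G), x * g * x⁻¹ = (a : G) * u :=
    ⟨a₀, ha₀, x, u₀, hu₀, hx⟩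
  unfold dadeIsometry
  rw [dif_pos hP]
  have hspec := Classical.choose_spec hP
  generalize Classical.choose hP = a' at hspec ⊢
  obtain ⟨ha', x', u', hu', hx'⟩ := hspec
  have h1 : (x * x'⁻¹) * ((a' : G) * u') * (x * x'⁻¹)⁻¹ = a₀ * u₀ := by
    rw [← hx', ← hx]; group
  have h2 := dade_conj_eq hD ha' ha₀ hu' hu₀ h1
  obtain ⟨l, hl, hla⟩ := hD.fusion a' ha' (x * x'⁻¹) (by rw [h2]; exact ha₀)
  have e : (⟨l, hl⟩ : L) * a' * (⟨l, hl⟩ : L)⁻¹ = a₀ := Subtype.ext (hla.trans h2)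
  rw [← e, hα a' ⟨l, hl⟩]

theorem dadeIsometry_classFunction [Finite G] {A : Set G} {L : Subgroup G} {H : G → Subgroup G}
    (hD : DadeHypothesis A L H) (β : L → ℂ) (hβ : IsClassFunction L β) :
    IsClassFunction G (dadeIsometry A L H β) := by
  intro g y
  by_cases hP : ∃ a : ↥L, (a : G) ∈ A ∧ ∃ x : G, ∃ u ∈ H (a : G), x * g * x⁻¹ = (a : G) * u
  · obtain ⟨a₀, ha₀, x, u₀, hu₀, hx⟩ := hP
    rw [dadeIsometry_eq hD β hβ a₀ ha₀ hu₀ hx,
      dadeIsometry_eq hD β hβ a₀ ha₀ hu₀ (x := x * y⁻¹) (by rw [← hx]; group)]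
  · have hP' : ¬ ∃ a : ↥L, (a : G) ∈ A ∧ ∃ x : G, ∃ u ∈ H (a : G),
        x * (y * g * y⁻¹) * x⁻¹ = (a : G) * u := by
      rintro ⟨a₀, ha₀, x, u₀, hu₀, hx⟩
      exact hP ⟨a₀, ha₀, x * y, u₀, hu₀, by rw [← hx]; group⟩
    unfold dadeIsometry
    rw [dif_neg hP, dif_neg hP']

theorem dade_E1 [Fintype G] {A : Set G} {L : Subgroup G} [Fintype L] {H : G → Subgroup G}
    (hD : DadeHypothesis A L H) (α : L → ℂ) (hα : IsClassFunction L α) (g : G) :
    (Nat.card L : ℂ) * dadeIsometry A L H α g = ∑ y : G, dadeTilde A L H α (y * g * y⁻¹) := by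
  classical
  by_cases hP : ∃ a : ↥L, (a : G) ∈ A ∧ ∃ x : G, ∃ u ∈ H (a : G), x * g * x⁻¹ = (a : G) * u
  · obtain ⟨a₀, ha₀, x, u₀, hu₀, hx⟩ := hP
    rw [dadeIsometry_eq hD α hα a₀ ha₀ hu₀ hx]
    have hre : ∑ y : G, dadeTilde A L H α (y * g * y⁻¹)
        = ∑ y : G, dadeTilde A L H α (y * ((a₀ : G) * u₀) * y⁻¹) := by
      rw [← Equiv.sum_comp (Equiv.mulRight x) (fun y => dadeTilde A L H α (y * g * y⁻¹))]
      apply Finset.sum_congr rfl
      intro y _
      simp only [Equiv.coe_mulRight]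
      congr 1
      rw [← hx]; group
    rw [hre]
    letI : Fintype (H (a₀ : G)) := Fintype.ofFinite _
    obtain ⟨φ, hφ⟩ : ∃ φ : L × H (a₀ : G) → G, φ = fun p => (p.1 : G) * (p.2 : G) := ⟨_, rfl⟩
    have hφinj : Function.Injective φ := by
      rintro ⟨l₁, h₁⟩ ⟨l₂, h₂⟩ heq
      have heq' : (l₁ : G) * h₁ = l₂ * h₂ := by rw [hφ] at heq; exact heq
      have e1 : (l₂ : G)⁻¹ * l₁ = h₂ * (h₁ : G)⁻¹ := by
        calc (l₂ : G)⁻¹ * l₁ = (l₂ : G)⁻¹ * (l₁ * h₁) * (h₁ : G)⁻¹ := by group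
          _ = (l₂ : G)⁻¹ * (l₂ * h₂) * (h₁ : G)⁻¹ := by rw [heq']
          _ = _ := by group
      have hm1 : (h₂ : G) * (h₁ : G)⁻¹ ∈ H a₀ := mul_mem h₂.2 (inv_mem h₁.2)
      have hm2 : (h₂ : G) * (h₁ : G)⁻¹ ∈ L := by
        rw [← e1]; exact mul_mem (inv_mem l₂.2) l₁.2
      have hm : (h₂ : G) * (h₁ : G)⁻¹ ∈ H a₀ ⊓ (L ⊓ Subgroup.centralizer ({(a₀ : G)} : Set G)) :=
        ⟨hm1, hm2, hD.le_centralizer _ ha₀ hm1⟩
      rw [hD.inf_eq_bot _ ha₀, Subgroup.mem_bot] at hm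
      have hh : (h₂ : G) = h₁ := by rwa [mul_inv_eq_one] at hm
      have hl : (l₁ : G) = l₂ := by rw [hh] at heq'; exact mul_right_cancel heq'
      exact Prod.ext (Subtype.ext hl) (Subtype.ext hh.symm)
    have hsub : ∑ y : G, dadeTilde A L H α (y * ((a₀ : G) * u₀) * y⁻¹)
        = ∑ y ∈ Finset.univ.image φ, dadeTilde A L H α (y * ((a₀ : G) * u₀) * y⁻¹) := by
      symm
      apply Finset.sum_subset (Finset.subset_univ _)
      intro y _ hy
      by_contra hne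
      obtain ⟨a, haA, hmem⟩ := dadeTilde_ne_zero α _ hne
      obtain ⟨l, hl, h, hh, rfl⟩ := dade_tube_mem hD ha₀ hu₀ haA hmem (y := y) (by group)
      apply hy
      rw [Finset.mem_image]
      refine ⟨(⟨l, hl⟩, ⟨h, hh⟩), Finset.mem_univ _, ?_⟩
      rw [hφ]
    rw [hsub, Finset.sum_image (fun p _ q _ hpq => hφinj hpq)]
    have hval : ∀ p : L × H (a₀ : G),
        dadeTilde A L H α (φ p * ((a₀ : G) * u₀) * (φ p)⁻¹)
          = α a₀ * (Nat.card (H a₀) : ℂ)⁻¹ := by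
      intro p
      rw [hφ]
      exact dadeTilde_tube hD α hα a₀ ha₀ hu₀ p.1 p.2.2
    rw [Finset.sum_congr rfl (fun p _ => hval p), Finset.sum_const, Finset.card_univ,
      Fintype.card_prod, nsmul_eq_mul, ← Nat.card_eq_fintype_card, ← Nat.card_eq_fintype_card]
    push_cast
    have hne : (Nat.card (H (a₀ : G)) : ℂ) ≠ 0 := by exact_mod_cast Nat.card_pos.ne'
    field_simp
  · unfold dadeIsometry
    rw [dif_neg hP, mul_zero]
    symm
    apply Finset.sum_eq_zero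
    intro y _
    by_contra hne
    obtain ⟨a, haA, hmem⟩ := dadeTilde_ne_zero α _ hne
    exact hP ⟨a, haA, y, _, hmem, by group⟩

theorem finsum_mem_eq_sum_ite' {X M : Type*} [Fintype X] [AddCommMonoid M] (s : Set X)
    [DecidablePred (· ∈ s)] (f : X → M) :
    ∑ᶠ i ∈ s, f i = ∑ i, if i ∈ s then f i else 0 := by
  rw [finsum_mem_eq_finite_toFinset_sum f (Set.toFinite s), ← Finset.sum_filter]
  apply Finset.sum_congr _ (fun _ _ => rfl)
  ext i; simp

theorem dade_E2 [Fintype G] {A : Set G} {L : Subgroup G} [Fintype L] {H : G → Subgroup G}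
    (α : L → ℂ) (hαA : ∀ x : L, (x : G) ∉ A → α x = 0) (χ : G → ℂ) (ψ : L → ℂ)
    (hψ : ∀ a : L, (a : G) ∈ A →
      ψ a = (Nat.card (H a) : ℂ)⁻¹ * ∑ᶠ u ∈ (H a : Set G), χ (a * u)) :
    ∑ z : G, dadeTilde A L H α z * conj (χ z) = ∑ a : L, α a * conj (ψ a) := by
  classical
  unfold dadeTilde
  simp_rw [Finset.sum_mul]
  rw [Finset.sum_comm]
  apply Finset.sum_congr rfl
  intro a _
  by_cases haA : (a : G) ∈ A
  · rw [hψ a haA, finsum_mem_eq_sum_ite']
    rw [← Equiv.sum_comp (Equiv.mulLeft (a : G))]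
    rw [map_mul, map_inv₀, map_natCast, map_sum, Finset.mul_sum, Finset.mul_sum]
    apply Finset.sum_congr rfl
    intro w _
    simp only [Equiv.coe_mulLeft, inv_mul_cancel_left]
    by_cases hw : w ∈ H a
    · have hw' : w ∈ (H a : Set G) := hw
      rw [if_pos ⟨haA, hw⟩, if_pos hw']; ring
    · have hw' : w ∉ (H a : Set G) := hw
      rw [if_neg (fun h => hw h.2), if_neg hw']; simp
  · have h0 : α a * conj (ψ a) = 0 := by rw [hαA a haA, zero_mul]
    rw [h0]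
    apply Finset.sum_eq_zero
    intro z _
    rw [if_neg (fun h => haA h.1), zero_mul]

/-- Dade isometry, part (ii). -/
theorem dade_inner [Fintype G] {A : Set G} {L : Subgroup G} [Fintype L] {H : G → Subgroup G}
    (hD : DadeHypothesis A L H) (α : L → ℂ) (hα : IsClassFunction L α)
    (hαA : ∀ x : L, (x : G) ∉ A → α x = 0) (χ : G → ℂ) (hχ : IsClassFunction G χ) (ψ : L → ℂ)
    (hψ : ∀ a : L, (a : G) ∈ A →
      ψ a = (Nat.card (H a) : ℂ)⁻¹ * ∑ᶠ u ∈ (H a : Set G), χ (a * u)) :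
    classInner (dadeIsometry A L H α) χ = classInner α ψ := by
  unfold classInner
  have hL : (Nat.card L : ℂ) ≠ 0 := by exact_mod_cast Nat.card_pos.ne'
  have hG : (Nat.card G : ℂ) ≠ 0 := by exact_mod_cast Nat.card_pos.ne'
  have key : (Nat.card L : ℂ) * ∑ g : G, dadeIsometry A L H α g * conj (χ g)
      = (Nat.card G : ℂ) * ∑ a : L, α a * conj (ψ a) := by
    rw [← dade_E2 α hαA χ ψ hψ, Finset.mul_sum]
    calc ∑ g, (Nat.card L : ℂ) * (dadeIsometry A L H α g * conj (χ g))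
        = ∑ g, ∑ y, dadeTilde A L H α (y * g * y⁻¹) * conj (χ (y * g * y⁻¹)) := by
          apply Finset.sum_congr rfl
          intro g _
          rw [← mul_assoc, dade_E1 hD α hα g, Finset.sum_mul]
          apply Finset.sum_congr rfl
          intro y _
          rw [hχ g y]
      _ = ∑ y, ∑ g, dadeTilde A L H α (y * g * y⁻¹) * conj (χ (y * g * y⁻¹)) := Finset.sum_comm
      _ = ∑ _y : G, ∑ z, dadeTilde A L H α z * conj (χ z) := by
          apply Finset.sum_congr rfl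
          intro y _
          exact Equiv.sum_comp (MulAut.conj y).toEquiv
            (fun z => dadeTilde A L H α z * conj (χ z))
      _ = _ := by
          rw [Finset.sum_const, Finset.card_univ, nsmul_eq_mul, Nat.card_eq_fintype_card]
  have h2 : ∑ g : G, dadeIsometry A L H α g * conj (χ g)
      = (Nat.card L : ℂ)⁻¹ * ((Nat.card G : ℂ) * ∑ a : L, α a * conj (ψ a)) := by
    rw [← key, ← mul_assoc, inv_mul_cancel₀ hL, one_mul]
  rw [h2, ← mul_assoc, ← mul_assoc, mul_comm (Nat.card G : ℂ)⁻¹, mul_assoc (Nat.card L : ℂ)⁻¹,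
    inv_mul_cancel₀ hG, mul_one]

end DadeIso
end Cfsg.Agent.Lib.Helper8
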