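import Mathlib
import Cfsg.Prelude.Def_Characters
import Cfsg.Prelude.Def_Transfer
import Cfsg.Agent.Lib.Helper8.OnePSing
import Cfsg.Agent.Lib.Helper8.CharBurnside
import Cfsg.Agent.Lib.Helper8.CharDegree
import Cfsg.Agent.Lib.Helper9.ExtraSub

set_option autoImplicit false

namespace Cfsg.Agent.Lib.Helper8
open Cfsg
open scoped ComplexConjugate
open scoped commutatorElement

universe u

section OnePSing2

variable {G : Type u} [Group G] [Fintype G]

/-- linear characters are trivial on the commutator subgroup -/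
theorem linear_trivial_on_commutator (ψ : IrrCharacter G) (h1 : ψ.1 1 = 1) :
    ∀ g ∈ commutator G, ψ.1 g = 1 := by
  have hmul := linear_char_mul ψ h1
  have hinv : ∀ x : G, ψ.1 x * ψ.1 x⁻¹ = 1 := by
    intro x; rw [← hmul, mul_inv_cancel, h1]
  let K : Subgroup G :=
    { carrier := {x | ψ.1 x = 1}
      mul_mem' := by
        intro a b ha hb
        show ψ.1 (a * b) = 1
        rw [hmul, ha, hb, mul_one]
      one_mem' := h1
      inv_mem' := by
        intro a ha
        have := hinv a
        rw [ha, one_mul] at this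
        exact this }
  have hK : commutator G ≤ K := by
    rw [commutator_def, Subgroup.commutator_le]
    intro a _ b _
    show ψ.1 ⁅a, b⁆ = 1
    rw [commutatorElement_def, hmul, hmul, hmul]
    have e1 := hinv a
    have e2 := hinv b
    linear_combination (ψ.1 b * ψ.1 b⁻¹) * e1 + e2
  intro g hg
  exact hK hg

/-- a non-commutator element is moved by some linear character -/
theorem exists_linear_ne_one [Fintype (IrrCharacter G)] {g : G} (hg : g ∉ commutator G) :
    ∃ lam : IrrCharacter G, lam.1 1 = 1 ∧ lam.1 g ≠ 1 := by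
  classical
  haveI : (commutator G).Normal := inferInstance
  haveI : Fintype (commutator G) := Fintype.ofFinite _
  have hab : ∀ x y : G, x * y * x⁻¹ * y⁻¹ ∈ commutator G := by
    intro x y
    have : ⁅x, y⁆ ∈ commutator G := by
      rw [commutator_def]
      exact Subgroup.commutator_mem_commutator (Subgroup.mem_top _) (Subgroup.mem_top _)
    rwa [commutatorElement_def] at this
  have hsum := ind_principal_eq_sum (commutator G) inferInstance hab
  have h1 := congrFun hsum 1
  have hg0 := congrFun hsum g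
  rw [indFun_normal_not_mem _ _ hg] at hg0
  rw [indFun_one, mul_one] at h1
  by_contra hno
  push_neg at hno
  have h2 : ∑ ψ ∈ Finset.univ.filter (fun ψ : IrrCharacter G =>
      ψ.1 1 = 1 ∧ ∀ x ∈ commutator G, ψ.1 x = 1), ψ.1 g =
      ∑ ψ ∈ Finset.univ.filter (fun ψ : IrrCharacter G =>
      ψ.1 1 = 1 ∧ ∀ x ∈ commutator G, ψ.1 x = 1), ψ.1 1 := by
    apply Finset.sum_congr rfl
    intro ψ hψ
    simp only [Finset.mem_filter, Finset.mem_univ, true_and] at hψ
    rw [hno ψ hψ.1, hψ.1]
  rw [h2, ← h1] at hg0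
  have : ((commutator G).index : ℂ) ≠ 0 := by
    exact_mod_cast Subgroup.index_ne_zero_of_finite
  exact this hg0.symm

/-- the number of linear characters is at most the index of the commutator subgroup -/
theorem card_linear_le_index [Fintype (IrrCharacter G)] [DecidableEq (IrrCharacter G)]
    (T : Finset (IrrCharacter G)) (hT : ∀ μ ∈ T, μ.1 1 = 1) :
    T.card ≤ (commutator G).index := by
  classical
  haveI : Fintype (commutator G) := Fintype.ofFinite _
  have hΨ : IsCharacter G (indFun (commutator G) (fun _ : commutator G => (1 : ℂ))) :=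
    isCharacter_indFun _ (irr_isCharacter principal_isIrrCharacter)
  obtain ⟨m, hm⟩ := isCharacter_decomp hΨ
  have hΨeq : indFun (commutator G) (fun _ : commutator G => (1 : ℂ)) =
      fun g => ∑ ψ : IrrCharacter G, (m ψ : ℂ) * ψ.1 g := funext hm
  have hmμ : ∀ μ ∈ T, m μ = 1 := by
    intro μ hμ
    have h1 : classInner (indFun (commutator G) (fun _ : commutator G => (1 : ℂ))) μ.1 =
        (m μ : ℂ) := by
      rw [hΨeq]; exact classInner_comb_irr (fun ψ => (m ψ : ℂ)) μ
    rw [frobenius_reciprocity _ _ μ.1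
      (isClassFunction_of_isCharacter (irr_isCharacter μ.2))] at h1
    have h2 : (fun h : commutator G => μ.1 (h : G)) = fun _ => (1 : ℂ) := by
      funext h; exact linear_trivial_on_commutator μ (hT μ hμ) h h.2
    rw [h2, irr_classInner principal_isIrrCharacter principal_isIrrCharacter, if_pos rfl] at h1
    exact_mod_cast h1.symm
  have h1 := hm 1
  rw [indFun_one, mul_one] at h1
  have h2 : ((commutator G).index : ℂ) =
      ((∑ ψ : IrrCharacter G, m ψ * charDegree ψ.1 : ℕ) : ℂ) := by
    rw [h1]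
    push_cast
    apply Finset.sum_congr rfl
    intro ψ _
    rw [irr_one_eq_charDegree ψ]
  have h3 : (commutator G).index = ∑ ψ : IrrCharacter G, m ψ * charDegree ψ.1 := by
    exact_mod_cast h2
  rw [h3]
  calc T.card = ∑ ψ ∈ T, 1 := by simp
    _ ≤ ∑ ψ ∈ T, m ψ * charDegree ψ.1 := by
        apply Finset.sum_le_sum
        intro ψ hψ
        rw [hmμ ψ hψ, one_mul]
        exact charDegree_pos ψ
    _ ≤ ∑ ψ : IrrCharacter G, m ψ * charDegree ψ.1 :=
        Finset.sum_le_sum_of_subset (Finset.subset_univ T)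

/-- degree one as a value and as a natural number -/
theorem irr_one_eq_one_iff (ψ : IrrCharacter G) : ψ.1 1 = 1 ↔ charDegree ψ.1 = 1 := by
  rw [irr_one_eq_charDegree ψ]
  constructor
  · intro h; exact_mod_cast h
  · intro h; rw [h]; simp

/-- a `p`-group with a unique nonlinear irreducible character is an extraspecial `2`-group -/
theorem extraspecial_of_unique_nonlinear (p : ℕ) [hp : Fact p.Prime] (hG : IsPGroup p G)
    (χ : IrrCharacter G) (hχ : χ.1 1 ≠ 1) (huniq : ∀ ψ : IrrCharacter G, ψ.1 1 ≠ 1 → ψ = χ) :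
    p = 2 ∧ IsExtraspecial 2 G := by
  classical
  haveI : Finite (IrrCharacter G) := irr_finite
  haveI : Fintype (IrrCharacter G) := Fintype.ofFinite _
  haveI : Group.IsNilpotent G := hG.isNilpotent
  haveI hcn : (commutator G).Normal := inferInstance
  have hχ1 : χ.1 1 ≠ 0 := irr_one_ne_zero χ
  -- the commutator subgroup is nontrivial
  have hG'ne : commutator G ≠ ⊥ := by
    intro hbot
    apply hχ
    haveI : Fintype (⊥ : Subgroup G) := Fintype.ofFinite _
    have hab : ∀ x y : G, x * y * x⁻¹ * y⁻¹ ∈ (⊥ : Subgroup G) := by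
      intro x y
      have : ⁅x, y⁆ ∈ commutator G := by
        rw [commutator_def]
        exact Subgroup.commutator_mem_commutator (Subgroup.mem_top _) (Subgroup.mem_top _)
      rw [hbot] at this
      rwa [commutatorElement_def] at this
    apply linear_of_over_principal (inferInstance : (⊥ : Subgroup G).Normal) hab χ
    rw [frobenius_reciprocity _ _ χ.1 (isClassFunction_of_isCharacter (irr_isCharacter χ.2))]
    have h2 : (fun h : (⊥ : Subgroup G) => χ.1 (h : G)) = fun _ => χ.1 1 := by
      funext h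
      have : (h : G) = 1 := Subgroup.mem_bot.1 h.2
      rw [this]
    rw [h2]
    have h3 : classInner (fun _ : (⊥ : Subgroup G) => (1 : ℂ)) (fun _ => χ.1 1) =
        conj (χ.1 1) := by
      unfold classInner
      simp only [one_mul, Finset.sum_const, Finset.card_univ, nsmul_eq_mul]
      rw [← Nat.card_eq_fintype_card]
      have : (Nat.card (⊥ : Subgroup G) : ℂ) ≠ 0 := by exact_mod_cast Nat.card_pos.ne'
      field_simp
    rw [h3]
    intro h0
    apply hχ1
    have := congrArg (starRingEnd ℂ) h0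
    simpa using this
  -- a central commutator element of order `p`
  obtain ⟨z₀, hz₀c, hz₀Z, hz₀1⟩ := normal_inf_center_ne_bot (commutator G) hG'ne
  obtain ⟨k, hk⟩ := hG z₀
  have hdvd2 : orderOf z₀ ∣ p ^ k := orderOf_dvd_of_pow_eq_one hk
  obtain ⟨j, _, hj⟩ := (Nat.dvd_prime_pow hp.out).1 hdvd2
  have hj0 : j ≠ 0 := by
    intro h0
    rw [h0, pow_zero, orderOf_eq_one_iff] at hj
    exact hz₀1 hj
  have hqd : p ∣ orderOf z₀ := by rw [hj]; exact dvd_pow_self p hj0
  obtain ⟨z, hzdef⟩ : ∃ z : G, z = z₀ ^ (orderOf z₀ / p) := ⟨_, rfl⟩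
  have hzord : orderOf z = p := by
    rw [hzdef]; exact orderOf_pow_orderOf_div (orderOf_pos z₀).ne' hqd
  have hzc : z ∈ commutator G := by rw [hzdef]; exact Subgroup.pow_mem _ hz₀c _
  have hzZ : z ∈ Subgroup.center G := by rw [hzdef]; exact Subgroup.pow_mem _ hz₀Z _
  have hz1 : z ≠ 1 := by
    intro h
    rw [h, orderOf_one] at hzord
    exact hp.out.one_lt.ne hzord
  obtain ⟨ε, hε0, hε⟩ := irr_central_mul χ hzZ
  have hχz : χ.1 z = ε * χ.1 1 := by
    have := hε 1
    rwa [mul_one] at this
  have hεp : ε ^ p = 1 := by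
    have h1 : ∀ n : ℕ, χ.1 (z ^ n) = ε ^ n * χ.1 1 := by
      intro n
      induction n with
      | zero => simp
      | succ n ih =>
        rw [pow_succ', hε, ih, pow_succ]; ring
    have h2 := h1 p
    rw [← hzord, pow_orderOf_eq_one] at h2
    have h3 : (ε ^ orderOf z - 1) * χ.1 1 = 0 := by rw [sub_mul, ← h2]; ring
    rcases mul_eq_zero.1 h3 with h4 | h4
    · rw [← hzord]; exact sub_eq_zero.1 h4
    · exact absurd h4 hχ1
  -- the two sum formulas
  have hlin : ∀ ψ : IrrCharacter G, ψ ≠ χ → ψ.1 1 = 1 := by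
    intro ψ hψ
    by_contra h
    exact hψ (huniq ψ h)
  have hS1 := irr_sum_deg_mul (G := G) hz1
  have hS2 := irr_sum_deg_sq (G := G)
  rw [← Finset.add_sum_erase _ _ (Finset.mem_univ χ)] at hS1 hS2
  have hE1 : ∑ ψ ∈ Finset.univ.erase χ, ψ.1 1 * ψ.1 z =
      ((Finset.univ.erase χ).card : ℂ) := by
    rw [Finset.sum_congr rfl (g := fun _ => (1 : ℂ)), Finset.sum_const, nsmul_eq_mul, mul_one]
    intro ψ hψ
    have hne := Finset.ne_of_mem_erase hψ
    rw [hlin ψ hne, one_mul, linear_trivial_on_commutator ψ (hlin ψ hne) z hzc]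
  have hE2 : ∑ ψ ∈ Finset.univ.erase χ, ψ.1 1 * ψ.1 1 =
      ((Finset.univ.erase χ).card : ℂ) := by
    rw [Finset.sum_congr rfl (g := fun _ => (1 : ℂ)), Finset.sum_const, nsmul_eq_mul, mul_one]
    intro ψ hψ
    have hne := Finset.ne_of_mem_erase hψ
    rw [hlin ψ hne, one_mul]
  rw [hE1, hχz] at hS1
  rw [hE2] at hS2
  obtain ⟨L, hLdef⟩ : ∃ L : ℕ, L = (Finset.univ.erase χ).card := ⟨_, rfl⟩
  rw [← hLdef] at hS1 hS2
  have hd := irr_one_eq_charDegree χ
  obtain ⟨d, hddef⟩ : ∃ d : ℕ, d = charDegree χ.1 := ⟨_, rfl⟩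
  rw [← hddef] at hd
  rw [hd] at hS1 hS2
  have hd0 : d ≠ 0 := by
    intro h0; apply hχ1; rw [hd, h0]; simp
  have hLpos : 0 < L := by
    rw [hLdef, Finset.card_pos]
    have hprin : (⟨fun _ => (1 : ℂ), principal_isIrrCharacter⟩ : IrrCharacter G) ≠ χ := by
      intro h
      apply hχ
      rw [← h]
    exact ⟨_, Finset.mem_erase.2 ⟨hprin, Finset.mem_univ _⟩⟩
  -- hS1 : d * (ε * d) + L = 0, hS2 : d * d + L = card G
  have hεval : ε = -((L : ℂ) / ((d : ℂ) * d)) := by
    have hdd : (d : ℂ) ≠ 0 := by exact_mod_cast hd0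
    field_simp
    linear_combination hS1
  -- ε is a root of unity and a negative real, so ε = -1
  have hnorm : ‖ε‖ = 1 := Complex.norm_eq_one_of_pow_eq_one hεp hp.out.ne_zero
  have hr : (L : ℝ) / ((d : ℝ) * d) = 1 := by
    have h1 : ‖ε‖ = (L : ℝ) / ((d : ℝ) * d) := by
      rw [hεval, norm_neg, norm_div, norm_mul, Complex.norm_natCast, Complex.norm_natCast]
    rw [← h1, hnorm]
  have hε1 : ε = -1 := by
    rw [hεval]
    have : ((L : ℂ) / ((d : ℂ) * d)) = ((((L : ℝ) / ((d : ℝ) * d)) : ℝ) : ℂ) := by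
      push_cast; rfl
    rw [this, hr]; simp
  have hp2 : p = 2 := by
    rw [hε1] at hεp
    rcases Nat.even_or_odd p with he | ho
    · exact (Nat.Prime.even_iff hp.out).1 he
    · exfalso
      rw [Odd.neg_one_pow ho] at hεp
      norm_num at hεp
  have hLd : L = d * d := by
    have hdd : (d : ℝ) ≠ 0 := by exact_mod_cast hd0
    have : (L : ℝ) = (d : ℝ) * d := by
      field_simp at hr
      linarith
    exact_mod_cast this
  have hcardG : Nat.card G = 2 * L := by
    have : ((Nat.card G : ℕ) : ℂ) = ((2 * L : ℕ) : ℂ) := by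
      rw [← hS2, hLd]; push_cast; ring
    exact_mod_cast this
  -- the commutator subgroup has order 2
  have hLle : L ≤ (commutator G).index := by
    rw [hLdef]
    apply card_linear_le_index
    intro μ hμ
    exact hlin μ (Finset.ne_of_mem_erase hμ)
  have hc2 : Nat.card (commutator G) ≤ 2 := by
    have h1 := Subgroup.card_mul_index (commutator G)
    rw [hcardG] at h1
    by_contra h3
    push_neg at h3
    have : 3 * L ≤ Nat.card (commutator G) * (commutator G).index :=
      Nat.mul_le_mul h3 hLle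
    omega
  have hzz : z * z = 1 := by
    have := pow_orderOf_eq_one z
    rw [hzord, hp2, pow_two] at this
    exact this
  have hc2' : Nat.card (commutator G) = 2 := by
    apply le_antisymm hc2
    have := (Subgroup.one_lt_card_iff_ne_bot (commutator G)).mpr hG'ne
    omega
  obtain ⟨y, hy1, hyuniq⟩ := (Nat.card_eq_two_iff' (1 : ↥(commutator G))).1 hc2'
  have hzy : (⟨z, hzc⟩ : ↥(commutator G)) = y := by
    apply hyuniq
    intro h
    exact hz1 (congrArg Subtype.val h)
  have hmemc : ∀ w ∈ commutator G, w = 1 ∨ w = z := by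
    intro w hw
    by_cases hw1 : w = 1
    · left; exact hw1
    · right
      have : (⟨w, hw⟩ : ↥(commutator G)) = y := by
        apply hyuniq
        intro h
        exact hw1 (congrArg Subtype.val h)
      rw [← hzy] at this
      exact congrArg Subtype.val this
  have hcomm_center : commutator G ≤ Subgroup.center G := by
    intro w hw
    rcases hmemc w hw with h | h
    · rw [h]; exact Subgroup.one_mem _
    · rw [h]; exact hzZ
  -- χ vanishes off the commutator subgroup
  have hvan : ∀ g : G, g ∉ commutator G → χ.1 g = 0 := by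
    intro g hg
    obtain ⟨lam, hl1, hlg⟩ := exists_linear_ne_one hg
    have hirr := linear_mul_isIrr lam hl1 χ.2
    have hne1 : (lam.1 * χ.1) 1 ≠ 1 := by
      rw [Pi.mul_apply, hl1, one_mul]; exact hχ
    have heq := huniq ⟨lam.1 * χ.1, hirr⟩ hne1
    have h5 := congrFun (congrArg Subtype.val heq) g
    simp only [Pi.mul_apply] at h5
    have h6 : (lam.1 g - 1) * χ.1 g = 0 := by rw [sub_mul, one_mul, h5, sub_self]
    rcases mul_eq_zero.1 h6 with h7 | h7
    · exact absurd (sub_eq_zero.1 h7) hlg
    · exact h7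
  have hcenter_comm : Subgroup.center G ≤ commutator G := by
    intro c hc
    by_contra hcn
    obtain ⟨ε', hε'0, hε'⟩ := irr_central_mul χ hc
    have := hε' 1
    rw [mul_one, hvan c hcn] at this
    exact (mul_ne_zero hε'0 hχ1) this.symm
  have hZeq : Subgroup.center G = commutator G := le_antisymm hcenter_comm hcomm_center
  have hcardZ : Nat.card (Subgroup.center G) = 2 := by
    rw [hZeq]; exact hc2'
  refine ⟨hp2, ?_⟩
  have hG2 : IsPGroup 2 G := by rw [← hp2]; exact hG
  haveI : Fact (Nat.Prime 2) := ⟨Nat.prime_two⟩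
  have hcommel : ∀ x y : G, ⁅x, y⁆ ∈ commutator G := by
    intro x y
    rw [commutator_def]
    exact Subgroup.commutator_mem_commutator (Subgroup.mem_top _) (Subgroup.mem_top _)
  apply Cfsg.Agent.Lib.Helper9.isExtraspecial_of_center 2 hG2 hcardZ
  · intro x y
    exact hcomm_center (hcommel x y)
  · intro x
    rw [Subgroup.mem_center_iff]
    intro y
    have hc := hcommel x y
    have hcc : ⁅x, y⁆ * ⁅x, y⁆ = 1 := by
      rcases hmemc _ hc with h | h
      · rw [h, one_mul]
      · rw [h]; exact hzz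
    have hcZ := Subgroup.mem_center_iff.1 (hcomm_center hc)
    have hxy : x * y = ⁅x, y⁆ * (y * x) := by rw [commutatorElement_def]; group
    calc y * x ^ 2 = (⁅x, y⁆ * ⁅x, y⁆) * (y * x * x) := by rw [hcc, one_mul, pow_two, mul_assoc]
      _ = ⁅x, y⁆ * ((⁅x, y⁆ * (y * x)) * x) := by simp only [mul_assoc]
      _ = ⁅x, y⁆ * (x * y * x) := by rw [← hxy]
      _ = x * (⁅x, y⁆ * (y * x)) := by
          rw [← mul_assoc x ⁅x, y⁆, hcZ x]; simp only [mul_assoc]
      _ = x * (x * y) := by rw [← hxy]
      _ = x ^ 2 * y := by rw [pow_two, mul_assoc]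
  · by_contra hno
    push_neg at hno
    apply hG'ne
    rw [eq_bot_iff, commutator_def, Subgroup.commutator_le]
    intro a _ b _
    rw [Subgroup.mem_bot, commutatorElement_eq_one_iff_mul_comm]
    exact hno a b

end OnePSing2

end Cfsg.Agent.Lib.Helper8
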