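import Mathlib
import Cfsg.Prelude.Def_Characters
import Cfsg.Prelude.Def_CaseTheorems
import Cfsg.Agent.Lib.Helper8.AbelChief
import Cfsg.Agent.Lib.Helper8.OnePSing2
import Cfsg.Agent.Lib.Helper8.FrobRam
import Cfsg.Agent.Lib.Helper1.Fitting

set_option autoImplicit false
set_option maxHeartbeats 1000000

namespace Cfsg.Agent.Lib.Helper8
open Cfsg
open scoped ComplexConjugate
open scoped Classical

universe u

section DegMinusVal

variable {G : Type u} [Group G] [Fintype G] [Fintype (IrrCharacter G)]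

theorem linear_ne_zero' (ψ : IrrCharacter G) (h1 : ψ.1 1 = 1) (g : G) : ψ.1 g ≠ 0 := by
  intro h0
  have h2 : ψ.1 (g * g⁻¹) = ψ.1 g * ψ.1 g⁻¹ := linear_char_mul ψ h1 g g⁻¹
  rw [mul_inv_cancel, h1, h0, zero_mul] at h2
  exact one_ne_zero h2

theorem orth_one (u : G) (hu : u ≠ 1) : ∑ χ : IrrCharacter G, χ.1 u * χ.1 1 = 0 := by
  have h := irr_sum_mul_conj u (1 : G)
  rw [if_neg (by intro hc; exact hu (isConj_one_left.mp hc))] at h
  rw [← h]; apply Finset.sum_congr rfl; intro χ _
  rw [irr_one_eq_charDegree χ]; simp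

theorem orth_contra (u : G) (hu : u ≠ 1)
    (h : ∀ χ : IrrCharacter G, χ.1 ≠ (fun _ => (1 : ℂ)) → 0 ≤ (χ.1 u * χ.1 1).re) : False := by
  have h0 := orth_one u hu
  have h1 := congrArg Complex.re h0
  rw [Complex.re_sum] at h1
  simp only [Complex.zero_re] at h1
  obtain ⟨one, hone⟩ : ∃ one : IrrCharacter G, one.1 = fun _ => (1 : ℂ) :=
    ⟨⟨fun _ => 1, principal_isIrrCharacter⟩, rfl⟩
  have h2 : (1 : ℝ) ≤ ∑ χ : IrrCharacter G, (χ.1 u * χ.1 1).re := by
    rw [← Finset.add_sum_erase _ _ (Finset.mem_univ one)]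
    have h3 : (one.1 u * one.1 1).re = 1 := by rw [hone]; simp
    rw [h3]
    have h4 : 0 ≤ ∑ χ ∈ Finset.univ.erase one, (χ.1 u * χ.1 1).re := by
      apply Finset.sum_nonneg; intro χ hχ
      apply h
      intro heq; exact (Finset.ne_of_mem_erase hχ) (Subtype.ext (heq.trans hone.symm))
    linarith
  linarith

/-- the degree of a nonlinear character -/
theorem two_le_charDegree (χ : IrrCharacter G) (h : χ.1 1 ≠ 1) : 2 ≤ charDegree χ.1 := by
  have h1 := charDegree_pos χ
  have h2 : charDegree χ.1 ≠ 1 := fun h3 => h ((irr_one_eq_one_iff χ).mpr h3)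
  omega

theorem re_deg_term (χ : IrrCharacter G) (u : G) (h2 : 2 ≤ charDegree χ.1)
    (hval : χ.1 1 - χ.1 u = 2) : χ.1 u * χ.1 1 =
      (((charDegree χ.1 : ℝ) - 2) * (charDegree χ.1 : ℝ) : ℝ) := by
  have h1 := irr_one_eq_charDegree χ
  have h3 : χ.1 u = χ.1 1 - 2 := by linear_combination -hval
  rw [h3, h1]; push_cast; ring

section main

variable (u : G) (hu : u ≠ 1) (c : ℂ)
  (hyp : ∀ χ : IrrCharacter G, χ.1 ≠ (fun _ => (1 : ℂ)) →
    (χ.1 1 - χ.1 u = c ∨ χ.1 u = 0))

include hu hyp

theorem dmv_c_ne_zero : c ≠ 0 := by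
  intro hc0
  apply orth_contra u hu
  intro χ hχ
  rcases hyp χ hχ with h | h
  · have h1 : χ.1 u = χ.1 1 := by rw [hc0] at h; linear_combination -h
    rw [h1, irr_one_eq_charDegree χ, ← Nat.cast_mul, Complex.natCast_re]
    positivity
  · rw [h, zero_mul, Complex.zero_re]

theorem dmv_linear_val (μ : IrrCharacter G) (h1 : μ.1 1 = 1) (hne : μ.1 ≠ fun _ => (1 : ℂ)) :
    μ.1 u = 1 - c := by
  rcases hyp μ hne with h | h
  · rw [h1] at h; linear_combination -h
  · exact absurd h (linear_ne_zero' μ h1 u)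

/-- not perfect forces `c = 2` and a unique nonprincipal linear character -/
theorem dmv_of_not_perfect (hnp : commutator G ≠ ⊤) :
    c = 2 ∧ ∃ lam : IrrCharacter G, lam.1 1 = 1 ∧ lam.1 u = -1 ∧
      (∀ g, lam.1 g * lam.1 g = 1) ∧
      ∀ μ : IrrCharacter G, μ.1 1 = 1 → (μ.1 = fun _ => (1 : ℂ)) ∨ μ = lam := by
  have hc0 := dmv_c_ne_zero u hu c hyp
  obtain ⟨g, hg⟩ : ∃ g : G, g ∉ commutator G := by
    by_contra h; push_neg at h
    exact hnp (eq_top_iff.mpr (fun x _ => h x))
  obtain ⟨lam, hl1, hlg⟩ := exists_linear_ne_one hg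
  have hlne : lam.1 ≠ fun _ => (1 : ℂ) := fun h => hlg (congrFun h g)
  have hlu := dmv_linear_val u hu c hyp lam hl1 hlne
  have hlu0 : lam.1 u ≠ 0 := linear_ne_zero' lam hl1 u
  obtain ⟨μ, hμ⟩ : ∃ μ : IrrCharacter G, μ.1 = lam.1 * lam.1 :=
    ⟨⟨lam.1 * lam.1, linear_mul_isIrr lam hl1 lam.2⟩, rfl⟩
  have hμ1 : μ.1 1 = 1 := by rw [hμ, Pi.mul_apply, hl1, mul_one]
  have hμu : μ.1 u = (1 - c) * (1 - c) := by rw [hμ, Pi.mul_apply, hlu]
  have hμprin : μ.1 = fun _ => (1 : ℂ) := by
    by_contra hne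
    have h1 := dmv_linear_val u hu c hyp μ hμ1 hne
    rw [hμu] at h1
    have h2 : (1 - c) * c = 0 := by linear_combination -h1
    rcases mul_eq_zero.mp h2 with h3 | h3
    · apply hlu0; rw [hlu]; exact h3
    · exact hc0 h3
  have hsq : ∀ x, lam.1 x * lam.1 x = 1 := by
    intro x
    have := congrFun hμprin x
    rw [hμ, Pi.mul_apply] at this
    exact this
  have hc2 : c = 2 := by
    have h1 := hsq u
    rw [hlu] at h1
    have h2 : c * (c - 2) = 0 := by linear_combination h1
    rcases mul_eq_zero.mp h2 with h3 | h3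
    · exact absurd h3 hc0
    · linear_combination h3
  refine ⟨hc2, lam, hl1, by rw [hlu, hc2]; norm_num, hsq, ?_⟩
  intro ν hν1
  by_cases hνp : ν.1 = fun _ => (1 : ℂ)
  · left; exact hνp
  · right
    have hνu := dmv_linear_val u hu c hyp ν hν1 hνp
    obtain ⟨ρ, hρ⟩ : ∃ ρ : IrrCharacter G, ρ.1 = ν.1 * lam.1 :=
      ⟨⟨ν.1 * lam.1, linear_mul_isIrr ν hν1 lam.2⟩, rfl⟩
    have hρ1 : ρ.1 1 = 1 := by rw [hρ, Pi.mul_apply, hl1, hν1, mul_one]
    have hρu : ρ.1 u = 1 := by
      rw [hρ, Pi.mul_apply, hνu, hlu, hc2]; norm_num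
    have hρprin : ρ.1 = fun _ => (1 : ℂ) := by
      by_contra hne
      have h1 := dmv_linear_val u hu c hyp ρ hρ1 hne
      rw [hρu, hc2] at h1
      norm_num at h1
    apply Subtype.ext
    funext x
    have h1 := congrFun hρprin x
    rw [hρ, Pi.mul_apply] at h1
    calc ν.1 x = ν.1 x * (lam.1 x * lam.1 x) := by rw [hsq x, mul_one]
      _ = (ν.1 x * lam.1 x) * lam.1 x := by ring
      _ = lam.1 x := by rw [h1, one_mul]

/-- `c = 2` forces imperfect -/
theorem dmv_not_perfect_of_two (hc : c = 2) : commutator G ≠ ⊤ := by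
  intro htop
  apply orth_contra u hu
  intro χ hχ
  have hnl : χ.1 1 ≠ 1 := by
    intro h1
    apply hχ
    funext g
    exact linear_trivial_on_commutator χ h1 g (by rw [htop]; exact Subgroup.mem_top g)
  have h2 := two_le_charDegree χ hnl
  rcases hyp χ hχ with h | h
  · rw [hc] at h
    rw [re_deg_term χ u h2 h, Complex.ofReal_re]
    have h3 : (2 : ℝ) ≤ (charDegree χ.1 : ℝ) := by exact_mod_cast h2
    nlinarith
  · rw [h, zero_mul, Complex.zero_re]

/-- the structure in the imperfect case -/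
theorem dmv_structure (hnp : commutator G ≠ ⊤) :
    orderOf u = 2 ∧ Subgroup.zpowers u ⊔ Cfsg.oddCore G = ⊤ ∧
      Subgroup.centralizer ({u} : Set G) = Subgroup.zpowers u := by
  obtain ⟨hc2, lam, hl1, hlu, hsq, huniq⟩ := dmv_of_not_perfect u hu c hyp hnp
  obtain ⟨one, hone⟩ : ∃ one : IrrCharacter G, one.1 = fun _ => (1 : ℂ) :=
    ⟨⟨fun _ => 1, principal_isIrrCharacter⟩, rfl⟩
  have hone_ne : one ≠ lam := by
    intro h
    have h1 : one.1 u = -1 := by rw [h]; exact hlu
    rw [hone] at h1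
    norm_num at h1
  -- all other characters vanish at u
  have hvan : ∀ χ : IrrCharacter G, χ ≠ one ∧ χ ≠ lam → χ.1 u = 0 := by
    have h0 := orth_one u hu
    have h1 := congrArg Complex.re h0
    rw [Complex.re_sum] at h1
    simp only [Complex.zero_re] at h1
    rw [← Finset.add_sum_erase _ _ (Finset.mem_univ one),
      ← Finset.add_sum_erase _ _ (Finset.mem_erase.mpr ⟨hone_ne.symm, Finset.mem_univ lam⟩)] at h1
    have h3 : (one.1 u * one.1 1).re = 1 := by rw [hone]; simp
    have h4 : (lam.1 u * lam.1 1).re = -1 := by rw [hlu, hl1]; simp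
    rw [h3, h4] at h1
    have hterm : ∀ χ ∈ (Finset.univ.erase one).erase lam, 0 ≤ (χ.1 u * χ.1 1).re ∧
        ((χ.1 u * χ.1 1).re = 0 → χ.1 u = 0) := by
      intro χ hχ
      have hχl : χ ≠ lam := Finset.ne_of_mem_erase hχ
      have hχo : χ ≠ one := Finset.ne_of_mem_erase (Finset.mem_of_mem_erase hχ)
      have hχne : χ.1 ≠ fun _ => (1 : ℂ) := fun h => hχo (Subtype.ext (h.trans hone.symm))
      have hnl : χ.1 1 ≠ 1 := by
        intro h1'
        rcases huniq χ h1' with h | h
        · exact hχne h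
        · exact hχl h
      have h2 := two_le_charDegree χ hnl
      rcases hyp χ hχne with h | h
      · rw [hc2] at h
        rw [re_deg_term χ u h2 h, Complex.ofReal_re]
        have h5 : (2 : ℝ) ≤ (charDegree χ.1 : ℝ) := by exact_mod_cast h2
        refine ⟨by nlinarith, ?_⟩
        intro h6
        have h7 : (charDegree χ.1 : ℝ) - 2 = 0 := by
          rcases mul_eq_zero.mp h6 with h8 | h8
          · exact h8
          · linarith
        have h8 : χ.1 u = χ.1 1 - 2 := by linear_combination -h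
        rw [h8, irr_one_eq_charDegree χ]
        have h9 : ((charDegree χ.1 : ℝ) : ℂ) - 2 = 0 := by
          rw [← Complex.ofReal_ofNat, ← Complex.ofReal_sub, h7, Complex.ofReal_zero]
        simpa using h9
      · rw [h, zero_mul, Complex.zero_re]
        exact ⟨le_refl _, fun _ => rfl⟩
    have hsum0 : ∑ χ ∈ (Finset.univ.erase one).erase lam, (χ.1 u * χ.1 1).re = 0 := by
      linarith
    have hall := (Finset.sum_eq_zero_iff_of_nonneg (fun χ hχ => (hterm χ hχ).1)).mp hsum0
    intro χ hχ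
    have hmem : χ ∈ (Finset.univ.erase one).erase lam :=
      Finset.mem_erase.mpr ⟨hχ.2, Finset.mem_erase.mpr ⟨hχ.1, Finset.mem_univ χ⟩⟩
    exact (hterm χ hmem).2 (hall χ hmem)
  -- the centralizer has order 2
  have hC2 : Nat.card (Subgroup.centralizer ({u} : Set G)) = 2 := by
    have h := irr_sum_mul_conj u u
    rw [if_pos (IsConj.refl u)] at h
    rw [Fintype.sum_eq_add one lam hone_ne (fun χ hχ => by rw [hvan χ hχ, zero_mul])] at h
    rw [hone, hlu] at h
    have h2 : ((Nat.card (Subgroup.centralizer ({u} : Set G)) : ℕ) : ℂ) = ((2 : ℕ) : ℂ) := by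
      rw [← h]; simp; norm_num
    exact_mod_cast h2
  have hzle : Subgroup.zpowers u ≤ Subgroup.centralizer ({u} : Set G) := by
    rw [Subgroup.zpowers_le, Subgroup.mem_centralizer_singleton_iff]
  have hord : orderOf u = 2 := by
    have h1 : orderOf u ≤ 2 := by
      rw [← Nat.card_zpowers, ← hC2]; exact Subgroup.card_le_of_le hzle
    have h2 : orderOf u ≠ 1 := fun h => hu (orderOf_eq_one_iff.mp h)
    have h3 : 0 < orderOf u := orderOf_pos u
    omega
  have hcent : Subgroup.centralizer ({u} : Set G) = Subgroup.zpowers u := by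
    symm
    apply Subgroup.eq_of_le_of_card_ge hzle
    rw [hC2, Nat.card_zpowers, hord]
  refine ⟨hord, ?_, hcent⟩
  -- Sylow argument
  haveI : Fact (Nat.Prime 2) := ⟨Nat.prime_two⟩
  have hpu : IsPGroup 2 (Subgroup.zpowers u) := by
    apply IsPGroup.of_card (n := 1); rw [Nat.card_zpowers, hord]; rfl
  obtain ⟨S, hS⟩ := hpu.exists_le_sylow
  have huS : u ∈ (S : Subgroup G) := hS (Subgroup.mem_zpowers u)
  haveI : Nontrivial (S : Subgroup G) :=
    ⟨⟨⟨u, huS⟩, 1, fun h => hu (congrArg Subtype.val h)⟩⟩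
  haveI hcn : Nontrivial (Subgroup.center (S : Subgroup G)) :=
    IsPGroup.center_nontrivial S.isPGroup'
  obtain ⟨z, hz⟩ := exists_ne (1 : Subgroup.center (S : Subgroup G))
  have hzcomm : ∀ s : (S : Subgroup G), ((s : G)) * ((z : (S : Subgroup G)) : G) =
      ((z : (S : Subgroup G)) : G) * (s : G) := by
    intro s
    have h1 := Subgroup.mem_center_iff.mp z.2 s
    exact congrArg Subtype.val h1
  have hzu : ((z : (S : Subgroup G)) : G) ∈ Subgroup.zpowers u := by
    rw [← hcent, Subgroup.mem_centralizer_singleton_iff]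
    exact (hzcomm ⟨u, huS⟩).symm
  have hz' : ((z : (S : Subgroup G)) : G) = u := by
    obtain ⟨k, hk⟩ := Subgroup.mem_zpowers_iff.mp hzu
    rcases Int.emod_two_eq_zero_or_one k with h | h
    · exfalso; apply hz
      apply Subtype.ext; apply Subtype.ext
      rw [← hk, ← zpow_mod_orderOf, hord]
      simp [h]
    · rw [← hk, ← zpow_mod_orderOf, hord]
      simp [h]
  have hSle : (S : Subgroup G) ≤ Subgroup.centralizer ({u} : Set G) := by
    intro s hs
    rw [Subgroup.mem_centralizer_singleton_iff]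
    have h1 := hzcomm ⟨s, hs⟩
    rw [hz'] at h1
    exact h1
  have hScard : Nat.card (S : Subgroup G) = 2 := by
    apply le_antisymm
    · exact le_trans (Subgroup.card_le_of_le hSle) hC2.le
    · have h1 := Subgroup.card_le_of_le hS
      rw [Nat.card_zpowers, hord] at h1
      exact h1
  have hidx : ¬ 2 ∣ (S : Subgroup G).index := S.not_dvd_index
  -- the commutator subgroup has index 2
  haveI : Fintype (commutator G) := Fintype.ofFinite _
  have hab : ∀ x y : G, x * y * x⁻¹ * y⁻¹ ∈ commutator G := by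
    intro x y
    rw [commutator_def, ← commutatorElement_def]
    exact Subgroup.commutator_mem_commutator (Subgroup.mem_top x) (Subgroup.mem_top y)
  have hindex : (commutator G).index = 2 := by
    have hind := ind_principal_eq_sum (commutator G) inferInstance hab
    have h1 := congrFun hind 1
    rw [indFun_one, mul_one] at h1
    have hfil : Finset.univ.filter (fun ψ : IrrCharacter G =>
        ψ.1 1 = 1 ∧ ∀ x ∈ commutator G, ψ.1 x = 1) = {one, lam} := by
      ext ψ
      simp only [Finset.mem_filter, Finset.mem_univ, true_and, Finset.mem_insert,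
        Finset.mem_singleton]
      constructor
      · rintro ⟨h2, _⟩
        rcases huniq ψ h2 with h | h
        · left; exact Subtype.ext (h.trans hone.symm)
        · right; exact h
      · rintro (h | h)
        · rw [h, hone]; exact ⟨rfl, fun _ _ => rfl⟩
        · rw [h]; exact ⟨hl1, linear_trivial_on_commutator lam hl1⟩
    rw [hfil, Finset.sum_pair hone_ne, hone, hl1] at h1
    have h2 : (((commutator G).index : ℕ) : ℂ) = ((2 : ℕ) : ℂ) := by rw [h1]; norm_num
    exact_mod_cast h2
  have hunot : u ∉ commutator G := by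
    intro h
    have h1 := linear_trivial_on_commutator lam hl1 u h
    rw [hlu] at h1
    norm_num at h1
  have hodd : (Nat.card (commutator G)).Coprime 2 := by
    have h1 := Subgroup.card_mul_index (commutator G)
    have h2 := Subgroup.card_mul_index (S : Subgroup G)
    rw [hindex] at h1
    rw [hScard] at h2
    have h3 : Nat.card (commutator G) = (S : Subgroup G).index := by omega
    rw [h3]
    exact (Nat.Prime.coprime_iff_not_dvd Nat.prime_two).mpr hidx |>.symm
  have hle : commutator G ≤ Cfsg.oddCore G := le_sSup ⟨inferInstance, hodd⟩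
  rw [eq_top_iff]
  intro g _
  by_cases hg : g ∈ commutator G
  · exact Subgroup.mem_sup_right (hle hg)
  · have h1 : u⁻¹ * g ∈ commutator G := by
      rw [Subgroup.mul_mem_iff_of_index_two hindex]
      constructor
      · intro h; exact absurd ((commutator G).inv_mem_iff.mp h) hunot
      · intro h; exact absurd h hg
    have h2 : g = u * (u⁻¹ * g) := by group
    rw [h2]
    exact Subgroup.mul_mem_sup (Subgroup.mem_zpowers u) (hle h1)

omit hu hyp in
/-- the converse structure statement -/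
theorem dmv_not_perfect_of_structure (hord : orderOf u = 2)
    (hsup : Subgroup.zpowers u ⊔ Cfsg.oddCore G = ⊤) : commutator G ≠ ⊤ := by
  haveI : Fact (Nat.Prime 2) := ⟨Nat.prime_two⟩
  haveI hOn : (Cfsg.oddCore G).Normal := Cfsg.Agent.Lib.Helper1.pPrimeCore_normal 2
  have hOodd : (Nat.card (Cfsg.oddCore G)).Coprime 2 := Cfsg.Agent.Lib.Helper1.pPrimeCore_coprime 2
  intro htop
  -- the quotient is cyclic
  have hcyc : IsCyclic (G ⧸ Cfsg.oddCore G) := by
    refine ⟨⟨QuotientGroup.mk u, ?_⟩⟩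
    intro y
    obtain ⟨x, rfl⟩ := QuotientGroup.mk_surjective y
    have hx : x ∈ Subgroup.zpowers u ⊔ Cfsg.oddCore G := by rw [hsup]; exact Subgroup.mem_top x
    rw [Subgroup.mem_sup_of_normal_right] at hx
    obtain ⟨a, ha, b, hb, rfl⟩ := hx
    obtain ⟨k, rfl⟩ := Subgroup.mem_zpowers_iff.mp ha
    refine ⟨k, ?_⟩
    show (QuotientGroup.mk u : G ⧸ Cfsg.oddCore G) ^ k = _
    rw [← QuotientGroup.mk_zpow, QuotientGroup.eq]
    have : (u ^ k)⁻¹ * (u ^ k * b) = b := by group
    rw [this]; exact hb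
  have hle : commutator G ≤ Cfsg.oddCore G := by
    rw [commutator_def, Subgroup.commutator_le]
    intro x _ y _
    rw [commutatorElement_def]
    exact comm_mem_of_cyclic_quot (Cfsg.oddCore G) hcyc x y
  rw [htop, top_le_iff] at hle
  have h1 : Nat.card (Cfsg.oddCore G) = Nat.card G := by
    rw [hle]; exact Subgroup.card_top
  have h2 : orderOf u ∣ Nat.card G := orderOf_dvd_natCard u
  rw [hord, ← h1] at h2
  have h3 := Nat.Coprime.eq_one_of_dvd hOodd.symm h2
  omega

end main

end DegMinusVal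

end Cfsg.Agent.Lib.Helper8
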