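import Mathlib

set_option autoImplicit false
set_option maxHeartbeats 1000000

namespace Cfsg.Agent.Lib.Helper8

section FrobClass

open scoped Classical

theorem comm_card_group {G : Type*} [Group G] [Fintype G] :
    Nat.card (ConjClasses G) * Nat.card G =
      ∑ x : G, ∑ y : G, (if x * y = y * x then 1 else 0) := by
  rw [← card_comm_eq_card_conjClasses_mul_card,
    Nat.subtype_card (Finset.univ.filter (fun p : G × G => p.1 * p.2 = p.2 * p.1))
      (by intro p; simp [Commute, SemiconjBy]),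
    Finset.card_filter, Fintype.sum_prod_type]

theorem comm_card_subgroup {G : Type*} [Group G] [Fintype G] (S : Subgroup G) :
    Nat.card (ConjClasses S) * Nat.card S =
      ∑ x : G, ∑ y : G, (if x ∈ S ∧ y ∈ S ∧ x * y = y * x then 1 else 0) := by
  rw [← card_comm_eq_card_conjClasses_mul_card]
  have e : {p : S × S // Commute p.1 p.2} ≃
      {p : G × G // p.1 ∈ S ∧ p.2 ∈ S ∧ p.1 * p.2 = p.2 * p.1} :=
    { toFun := fun p => ⟨(p.1.1.1, p.1.2.1), p.1.1.2, p.1.2.2, congrArg Subtype.val p.2.eq⟩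
      invFun := fun q => ⟨(⟨q.1.1, q.2.1⟩, ⟨q.1.2, q.2.2.1⟩), Subtype.ext q.2.2.2⟩
      left_inv := fun p => by
        rcases p with ⟨⟨⟨a, ha⟩, ⟨b, hb⟩⟩, hc⟩
        rfl
      right_inv := fun q => by
        rcases q with ⟨⟨a, b⟩, ha, hb, hc⟩
        rfl }
  rw [Nat.card_congr e, Nat.subtype_card (Finset.univ.filter
    (fun p : G × G => p.1 ∈ S ∧ p.2 ∈ S ∧ p.1 * p.2 = p.2 * p.1)) (by simp),
    Finset.card_filter, Fintype.sum_prod_type]

/-- the class number of a Frobenius group -/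
theorem frob_class_count {G : Type*} [Group G] [Fintype G] (K H : Subgroup G) [hK : K.Normal]
    (hKH : K ⊓ H = ⊥) (hKH' : K ⊔ H = ⊤)
    (hfpf : ∀ h ∈ H, h ≠ 1 → ∀ k ∈ K, h * k = k * h → k = 1) :
    Nat.card H * Nat.card (ConjClasses G) + 1 =
      Nat.card H * Nat.card (ConjClasses H) + Nat.card (ConjClasses K) := by
  have hcardG : Nat.card G = Nat.card K * Nat.card H := by
    have hc : Subgroup.IsComplement' K H :=
      Subgroup.isComplement'_of_disjoint_and_mul_eq_univ (disjoint_iff.mpr hKH)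
        (by rw [← Subgroup.normal_mul, hKH']; rfl)
    exact hc.card_mul.symm
  have hKpos : 0 < Nat.card K := Nat.card_pos
  have hinter : ∀ g : G, g ∈ K → g ∈ H → g = 1 := by
    intro g h1 h2
    have : g ∈ K ⊓ H := ⟨h1, h2⟩
    rw [hKH] at this; exact Subgroup.mem_bot.mp this
  -- centralizers of complement elements
  have hF2 : ∀ h ∈ H, h ≠ 1 → ∀ y : G, h * y = y * h → y ∈ H := by
    intro h hh h1 y hy
    have hy' : y ∈ K ⊔ H := by rw [hKH']; exact Subgroup.mem_top y
    rw [Subgroup.mem_sup_of_normal_left] at hy'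
    obtain ⟨k, hk, h', hh', rfl⟩ := hy'
    have h2 : k⁻¹ * (h * k * h⁻¹) = (h' * h) * (h * h')⁻¹ := by
      have h0 : h * k = k * h' * h * h'⁻¹ := by
        calc h * k = h * (k * h') * h'⁻¹ := by group
          _ = (k * h') * h * h'⁻¹ := by rw [hy]
          _ = k * h' * h * h'⁻¹ := by group
      calc k⁻¹ * (h * k * h⁻¹) = k⁻¹ * (h * k) * h⁻¹ := by group
        _ = k⁻¹ * (k * h' * h * h'⁻¹) * h⁻¹ := by rw [h0]
        _ = (h' * h) * (h * h')⁻¹ := by group
    have h3 : k⁻¹ * (h * k * h⁻¹) ∈ K := K.mul_mem (K.inv_mem hk) (hK.conj_mem k hk h)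
    have h4 : k⁻¹ * (h * k * h⁻¹) ∈ H := by
      rw [h2]; exact H.mul_mem (H.mul_mem hh' hh) (H.inv_mem (H.mul_mem hh hh'))
    have h5 := hinter _ h3 h4
    have h6 : h * k = k * h := by
      have h7 : h * k * h⁻¹ = k := by
        have h8 := congrArg (fun z => k * z) h5
        simpa using h8
      calc h * k = (h * k * h⁻¹) * h := by group
        _ = k * h := by rw [h7]
    have h7 := hfpf h hh h1 k hk h6
    rw [h7, one_mul]; exact hh'
  -- every outside element is conjugate into the complement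
  have hF4 : ∀ y : G, y ∉ K → ∃ k ∈ K, ∃ h ∈ H, h ≠ 1 ∧ y = k * h * k⁻¹ := by
    intro y hy
    have hy' : y ∈ K ⊔ H := by rw [hKH']; exact Subgroup.mem_top y
    rw [Subgroup.mem_sup_of_normal_left] at hy'
    obtain ⟨k₀, hk₀, h, hh, rfl⟩ := hy'
    have h1 : h ≠ 1 := by rintro rfl; apply hy; simpa using hk₀
    have hfmem : ∀ k : K, (k : G) * h * (k : G)⁻¹ * h⁻¹ ∈ K := by
      intro k
      have h0 : (k : G) * h * (k : G)⁻¹ * h⁻¹ = (k : G) * (h * (k : G)⁻¹ * h⁻¹) := by group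
      rw [h0]; exact K.mul_mem k.2 (hK.conj_mem _ (K.inv_mem k.2) h)
    have hinj : Function.Injective
        (fun k : K => (⟨(k : G) * h * (k : G)⁻¹ * h⁻¹, hfmem k⟩ : K)) := by
      intro k₁ k₂ h12
      have h2 : (k₁ : G) * h * (k₁ : G)⁻¹ * h⁻¹ = (k₂ : G) * h * (k₂ : G)⁻¹ * h⁻¹ :=
        congrArg Subtype.val h12
      have h4 : (k₁ : G) * h * (k₁ : G)⁻¹ = (k₂ : G) * h * (k₂ : G)⁻¹ := mul_right_cancel h2
      have h3 : h * ((k₁ : G)⁻¹ * k₂) = ((k₁ : G)⁻¹ * k₂) * h := by
        calc h * ((k₁ : G)⁻¹ * k₂) = (k₁ : G)⁻¹ * ((k₁ : G) * h * (k₁ : G)⁻¹) * k₂ := by group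
          _ = (k₁ : G)⁻¹ * ((k₂ : G) * h * (k₂ : G)⁻¹) * k₂ := by rw [h4]
          _ = ((k₁ : G)⁻¹ * k₂) * h := by group
      have h5 := hfpf h hh h1 _ (K.mul_mem (K.inv_mem k₁.2) k₂.2) h3
      apply Subtype.ext
      exact inv_mul_eq_one.mp h5
    obtain ⟨k, hk⟩ := (Finite.injective_iff_surjective.mp hinj) ⟨k₀, hk₀⟩
    refine ⟨k, k.2, h, hh, h1, ?_⟩
    have h2 : (k : G) * h * (k : G)⁻¹ * h⁻¹ = k₀ := congrArg Subtype.val hk
    rw [← h2]; group
  -- centralizers of kernel elements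
  have hF3 : ∀ x ∈ K, x ≠ 1 → ∀ y : G, x * y = y * x → y ∈ K := by
    intro x hx hx1 y hxy
    by_contra hy
    obtain ⟨k, hk, h, hh, h1, rfl⟩ := hF4 y hy
    apply hx1
    have h2 : h * (k⁻¹ * x * k) = (k⁻¹ * x * k) * h := by
      calc h * (k⁻¹ * x * k) = k⁻¹ * ((k * h * k⁻¹) * x) * k := by group
        _ = k⁻¹ * (x * (k * h * k⁻¹)) * k := by rw [← hxy]
        _ = (k⁻¹ * x * k) * h := by group
    have h3 := hfpf h hh h1 _ (by have := hK.conj_mem x hx k⁻¹; simpa using this) h2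
    have h4 : x = k * (k⁻¹ * x * k) * k⁻¹ := by group
    rw [h4, h3]; group
  obtain ⟨c, hc⟩ : ∃ c : G → ℕ, c = fun x => ∑ y : G, (if x * y = y * x then 1 else 0) :=
    ⟨_, rfl⟩
  have hcG := comm_card_group (G := G)
  have hcK := comm_card_subgroup K
  have hcH := comm_card_subgroup H
  have hcG' : Nat.card (ConjClasses G) * Nat.card G = ∑ x : G, c x := by rw [hcG, hc]
  have hfK : (Finset.univ.filter (fun x : G => x ∈ K)).card = Nat.card K :=
    (Nat.subtype_card _ (by simp)).symm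
  have hfH : (Finset.univ.filter (fun x : G => x ∈ H)).card = Nat.card H :=
    (Nat.subtype_card _ (by simp)).symm
  have hc1 : c 1 = Nat.card G := by
    rw [hc]; simp [Nat.card_eq_fintype_card]
  have hA : ∀ x : G, (if x ∈ K then c x else 0) + (if x = 1 then Nat.card K else 0) =
      (if x = 1 then Nat.card G else 0) +
        ∑ y : G, (if x ∈ K ∧ y ∈ K ∧ x * y = y * x then 1 else 0) := by
    intro x
    by_cases hx1 : x = 1
    · subst hx1
      rw [if_pos K.one_mem, if_pos rfl, if_pos rfl, hc1]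
      have h0 : ∑ y : G, (if (1 : G) ∈ K ∧ y ∈ K ∧ 1 * y = y * 1 then 1 else 0) = Nat.card K := by
        rw [← hfK, Finset.card_filter]
        apply Finset.sum_congr rfl; intro y _
        apply if_congr _ rfl rfl
        simp [K.one_mem]
      rw [h0]
    · rw [if_neg hx1, if_neg hx1, add_zero, zero_add]
      by_cases hx : x ∈ K
      · rw [if_pos hx, hc]
        apply Finset.sum_congr rfl; intro y _
        apply if_congr _ rfl rfl
        constructor
        · intro h; exact ⟨hx, hF3 x hx hx1 y h, h⟩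
        · rintro ⟨_, _, h⟩; exact h
      · rw [if_neg hx]
        symm; apply Finset.sum_eq_zero; intro y _
        rw [if_neg]; rintro ⟨h, _⟩; exact hx h
  have hAsum : ∑ x : G, (if x ∈ K then c x else 0) + Nat.card K =
      Nat.card G + Nat.card (ConjClasses K) * Nat.card K := by
    have h0 := Finset.sum_congr (rfl : (Finset.univ : Finset G) = Finset.univ)
      (fun x _ => hA x)
    simp only [Finset.sum_add_distrib, Finset.sum_ite_eq', Finset.mem_univ, if_true] at h0
    rw [hcK]; exact h0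
  have hB : ∀ h : G, (if h ∈ H ∧ h ≠ 1 then c h else 0) + (if h = 1 then Nat.card H else 0) =
      ∑ y : G, (if h ∈ H ∧ y ∈ H ∧ h * y = y * h then 1 else 0) := by
    intro h
    by_cases hh1 : h = 1
    · subst hh1
      rw [if_neg (fun hh => hh.2 rfl), if_pos rfl, zero_add]
      rw [← hfH, Finset.card_filter]
      apply Finset.sum_congr rfl; intro y _
      apply if_congr _ rfl rfl
      simp [H.one_mem]
    · rw [if_neg hh1, add_zero]
      by_cases hh : h ∈ H
      · rw [if_pos ⟨hh, hh1⟩, hc]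
        apply Finset.sum_congr rfl; intro y _
        apply if_congr _ rfl rfl
        constructor
        · intro hy; exact ⟨hh, hF2 h hh hh1 y hy, hy⟩
        · rintro ⟨_, _, hy⟩; exact hy
      · rw [if_neg (fun h' => hh h'.1)]
        symm; apply Finset.sum_eq_zero; intro y _
        rw [if_neg]; rintro ⟨h', _⟩; exact hh h'
  have hBsum : ∑ h : G, (if h ∈ H ∧ h ≠ 1 then c h else 0) + Nat.card H =
      Nat.card (ConjClasses H) * Nat.card H := by
    have h0 := Finset.sum_congr (rfl : (Finset.univ : Finset G) = Finset.univ)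
      (fun x _ => hB x)
    simp only [Finset.sum_add_distrib, Finset.sum_ite_eq', Finset.mem_univ, if_true] at h0
    rw [hcH]; exact h0
  have hconj : ∀ k h : G, c (k * h * k⁻¹) = c h := by
    intro k h
    rw [hc]
    simp only
    rw [← Equiv.sum_comp (MulAut.conj k).toEquiv]
    apply Finset.sum_congr rfl; intro y _
    apply if_congr _ rfl rfl
    simp only [MulEquiv.toEquiv_eq_coe, EquivLike.coe_coe, MulAut.conj_apply]
    constructor
    · intro h1
      have h0 : h * y = k⁻¹ * (k * h * k⁻¹ * (k * y * k⁻¹)) * k := by group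
      rw [h0, h1]; group
    · intro h1
      have h0 : k * h * k⁻¹ * (k * y * k⁻¹) = k * (h * y) * k⁻¹ := by group
      rw [h0, h1]; group
  have hSB : ∑ x : G, (if x ∈ K then 0 else c x) =
      Nat.card K * ∑ h : G, (if h ∈ H ∧ h ≠ 1 then c h else 0) := by
    have h1 : ∑ x : G, (if x ∈ K then 0 else c x) =
        ∑ x ∈ Finset.univ.filter (fun x : G => x ∉ K), c x := by
      rw [Finset.sum_filter]; apply Finset.sum_congr rfl; intro x _
      by_cases hx : x ∈ K <;> simp [hx]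
    have h2 : Nat.card K * ∑ h : G, (if h ∈ H ∧ h ≠ 1 then c h else 0) =
        ∑ p ∈ (Finset.univ.filter (fun x : G => x ∈ K)) ×ˢ
          (Finset.univ.filter (fun h : G => h ∈ H ∧ h ≠ 1)), c p.2 := by
      rw [Finset.sum_product]
      have h0 : ∀ x : G, ∑ y ∈ Finset.univ.filter (fun h : G => h ∈ H ∧ h ≠ 1),
          c ((x, y) : G × G).2 = ∑ h : G, (if h ∈ H ∧ h ≠ 1 then c h else 0) := by
        intro x; rw [Finset.sum_filter]
      rw [Finset.sum_congr rfl (fun x _ => h0 x), Finset.sum_const, hfK, smul_eq_mul]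
    rw [h1, h2]
    symm
    apply Finset.sum_bij (fun p _ => p.1 * p.2 * p.1⁻¹)
    · intro p hp
      simp only [Finset.mem_product, Finset.mem_filter, Finset.mem_univ, true_and] at hp ⊢
      intro hmem
      have h3 : p.2 ∈ K := by
        have := hK.conj_mem _ hmem p.1⁻¹
        simpa [mul_assoc] using this
      exact hp.2.2 (hinter _ h3 hp.2.1)
    · intro p hp q hq hpq
      simp only [Finset.mem_product, Finset.mem_filter, Finset.mem_univ, true_and] at hp hq
      have h3 : (q.1⁻¹ * p.1) * p.2 * (q.1⁻¹ * p.1)⁻¹ = q.2 := by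
        have h0 : (q.1⁻¹ * p.1) * p.2 * (q.1⁻¹ * p.1)⁻¹ = q.1⁻¹ * (p.1 * p.2 * p.1⁻¹) * q.1 := by
          group
        rw [h0, hpq]; group
      have hkK : q.1⁻¹ * p.1 ∈ K := K.mul_mem (K.inv_mem hq.1) hp.1
      have h4 : (q.1⁻¹ * p.1) * p.2 * (q.1⁻¹ * p.1)⁻¹ * p.2⁻¹ ∈ K := by
        have h0 : (q.1⁻¹ * p.1) * p.2 * (q.1⁻¹ * p.1)⁻¹ * p.2⁻¹ =
            (q.1⁻¹ * p.1) * (p.2 * (q.1⁻¹ * p.1)⁻¹ * p.2⁻¹) := by group
        rw [h0]; exact K.mul_mem hkK (hK.conj_mem _ (K.inv_mem hkK) p.2)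
      have h5 : (q.1⁻¹ * p.1) * p.2 * (q.1⁻¹ * p.1)⁻¹ * p.2⁻¹ ∈ H := by
        rw [h3]; exact H.mul_mem hq.2.1 (H.inv_mem hp.2.1)
      have h6 := hinter _ h4 h5
      rw [h3] at h6
      have h7 : q.2 = p.2 := mul_inv_eq_one.mp h6
      rw [h7] at h3
      have h8 : p.2 * (q.1⁻¹ * p.1) = (q.1⁻¹ * p.1) * p.2 := by
        calc p.2 * (q.1⁻¹ * p.1)
            = ((q.1⁻¹ * p.1) * p.2 * (q.1⁻¹ * p.1)⁻¹) * (q.1⁻¹ * p.1) := by rw [h3]
          _ = (q.1⁻¹ * p.1) * p.2 := by group
      have h9 := hfpf p.2 hp.2.1 hp.2.2 _ hkK h8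
      have h10 : q.1 = p.1 := inv_mul_eq_one.mp h9
      exact Prod.ext h10.symm h7.symm
    · intro x hx
      simp only [Finset.mem_filter, Finset.mem_univ, true_and] at hx
      obtain ⟨k, hk, h, hh, h1, rfl⟩ := hF4 x hx
      exact ⟨(k, h), by simp [hk, hh, h1], rfl⟩
    · intro p _
      exact (hconj p.1 p.2).symm
  have hsplit : ∑ x : G, c x = ∑ x : G, (if x ∈ K then c x else 0) +
      ∑ x : G, (if x ∈ K then 0 else c x) := by
    rw [← Finset.sum_add_distrib]; apply Finset.sum_congr rfl; intro x _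
    by_cases hx : x ∈ K <;> simp [hx]
  rw [hsplit, hSB, hcardG] at hcG'
  rw [hcardG] at hAsum
  have hfinal : Nat.card K * (Nat.card H * Nat.card (ConjClasses G) + 1) =
      Nat.card K * (Nat.card H * Nat.card (ConjClasses H) + Nat.card (ConjClasses K)) := by
    zify at hcG' hAsum hBsum ⊢
    linear_combination hcG' + hAsum + (Nat.card K : ℤ) * hBsum
  exact Nat.eq_of_mul_eq_mul_left hKpos hfinal

end FrobClass

end Cfsg.Agent.Lib.Helper8
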