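import Mathlib
import Cfsg.Prelude.Def_Characters
import Cfsg.Agent.Lib.Helper8.CharOrth
import Cfsg.Agent.Lib.Helper8.CharPerm
import Cfsg.Agent.Lib.Helper8.CharComplete2
import Cfsg.Agent.Lib.Helper8.CharLinHom
import Cfsg.Agent.Lib.Helper8.CharBessel

set_option autoImplicit false

namespace Cfsg.Agent.Lib.Helper8
open Cfsg
open scoped ComplexConjugate Kronecker

variable {G : Type*} [Group G]

/-- If an irreducible character is not equal to its complex conjugate then its Frobenius–Schur sum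
vanishes. -/
theorem fs_zero_of_ne_conj [Fintype G] {χ : G → ℂ} (hχ : IsIrrCharacter G χ)
    (hne : χ ≠ fun g => conj (χ g)) : ∑ g : G, χ (g * g) = 0 := by
  classical
  have hGne : (Nat.card G : ℂ) ≠ 0 := Nat.cast_ne_zero.mpr Nat.card_pos.ne'
  have horth : classInner χ (fun g => conj (χ g)) = 0 := by
    rw [irr_classInner hχ (irr_conj hχ), if_neg hne]
  have hsq : ∑ g : G, χ g * χ g = 0 := by
    unfold classInner at horth
    rcases mul_eq_zero.mp horth with h | h
    · exact absurd (inv_eq_zero.mp h) hGne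
    · simpa using h
  obtain ⟨n, ρ, hρ, rfl⟩ := hχ
  obtain ⟨M, hM⟩ : ∃ M : G → Matrix (Fin n) (Fin n) ℂ, M = fun g => LinearMap.toMatrix' (ρ g) :=
    ⟨_, rfl⟩
  have hMmul : ∀ g h : G, M (g * h) = M g * M h := by
    intro g h
    rw [hM]
    simp only [map_mul]
    exact LinearMap.toMatrix'_mul _ _
  have htr : ∀ g : G, ρ.character g = (M g).trace := by
    intro g
    rw [hM]
    show LinearMap.trace ℂ _ (ρ g) = _
    rw [LinearMap.trace_eq_matrix_trace ℂ (Pi.basisFun ℂ (Fin n)) (ρ g),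
      LinearMap.toMatrix_eq_toMatrix']
  obtain ⟨K, hK⟩ : ∃ K : Matrix (Fin n × Fin n) (Fin n × Fin n) ℂ,
      K = ∑ g : G, (M g) ⊗ₖ (M g) := ⟨_, rfl⟩
  have hKtr : K.trace = 0 := by
    rw [hK, Matrix.trace_sum]
    rw [← hsq]
    apply Finset.sum_congr rfl
    intro g _
    rw [Matrix.trace_kronecker, htr g]
  have hKK : K * K = (Nat.card G : ℂ) • K := by
    rw [hK, Finset.sum_mul]
    have h1 : ∀ g : G, (M g ⊗ₖ M g) * ∑ h : G, (M h ⊗ₖ M h) = ∑ h : G, (M h ⊗ₖ M h) := by
      intro g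
      rw [Finset.mul_sum]
      rw [← Equiv.sum_comp (Equiv.mulLeft g) (fun h => M h ⊗ₖ M h)]
      apply Finset.sum_congr rfl
      intro h _
      rw [Equiv.coe_mulLeft, hMmul, Matrix.mul_kronecker_mul]
    rw [Finset.sum_congr rfl (fun g _ => h1 g), Finset.sum_const, Finset.card_univ,
      Nat.card_eq_fintype_card]
    rw [Nat.cast_smul_eq_nsmul]
  obtain ⟨P, hP⟩ : ∃ P : Matrix (Fin n × Fin n) (Fin n × Fin n) ℂ,
      P = (Nat.card G : ℂ)⁻¹ • K := ⟨_, rfl⟩
  have hPP : P * P = P := by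
    rw [hP, Matrix.smul_mul, Matrix.mul_smul, hKK, smul_smul, smul_smul]
    congr 1
    field_simp
  have hPtr : P.trace = 0 := by
    rw [hP, Matrix.trace_smul, hKtr, smul_zero]
  have hidem : IsIdempotentElem (Matrix.toLin' P) := by
    show Matrix.toLin' P ∘ₗ Matrix.toLin' P = Matrix.toLin' P
    rw [← Matrix.toLin'_mul, hPP]
  have hlin0 : Matrix.toLin' P = 0 := by
    apply (LinearMap.IsIdempotentElem.trace_eq_zero_iff hidem).mp
    rw [Matrix.trace_toLin'_eq, hPtr]
  have hP0 : P = 0 := by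
    have := congrArg LinearMap.toMatrix' hlin0
    rwa [LinearMap.toMatrix'_toLin', map_zero] at this
  have hK0 : K = 0 := by
    rw [hP] at hP0
    rcases smul_eq_zero.mp hP0 with h | h
    · exact absurd (inv_eq_zero.mp h) hGne
    · exact h
  -- conclude
  have hgg : ∀ g : G, ρ.character (g * g) = ∑ i, ∑ j, (M g) i j * (M g) j i := by
    intro g
    rw [htr, hMmul, Matrix.trace]
    apply Finset.sum_congr rfl
    intro i _
    rw [Matrix.diag_apply, Matrix.mul_apply]
  rw [Finset.sum_congr rfl (fun g _ => hgg g), Finset.sum_comm]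
  apply Finset.sum_eq_zero
  intro i _
  rw [Finset.sum_comm]
  apply Finset.sum_eq_zero
  intro j _
  have := congrFun (congrFun hK0 (i, j)) (j, i)
  rw [hK, Matrix.sum_apply] at this
  simpa [Matrix.kroneckerMap_apply] using this

theorem im_zero_of_eq_conj {χ : G → ℂ} (h : χ = fun g => conj (χ g)) (g : G) : (χ g).im = 0 := by
  have := congrFun h g
  exact Complex.conj_eq_iff_im.mp this.symm

/-- If `g` is not a square, some non-principal real-valued irreducible character does not vanish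
at `g`. -/
theorem exists_real_nonvanishing [Finite G] (g : G) (hns : ¬ ∃ u : G, u * u = g) :
    ∃ χ : IrrCharacter G, ¬ (χ.1 = fun _ => (1 : ℂ)) ∧ (∀ h : G, (χ.1 h).im = 0) ∧ χ.1 g ≠ 0 := by
  classical
  haveI : Fintype G := Fintype.ofFinite G
  haveI : Finite (IrrCharacter G) := irr_finite
  haveI : Fintype (IrrCharacter G) := Fintype.ofFinite _
  by_contra hcon
  push_neg at hcon
  have hGne : (Nat.card G : ℂ) ≠ 0 := Nat.cast_ne_zero.mpr Nat.card_pos.ne'
  have h1irr : IsIrrCharacter G (fun _ => (1 : ℂ)) := by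
    have := linFun_isIrr (1 : G →* ℂˣ)
    have e : linFun (1 : G →* ℂˣ) = fun _ => (1 : ℂ) := by
      ext h; simp
    rwa [e] at this
  have hT0 : ∑ u : G, ∑ χ : IrrCharacter G, χ.1 (u * u) * conj (χ.1 g) = 0 := by
    apply Finset.sum_eq_zero
    intro u _
    rw [irr_sum_mul_conj, if_neg]
    intro hc
    rw [isConj_iff] at hc
    obtain ⟨c, hc⟩ := hc
    apply hns
    refine ⟨c * u * c⁻¹, ?_⟩
    rw [← hc]; group
  rw [Finset.sum_comm] at hT0
  rw [Finset.sum_eq_single (⟨_, h1irr⟩ : IrrCharacter G)] at hT0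
  · simp only [map_one, mul_one, Finset.sum_const, Finset.card_univ, nsmul_eq_mul] at hT0
    rw [← Nat.card_eq_fintype_card] at hT0
    exact hGne hT0
  · intro χ _ hχne
    have hχ1 : ¬ (χ.1 = fun _ => (1 : ℂ)) := fun e => hχne (Subtype.ext e)
    by_cases hreal : χ.1 = fun h => conj (χ.1 h)
    · have := hcon χ hχ1 (im_zero_of_eq_conj hreal)
      simp_rw [this, map_zero, mul_zero]
      exact Finset.sum_const_zero
    · rw [← Finset.sum_mul, fs_zero_of_ne_conj χ.2 hreal, zero_mul]
  · intro h; exact absurd (Finset.mem_univ _) h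

end Cfsg.Agent.Lib.Helper8
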