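import Mathlib
import Cfsg.Prelude.Def_Solvable

set_option autoImplicit false

namespace Cfsg.Agent.Lib.Helper8
open scoped Pointwise

theorem mem_conj_smul_iff {G : Type*} [Group G] (H : Subgroup G) (g x : G) :
    x ∈ MulAut.conj g • H ↔ ∃ y ∈ H, g * y * g⁻¹ = x := by
  rw [Subgroup.mem_smul_pointwise_iff_exists]
  simp only [MulAut.smul_def, MulAut.conj_apply]

/-- A complement `H` to a self-centralizing normal subgroup `P` of prime order is a Frobenius
complement, and the Frobenius kernel is `P`. -/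
theorem frobenius_of_selfcentralizing {G : Type*} [Group G] [Finite G] (p : ℕ) [Fact p.Prime]
    (P : Subgroup G) [hPn : P.Normal] (hcard : Nat.card P = p)
    (hC : Subgroup.centralizer (P : Set G) ≤ P) (H : Subgroup G)
    (hcompl : Subgroup.IsComplement' P H) (hH : H ≠ ⊥) :
    Cfsg.IsFrobeniusComplement H ∧ Cfsg.frobeniusKernel H = (P : Set G) := by
  classical
  have hp : p.Prime := Fact.out
  have hdisj : ∀ x, x ∈ P → x ∈ H → x = 1 := fun x h1 h2 =>
    Subgroup.disjoint_def.mp hcompl.disjoint h1 h2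
  have hdecomp : ∀ g : G, ∃ u ∈ P, ∃ h ∈ H, g = u * h := by
    intro g
    obtain ⟨⟨u, h⟩, huh⟩ := hcompl.2 g
    exact ⟨u.1, u.2, h.1, h.2, huh.symm⟩
  have : Fact (Nat.card P).Prime := ⟨hcard ▸ hp⟩
  -- a nontrivial element of `P` generates `P`
  have hgen : ∀ u ∈ P, u ≠ 1 → ∀ y : G, y * u = u * y → y ∈ P := by
    intro u hu hu1 y hy
    apply hC
    rw [Subgroup.mem_centralizer_iff]
    intro x hx
    have hx' : (⟨x, hx⟩ : P) ∈ Subgroup.zpowers (⟨u, hu⟩ : P) :=
      mem_zpowers_of_prime_card hcard (fun h => hu1 (congrArg Subtype.val h))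
    obtain ⟨k, hk⟩ := Subgroup.mem_zpowers_iff.mp hx'
    have hxk : x = u ^ k := by
      have := congrArg Subtype.val hk
      simpa using this.symm
    rw [hxk]
    have hcomm : Commute y u := hy
    exact (hcomm.zpow_right k).symm
  have hPne : ∃ u ∈ P, u ≠ 1 := by
    by_contra hcon
    push Not at hcon
    have : P = ⊥ := by
      rw [eq_bot_iff]
      intro x hx
      exact Subgroup.mem_bot.mpr (hcon x hx)
    rw [this, Subgroup.card_bot] at hcard
    exact hp.one_lt.ne' hcard.symm
  have hHtop : H ≠ ⊤ := by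
    intro h
    obtain ⟨u, hu, hu1⟩ := hPne
    exact hu1 (hdisj u hu (h ▸ Subgroup.mem_top u))
  -- noncentralizing of nontrivial elements of H
  have hHfree : ∀ h ∈ H, h ≠ 1 → ∀ v ∈ P, v * h = h * v → v = 1 := by
    intro h hh hh1 v hv hvh
    by_contra hv1
    have : h ∈ P := hgen v hv hv1 h hvh.symm
    exact hh1 (hdisj h this hh)
  refine ⟨⟨hH, hHtop, ?_⟩, ?_⟩
  · intro g hg
    rw [eq_bot_iff]
    intro y hy
    rw [Subgroup.mem_inf] at hy
    obtain ⟨hyH, hyc⟩ := hy
    rw [mem_conj_smul_iff] at hyc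
    obtain ⟨y', hy', hgy⟩ := hyc
    obtain ⟨u, hu, h, hh, rfl⟩ := hdecomp g
    have hu1 : u ≠ 1 := by
      intro h1
      apply hg
      rw [h1, one_mul]; exact hh
    set y'' := h * y' * h⁻¹ with hy''
    have hy''H : y'' ∈ H := H.mul_mem (H.mul_mem hh hy') (H.inv_mem hh)
    have hyu : y = u * y'' * u⁻¹ := by
      rw [← hgy, hy'']; group
    have h1 : y''⁻¹ * y ∈ P := by
      have h2 : y''⁻¹ * y = (y''⁻¹ * u * y''⁻¹⁻¹) * u⁻¹ := by rw [hyu]; group
      rw [h2]
      exact P.mul_mem (hPn.conj_mem u hu _) (P.inv_mem hu)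
    have h2 : y''⁻¹ * y ∈ H := H.mul_mem (H.inv_mem hy''H) hyH
    have h3 : y'' = y := by
      have := hdisj _ h1 h2
      exact inv_mul_eq_one.mp this
    rw [h3] at hyu
    have h4 : y * u = u * y := by
      calc y * u = u * y * u⁻¹ * u := by rw [← hyu]
        _ = u * y := by group
    have h5 : y ∈ P := hgen u hu hu1 y h4
    exact Subgroup.mem_bot.mpr (hdisj y h5 hyH)
  · ext x
    constructor
    · rintro (rfl | hx)
      · exact P.one_mem
      · by_contra hxP
        obtain ⟨u, hu, h, hh, rfl⟩ := hdecomp x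
        have hh1 : h ≠ 1 := by
          intro h1
          apply hxP
          rw [h1, mul_one]; exact hu
        let ψ : P → P := fun v => ⟨v.1 * h * v.1⁻¹ * h⁻¹, by
          have : v.1 * h * v.1⁻¹ * h⁻¹ = v.1 * (h * v.1⁻¹ * h⁻¹) := by group
          rw [this]
          exact P.mul_mem v.2 (hPn.conj_mem _ (P.inv_mem v.2) h)⟩
        have hinj : Function.Injective ψ := by
          intro v w hvw
          have h1 : v.1 * h * v.1⁻¹ * h⁻¹ = w.1 * h * w.1⁻¹ * h⁻¹ := congrArg Subtype.val hvw
          have h2 : v.1 * h * v.1⁻¹ = w.1 * h * w.1⁻¹ := mul_right_cancel h1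
          have h3 : (w.1⁻¹ * v.1) * h = h * (w.1⁻¹ * v.1) := by
            calc (w.1⁻¹ * v.1) * h = w.1⁻¹ * (v.1 * h * v.1⁻¹) * v.1 := by group
              _ = w.1⁻¹ * (w.1 * h * w.1⁻¹) * v.1 := by rw [h2]
              _ = h * (w.1⁻¹ * v.1) := by group
          have h4 := hHfree h hh hh1 _ (P.mul_mem (P.inv_mem w.2) v.2) h3
          apply Subtype.ext
          have : v.1 = w.1 := by
            have := inv_mul_eq_one.mp h4
            exact this.symm
          exact this
        have hsurj : Function.Surjective ψ := Finite.injective_iff_surjective.mp hinj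
        obtain ⟨v, hv⟩ := hsurj ⟨u, hu⟩
        have hv' : v.1 * h * v.1⁻¹ * h⁻¹ = u := congrArg Subtype.val hv
        apply hx v.1
        rw [mem_conj_smul_iff]
        refine ⟨h, hh, ?_⟩
        rw [← hv']; group
    · intro hxP
      by_cases hx1 : x = 1
      · left; exact hx1
      · right
        intro g hxg
        rw [mem_conj_smul_iff] at hxg
        obtain ⟨y, hy, hgy⟩ := hxg
        have hyP : y ∈ P := by
          have : y = g⁻¹ * x * g⁻¹⁻¹ := by rw [← hgy]; group
          rw [this]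
          exact hPn.conj_mem x hxP _
        have := hdisj y hyP hy
        apply hx1
        rw [← hgy, this]; group

end Cfsg.Agent.Lib.Helper8
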