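import Mathlib
import Cfsg.Prelude.Def_Characters
import Cfsg.Agent.Lib.Helper8.GlaubRefine
import Cfsg.Agent.Lib.Helper8.DadeElem

set_option autoImplicit false
set_option maxHeartbeats 1000000

universe u

namespace Cfsg.Agent.Lib.Helper8
open Cfsg
open scoped ComplexConjugate

variable {Γ : Type u} [Group Γ]

/-- `S` normalises `G`. -/
def Normalizes (S G : Subgroup Γ) : Prop := ∀ s ∈ S, ∀ g ∈ G, s * g * s⁻¹ ∈ G

/-- `χ` is invariant under conjugation by `S`. -/
def SInv (S G : Subgroup Γ) (χ : G → ℂ) : Prop :=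
  ∀ s ∈ S, ∀ g g' : G, (g' : Γ) = s * g * s⁻¹ → χ g' = χ g

/-- Conjugation automorphisms of a normalised subgroup. -/
def normAut {S G : Subgroup Γ} (h : Normalizes S G) : S →* MulAut G where
  toFun s :=
    { toFun := fun g => ⟨s * g * s⁻¹, h s s.2 g g.2⟩
      invFun := fun g => ⟨s⁻¹ * g * s, by
        have := h (s⁻¹ : S) (s⁻¹).2 g g.2
        simpa using this⟩
      left_inv := fun g => Subtype.ext (by simp [mul_assoc])
      right_inv := fun g => Subtype.ext (by simp [mul_assoc])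
      map_mul' := fun a b => Subtype.ext (by simp [mul_assoc]) }
  map_one' := by ext g; simp
  map_mul' := fun a b => by ext g; simp [mul_assoc]

theorem normAut_apply_coe {S G : Subgroup Γ} (h : Normalizes S G) (s : S) (g : G) :
    ((normAut h s g : G) : Γ) = s * g * s⁻¹ := rfl

theorem sInv_iff {S G : Subgroup Γ} (h : Normalizes S G) (χ : G → ℂ) :
    SInv S G χ ↔ ∀ s : S, χ ∘ (normAut h s) = χ := by
  constructor
  · intro hinv s
    funext g
    exact hinv s s.2 g (normAut h s g) rfl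
  · intro hfix s hs g g' hgg'
    have h1 := congrFun (hfix ⟨s, hs⟩) g
    have h2 : normAut h ⟨s, hs⟩ g = g' := Subtype.ext hgg'.symm
    rw [← h2]
    exact h1

/-- The action of `S` on the irreducible characters of a normalised subgroup. -/
noncomputable def irrNormAction {S G : Subgroup Γ} (h : Normalizes S G) :
    MulAction S (IrrCharacter G) where
  smul s φ := ⟨φ.1 ∘ (normAut h s⁻¹), isIrrCharacter_comp_equiv _ φ.2⟩
  one_smul φ := by
    apply Subtype.ext
    funext g
    show φ.1 (normAut h (1 : S)⁻¹ g) = φ.1 g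
    rw [inv_one, map_one]; rfl
  mul_smul a b φ := by
    apply Subtype.ext
    funext g
    show φ.1 (normAut h (a * b)⁻¹ g) = φ.1 (normAut h b⁻¹ (normAut h a⁻¹ g))
    rw [mul_inv_rev, map_mul]; rfl

theorem irrNormAction_smul {S G : Subgroup Γ} (h : Normalizes S G) (s : S) (φ : IrrCharacter G) :
    (letI := irrNormAction h; s • φ).1 = φ.1 ∘ (normAut h s⁻¹) := rfl

theorem sInv_iff_fixed {S G : Subgroup Γ} (h : Normalizes S G) (φ : IrrCharacter G) :
    SInv S G φ.1 ↔ ∀ s : S, (letI := irrNormAction h; s • φ) = φ := by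
  rw [sInv_iff h]
  constructor
  · intro hfix s
    apply Subtype.ext
    rw [irrNormAction_smul]
    exact hfix s⁻¹
  · intro hfix s
    have := congrArg Subtype.val (hfix s⁻¹)
    rw [irrNormAction_smul, inv_inv] at this
    exact this

/-- Restriction of an invariant function pairs equally with conjugate characters. -/
theorem multZ_res_conj [Finite Γ] {S G B : Subgroup Γ} (hB : Normalizes S B) (hBG : B ≤ G)
    (χ : G → ℂ) (hχ : SInv S G χ) (β : B → ℂ) (s : S) :
    multZ (fun b : B => χ ⟨b, hBG b.2⟩) (β ∘ normAut hB s) =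
      multZ (fun b : B => χ ⟨b, hBG b.2⟩) β := by
  have h1 : (fun b : B => χ ⟨b, hBG b.2⟩) = (fun b : B => χ ⟨b, hBG b.2⟩) ∘ normAut hB s := by
    funext b
    symm
    exact hχ s s.2 ⟨b, hBG b.2⟩ ⟨normAut hB s b, hBG (normAut hB s b).2⟩ rfl
  conv_lhs => rw [h1]
  exact multZ_comp_equiv (normAut hB s) _ _

/-- Conjugation by `S` does not change the restriction to a centralised subgroup. -/
theorem res_conj_central {S B C : Subgroup Γ} (hB : Normalizes S B) (hCB : C ≤ B)
    (hcent : ∀ c ∈ C, ∀ s ∈ S, c * s = s * c) (β : B → ℂ) (s : S) :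
    (fun c : C => (β ∘ normAut hB s) ⟨c, hCB c.2⟩) = fun c : C => β ⟨c, hCB c.2⟩ := by
  funext c
  show β (normAut hB s ⟨c, hCB c.2⟩) = β ⟨c, hCB c.2⟩
  congr 1
  apply Subtype.ext
  show (s : Γ) * c * (s : Γ)⁻¹ = c
  rw [← hcent c c.2 s s.2, mul_assoc, mul_inv_cancel, mul_one]

/-- Transitivity of multiplicities through an intermediate subgroup. -/
theorem multZ_trans [Finite Γ] {G B C : Subgroup Γ} (hBG : B ≤ G) (hCB : C ≤ B)
    [Fintype (IrrCharacter B)] (χ : G → ℂ) (hχ : IsCharacter G χ) (γ : C → ℂ)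
    (hγ : IsCharacter C γ) :
    multZ (fun c : C => χ ⟨c, hBG (hCB c.2)⟩) γ =
      ∑ γ₁ : IrrCharacter B, multZ (fun b : B => χ ⟨b, hBG b.2⟩) γ₁.1 *
        multZ (fun c : C => γ₁.1 ⟨c, hCB c.2⟩) γ := by
  classical
  haveI : Fintype B := Fintype.ofFinite _
  haveI : Fintype C := Fintype.ofFinite _
  haveI : Fintype G := Fintype.ofFinite _
  have hψ : IsCharacter B (fun b : B => χ ⟨b, hBG b.2⟩) := by
    have := isCharacter_comp (Subgroup.inclusion hBG) hχ
    exact this
  obtain ⟨m, hm⟩ := isCharacter_decomp hψ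
  have hcoef : ∀ γ₁ : IrrCharacter B, classInner (fun b : B => χ ⟨b, hBG b.2⟩) γ₁.1 = m γ₁ := by
    intro γ₁
    have h1 : (fun b : B => χ ⟨b, hBG b.2⟩) = fun b => ∑ ψ : IrrCharacter B, (m ψ : ℂ) * ψ.1 b :=
      funext hm
    rw [h1, classInner_comb_irr]
  have hres : (fun c : C => χ ⟨c, hBG (hCB c.2)⟩) =
      fun c : C => ∑ ψ : IrrCharacter B, (m ψ : ℂ) * (fun c : C => ψ.1 ⟨c, hCB c.2⟩) c := by
    funext c
    exact hm ⟨c, hCB c.2⟩
  have hχC : IsCharacter C (fun c : C => χ ⟨c, hBG (hCB c.2)⟩) := by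
    have := isCharacter_comp (Subgroup.inclusion (hCB.trans hBG)) hχ
    exact this
  have hcast : ((multZ (fun c : C => χ ⟨c, hBG (hCB c.2)⟩) γ : ℤ) : ℂ) =
      ((∑ γ₁ : IrrCharacter B, multZ (fun b : B => χ ⟨b, hBG b.2⟩) γ₁.1 *
        multZ (fun c : C => γ₁.1 ⟨c, hCB c.2⟩) γ : ℤ) : ℂ) := by
    rw [multZ_spec hχC hγ]
    push_cast
    conv_lhs => rw [hres]
    rw [classInner_sum_left]
    apply Finset.sum_congr rfl
    intro γ₁ _
    have hγ₁C : IsCharacter C (fun c : C => γ₁.1 ⟨c, hCB c.2⟩) := by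
      have := isCharacter_comp (Subgroup.inclusion hCB) (irr_isCharacter γ₁.2)
      exact this
    rw [multZ_spec hψ (irr_isCharacter γ₁.2), multZ_spec hγ₁C hγ, hcoef]
  exact_mod_cast hcast

end Cfsg.Agent.Lib.Helper8
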