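import Mathlib
import Cfsg.Prelude.Def_Characters
import Cfsg.Agent.Lib.Helper4.CoprimeAct
import Cfsg.Agent.Lib.Helper8.CharPerm
import Cfsg.Agent.Lib.Helper8.CharAvg

set_option autoImplicit false

namespace Cfsg.Agent.Lib.Helper8
open Cfsg
open scoped ComplexConjugate

variable {G : Type*} [Group G]

/-- Glauberman's lemma (existence) for the conjugation action. -/
theorem glaub_conj_fix [Finite G] (A K : Subgroup G) (hAK : A ≤ Subgroup.normalizer (K : Set G))
    (hcop : (Nat.card A).Coprime (Nat.card K))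
    (hsolv : Group.IsSolvable A ∨ Group.IsSolvable K) (ω₀ : G)
    (h : ∀ a ∈ A, ∃ k ∈ K, a * ω₀ * a⁻¹ = k * ω₀ * k⁻¹) :
    ∃ k ∈ K, ∀ a ∈ A, a * (k * ω₀ * k⁻¹) * a⁻¹ = k * ω₀ * k⁻¹ := by
  letI act : MulAction G G := MulAction.compHom G (MulAut.conj (G := G))
  have hsmul : ∀ g c : G, @SMul.smul G G act.toSMul g c = g * c * g⁻¹ := fun g c => rfl
  obtain ⟨k, hk, hfix⟩ := @Cfsg.Agent.Lib.Helper4.glauberman_fix G _ _ A K G act hAK hcop hsolv ω₀
    (fun a ha => by
      obtain ⟨k, hk, hak⟩ := h a ha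
      exact ⟨k, hk, hak⟩)
  refine ⟨k, hk, fun a ha => ?_⟩
  have := hfix a ha
  have h2 : @SMul.smul G G act.toSMul a (@SMul.smul G G act.toSMul k ω₀) =
      @SMul.smul G G act.toSMul k ω₀ := this
  rw [hsmul k ω₀, hsmul] at h2
  exact h2

/-- Glauberman's lemma (transitivity) for the conjugation action. -/
theorem glaub_conj_trans [Finite G] (A K : Subgroup G) (hAK : A ≤ Subgroup.normalizer (K : Set G))
    (hcop : (Nat.card A).Coprime (Nat.card K))
    (hsolv : Group.IsSolvable A ∨ Group.IsSolvable K) (ω : G) (hω : ∀ a ∈ A, a * ω * a⁻¹ = ω)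
    (k : G) (hk : k ∈ K) (hkω : ∀ a ∈ A, a * (k * ω * k⁻¹) * a⁻¹ = k * ω * k⁻¹) :
    ∃ c ∈ K ⊓ Subgroup.centralizer (A : Set G), c * ω * c⁻¹ = k * ω * k⁻¹ := by
  letI act : MulAction G G := MulAction.compHom G (MulAut.conj (G := G))
  have hsmul : ∀ g c : G, @SMul.smul G G act.toSMul g c = g * c * g⁻¹ := fun g c => rfl
  obtain ⟨c, hc, hcω⟩ := @Cfsg.Agent.Lib.Helper4.glauberman_trans G _ _ A K G act hAK hcop hsolv ω
    (fun a ha => hω a ha) k hk
    (fun a ha => hkω a ha)
  refine ⟨c, hc, ?_⟩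
  have h2 : @SMul.smul G G act.toSMul c ω = @SMul.smul G G act.toSMul k ω := hcω
  rw [hsmul, hsmul] at h2
  exact h2

theorem isConj_inv_inv' {H : Type*} [Group H] {a b : H} (h : IsConj a b) : IsConj a⁻¹ b⁻¹ := by
  obtain ⟨c, hc⟩ := isConj_iff.mp h
  refine isConj_iff.mpr ⟨c, ?_⟩
  rw [← hc]; group

/-- The number of real classes equals the number of real-valued irreducible characters. -/
theorem real_classes_eq_real_chars {H : Type*} [Group H] [Finite H] :
    Nat.card {C : ConjClasses H // ∀ c : H, ConjClasses.mk c = C → IsConj c⁻¹ c} =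
      Nat.card {β : IrrCharacter H // ∀ c : H, (β.1 c).im = 0} := by
  have hP := perm_lemma (G := H) (fun c => c⁻¹) (fun g h hgh => isConj_inv_inv' hgh)
    (fun χ => by
      have h1 : χ.1 ∘ (fun c => c⁻¹) = fun c => conj (χ.1 c) := by
        funext c
        simp only [Function.comp_apply]
        rw [irr_inv]
      rw [h1]
      exact irr_conj χ.2)
  rw [hP]
  apply Nat.card_congr
  apply Equiv.subtypeEquivRight
  intro χ
  constructor
  · intro h c
    have := congrFun h c⁻¹
    simp only [Function.comp_apply, inv_inv] at this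
    rw [irr_inv] at this
    exact Complex.conj_eq_iff_im.mp this.symm
  · intro h
    funext c
    simp only [Function.comp_apply]
    rw [irr_inv]
    exact Complex.conj_eq_iff_im.mpr (h c)

end Cfsg.Agent.Lib.Helper8
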