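import Mathlib
import Cfsg.Prelude.Def_Characters
import Cfsg.Prelude.Def_CharExt
import Cfsg.Agent.Lib.Helper8.GlaubRefine

set_option autoImplicit false
set_option maxHeartbeats 2000000

universe u

namespace Cfsg.Agent.Lib.Helper8
open Cfsg
open scoped ComplexConjugate

variable {Γ : Type u} [Group Γ]

theorem conj_pow_mem (G : Subgroup Γ) (t : Γ) (ht : ∀ g ∈ G, t * g * t⁻¹ ∈ G) :
    ∀ n : ℕ, ∀ g ∈ G, t ^ n * g * (t ^ n)⁻¹ ∈ G := by
  intro n
  induction n with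
  | zero => intro g hg; simpa using hg
  | succ n ih =>
    intro g hg
    have h1 := ht _ (ih g hg)
    have h2 : t ^ (n + 1) * g * (t ^ (n + 1))⁻¹ = t * (t ^ n * g * (t ^ n)⁻¹) * t⁻¹ := by
      rw [pow_succ']; group
    rw [h2]; exact h1

theorem conj_inv_mem [Finite Γ] (G : Subgroup Γ) (t : Γ) (ht : ∀ g ∈ G, t * g * t⁻¹ ∈ G) :
    ∀ g ∈ G, t⁻¹ * g * t ∈ G := by
  intro g hg
  have hpos := orderOf_pos t
  have h1 : t ^ (orderOf t - 1) = t⁻¹ := by
    apply eq_inv_of_mul_eq_one_left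
    rw [← pow_succ, Nat.sub_add_cancel hpos, pow_orderOf_eq_one]
  have h2 := conj_pow_mem G t ht (orderOf t - 1) g hg
  rw [h1, inv_inv] at h2
  exact h2

open Classical in
/-- The cyclic `p`-group case for subgroups of an ambient group. -/
theorem glaub_cyc_sub [Fintype Γ] (G : Subgroup Γ) (t : Γ) (ht : ∀ g ∈ G, t * g * t⁻¹ ∈ G)
    (hcop : Nat.Coprime (Nat.card G) (orderOf t))
    (p : ℕ) (hp : p.Prime) (k : ℕ) (hq : orderOf t = p ^ (k + 1))
    (hcent : ∀ g ∈ G, t ^ p * g = g * t ^ p)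
    (B : Subgroup Γ) (hB : ∀ x, x ∈ B ↔ x ∈ G ∧ x * t = t * x) (hBG : B ≤ G) :
    (∀ χ : IrrCharacter G, (∀ g g' : G, (g' : Γ) = t * g * t⁻¹ → χ.1 g' = χ.1 g) →
      ∃ (β : IrrCharacter B) (ε : ℤ), (ε = 1 ∨ ε = -1) ∧ ∀ γ : IrrCharacter B,
        multZ (fun b : B => χ.1 ⟨b, hBG b.2⟩) γ.1 ≡ (if γ = β then ε else 0) [ZMOD p]) ∧
    (∀ χ χ' : IrrCharacter G, (∀ g g' : G, (g' : Γ) = t * g * t⁻¹ → χ.1 g' = χ.1 g) →
      (∀ g g' : G, (g' : Γ) = t * g * t⁻¹ → χ'.1 g' = χ'.1 g) → ∀ β : IrrCharacter B,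
      ¬ (p : ℤ) ∣ multZ (fun b : B => χ.1 ⟨b, hBG b.2⟩) β.1 →
      ¬ (p : ℤ) ∣ multZ (fun b : B => χ'.1 ⟨b, hBG b.2⟩) β.1 → χ = χ') ∧
    (∀ β : IrrCharacter B, ∃ χ : IrrCharacter G,
      (∀ g g' : G, (g' : Γ) = t * g * t⁻¹ → χ.1 g' = χ.1 g) ∧
      ¬ (p : ℤ) ∣ multZ (fun b : B => χ.1 ⟨b, hBG b.2⟩) β.1) := by
  classical
  set H : Subgroup Γ := G ⊔ Subgroup.zpowers t with hH
  have hGH : G ≤ H := le_sup_left
  have hBH : B ≤ H := hBG.trans hGH
  have htH : t ∈ H := (le_sup_right : Subgroup.zpowers t ≤ H) (Subgroup.mem_zpowers t)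
  haveI : Fintype ↥H := Fintype.ofFinite _
  have hZnorm : Subgroup.zpowers t ≤ Subgroup.normalizer (G : Set Γ) := by
    rw [Subgroup.le_normalizer_iff]
    intro h hh g hg
    rw [← mem_powers_iff_mem_zpowers] at hh
    obtain ⟨n, rfl⟩ := (Submonoid.mem_powers_iff _ _).mp hh
    exact conj_pow_mem G t ht n g hg
  have hHnorm : H ≤ Subgroup.normalizer (G : Set Γ) := by
    rw [hH, sup_le_iff]
    exact ⟨Subgroup.le_normalizer, hZnorm⟩
  haveI hG' : (G.subgroupOf H).Normal :=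
    (Subgroup.normal_subgroupOf_iff_le_normalizer hGH).mpr hHnorm
  haveI : Fintype ↥(G.subgroupOf H) := Fintype.ofFinite _
  haveI : Fintype ↥(B.subgroupOf H) := Fintype.ofFinite _
  let s : H := ⟨t, htH⟩
  have hords : orderOf s = orderOf t := Subgroup.orderOf_mk t htH
  have hcardG : Nat.card ↥(G.subgroupOf H) = Nat.card G :=
    Nat.card_congr (Subgroup.subgroupOfEquivOfLe hGH).toEquiv
  have hcop' : Nat.Coprime (Nat.card ↥(G.subgroupOf H)) (orderOf s) := by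
    rw [hcardG, hords]; exact hcop
  have hgen' : G.subgroupOf H ⊔ Subgroup.zpowers s = ⊤ := by
    apply Subgroup.map_injective H.subtype_injective
    rw [Subgroup.map_sup, Subgroup.subgroupOf_map_subtype, MonoidHom.map_zpowers,
      ← MonoidHom.range_eq_map, Subgroup.range_subtype, inf_of_le_left hGH]
    rfl
  have hC' : ∀ x : H, x ∈ B.subgroupOf H ↔ x ∈ G.subgroupOf H ∧ x * s = s * x := by
    intro x
    rw [Subgroup.mem_subgroupOf, Subgroup.mem_subgroupOf, hB]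
    constructor
    · rintro ⟨h1, h2⟩
      exact ⟨h1, Subtype.ext h2⟩
    · rintro ⟨h1, h2⟩
      exact ⟨h1, congrArg Subtype.val h2⟩
  have hC'G' : B.subgroupOf H ≤ G.subgroupOf H := fun x hx => hBG hx
  have hq' : orderOf s = p ^ (k + 1) := by rw [hords]; exact hq
  have hcent' : ∀ g ∈ G.subgroupOf H, s ^ p * g = g * s ^ p := by
    intro g hg
    apply Subtype.ext
    exact hcent g.1 hg
  obtain ⟨I1, I2, I3⟩ := glaub_p_internal (G.subgroupOf H) s hcop' hgen' (B.subgroupOf H) hC'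
    hC'G' p hp k hq' hcent'
  let eG : ↥(G.subgroupOf H) ≃* ↥G := Subgroup.subgroupOfEquivOfLe hGH
  let eB : ↥(B.subgroupOf H) ≃* ↥B := Subgroup.subgroupOfEquivOfLe hBH
  -- transports
  let up : IrrCharacter G → IrrCharacter ↥(G.subgroupOf H) :=
    fun χ => ⟨χ.1 ∘ eG, isIrrCharacter_comp_equiv eG χ.2⟩
  let upB : IrrCharacter B → IrrCharacter ↥(B.subgroupOf H) :=
    fun γ => ⟨γ.1 ∘ eB, isIrrCharacter_comp_equiv eB γ.2⟩
  have hupinv : ∀ χ : IrrCharacter G, (∀ g g' : G, (g' : Γ) = t * g * t⁻¹ → χ.1 g' = χ.1 g) →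
      ∀ g : ↥(G.subgroupOf H), (up χ).1 ⟨s * g * s⁻¹, hG'.conj_mem g g.2 s⟩ = (up χ).1 g := by
    intro χ hinv g
    exact hinv (eG g) (eG ⟨s * g * s⁻¹, hG'.conj_mem g g.2 s⟩) rfl
  have hmult : ∀ (χ : IrrCharacter G) (γ : IrrCharacter B),
      multZ (fun c : ↥(B.subgroupOf H) => (up χ).1 ⟨c, hC'G' c.2⟩) (upB γ).1 =
        multZ (fun b : B => χ.1 ⟨b, hBG b.2⟩) γ.1 := by
    intro χ γ
    have h1 : (fun c : ↥(B.subgroupOf H) => (up χ).1 ⟨c, hC'G' c.2⟩) =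
        (fun b : B => χ.1 ⟨b, hBG b.2⟩) ∘ eB := by
      funext c; rfl
    rw [h1]
    exact multZ_comp_equiv eB _ _
  have hupB_inj : ∀ γ γ' : IrrCharacter B, upB γ = upB γ' → γ = γ' := by
    intro γ γ' h
    apply Subtype.ext
    funext b
    have := congrFun (congrArg Subtype.val h) (eB.symm b)
    simpa [upB] using this
  have hup_inj : ∀ χ χ' : IrrCharacter G, up χ = up χ' → χ = χ' := by
    intro χ χ' h
    apply Subtype.ext
    funext g
    have := congrFun (congrArg Subtype.val h) (eG.symm g)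
    simpa [up] using this
  refine ⟨?_, ?_, ?_⟩
  · intro χ hinv
    obtain ⟨β', ε, hε, hcong⟩ := I1 (up χ) (hupinv χ hinv)
    let β : IrrCharacter B := ⟨β'.1 ∘ eB.symm, isIrrCharacter_comp_equiv eB.symm β'.2⟩
    have hβ : upB β = β' := by
      apply Subtype.ext
      funext c
      simp [upB, β]
    refine ⟨β, ε, hε, fun γ => ?_⟩
    have h1 := hcong (upB γ)
    rw [hmult] at h1
    by_cases hγ : γ = β
    · rw [if_pos hγ]
      rw [if_pos (by rw [hγ, hβ])] at h1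
      exact h1
    · rw [if_neg hγ]
      rw [if_neg (fun hh => hγ (hupB_inj _ _ (hh.trans hβ.symm)))] at h1
      exact h1
  · intro χ χ' hinv hinv' β hpm hpm'
    apply hup_inj
    apply I2 (up χ) (up χ') (hupinv χ hinv) (hupinv χ' hinv') (upB β)
    · rw [hmult]; exact hpm
    · rw [hmult]; exact hpm'
  · intro β
    obtain ⟨χ', hinv', hpm⟩ := I3 (upB β)
    let χ : IrrCharacter G := ⟨χ'.1 ∘ eG.symm, isIrrCharacter_comp_equiv eG.symm χ'.2⟩
    have hχ : up χ = χ' := by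
      apply Subtype.ext
      funext c
      simp [up, χ]
    refine ⟨χ, ?_, ?_⟩
    · intro g g' hgg'
      show χ'.1 (eG.symm g') = χ'.1 (eG.symm g)
      have h1 : eG.symm g' = ⟨s * (eG.symm g) * s⁻¹, hG'.conj_mem _ (eG.symm g).2 s⟩ := by
        apply Subtype.ext
        apply Subtype.ext
        exact hgg'
      rw [h1]
      exact hinv' (eG.symm g)
    · rw [← hmult, hχ]; exact hpm

end Cfsg.Agent.Lib.Helper8
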