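import Mathlib
import Cfsg.Prelude.Def_Characters
import Cfsg.Agent.Lib.Helper8.GlaubCycSub
import Cfsg.Agent.Lib.Helper8.GlaubAct

set_option autoImplicit false
set_option maxHeartbeats 2000000

universe u

namespace Cfsg.Agent.Lib.Helper8
open Cfsg
open scoped ComplexConjugate

variable {Γ : Type u} [Group Γ]

/-- Choice of an element acting with order `p` modulo the kernel and centrally modulo the
kernel. -/
theorem exists_good_t [Finite Γ] (S G : Subgroup Γ) (hn : Normalizes S G) (p : ℕ)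
    [hp : Fact p.Prime] (hS : IsPGroup p S) (hne : ¬ ∀ g ∈ G, ∀ s ∈ S, g * s = s * g) :
    ∃ t ∈ S, (¬ ∀ g ∈ G, g * t = t * g) ∧ (∀ g ∈ G, t ^ p * g = g * t ^ p) ∧
      (∀ x ∈ S, ∃ k ∈ S, (∀ g ∈ G, k * g = g * k) ∧ x * t * x⁻¹ = t * k) := by
  classical
  set K : Subgroup S := (Subgroup.centralizer (G : Set Γ)).subgroupOf S with hK
  have hmemK : ∀ x : S, x ∈ K ↔ ∀ g ∈ G, g * (x : Γ) = (x : Γ) * g := by
    intro x
    rw [hK, Subgroup.mem_subgroupOf, Subgroup.mem_centralizer_iff]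
    rfl
  haveI hKn : K.Normal := by
    constructor
    intro k hk x
    rw [hmemK] at hk ⊢
    intro g hg
    have h1 : (x : Γ)⁻¹ * g * (x : Γ) ∈ G := by
      have := hn (x⁻¹ : S) (x⁻¹).2 g hg
      simpa using this
    have h2 := hk _ h1
    push_cast
    calc g * ((x : Γ) * k * (x : Γ)⁻¹) = (x : Γ) * (((x : Γ)⁻¹ * g * x) * k) * (x : Γ)⁻¹ := by group
      _ = (x : Γ) * ((k : Γ) * ((x : Γ)⁻¹ * g * x)) * (x : Γ)⁻¹ := by rw [h2]
      _ = (x : Γ) * k * (x : Γ)⁻¹ * g := by group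
  have hQp : IsPGroup p (S ⧸ K) := hS.to_quotient K
  haveI : Nontrivial (S ⧸ K) := by
    push Not at hne
    obtain ⟨g, hg, s, hs, hgs⟩ := hne
    refine ⟨⟨(QuotientGroup.mk (⟨s, hs⟩ : S) : S ⧸ K), 1, ?_⟩⟩
    intro h
    rw [QuotientGroup.eq_one_iff, hmemK] at h
    exact hgs (h g hg)
  haveI : Nontrivial (Subgroup.center (S ⧸ K)) := hQp.center_nontrivial
  have hcp : IsPGroup p (Subgroup.center (S ⧸ K)) := hQp.to_subgroup _
  obtain ⟨n, hn0, hcard⟩ := hcp.nontrivial_iff_card.mp inferInstance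
  have hdvd : p ∣ Nat.card (Subgroup.center (S ⧸ K)) := by
    rw [hcard]; exact dvd_pow_self p hn0.ne'
  obtain ⟨z', hz'⟩ := exists_prime_orderOf_dvd_card' p hdvd
  have hzc : (z' : S ⧸ K) ∈ Subgroup.center (S ⧸ K) := z'.2
  have hzo : orderOf (z' : S ⧸ K) = p := by rw [Subgroup.orderOf_coe]; exact hz'
  obtain ⟨t, ht⟩ := QuotientGroup.mk_surjective (z' : S ⧸ K)
  refine ⟨t, t.2, ?_, ?_, ?_⟩
  · intro hcen
    have h1 : t ∈ K := (hmemK t).mpr hcen
    have h2 : (QuotientGroup.mk t : S ⧸ K) = 1 := (QuotientGroup.eq_one_iff t).mpr h1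
    rw [ht] at h2
    rw [h2, orderOf_one] at hzo
    exact hp.out.one_lt.ne hzo
  · have h1 : (QuotientGroup.mk (t ^ p) : S ⧸ K) = 1 := by
      rw [QuotientGroup.mk_pow, ht, ← hzo, pow_orderOf_eq_one]
    have h2 : t ^ p ∈ K := (QuotientGroup.eq_one_iff _).mp h1
    have h3 := (hmemK _).mp h2
    intro g hg
    have := h3 g hg
    push_cast at this
    exact this.symm
  · intro x hx
    have h1 := Subgroup.mem_center_iff.mp hzc (QuotientGroup.mk (⟨x, hx⟩ : S))
    rw [← ht, ← QuotientGroup.mk_mul, ← QuotientGroup.mk_mul] at h1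
    -- mk (x * t) = mk (t * x)
    have h2 : (QuotientGroup.mk (⟨x, hx⟩ * t * (⟨x, hx⟩ : S)⁻¹) : S ⧸ K) = QuotientGroup.mk t := by
      rw [QuotientGroup.mk_mul, h1, ← QuotientGroup.mk_mul]
      congr 1
      group
    have h3 := QuotientGroup.eq.mp h2.symm
    -- t⁻¹ * (x t x⁻¹) ∈ K
    refine ⟨((t⁻¹ * (⟨x, hx⟩ * t * (⟨x, hx⟩ : S)⁻¹) : S) : Γ), Subtype.coe_prop _, ?_, ?_⟩
    · intro g hg
      exact ((hmemK _).mp h3 g hg).symm
    · push_cast
      group

open Classical in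
/-- The statement proved by induction on the order of `G`. -/
def GlaubQ [Finite Γ] (S : Subgroup Γ) (p : ℕ) (G C : Subgroup Γ) (hCG : C ≤ G) : Prop :=
  (∀ χ : IrrCharacter G, SInv S G χ.1 →
      ∃ (β : IrrCharacter C) (ε : ℤ), (ε = 1 ∨ ε = -1) ∧ ∀ γ : IrrCharacter C,
        multZ (fun c : C => χ.1 ⟨c, hCG c.2⟩) γ.1 ≡ (if γ = β then ε else 0) [ZMOD p]) ∧
    (∀ χ χ' : IrrCharacter G, SInv S G χ.1 → SInv S G χ'.1 → ∀ β : IrrCharacter C,
      ¬ (p : ℤ) ∣ multZ (fun c : C => χ.1 ⟨c, hCG c.2⟩) β.1 →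
      ¬ (p : ℤ) ∣ multZ (fun c : C => χ'.1 ⟨c, hCG c.2⟩) β.1 → χ = χ') ∧
    (∀ β : IrrCharacter C, ∃ χ : IrrCharacter G, SInv S G χ.1 ∧
      ¬ (p : ℤ) ∣ multZ (fun c : C => χ.1 ⟨c, hCG c.2⟩) β.1)

theorem not_dvd_sign (p : ℕ) (hp : p.Prime) (ε : ℤ) (hε : ε = 1 ∨ ε = -1) : ¬ (p : ℤ) ∣ ε := by
  have hp1 : ¬ (p : ℤ) ∣ 1 := by
    intro h
    have := Int.natAbs_dvd_natAbs.mpr h
    simp at this
    exact hp.one_lt.ne' this
  rcases hε with rfl | rfl
  · exact hp1
  · rw [dvd_neg]; exact hp1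

theorem glaub_pgroup_aux [Fintype Γ] (S : Subgroup Γ) (p : ℕ) [hp : Fact p.Prime]
    (hS : IsPGroup p S) :
    ∀ n : ℕ, ∀ G : Subgroup Γ, Nat.card G = n → Normalizes S G →
      Nat.Coprime (Nat.card G) (Nat.card S) → ∀ (C : Subgroup Γ),
      (∀ x, x ∈ C ↔ x ∈ G ∧ ∀ s ∈ S, x * s = s * x) → ∀ hCG : C ≤ G, GlaubQ S p G C hCG := by
  classical
  intro n
  induction n using Nat.strong_induction_on with
  | _ n ih =>
  intro G hGn hn hcop C hC hCG
  have hp' : p.Prime := hp.out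
  have hpε := not_dvd_sign p hp'
  by_cases hcase : ∀ g ∈ G, ∀ s ∈ S, g * s = s * g
  · -- trivial action
    have hCeq : C = G := by
      ext x; rw [hC]; exact ⟨fun h => h.1, fun h => ⟨h, hcase x h⟩⟩
    subst hCeq
    have hres : ∀ χ : C → ℂ, (fun c : C => χ ⟨c, hCG c.2⟩) = χ := fun χ => rfl
    refine ⟨?_, ?_, ?_⟩
    · intro χ _
      refine ⟨χ, 1, Or.inl rfl, fun γ => ?_⟩
      rw [hres, multZ_irr]
      by_cases h : γ = χ
      · rw [if_pos h, if_pos h.symm]
      · rw [if_neg h, if_neg (Ne.symm h)]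
    · intro χ χ' _ _ β h h'
      rw [hres, multZ_irr] at h h'
      have h1 : χ = β := by
        by_contra hne
        exact h (by rw [if_neg hne]; exact dvd_zero _)
      have h2 : χ' = β := by
        by_contra hne
        exact h' (by rw [if_neg hne]; exact dvd_zero _)
      rw [h1, h2]
    · intro β
      refine ⟨β, ?_, ?_⟩
      · intro s hs g g' hgg'
        have : g' = g := by
          apply Subtype.ext
          rw [hgg', ← hcase g g.2 s hs, mul_assoc, mul_inv_cancel, mul_one]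
        rw [this]
      · rw [hres, multZ_irr, if_pos rfl]
        exact hpε 1 (Or.inl rfl)
  · -- nontrivial action
    obtain ⟨t, htS, ht1, ht2, ht3⟩ := exists_good_t S G hn p hS hcase
    obtain ⟨k0, hk0⟩ := IsPGroup.iff_orderOf.mp hS ⟨t, htS⟩
    rw [Subgroup.orderOf_mk] at hk0
    have hk0pos : k0 ≠ 0 := by
      rintro rfl
      rw [pow_zero, orderOf_eq_one_iff] at hk0
      apply ht1
      intro g _
      rw [hk0, mul_one, one_mul]
    obtain ⟨k, rfl⟩ := Nat.exists_eq_succ_of_ne_zero hk0pos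
    set B : Subgroup Γ := G ⊓ Subgroup.centralizer ({t} : Set Γ) with hBdef
    have hB : ∀ x, x ∈ B ↔ x ∈ G ∧ x * t = t * x := by
      intro x
      rw [hBdef, Subgroup.mem_inf, Subgroup.mem_centralizer_iff]
      constructor
      · rintro ⟨h1, h2⟩
        exact ⟨h1, (h2 t rfl).symm⟩
      · rintro ⟨h1, h2⟩
        refine ⟨h1, fun y hy => ?_⟩
        rw [Set.mem_singleton_iff] at hy
        rw [hy]; exact h2.symm
    have hBG : B ≤ G := inf_le_left
    have hBlt : Nat.card B < n := by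
      by_contra hge
      push Not at hge
      rw [← hGn] at hge
      have hBeq : B = G := Subgroup.eq_of_le_of_card_ge hBG hge
      apply ht1
      intro g hg
      have : g ∈ B := hBeq ▸ hg
      exact ((hB g).mp this).2
    have hnB : Normalizes S B := by
      intro x hx b hb
      rw [hB] at hb ⊢
      refine ⟨hn x hx b hb.1, ?_⟩
      obtain ⟨u, huS, huc, hut⟩ := ht3 x⁻¹ (inv_mem hx)
      rw [inv_inv] at hut
      have hbu : b * (x⁻¹ * t * x) = (x⁻¹ * t * x) * b := by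
        rw [hut]
        calc b * (t * u) = (b * t) * u := by group
          _ = (t * b) * u := by rw [hb.2]
          _ = t * (b * u) := by group
          _ = t * (u * b) := by rw [huc b hb.1]
          _ = t * u * b := by group
      calc x * b * x⁻¹ * t = x * (b * (x⁻¹ * t * x)) * x⁻¹ := by group
        _ = x * ((x⁻¹ * t * x) * b) * x⁻¹ := by rw [hbu]
        _ = t * (x * b * x⁻¹) := by group
    have hcopB : Nat.Coprime (Nat.card B) (Nat.card S) :=
      Nat.Coprime.coprime_dvd_left (Subgroup.card_dvd_of_le hBG) hcop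
    have hC_B : ∀ x, x ∈ C ↔ x ∈ B ∧ ∀ s ∈ S, x * s = s * x := by
      intro x
      rw [hC, hB]
      constructor
      · rintro ⟨h1, h2⟩
        exact ⟨⟨h1, h2 t htS⟩, h2⟩
      · rintro ⟨⟨h1, _⟩, h2⟩
        exact ⟨h1, h2⟩
    have hCB : C ≤ B := fun x hx => ((hC_B x).mp hx).1
    have hcentC : ∀ c ∈ C, ∀ s ∈ S, c * s = s * c := fun c hc => ((hC c).mp hc).2
    obtain ⟨J1, J2, J3⟩ := ih (Nat.card B) hBlt B rfl hnB hcopB C hC_B hCB
    have hcop_t : Nat.Coprime (Nat.card G) (orderOf t) :=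
      Nat.Coprime.coprime_dvd_right (Subgroup.orderOf_dvd_natCard S htS) hcop
    obtain ⟨Y1, Y2, Y3⟩ := glaub_cyc_sub G t (hn t htS) hcop_t p hp' k hk0 ht2 B hB hBG
    haveI := irr_finite (G := B)
    haveI : Fintype (IrrCharacter B) := Fintype.ofFinite _
    -- the package
    have pack : ∀ χ : IrrCharacter G, SInv S G χ.1 →
        ∃ (β₁ : IrrCharacter B) (β : IrrCharacter C) (ε₁ ε₂ : ℤ),
          (ε₁ = 1 ∨ ε₁ = -1) ∧ (ε₂ = 1 ∨ ε₂ = -1) ∧ SInv S B β₁.1 ∧
          (∀ γ₁ : IrrCharacter B, multZ (fun b : B => χ.1 ⟨b, hBG b.2⟩) γ₁.1 ≡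
            (if γ₁ = β₁ then ε₁ else 0) [ZMOD p]) ∧
          (∀ γ : IrrCharacter C, multZ (fun c : C => β₁.1 ⟨c, hCB c.2⟩) γ.1 ≡
            (if γ = β then ε₂ else 0) [ZMOD p]) ∧
          (∀ γ : IrrCharacter C, multZ (fun c : C => χ.1 ⟨c, hCG c.2⟩) γ.1 ≡
            (if γ = β then ε₁ * ε₂ else 0) [ZMOD p]) := by
      intro χ hχ
      obtain ⟨β₁, ε₁, hε₁, cong₁⟩ := Y1 χ (hχ t htS)
      have hβ₁inv : SInv S B β₁.1 := by
        rw [sInv_iff hnB]
        intro x
        let γ₁ : IrrCharacter B := ⟨β₁.1 ∘ normAut hnB x, isIrrCharacter_comp_equiv _ β₁.2⟩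
        have h1 := multZ_res_conj hnB hBG χ.1 hχ β₁.1 x
        have h2 := cong₁ γ₁
        have h3 := cong₁ β₁
        rw [if_pos rfl] at h3
        by_contra hne
        have hne' : γ₁ ≠ β₁ := fun h => hne (congrArg Subtype.val h)
        rw [if_neg hne'] at h2
        have h2' : multZ (fun b : B => χ.1 ⟨b, hBG b.2⟩) β₁.1 ≡ 0 [ZMOD p] := by
          rw [← h1]; exact h2
        exact hpε ε₁ hε₁ (Int.modEq_zero_iff_dvd.mp (h3.symm.trans h2'))
      obtain ⟨β, ε₂, hε₂, cong₂⟩ := J1 β₁ hβ₁inv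
      refine ⟨β₁, β, ε₁, ε₂, hε₁, hε₂, hβ₁inv, cong₁, fun γ => by convert cong₂ γ, fun γ => ?_⟩
      have htrans := multZ_trans hBG hCB χ.1 (irr_isCharacter χ.2) γ.1 (irr_isCharacter γ.2)
      have hres : (fun c : C => χ.1 ⟨c, hCG c.2⟩) = fun c : C => χ.1 ⟨c, hBG (hCB c.2)⟩ := rfl
      rw [hres, htrans]
      letI := irrNormAction hnB
      set f : IrrCharacter B → ℤ := fun γ₁ => multZ (fun b : B => χ.1 ⟨b, hBG b.2⟩) γ₁.1 *
        multZ (fun c : C => γ₁.1 ⟨c, hCB c.2⟩) γ.1 with hf_def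
      have hf : ∀ (a : S) (x : IrrCharacter B), f (a • x) = f x := by
        intro a x
        show multZ _ (x.1 ∘ normAut hnB a⁻¹) *
          multZ (fun c : C => (x.1 ∘ normAut hnB a⁻¹) ⟨c, hCB c.2⟩) γ.1 = _
        rw [multZ_res_conj hnB hBG χ.1 hχ x.1 a⁻¹, res_conj_central hnB hCB hcentC x.1 a⁻¹]
      have hpdvd : ∀ x : IrrCharacter B, (∃ a : S, a • x ≠ x) →
          p ∣ (MulAction.stabilizer S x).index := by
        rintro x ⟨a, ha⟩
        obtain ⟨m, hm⟩ := hS.index (MulAction.stabilizer S x)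
        rcases m with _ | m
        · exfalso
          rw [pow_zero, Subgroup.index_eq_one] at hm
          have : a ∈ MulAction.stabilizer S x := hm ▸ Subgroup.mem_top a
          exact ha (MulAction.mem_stabilizer_iff.mp this)
        · rw [hm]; exact dvd_pow_self p (Nat.succ_ne_zero m)
      have horb := orbit_sum_dvd (A := S) (X := IrrCharacter B) p f hf hpdvd
      have hsplit := Finset.sum_filter_add_sum_filter_not Finset.univ
        (fun x : IrrCharacter B => ∃ a : S, a • x ≠ x) f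
      rw [← hsplit]
      have hβ₁fixed : β₁ ∈ Finset.univ.filter
          (fun x : IrrCharacter B => ¬ ∃ a : S, a • x ≠ x) := by
        rw [Finset.mem_filter]
        refine ⟨Finset.mem_univ _, ?_⟩
        push Not
        exact (sInv_iff_fixed hnB β₁).mp hβ₁inv
      rw [← Finset.add_sum_erase _ f hβ₁fixed]
      have h2 : (p : ℤ) ∣ ∑ x ∈ (Finset.univ.filter
          (fun x : IrrCharacter B => ¬ ∃ a : S, a • x ≠ x)).erase β₁, f x := by
        apply Finset.dvd_sum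
        intro x hx
        have hxne : x ≠ β₁ := Finset.ne_of_mem_erase hx
        have h4 := cong₁ x
        rw [if_neg hxne] at h4
        exact Dvd.dvd.mul_right (Int.modEq_zero_iff_dvd.mp h4) _
      have h3 : f β₁ ≡ (if γ = β then ε₁ * ε₂ else 0) [ZMOD p] := by
        have a1 := cong₁ β₁
        rw [if_pos rfl] at a1
        have a2 := cong₂ γ
        have a3 := a1.mul a2
        by_cases hγ : γ = β
        · rw [if_pos hγ] at a3 ⊢; exact a3
        · rw [if_neg hγ] at a3 ⊢; rw [mul_zero] at a3; exact a3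
      have h4 := (Int.modEq_zero_iff_dvd.mpr horb).add
        ((Int.ModEq.refl (f β₁) (n := (p : ℤ))).add (Int.modEq_zero_iff_dvd.mpr h2))
      rw [zero_add, add_zero] at h4
      exact h4.trans h3
    refine ⟨?_, ?_, ?_⟩
    · intro χ hχ
      obtain ⟨β₁, β, ε₁, ε₂, hε₁, hε₂, -, -, -, hfin⟩ := pack χ hχ
      refine ⟨β, ε₁ * ε₂, ?_, fun γ => by convert hfin γ⟩
      rcases hε₁ with rfl | rfl <;> rcases hε₂ with rfl | rfl <;> simp
    · intro χ χ' hχ hχ' β hpm hpm'
      obtain ⟨β₁, βa, ε₁, ε₂, hε₁, hε₂, hβ₁inv, cong₁, cong₂, hfin⟩ := pack χ hχ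
      obtain ⟨β₁', βa', ε₁', ε₂', hε₁', hε₂', hβ₁inv', cong₁', cong₂', hfin'⟩ := pack χ' hχ'
      have hβ : β = βa := by
        by_contra hne
        have := hfin β
        rw [if_neg hne] at this
        exact hpm (Int.modEq_zero_iff_dvd.mp this)
      have hβ' : β = βa' := by
        by_contra hne
        have := hfin' β
        rw [if_neg hne] at this
        exact hpm' (Int.modEq_zero_iff_dvd.mp this)
      have h1 : ¬ (p : ℤ) ∣ multZ (fun c : C => β₁.1 ⟨c, hCB c.2⟩) β.1 := by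
        intro hd
        have := cong₂ β
        rw [if_pos hβ] at this
        exact hpε ε₂ hε₂ (Int.modEq_zero_iff_dvd.mp
          (this.symm.trans (Int.modEq_zero_iff_dvd.mpr hd)))
      have h1' : ¬ (p : ℤ) ∣ multZ (fun c : C => β₁'.1 ⟨c, hCB c.2⟩) β.1 := by
        intro hd
        have := cong₂' β
        rw [if_pos hβ'] at this
        exact hpε ε₂' hε₂' (Int.modEq_zero_iff_dvd.mp
          (this.symm.trans (Int.modEq_zero_iff_dvd.mpr hd)))
      have hβ₁eq : β₁ = β₁' := J2 β₁ β₁' hβ₁inv hβ₁inv' β h1 h1'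
      have h2 : ¬ (p : ℤ) ∣ multZ (fun b : B => χ.1 ⟨b, hBG b.2⟩) β₁.1 := by
        intro hd
        have := cong₁ β₁
        rw [if_pos rfl] at this
        exact hpε ε₁ hε₁ (Int.modEq_zero_iff_dvd.mp
          (this.symm.trans (Int.modEq_zero_iff_dvd.mpr hd)))
      have h2' : ¬ (p : ℤ) ∣ multZ (fun b : B => χ'.1 ⟨b, hBG b.2⟩) β₁.1 := by
        intro hd
        have := cong₁' β₁
        rw [if_pos hβ₁eq] at this
        exact hpε ε₁' hε₁' (Int.modEq_zero_iff_dvd.mp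
          (this.symm.trans (Int.modEq_zero_iff_dvd.mpr hd)))
      exact Y2 χ χ' (hχ t htS) (hχ' t htS) β₁ h2 h2'
    · intro β
      obtain ⟨β₁, hβ₁inv, hβ₁m⟩ := J3 β
      obtain ⟨χ, hχt, hχm⟩ := Y3 β₁
      have hχS : SInv S G χ.1 := by
        rw [sInv_iff hn]
        intro x
        let χx : IrrCharacter G := ⟨χ.1 ∘ normAut hn x, isIrrCharacter_comp_equiv _ χ.2⟩
        have hχxt : ∀ g g' : G, (g' : Γ) = t * g * t⁻¹ → χx.1 g' = χx.1 g := by
          intro g g' hgg'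
          show χ.1 (normAut hn x g') = χ.1 (normAut hn x g)
          apply hχt
          obtain ⟨u, huS, huc, hut⟩ := ht3 x x.2
          rw [normAut_apply_coe, normAut_apply_coe, hgg']
          have hg1 : (x : Γ) * g * (x : Γ)⁻¹ ∈ G := hn x x.2 g g.2
          have hug := huc _ hg1
          have ht_eq : t = (x : Γ) * t * (x : Γ)⁻¹ * u⁻¹ := by rw [hut]; group
          calc (x : Γ) * (t * g * t⁻¹) * (x : Γ)⁻¹
              = ((x : Γ) * t * (x : Γ)⁻¹) * ((x : Γ) * g * (x : Γ)⁻¹) * ((x : Γ) * t * (x : Γ)⁻¹)⁻¹ := by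
                group
            _ = t * (u * ((x : Γ) * g * (x : Γ)⁻¹)) * u⁻¹ * t⁻¹ := by rw [hut]; group
            _ = t * (((x : Γ) * g * (x : Γ)⁻¹) * u) * u⁻¹ * t⁻¹ := by rw [hug]
            _ = t * ((x : Γ) * g * (x : Γ)⁻¹) * t⁻¹ := by group
        have hχxm : ¬ (p : ℤ) ∣ multZ (fun b : B => χx.1 ⟨b, hBG b.2⟩) β₁.1 := by
          have h1 : (fun b : B => χx.1 ⟨b, hBG b.2⟩) =
              (fun b : B => χ.1 ⟨b, hBG b.2⟩) ∘ normAut hnB x := by
            funext b; rfl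
          have h2 : β₁.1 = β₁.1 ∘ normAut hnB x := ((sInv_iff hnB _).mp hβ₁inv x).symm
          rw [h1, h2, multZ_comp_equiv]
          exact hχm
        have := Y2 χx χ hχxt hχt β₁ hχxm hχm
        exact congrArg Subtype.val this
      refine ⟨χ, hχS, ?_⟩
      obtain ⟨β₁', βa, ε₁, ε₂, hε₁, hε₂, -, cong₁, cong₂, hfin⟩ := pack χ hχS
      have hβ₁eq : β₁ = β₁' := by
        by_contra hne
        have := cong₁ β₁
        rw [if_neg hne] at this
        exact hχm (Int.modEq_zero_iff_dvd.mp this)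
      have hβeq : β = βa := by
        by_contra hne
        have := cong₂ β
        rw [if_neg hne, ← hβ₁eq] at this
        exact hβ₁m (Int.modEq_zero_iff_dvd.mp this)
      intro hd
      have := hfin β
      rw [if_pos hβeq] at this
      have hε : (ε₁ * ε₂ = 1 ∨ ε₁ * ε₂ = -1) := by
        rcases hε₁ with rfl | rfl <;> rcases hε₂ with rfl | rfl <;> simp
      exact hpε _ hε (Int.modEq_zero_iff_dvd.mp
        (this.symm.trans (Int.modEq_zero_iff_dvd.mpr hd)))

end Cfsg.Agent.Lib.Helper8
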