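import Mathlib
import Cfsg.Prelude.Def_Characters
import Cfsg.Agent.Lib.Helper8.GlaubPGroup
import Cfsg.Agent.Lib.Helper4.CoprimeAct

set_option autoImplicit false
set_option maxHeartbeats 2000000

universe u

namespace Cfsg.Agent.Lib.Helper8
open Cfsg
open scoped ComplexConjugate

/-- In a finite solvable group with a proper normal subgroup `K₀`, there is a `q`-subgroup not
contained in `K₀` whose conjugates all agree with it modulo `K₀`. -/
theorem exists_good_Q_abs {A : Type*} [Group A] [Finite A] [hsolv : Group.IsSolvable A]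
    (K₀ : Subgroup A) [hK₀n : K₀.Normal] (hK : K₀ ≠ ⊤) :
    ∃ (q : ℕ) (_ : Fact q.Prime) (Q₁ : Subgroup A), IsPGroup q Q₁ ∧ ¬ Q₁ ≤ K₀ ∧
      ∀ x : A, ∀ z ∈ Q₁, ∃ z' ∈ Q₁, ∃ k ∈ K₀, x * z * x⁻¹ = z' * k := by
  classical
  have hne : {T : Subgroup A | T.Normal ∧ ¬ T ≤ K₀}.Nonempty :=
    ⟨⊤, inferInstance, fun h => hK (top_le_iff.mp h)⟩
  obtain ⟨T₀, ⟨hT₀n, hT₀K⟩, hmin⟩ := wellFounded_lt.has_min _ hne
  haveI := hT₀n
  have hT₀ne : T₀ ≠ ⊥ := by rintro rfl; exact hT₀K bot_le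
  have hcomm_lt : ⁅T₀, T₀⁆ < T₀ := Group.IsSolvable.commutator_lt_of_ne_bot hT₀ne
  have hcommK : ⁅T₀, T₀⁆ ≤ K₀ := by
    by_contra h
    exact hmin ⁅T₀, T₀⁆ ⟨inferInstance, h⟩ hcomm_lt
  have hex : ∃ n : ℕ, ∃ y ∈ T₀, y ∉ K₀ ∧ orderOf y = n := by
    obtain ⟨y, hy, hyK⟩ := SetLike.not_le_iff_exists.mp hT₀K
    exact ⟨_, y, hy, hyK, rfl⟩
  obtain ⟨y, hyT, hyK, hyn⟩ := Nat.find_spec hex
  have hminy : ∀ y' ∈ T₀, y' ∉ K₀ → Nat.find hex ≤ orderOf y' :=
    fun y' h1 h2 => Nat.find_min' hex ⟨y', h1, h2, rfl⟩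
  set n := Nat.find hex with hn_def
  have hn1 : n ≠ 1 := by
    intro h
    rw [h, orderOf_eq_one_iff] at hyn
    exact hyK (hyn ▸ K₀.one_mem)
  have hnpos : 0 < n := hyn ▸ orderOf_pos y
  set q := n.minFac with hq_def
  have hq : q.Prime := Nat.minFac_prime hn1
  obtain ⟨a, m, hqm, hnm⟩ := Nat.exists_eq_pow_mul_and_not_dvd hnpos.ne' q hq.ne_one
  have hm1 : m = 1 := by
    by_contra hm
    have ha : a ≠ 0 := by
      rintro rfl
      rw [pow_zero, one_mul] at hnm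
      exact hqm (hnm ▸ Nat.minFac_dvd n)
    have hmpos : 0 < m := Nat.pos_of_ne_zero (by
      rintro rfl
      rw [mul_zero] at hnm
      omega)
    have hqa : 1 < q ^ a := Nat.one_lt_pow ha hq.one_lt
    have h1 : orderOf (y ^ (q ^ a)) = m := by
      rw [orderOf_pow_of_dvd (pow_ne_zero _ hq.ne_zero) (by rw [hyn, hnm]; exact dvd_mul_right _ _),
        hyn, hnm, Nat.mul_div_cancel_left _ (pow_pos hq.pos _)]
    have h2 : orderOf (y ^ m) = q ^ a := by
      rw [orderOf_pow_of_dvd hmpos.ne' (by rw [hyn, hnm]; exact dvd_mul_left _ _), hyn, hnm,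
        Nat.mul_div_cancel _ hmpos]
    have hm2 : 1 < m := by omega
    have hlt1 : m < n := by rw [hnm]; nlinarith
    have hlt2 : q ^ a < n := by rw [hnm]; nlinarith
    have hK1 : y ^ (q ^ a) ∈ K₀ := by
      by_contra h
      have := hminy _ (T₀.pow_mem hyT _) h
      omega
    have hK2 : y ^ m ∈ K₀ := by
      by_contra h
      have := hminy _ (T₀.pow_mem hyT _) h
      omega
    have hcop : Nat.Coprime (q ^ a) m :=
      Nat.Coprime.pow_left a ((Nat.Prime.coprime_iff_not_dvd hq).mpr hqm)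
    have hb := Nat.gcd_eq_gcd_ab (q ^ a) m
    rw [hcop.gcd_eq_one] at hb
    apply hyK
    have hy_eq : y = (y ^ (q ^ a)) ^ (Nat.gcdA (q ^ a) m) * (y ^ m) ^ (Nat.gcdB (q ^ a) m) := by
      rw [← zpow_natCast y (q ^ a), ← zpow_natCast y m, ← zpow_mul, ← zpow_mul, ← zpow_add, ← hb]
      simp
    rw [hy_eq]
    exact K₀.mul_mem (K₀.zpow_mem hK1 _) (K₀.zpow_mem hK2 _)
  rw [hm1, mul_one] at hnm
  haveI : Fact q.Prime := ⟨hq⟩
  have hP : IsPGroup q (Subgroup.zpowers (⟨y, hyT⟩ : T₀)) := by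
    apply IsPGroup.of_card (n := a)
    rw [Nat.card_zpowers, Subgroup.orderOf_mk, hyn, hnm]
  obtain ⟨Q₀, hQ₀⟩ := hP.exists_le_sylow
  refine ⟨q, ⟨hq⟩, (Q₀ : Subgroup T₀).map T₀.subtype, Q₀.isPGroup'.map _, ?_, ?_⟩
  · intro hle
    apply hyK
    apply hle
    exact ⟨⟨y, hyT⟩, hQ₀ (Subgroup.mem_zpowers _), rfl⟩
  · intro x z hz
    have hfr := Sylow.normalizer_sup_eq_top Q₀
    have hx : x ∈ Subgroup.normalizer (((Q₀ : Subgroup T₀).map T₀.subtype : Subgroup A) : Set A) ⊔ T₀ := by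
      rw [hfr]; trivial
    rw [Subgroup.mem_sup_of_normal_right] at hx
    obtain ⟨nn, hnn, u, hu, rfl⟩ := hx
    have hzT : z ∈ T₀ := Subgroup.map_subtype_le _ hz
    refine ⟨nn * z * nn⁻¹, (Subgroup.mem_normalizer_iff.mp hnn z).mp hz,
      nn * (z⁻¹ * u * z * u⁻¹) * nn⁻¹, ?_, by group⟩
    apply hK₀n.conj_mem
    apply hcommK
    have := Subgroup.commutator_mem_commutator (inv_mem hzT) hu
    rw [commutatorElement_def, inv_inv] at this
    exact this

variable {Γ : Type u} [Group Γ]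

/-- The kernel of the action of `S` on `G` is normal in `S`. -/
theorem kernel_normal (S G : Subgroup Γ) (hn : Normalizes S G) :
    ((Subgroup.centralizer (G : Set Γ)).subgroupOf S).Normal := by
  have hmemK : ∀ x : S, x ∈ (Subgroup.centralizer (G : Set Γ)).subgroupOf S ↔
      ∀ g ∈ G, g * (x : Γ) = (x : Γ) * g := by
    intro x
    rw [Subgroup.mem_subgroupOf, Subgroup.mem_centralizer_iff]
    rfl
  constructor
  intro k hk x
  rw [hmemK] at hk ⊢
  intro g hg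
  have h1 : (x : Γ)⁻¹ * g * (x : Γ) ∈ G := by
    have := hn (x⁻¹ : S) (x⁻¹).2 g hg
    simpa using this
  have h2 := hk _ h1
  push_cast
  calc g * ((x : Γ) * k * (x : Γ)⁻¹) = (x : Γ) * (((x : Γ)⁻¹ * g * x) * k) * (x : Γ)⁻¹ := by group
    _ = (x : Γ) * ((k : Γ) * ((x : Γ)⁻¹ * g * x)) * (x : Γ)⁻¹ := by rw [h2]
    _ = (x : Γ) * k * (x : Γ)⁻¹ * g := by group

/-- A `q`-subgroup of `S` acting nontrivially whose `S`-conjugates act in the same way. -/
theorem exists_good_Q [Finite Γ] (S G : Subgroup Γ) (hn : Normalizes S G)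
    (hsolv : Group.IsSolvable S) (hne : ¬ ∀ g ∈ G, ∀ s ∈ S, g * s = s * g) :
    ∃ (q : ℕ) (_ : Fact q.Prime) (Q : Subgroup Γ), Q ≤ S ∧ IsPGroup q Q ∧
      (¬ ∀ g ∈ G, ∀ s ∈ Q, g * s = s * g) ∧
      ∀ x ∈ S, ∀ z ∈ Q, ∃ z' ∈ Q, ∃ k : Γ, (∀ g ∈ G, k * g = g * k) ∧ x * z * x⁻¹ = z' * k := by
  classical
  set K₀ : Subgroup S := (Subgroup.centralizer (G : Set Γ)).subgroupOf S with hK₀
  have hmemK : ∀ x : S, x ∈ K₀ ↔ ∀ g ∈ G, g * (x : Γ) = (x : Γ) * g := by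
    intro x
    rw [hK₀, Subgroup.mem_subgroupOf, Subgroup.mem_centralizer_iff]
    rfl
  haveI : K₀.Normal := kernel_normal S G hn
  have hK : K₀ ≠ ⊤ := by
    intro h
    apply hne
    intro g hg s hs
    have : (⟨s, hs⟩ : S) ∈ K₀ := h ▸ Subgroup.mem_top _
    exact (hmemK _).mp this g hg
  obtain ⟨q, hq, Q₁, hQ₁p, hQ₁K, hconj⟩ := exists_good_Q_abs K₀ hK
  refine ⟨q, hq, Q₁.map S.subtype, Subgroup.map_subtype_le _, hQ₁p.map _, ?_, ?_⟩
  · intro hcen
    apply hQ₁K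
    intro z hz
    rw [hmemK]
    intro g hg
    exact hcen g hg z ⟨z, hz, rfl⟩
  · rintro x hx _ ⟨z, hz, rfl⟩
    obtain ⟨z', hz', k, hk, hxz⟩ := hconj ⟨x, hx⟩ z hz
    refine ⟨z', ⟨z', hz', rfl⟩, k, ?_, ?_⟩
    · intro g hg
      exact ((hmemK k).mp hk g hg).symm
    · have := congrArg Subtype.val hxz
      simpa using this

/-- The Glauberman count for solvable operator groups. -/
theorem glaub_solvable_count [Fintype Γ] (S : Subgroup Γ) (hsolv : Group.IsSolvable S) :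
    ∀ n : ℕ, ∀ G : Subgroup Γ, Nat.card G = n → Normalizes S G →
      Nat.Coprime (Nat.card G) (Nat.card S) → ∀ C : Subgroup Γ,
      (∀ x, x ∈ C ↔ x ∈ G ∧ ∀ s ∈ S, x * s = s * x) →
      Nat.card {χ : IrrCharacter G // SInv S G χ.1} = Nat.card (IrrCharacter C) := by
  classical
  intro n
  induction n using Nat.strong_induction_on with
  | _ n ih =>
  intro G hGn hn hcop C hC
  by_cases hcase : ∀ g ∈ G, ∀ s ∈ S, g * s = s * g
  · have hCeq : C = G := by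
      ext x; rw [hC]; exact ⟨fun h => h.1, fun h => ⟨h, hcase x h⟩⟩
    subst hCeq
    apply Nat.card_congr
    apply Equiv.subtypeUnivEquiv
    intro χ s hs g g' hgg'
    have : g' = g := by
      apply Subtype.ext
      rw [hgg', ← hcase g g.2 s hs, mul_assoc, mul_inv_cancel, mul_one]
    rw [this]
  · obtain ⟨q, hq, Q, hQS, hQp, hQne, hconj⟩ := exists_good_Q S G hn hsolv hcase
    haveI := hq
    set B : Subgroup Γ := G ⊓ Subgroup.centralizer (Q : Set Γ) with hBdef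
    have hB : ∀ x, x ∈ B ↔ x ∈ G ∧ ∀ y ∈ Q, x * y = y * x := by
      intro x
      rw [hBdef, Subgroup.mem_inf, Subgroup.mem_centralizer_iff]
      constructor
      · rintro ⟨h1, h2⟩
        exact ⟨h1, fun y hy => (h2 y hy).symm⟩
      · rintro ⟨h1, h2⟩
        exact ⟨h1, fun y hy => (h2 y hy).symm⟩
    have hBG : B ≤ G := inf_le_left
    have hBlt : Nat.card B < n := by
      by_contra hge
      push Not at hge
      rw [← hGn] at hge
      have hBeq : B = G := Subgroup.eq_of_le_of_card_ge hBG hge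
      apply hQne
      intro g hg y hy
      have : g ∈ B := hBeq ▸ hg
      exact ((hB g).mp this).2 y hy
    have hnB : Normalizes S B := by
      intro x hx b hb
      rw [hB] at hb ⊢
      refine ⟨hn x hx b hb.1, ?_⟩
      intro y hy
      obtain ⟨y', hy', u, huc, hut⟩ := hconj x⁻¹ (inv_mem hx) y hy
      rw [inv_inv] at hut
      have hbu : b * (x⁻¹ * y * x) = (x⁻¹ * y * x) * b := by
        rw [hut]
        calc b * (y' * u) = (b * y') * u := by group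
          _ = (y' * b) * u := by rw [hb.2 y' hy']
          _ = y' * (b * u) := by group
          _ = y' * (u * b) := by rw [huc b hb.1]
          _ = y' * u * b := by group
      calc x * b * x⁻¹ * y = x * (b * (x⁻¹ * y * x)) * x⁻¹ := by group
        _ = x * ((x⁻¹ * y * x) * b) * x⁻¹ := by rw [hbu]
        _ = y * (x * b * x⁻¹) := by group
    have hcopB : Nat.Coprime (Nat.card B) (Nat.card S) :=
      Nat.Coprime.coprime_dvd_left (Subgroup.card_dvd_of_le hBG) hcop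
    have hC_B : ∀ x, x ∈ C ↔ x ∈ B ∧ ∀ s ∈ S, x * s = s * x := by
      intro x
      rw [hC, hB]
      constructor
      · rintro ⟨h1, h2⟩
        exact ⟨⟨h1, fun y hy => h2 y (hQS hy)⟩, h2⟩
      · rintro ⟨⟨h1, _⟩, h2⟩
        exact ⟨h1, h2⟩
    have IH := ih (Nat.card B) hBlt B rfl hnB hcopB C hC_B
    rw [← IH]
    have hnQ : Normalizes Q G := fun s hs => hn s (hQS hs)
    have hcopQ : Nat.Coprime (Nat.card G) (Nat.card Q) :=
      Nat.Coprime.coprime_dvd_right (Subgroup.card_dvd_of_le hQS) hcop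
    have hB' : ∀ x, x ∈ B ↔ x ∈ G ∧ ∀ s ∈ Q, x * s = s * x := hB
    obtain ⟨Q1, Q2, Q3⟩ := glaub_pgroup_aux Q q hQp (Nat.card G) G rfl hnQ hcopQ B hB' hBG
    have hSQ : ∀ χ : G → ℂ, SInv S G χ → SInv Q G χ := fun χ h s hs => h s (hQS hs)
    have hpε := not_dvd_sign q hq.out
    have fwd : ∀ χ : IrrCharacter G, SInv S G χ.1 → ∃ β : IrrCharacter B, SInv S B β.1 ∧
        ¬ (q : ℤ) ∣ multZ (fun b : B => χ.1 ⟨b, hBG b.2⟩) β.1 ∧
        ∀ β' : IrrCharacter B, ¬ (q : ℤ) ∣ multZ (fun b : B => χ.1 ⟨b, hBG b.2⟩) β'.1 → β' = β := by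
      intro χ hχ
      obtain ⟨β, ε, hε, cong⟩ := Q1 χ (hSQ _ hχ)
      have hR : ¬ (q : ℤ) ∣ multZ (fun b : B => χ.1 ⟨b, hBG b.2⟩) β.1 := by
        intro hd
        have := cong β
        rw [if_pos rfl] at this
        exact hpε ε hε (Int.modEq_zero_iff_dvd.mp
          (this.symm.trans (Int.modEq_zero_iff_dvd.mpr hd)))
      have huniq : ∀ β' : IrrCharacter B,
          ¬ (q : ℤ) ∣ multZ (fun b : B => χ.1 ⟨b, hBG b.2⟩) β'.1 → β' = β := by
        intro β' h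
        by_contra hne
        have := cong β'
        rw [if_neg hne] at this
        exact h (Int.modEq_zero_iff_dvd.mp this)
      refine ⟨β, ?_, hR, huniq⟩
      rw [sInv_iff hnB]
      intro x
      let γ : IrrCharacter B := ⟨β.1 ∘ normAut hnB x, isIrrCharacter_comp_equiv _ β.2⟩
      have h1 := multZ_res_conj hnB hBG χ.1 hχ β.1 x
      have h2 : γ = β := huniq γ (by
        show ¬ _ ∣ multZ _ (β.1 ∘ normAut hnB x)
        rw [h1]; exact hR)
      exact congrArg Subtype.val h2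
    have bwd : ∀ β : IrrCharacter B, SInv S B β.1 → ∃ χ : IrrCharacter G, SInv S G χ.1 ∧
        ¬ (q : ℤ) ∣ multZ (fun b : B => χ.1 ⟨b, hBG b.2⟩) β.1 := by
      intro β hβ
      obtain ⟨χ, hχQ, hχm⟩ := Q3 β
      refine ⟨χ, ?_, hχm⟩
      rw [sInv_iff hn]
      intro x
      let χx : IrrCharacter G := ⟨χ.1 ∘ normAut hn x, isIrrCharacter_comp_equiv _ χ.2⟩
      have hχxQ : SInv Q G χx.1 := by
        intro y hy g g' hgg'
        show χ.1 (normAut hn x g') = χ.1 (normAut hn x g)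
        obtain ⟨y', hy', u, huc, hut⟩ := hconj x x.2 y hy
        apply hχQ y' hy'
        rw [normAut_apply_coe, normAut_apply_coe, hgg']
        have hg1 : (x : Γ) * g * (x : Γ)⁻¹ ∈ G := hn x x.2 g g.2
        have hug := huc _ hg1
        calc (x : Γ) * (y * g * y⁻¹) * (x : Γ)⁻¹
            = ((x : Γ) * y * (x : Γ)⁻¹) * ((x : Γ) * g * (x : Γ)⁻¹) * ((x : Γ) * y * (x : Γ)⁻¹)⁻¹ := by
              group
          _ = y' * (u * ((x : Γ) * g * (x : Γ)⁻¹)) * u⁻¹ * y'⁻¹ := by rw [hut]; group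
          _ = y' * (((x : Γ) * g * (x : Γ)⁻¹) * u) * u⁻¹ * y'⁻¹ := by rw [hug]
          _ = y' * ((x : Γ) * g * (x : Γ)⁻¹) * y'⁻¹ := by group
      have hχxm : ¬ (q : ℤ) ∣ multZ (fun b : B => χx.1 ⟨b, hBG b.2⟩) β.1 := by
        have h1 : (fun b : B => χx.1 ⟨b, hBG b.2⟩) =
            (fun b : B => χ.1 ⟨b, hBG b.2⟩) ∘ normAut hnB x := by
          funext b; rfl
        have h2 : β.1 = β.1 ∘ normAut hnB x := ((sInv_iff hnB _).mp hβ x).symm
        rw [h1, h2, multZ_comp_equiv]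
        exact hχm
      exact congrArg Subtype.val (Q2 χx χ hχxQ hχQ β hχxm hχm)
    let Φ : {χ : IrrCharacter G // SInv S G χ.1} → {β : IrrCharacter B // SInv S B β.1} :=
      fun χ => ⟨(fwd χ.1 χ.2).choose, (fwd χ.1 χ.2).choose_spec.1⟩
    apply Nat.card_eq_of_bijective Φ
    constructor
    · intro χ χ' hΦ
      have h0 : (fwd χ.1 χ.2).choose = (fwd χ'.1 χ'.2).choose := congrArg Subtype.val hΦ
      have h1 := (fwd χ.1 χ.2).choose_spec.2.1
      have h2 := (fwd χ'.1 χ'.2).choose_spec.2.1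
      rw [← h0] at h2
      apply Subtype.ext
      exact Q2 χ.1 χ'.1 (hSQ _ χ.2) (hSQ _ χ'.2) _ h1 h2
    · rintro ⟨β, hβ⟩
      obtain ⟨χ, hχ, hχm⟩ := bwd β hβ
      refine ⟨⟨χ, hχ⟩, ?_⟩
      apply Subtype.ext
      exact ((fwd χ hχ).choose_spec.2.2 β hχm).symm

/-- The elements of `Γ` with the conjugation action of `Γ`. -/
structure ConjPt (Γ : Type u) where
  /-- the underlying element -/
  val : Γ

instance conjPtAction : MulAction Γ (ConjPt Γ) where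
  smul g x := ⟨g * x.val * g⁻¹⟩
  one_smul x := by
    cases x
    show ConjPt.mk _ = ConjPt.mk _
    congr 1
    simp
  mul_smul a b x := by
    cases x
    show ConjPt.mk _ = ConjPt.mk _
    congr 1
    show a * b * _ * (a * b)⁻¹ = a * (b * _ * b⁻¹) * a⁻¹
    group

theorem conjPt_smul_val (g : Γ) (x : ConjPt Γ) : (g • x).val = g * x.val * g⁻¹ := rfl

/-- The number of `S`-invariant classes of `G` equals the number of classes of `C_G(S)`. -/
theorem glaub_class_count [Finite Γ] (S G : Subgroup Γ) (hn : Normalizes S G)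
    (hcop : Nat.Coprime (Nat.card G) (Nat.card S)) (hsolv : Group.IsSolvable S)
    (C : Subgroup Γ) (hC : ∀ x, x ∈ C ↔ x ∈ G ∧ ∀ s ∈ S, x * s = s * x) :
    Nat.card {K : ConjClasses G // ∀ s ∈ S, ∀ g g' : G, (g' : Γ) = s * g * s⁻¹ →
      ConjClasses.mk g = K → ConjClasses.mk g' = K} = Nat.card (ConjClasses C) := by
  classical
  have hCG : C ≤ G := fun x hx => ((hC x).mp hx).1
  have hSG : S ≤ Subgroup.normalizer (G : Set Γ) := by
    rw [Subgroup.le_normalizer_iff]; exact hn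
  have hinv : ∀ D : ConjClasses C, ∀ s ∈ S, ∀ g g' : G, (g' : Γ) = s * g * s⁻¹ →
      ConjClasses.mk g = ConjClasses.map (Subgroup.inclusion hCG) D →
      ConjClasses.mk g' = ConjClasses.map (Subgroup.inclusion hCG) D := by
    intro D s hs g g' hgg' hg
    obtain ⟨c, rfl⟩ := ConjClasses.mk_surjective D
    have hmap : ConjClasses.map (Subgroup.inclusion hCG) (ConjClasses.mk c) =
        ConjClasses.mk (Subgroup.inclusion hCG c) := rfl
    rw [hmap] at hg ⊢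
    rw [ConjClasses.mk_eq_mk_iff_isConj, isConj_iff] at hg ⊢
    obtain ⟨k, hk⟩ := hg
    refine ⟨⟨s * k * s⁻¹, hn s hs k k.2⟩, ?_⟩
    apply Subtype.ext
    have hk' : (k : Γ) * g * (k : Γ)⁻¹ = c := congrArg Subtype.val hk
    have hcs := ((hC c).mp c.2).2 s hs
    push_cast
    rw [hgg']
    show s * (k : Γ) * s⁻¹ * (s * g * s⁻¹) * (s * (k : Γ) * s⁻¹)⁻¹ = (c : Γ)
    calc s * (k : Γ) * s⁻¹ * (s * g * s⁻¹) * (s * (k : Γ) * s⁻¹)⁻¹
        = s * ((k : Γ) * g * (k : Γ)⁻¹) * s⁻¹ := by group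
      _ = s * c * s⁻¹ := by rw [hk']
      _ = c := by rw [← hcs, mul_assoc, mul_inv_cancel, mul_one]
  let f : ConjClasses C → {K : ConjClasses G // ∀ s ∈ S, ∀ g g' : G, (g' : Γ) = s * g * s⁻¹ →
      ConjClasses.mk g = K → ConjClasses.mk g' = K} :=
    fun D => ⟨ConjClasses.map (Subgroup.inclusion hCG) D, hinv D⟩
  symm
  apply Nat.card_eq_of_bijective f
  constructor
  · intro D D' hDD'
    obtain ⟨c, rfl⟩ := ConjClasses.mk_surjective D
    obtain ⟨c', rfl⟩ := ConjClasses.mk_surjective D'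
    have h1 : ConjClasses.mk (Subgroup.inclusion hCG c) =
        ConjClasses.mk (Subgroup.inclusion hCG c') := congrArg Subtype.val hDD'
    rw [ConjClasses.mk_eq_mk_iff_isConj, isConj_iff] at h1 ⊢
    obtain ⟨k, hk⟩ := h1
    have hk' : (k : Γ) * c * (k : Γ)⁻¹ = c' := congrArg Subtype.val hk
    have hfix : ∀ (c₀ : C), ∀ a ∈ S, a • (⟨(c₀ : Γ)⟩ : ConjPt Γ) = (⟨(c₀ : Γ)⟩ : ConjPt Γ) := by
      intro c₀ a ha
      have hcs := ((hC c₀).mp c₀.2).2 a ha
      show ConjPt.mk (a * (c₀ : Γ) * a⁻¹ : Γ) = ConjPt.mk (c₀ : Γ)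
      congr 1
      rw [← hcs, mul_assoc, mul_inv_cancel, mul_one]
    obtain ⟨d, hd, hdω⟩ := Cfsg.Agent.Lib.Helper4.glauberman_trans S G hSG hcop.symm (Or.inl hsolv)
      (⟨(c : Γ)⟩ : ConjPt Γ) (hfix c) (k : Γ) k.2 (by
        intro a ha
        have : (k : Γ) • (⟨(c : Γ)⟩ : ConjPt Γ) = (⟨(c' : Γ)⟩ : ConjPt Γ) :=
          congrArg ConjPt.mk hk'
        rw [this]; exact hfix c' a ha)
    have hdC : d ∈ C := by
      rw [hC]
      refine ⟨hd.1, fun s hs => ?_⟩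
      have := Subgroup.mem_centralizer_iff.mp hd.2 s hs
      exact this.symm
    refine ⟨⟨d, hdC⟩, ?_⟩
    apply Subtype.ext
    have h2 : d * (c : Γ) * d⁻¹ = (k : Γ) * c * (k : Γ)⁻¹ := congrArg ConjPt.val hdω
    push_cast
    rw [h2, hk']
  · rintro ⟨K, hK⟩
    obtain ⟨g, rfl⟩ := ConjClasses.mk_surjective K
    obtain ⟨k, hk, hkω⟩ := Cfsg.Agent.Lib.Helper4.glauberman_fix S G hSG hcop.symm (Or.inl hsolv)
      (⟨(g : Γ)⟩ : ConjPt Γ) (by
        intro a ha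
        have h1 := hK a ha g ⟨a * g * a⁻¹, hn a ha g g.2⟩ rfl rfl
        rw [ConjClasses.mk_eq_mk_iff_isConj, isConj_iff] at h1
        obtain ⟨k, hk⟩ := h1
        have hk' : (k : Γ) * (a * g * a⁻¹) * (k : Γ)⁻¹ = g := congrArg Subtype.val hk
        refine ⟨(k : Γ)⁻¹, inv_mem k.2, ?_⟩
        show ConjPt.mk (a * (g : Γ) * a⁻¹ : Γ) = ConjPt.mk ((k : Γ)⁻¹ * (g : Γ) * ((k : Γ)⁻¹)⁻¹ : Γ)
        congr 1
        conv_rhs => rw [← hk']
        group)
    have hcG : k * (g : Γ) * k⁻¹ ∈ G := G.mul_mem (G.mul_mem hk g.2) (G.inv_mem hk)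
    have hcC : k * (g : Γ) * k⁻¹ ∈ C := by
      rw [hC]
      refine ⟨hcG, fun s hs => ?_⟩
      have h1 : (s * (k * (g : Γ) * k⁻¹) * s⁻¹ : Γ) = k * (g : Γ) * k⁻¹ :=
        congrArg ConjPt.val (hkω s hs)
      calc k * (g : Γ) * k⁻¹ * s = (s * (k * (g : Γ) * k⁻¹) * s⁻¹) * s := by rw [h1]
        _ = s * (k * (g : Γ) * k⁻¹) := by group
    refine ⟨ConjClasses.mk ⟨k * (g : Γ) * k⁻¹, hcC⟩, ?_⟩
    apply Subtype.ext
    show ConjClasses.mk (Subgroup.inclusion hCG ⟨k * (g : Γ) * k⁻¹, hcC⟩) = ConjClasses.mk g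
    rw [ConjClasses.mk_eq_mk_iff_isConj, isConj_iff]
    refine ⟨⟨k⁻¹, inv_mem hk⟩, ?_⟩
    apply Subtype.ext
    push_cast
    show k⁻¹ * (k * (g : Γ) * k⁻¹) * k⁻¹⁻¹ = g
    group

end Cfsg.Agent.Lib.Helper8
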