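import Mathlib
import Cfsg.Prelude.Def_Characters
import Cfsg.Prelude.Def_CharExt
import Cfsg.Agent.Lib.Helper8.GlaubSolv
import Cfsg.Agent.Lib.Helper8.CharGallagher
import Cfsg.Agent.Lib.Helper8.CharKernel
import Cfsg.Agent.Lib.Helper8.CharItoSolv
import Cfsg.Agent.Lib.Helper8.CharCosetAvg
import Cfsg.Agent.Lib.Helper8.DadeElem2

set_option autoImplicit false
set_option maxHeartbeats 2000000

universe u

namespace Cfsg.Agent.Lib.Helper8
open Cfsg
open scoped ComplexConjugate

/-- The Clifford degree formula. -/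
theorem clifford_degree {G : Type u} [Group G] [Fintype G] (N : Subgroup G) (hN : N.Normal)
    [Fintype N] (θ : IrrCharacter N) (χ : IrrCharacter G)
    (hcon : classInner (fun n : N => χ.1 n) θ.1 ≠ 0) :
    letI := irrConjAction hN
    ∃ e : ℕ, charDegree χ.1 = e * (MulAction.stabilizer G θ).index * charDegree θ.1 := by
  classical
  letI := irrConjAction hN
  have hθc := irr_isCharacter θ.2
  obtain ⟨e, he⟩ := classInner_character_nat (isCharacter_restrict N (irr_isCharacter χ.2)) hθc
  refine ⟨e, ?_⟩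
  have hcl := clifford hN χ.2 θ.2 hcon
  set F : Finset (N → ℂ) := Finset.image (fun g : G => conjChar hN θ.1 g) Finset.univ with hF
  have hO : {ψ : N → ℂ | ∃ g : G, ψ = conjChar hN θ.1 g} = ↑F := by
    ext ψ
    simp only [Set.mem_ofPred_eq, hF, Finset.coe_image, Finset.coe_univ, Set.image_univ,
      Set.mem_range]
    constructor
    · rintro ⟨g, rfl⟩; exact ⟨g, rfl⟩
    · rintro ⟨g, rfl⟩; exact ⟨g, rfl⟩
  rw [hO, finsum_mem_coe_finset, he] at hcl
  have h1 := congrFun hcl 1
  simp only [Pi.smul_apply, Finset.sum_apply, smul_eq_mul] at h1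
  have h2 : ∑ ψ ∈ F, ψ 1 = (F.card : ℂ) * θ.1 1 := by
    rw [Finset.sum_congr rfl (g := fun _ => θ.1 1), Finset.sum_const, nsmul_eq_mul]
    intro ψ hψ
    rw [hF, Finset.mem_image] at hψ
    obtain ⟨g, _, rfl⟩ := hψ
    exact conjChar_one_apply hN θ.1 g
  have hcardF : F.card = (MulAction.stabilizer G θ).index := by
    rw [MulAction.index_stabilizer, ← Set.ncard_image_of_injective _ Subtype.val_injective,
      ← Set.ncard_coe_finset F]
    congr 1
    ext ψ
    simp only [hF, Finset.coe_image, Finset.coe_univ, Set.image_univ, Set.mem_range, Set.mem_image]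
    constructor
    · rintro ⟨g, rfl⟩
      refine ⟨g⁻¹ • θ, ⟨g⁻¹, rfl⟩, ?_⟩
      rw [irrConjAction_smul, inv_inv]
    · rintro ⟨φ, ⟨g, rfl⟩, rfl⟩
      exact ⟨g⁻¹, (irrConjAction_smul hN g θ).symm⟩
  rw [h2, hcardF] at h1
  have h3 : χ.1 ((1 : N) : G) = χ.1 1 := by rw [OneMemClass.coe_one]
  rw [h3, irr_one_eq_charDegree χ, irr_one_eq_charDegree θ] at h1
  have h4 : ((charDegree χ.1 : ℕ) : ℂ) =
      ((e * (MulAction.stabilizer G θ).index * charDegree θ.1 : ℕ) : ℂ) := by
    rw [h1]; push_cast; ring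
  exact_mod_cast h4

/-- An irreducible character of degree prime to the index of a normal Hall subgroup restricts
irreducibly. -/
theorem restrict_irr_of_coprime {G : Type u} [Group G] [Fintype G] (K : Subgroup G)
    [hK : K.Normal] [Fintype K] (hcop : Nat.Coprime (Nat.card K) K.index) (χ : IrrCharacter G)
    (hχ : Nat.Coprime (charDegree χ.1) K.index) : IsIrrCharacter K (fun k : K => χ.1 k) := by
  classical
  letI := irrConjAction hK
  haveI := irr_finite (G := K)
  haveI : Fintype (IrrCharacter K) := Fintype.ofFinite _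
  haveI := irr_finite (G := G)
  haveI : Fintype (IrrCharacter G) := Fintype.ofFinite _
  have hχc := irr_isCharacter χ.2
  have hχcf := isClassFunction_of_isCharacter hχc
  obtain ⟨m, hm⟩ := isCharacter_decomp (isCharacter_restrict K hχc)
  have hex : ∃ θ : IrrCharacter K, m θ ≠ 0 := by
    by_contra hcon
    push Not at hcon
    have h1 := hm 1
    simp only [hcon, Nat.cast_zero, zero_mul, Finset.sum_const_zero] at h1
    apply irr_one_ne_zero χ
    rw [← h1]; simp
  obtain ⟨θ, hθm⟩ := hex
  have hmθ : classInner (fun k : K => χ.1 k) θ.1 = m θ := by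
    rw [funext hm]
    exact classInner_comb_irr (fun ψ => (m ψ : ℂ)) θ
  have hcon : classInner (fun k : K => χ.1 k) θ.1 ≠ 0 := by
    rw [hmθ]; exact_mod_cast hθm
  obtain ⟨e, he⟩ := clifford_degree K hK θ χ hcon
  have hθcf := isClassFunction_of_isCharacter (irr_isCharacter θ.2)
  have hKle : K ≤ MulAction.stabilizer G θ := by
    intro k hk
    rw [MulAction.mem_stabilizer_iff]
    apply Subtype.ext
    rw [irrConjAction_smul]
    ext n
    rw [conjChar_apply]
    exact hθcf n ⟨k⁻¹, K.inv_mem hk⟩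
  have ht1 : (MulAction.stabilizer G θ).index = 1 := by
    have h1 : (MulAction.stabilizer G θ).index ∣ K.index := Subgroup.index_dvd_of_le hKle
    have h2 : (MulAction.stabilizer G θ).index ∣ charDegree χ.1 := by
      rw [he]
      exact Dvd.dvd.mul_right (Dvd.intro_left e rfl) _
    exact Nat.Coprime.eq_one_of_dvd (hχ.coprime_dvd_left h2) h1
  have hinv : ∀ g : G, conjChar hK θ.1 g = θ.1 := by
    intro g
    have htop := Subgroup.index_eq_one.mp ht1
    have hmem : g⁻¹ ∈ MulAction.stabilizer G θ := htop ▸ Subgroup.mem_top _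
    have h3 := congrArg Subtype.val (MulAction.mem_stabilizer_iff.mp hmem)
    rw [irrConjAction_smul, inv_inv] at h3
    exact h3
  have hinv' : ∀ (g : G) (n : K), θ.1 ⟨g * n * g⁻¹, hK.conj_mem (n : G) n.2 g⟩ = θ.1 n :=
    fun g n => congrFun (hinv g) n
  have hcop' : Nat.Coprime K.index (detOrder θ.1 * charDegree θ.1) := by
    apply Nat.Coprime.mul_right
    · exact Nat.Coprime.coprime_dvd_right (detOrder_dvd_card (irr_isCharacter θ.2)) hcop.symm
    · exact Nat.Coprime.coprime_dvd_right (charDegree_dvd_card θ) hcop.symm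
  obtain ⟨θh, ⟨hθh, hres, -⟩, -⟩ := Cfsg.Agent.S0867.result K θ.1 θ.2 hinv' (charDegree θ.1)
    (irr_one_eq_charDegree θ) hcop'
  have h1irr : IsIrrCharacter K (fun _ => (1 : ℂ)) := principal_isIrrCharacter
  have h1inv : ∀ g : G, conjChar hK (fun _ : K => (1 : ℂ)) g = fun _ => 1 := fun g => rfl
  have hprod : (fun _ : K => (1 : ℂ)) * θ.1 = θ.1 := by ext; simp
  obtain ⟨mm, hmm1, hmm2, hmm3, -⟩ := gallagher_core hK h1irr h1inv (by rw [hprod]; exact θ.2)
    (by rw [hprod]; exact hinv) ⟨θh, hθh⟩ hres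
  have hfr : classInner (indFun K ((fun _ : K => (1 : ℂ)) * θ.1)) χ.1 ≠ 0 := by
    rw [hprod, frobenius_reciprocity K θ.1 χ.1 hχcf, classInner_conj_symm]
    intro h
    exact hcon ((map_eq_zero _).mp h)
  have hexp : classInner (indFun K ((fun _ : K => (1 : ℂ)) * θ.1)) χ.1 =
      ∑ β : IrrCharacter G, (mm β : ℂ) * classInner (β.1 * θh) χ.1 := by
    rw [funext hmm2]
    exact classInner_sum_left _ _ _ _
  obtain ⟨β, hβ⟩ : ∃ β : IrrCharacter G, (mm β : ℂ) * classInner (β.1 * θh) χ.1 ≠ 0 := by
    by_contra h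
    push Not at h
    apply hfr
    rw [hexp]
    exact Finset.sum_eq_zero (fun β _ => h β)
  have hmβ : mm β ≠ 0 := by
    rintro h0
    apply hβ
    rw [h0]; simp
  have hβirr : IsIrrCharacter G (β.1 * θh) :=
    isIrrCharacter_of_norm_one (isCharacter_mul (irr_isCharacter β.2) (irr_isCharacter hθh))
      (hmm3 β hmβ)
  have hχeq : β.1 * θh = χ.1 := by
    have h1 := irr_classInner hβirr χ.2
    by_contra hne
    rw [if_neg hne] at h1
    apply hβ
    rw [h1, mul_zero]
  have hβK : ∀ k ∈ K, β.1 k = β.1 1 := ker_of_over_principal hK β (by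
    rw [hmm1 β]; exact_mod_cast hmβ)
  obtain ⟨Kβ, hKβn, hKβ, hdvd, -⟩ := irr_quotient_facts β
  have hKle' : K ≤ Kβ := fun k hk => (hKβ k).mpr (hβK k hk)
  have hβ1 : charDegree β.1 ∣ K.index := hdvd.trans (Subgroup.index_dvd_of_le hKle')
  have hθh1 : θh 1 = charDegree θ.1 := by
    have h1 := hres 1
    rw [OneMemClass.coe_one] at h1
    rw [h1, irr_one_eq_charDegree θ]
  have hdeg : charDegree χ.1 = charDegree β.1 * charDegree θ.1 := by
    have h1 := congrFun hχeq 1
    rw [Pi.mul_apply, irr_one_eq_charDegree β, irr_one_eq_charDegree χ, hθh1] at h1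
    exact_mod_cast h1.symm
  have hβ11 : charDegree β.1 = 1 :=
    Nat.Coprime.eq_one_of_dvd (hχ.coprime_dvd_left (Dvd.intro _ hdeg.symm)) hβ1
  have hfinal : (fun k : K => χ.1 k) = θ.1 := by
    funext k
    rw [← hχeq, Pi.mul_apply, hβK k k.2, irr_one_eq_charDegree β, hβ11, hres k]
    simp
  rw [hfinal]; exact θ.2

theorem charDegree_congr {G H : Type*} [Group G] [Group H] {f : G → ℂ} {g : H → ℂ}
    (h : f 1 = g 1) : charDegree f = charDegree g := by
  unfold charDegree
  rw [h]

/-- Counting the irreducible characters of degree prime to the index of a normal Hall subgroup. -/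
theorem count_coprime_degree {G : Type u} [Group G] [Fintype G] (K : Subgroup G) [hK : K.Normal]
    [Fintype K] (hcop : Nat.Coprime (Nat.card K) K.index) :
    Nat.card {χ : IrrCharacter G // Nat.Coprime (charDegree χ.1) K.index} =
      Nat.card {θ : IrrCharacter K // ∀ g : G, conjChar hK θ.1 g = θ.1} *
        Nat.card ((G ⧸ K) →* ℂˣ) := by
  classical
  rw [← Nat.card_prod]
  symm
  have hext : ∀ θ : {θ : IrrCharacter K // ∀ g : G, conjChar hK θ.1 g = θ.1},
      ∃ θh : G → ℂ, IsIrrCharacter G θh ∧ ∀ n : K, θh n = θ.1.1 n := by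
    intro θ
    have hinv' : ∀ (g : G) (n : K),
        θ.1.1 ⟨g * n * g⁻¹, hK.conj_mem (n : G) n.2 g⟩ = θ.1.1 n := fun g n => congrFun (θ.2 g) n
    have hcop' : Nat.Coprime K.index (detOrder θ.1.1 * charDegree θ.1.1) := by
      apply Nat.Coprime.mul_right
      · exact Nat.Coprime.coprime_dvd_right (detOrder_dvd_card (irr_isCharacter θ.1.2)) hcop.symm
      · exact Nat.Coprime.coprime_dvd_right (charDegree_dvd_card θ.1) hcop.symm
    obtain ⟨θh, ⟨hθh, hres, -⟩, -⟩ := Cfsg.Agent.S0867.result K θ.1.1 θ.1.2 hinv'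
      (charDegree θ.1.1) (irr_one_eq_charDegree θ.1) hcop'
    exact ⟨θh, hθh, hres⟩
  choose E hE1 hE2 using hext
  have hEK : ∀ θ, IsIrrCharacter K (fun k : K => E θ k) := by
    intro θ
    have : (fun k : K => E θ k) = θ.1.1 := funext (hE2 θ)
    rw [this]; exact θ.1.2
  have hbK : ∀ (lam : (G ⧸ K) →* ℂˣ) (k : K), (lam.comp (QuotientGroup.mk' K)) (k : G) = 1 := by
    intro lam k
    show lam (QuotientGroup.mk' K (k : G)) = 1
    have h0 : (QuotientGroup.mk' K) (k : G) = 1 := (QuotientGroup.eq_one_iff _).mpr k.2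
    rw [h0, map_one]
  let Ψ : {θ : IrrCharacter K // ∀ g : G, conjChar hK θ.1 g = θ.1} × ((G ⧸ K) →* ℂˣ) →
      {χ : IrrCharacter G // Nat.Coprime (charDegree χ.1) K.index} := fun x =>
    ⟨⟨linFun (x.2.comp (QuotientGroup.mk' K)) * E x.1, irr_linFun_mul _ (hE1 x.1)⟩, by
      have h1 : charDegree (linFun (x.2.comp (QuotientGroup.mk' K)) * E x.1) =
          charDegree x.1.1.1 := by
        have h2 := hE2 x.1 1
        rw [OneMemClass.coe_one] at h2
        exact charDegree_congr (by rw [Pi.mul_apply, linFun_one_eq, one_mul, h2])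
      show Nat.Coprime (charDegree (linFun (x.2.comp (QuotientGroup.mk' K)) * E x.1)) K.index
      rw [h1]
      exact Nat.Coprime.coprime_dvd_left (charDegree_dvd_card x.1.1) hcop⟩
  apply Nat.card_eq_of_bijective Ψ
  constructor
  · rintro ⟨θ, lam⟩ ⟨θ', lam'⟩ hΨ
    have hfun : linFun (lam.comp (QuotientGroup.mk' K)) * E θ =
        linFun (lam'.comp (QuotientGroup.mk' K)) * E θ' :=
      congrArg (fun z => z.1.1) hΨ
    have hθ : θ = θ' := by
      apply Subtype.ext
      apply Subtype.ext
      funext n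
      have h1 := congrFun hfun (n : G)
      rw [Pi.mul_apply, Pi.mul_apply, linFun_apply, linFun_apply, hbK lam n, hbK lam' n,
        Units.val_one, one_mul, one_mul, hE2, hE2] at h1
      exact h1
    subst hθ
    obtain ⟨c, hc_def⟩ : ∃ c : G →* ℂˣ,
        c = (lam'.comp (QuotientGroup.mk' K))⁻¹ * (lam.comp (QuotientGroup.mk' K)) := ⟨_, rfl⟩
    have hcK : ∀ x ∈ K, c x = 1 := by
      intro x hx
      rw [hc_def, MonoidHom.mul_apply, MonoidHom.inv_apply, hbK lam ⟨x, hx⟩, hbK lam' ⟨x, hx⟩]
      simp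
    have hc : linFun c * E θ = E θ := by
      funext g
      have h1 := congrFun hfun g
      rw [Pi.mul_apply, Pi.mul_apply, linFun_apply, linFun_apply] at h1
      rw [Pi.mul_apply, linFun_apply, hc_def, MonoidHom.mul_apply, MonoidHom.inv_apply,
        Units.val_mul, mul_assoc, h1, ← mul_assoc, ← Units.val_mul, inv_mul_cancel, Units.val_one,
        one_mul]
    have h2 : linFun c = fun _ => 1 := gallagher_injective K (E θ) (hE1 θ) (hEK θ)
      ⟨linFun c, linFun_isIrr _⟩ (by
        intro x hx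
        show linFun c x = linFun c 1
        rw [linFun_one_eq, linFun_apply, hcK x hx, Units.val_one]) hc
    have h3 : c = 1 := by
      apply linFun_injective
      rw [h2]
      funext g
      simp [linFun]
    have h4 : lam.comp (QuotientGroup.mk' K) = lam'.comp (QuotientGroup.mk' K) := by
      rw [hc_def] at h3
      exact (inv_mul_eq_one.mp h3).symm
    have h5 : lam = lam' :=
      (MonoidHom.cancel_right (QuotientGroup.mk'_surjective K)).mp h4
    rw [h5]
  · rintro ⟨χ, hχ⟩
    have hirr := restrict_irr_of_coprime K hcop χ hχ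
    have hχcf := isClassFunction_of_isCharacter (irr_isCharacter χ.2)
    let θ : {θ : IrrCharacter K // ∀ g : G, conjChar hK θ.1 g = θ.1} :=
      ⟨⟨fun k : K => χ.1 k, hirr⟩, fun g => conjChar_restrict hK hχcf g⟩
    obtain ⟨b, hb1, hb2⟩ := gallagher_extension K (E θ) χ.1 (hE1 θ) χ.2 (hEK θ)
      (fun n => (hE2 θ n).symm)
    let lam : (G ⧸ K) →* ℂˣ := QuotientGroup.lift K b (fun k hk => hb1 ⟨k, hk⟩)
    refine ⟨(θ, lam), ?_⟩
    apply Subtype.ext
    apply Subtype.ext
    show linFun (lam.comp (QuotientGroup.mk' K)) * E θ = χ.1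
    have h1 : lam.comp (QuotientGroup.mk' K) = b := by
      ext g
      rfl
    rw [h1, hb2]

/-- Irreducible characters correspond under a group isomorphism. -/
noncomputable def irrCongr {A B : Type*} [Group A] [Group B] (e : A ≃* B) :
    IrrCharacter A ≃ IrrCharacter B where
  toFun χ := ⟨χ.1 ∘ e.symm, isIrrCharacter_comp_equiv e.symm χ.2⟩
  invFun ψ := ⟨ψ.1 ∘ e, isIrrCharacter_comp_equiv e ψ.2⟩
  left_inv χ := by
    apply Subtype.ext
    funext a
    simp
  right_inv ψ := by
    apply Subtype.ext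
    funext b
    simp

theorem hom_count_of_complement {G : Type u} [Group G] (K H : Subgroup G) [K.Normal]
    (h : H.IsComplement' K) : Nat.card ((G ⧸ K) →* ℂˣ) = Nat.card (H →* ℂˣ) :=
  Nat.card_congr (MulEquiv.monoidHomCongrLeftEquiv h.QuotientMulEquiv)

/-- The McKay-type count for a coprime solvable complement. -/
theorem glaub_normalizer_count {G : Type u} [Group G] [Finite G] (K H : Subgroup G)
    [hK : K.Normal] (hKH : K ⊔ H = ⊤) (hcop : (Nat.card K).Coprime (Nat.card H))
    (hsolv : Group.IsSolvable H) :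
    Nat.card {χ : IrrCharacter G // (charDegree χ.1).Coprime (Nat.card H)} =
      Nat.card {η : IrrCharacter (Subgroup.normalizer (H : Set G)) //
        (charDegree η.1).Coprime (Nat.card H)} := by
  classical
  haveI : Fintype G := Fintype.ofFinite G
  haveI : Fintype K := Fintype.ofFinite K
  set C : Subgroup G := K ⊓ Subgroup.centralizer (H : Set G) with hCdef
  have hHK : H ≤ Subgroup.normalizer (K : Set G) := by
    rw [Subgroup.normalizer_eq_top]; exact le_top
  have hcardG : Nat.card G = Nat.card K * Nat.card H := by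
    have h1 := Cfsg.Agent.Lib.Helper4.act_card_sup H K hHK hcop.symm
    rw [hKH, Subgroup.card_top] at h1
    exact h1
  have hidx : K.index = Nat.card H := by
    have h1 := Subgroup.card_mul_index K
    rw [hcardG] at h1
    exact Nat.eq_of_mul_eq_mul_left Nat.card_pos h1
  have hKHbot : K ⊓ H = ⊥ := Cfsg.Agent.Lib.Helper4.act_inf_eq_bot H K hcop.symm
  have hL := count_coprime_degree K (by rw [hidx]; exact hcop)
  rw [hidx] at hL
  have hnorm : Normalizes H K := fun s _ g hg => hK.conj_mem g hg s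
  have hCmem : ∀ x, x ∈ C ↔ x ∈ K ∧ ∀ s ∈ H, x * s = s * x := by
    intro x
    rw [hCdef, Subgroup.mem_inf, Subgroup.mem_centralizer_iff]
    constructor
    · rintro ⟨h1, h2⟩
      exact ⟨h1, fun s hs => (h2 s hs).symm⟩
    · rintro ⟨h1, h2⟩
      exact ⟨h1, fun s hs => (h2 s hs).symm⟩
  have hinvcount : Nat.card {θ : IrrCharacter K // ∀ g : G, conjChar hK θ.1 g = θ.1} =
      Nat.card (IrrCharacter C) := by
    rw [← glaub_solvable_count H hsolv (Nat.card K) K rfl hnorm hcop C hCmem]
    apply Nat.card_congr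
    apply Equiv.subtypeEquivRight
    intro θ
    constructor
    · intro h s hs g g' hgg'
      have h1 := congrFun (h s) g
      rw [conjChar_apply] at h1
      have hg' : g' = ⟨s * g * s⁻¹, hK.conj_mem g g.2 s⟩ := Subtype.ext hgg'
      rw [hg']; exact h1
    · intro h g
      have hθcf := isClassFunction_of_isCharacter (irr_isCharacter θ.2)
      have hle : K ⊔ H ≤ inertiaSubgroup hK θ.1 := by
        rw [sup_le_iff]
        refine ⟨le_inertiaSubgroup hK hθcf, ?_⟩
        intro s hs
        rw [mem_inertiaSubgroup]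
        intro n
        exact h s hs n ⟨s * n * s⁻¹, hK.conj_mem n n.2 s⟩ rfl
      rw [hKH] at hle
      exact hle (Subgroup.mem_top g)
  -- the normalizer side
  set N : Subgroup G := Subgroup.normalizer (H : Set G) with hN
  have hHN : H ≤ N := Subgroup.le_normalizer
  haveI : Fintype N := Fintype.ofFinite _
  haveI hK'n : (K.subgroupOf N).Normal := Subgroup.normal_subgroupOf
  haveI : Fintype (K.subgroupOf N) := Fintype.ofFinite _
  have hKNtop : K ⊔ N = ⊤ := top_le_iff.mp (hKH ▸ sup_le_sup_left hHN K)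
  have hidx' : (K.subgroupOf N).index = Nat.card H := by
    show K.relIndex N = _
    rw [← Subgroup.relIndex_sup_left, hKNtop, Subgroup.relIndex_top_right, hidx]
  have hKN_C : ∀ x, x ∈ K → x ∈ N → ∀ h ∈ H, x * h = h * x := by
    intro x hxK hxN h hh
    have h1 : x * h * x⁻¹ ∈ H := (Subgroup.mem_normalizer_iff.mp hxN h).mp hh
    have h2 : x * h * x⁻¹ * h⁻¹ ∈ K ⊓ H := by
      refine ⟨?_, H.mul_mem h1 (H.inv_mem hh)⟩
      have h3 : x * h * x⁻¹ * h⁻¹ = x * (h * x⁻¹ * h⁻¹) := by group
      rw [h3]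
      exact K.mul_mem hxK (hK.conj_mem _ (K.inv_mem hxK) h)
    rw [hKHbot, Subgroup.mem_bot] at h2
    have h4 : x * h = (x * h * x⁻¹ * h⁻¹) * (h * x) := by group
    rw [h4, h2, one_mul]
  have hcardK' : Nat.card (K.subgroupOf N) ∣ Nat.card K := by
    apply Subgroup.card_dvd_of_injective (subOfHom K N)
    intro a b hab
    apply Subtype.ext
    apply Subtype.ext
    have h0 := congrArg (fun z : K => (z : G)) hab
    exact h0
  have hcop' : Nat.Coprime (Nat.card (K.subgroupOf N)) (K.subgroupOf N).index := by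
    rw [hidx']
    exact Nat.Coprime.coprime_dvd_left hcardK' hcop
  have hR := count_coprime_degree (K.subgroupOf N) hcop'
  rw [hidx'] at hR
  have hallinv : ∀ γ : IrrCharacter (K.subgroupOf N), ∀ x : N, conjChar hK'n γ.1 x = γ.1 := by
    intro γ x
    have hx : (x : G) ∈ K ⊔ H := hKH ▸ Subgroup.mem_top _
    rw [Subgroup.mem_sup_of_normal_left] at hx
    obtain ⟨k, hk, h, hh, hkh⟩ := hx
    have hkN : k ∈ N := by
      have h1 : k = x * h⁻¹ := by rw [← hkh]; group
      rw [h1]
      exact N.mul_mem x.2 (N.inv_mem (hHN hh))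
    ext n
    rw [conjChar_apply]
    have hnK : ((n : N) : G) ∈ K := n.2
    have hn := hKN_C ((n : N) : G) hnK (n : N).2 h hh
    have hγcf := isClassFunction_of_isCharacter (irr_isCharacter γ.2)
    have h5 := hγcf n ⟨⟨k, hkN⟩, hk⟩
    rw [← h5]
    refine congrArg γ.1 ?_
    apply Subtype.ext
    apply Subtype.ext
    push_cast
    rw [← hkh]
    calc k * h * ((n : N) : G) * (k * h)⁻¹ = k * (h * ((n : N) : G)) * h⁻¹ * k⁻¹ := by group
      _ = k * (((n : N) : G) * h) * h⁻¹ * k⁻¹ := by rw [hn]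
      _ = k * ((n : N) : G) * k⁻¹ := by group
  have hinvcount' : Nat.card {γ : IrrCharacter (K.subgroupOf N) //
      ∀ x : N, conjChar hK'n γ.1 x = γ.1} = Nat.card (IrrCharacter C) := by
    rw [Nat.card_congr (Equiv.subtypeUnivEquiv hallinv)]
    have hCN : C ≤ N := by
      intro c hc
      have hcc := ((hCmem c).mp hc).2
      rw [hN, Subgroup.mem_normalizer_iff]
      intro h
      have hconj : ∀ h' ∈ H, c * h' * c⁻¹ = h' := by
        intro h' hh'
        rw [hcc h' hh', mul_assoc, mul_inv_cancel, mul_one]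
      constructor
      · intro hh
        rw [hconj h hh]; exact hh
      · intro hh
        have h7 : c * h * c⁻¹ = h := by
          have h8 : c * (c * h * c⁻¹) = (c * h * c⁻¹) * c := hcc _ hh
          rw [inv_mul_cancel_right] at h8
          exact mul_left_cancel h8
        rw [← h7]; exact hh
    let e : ↥(K.subgroupOf N) ≃* ↥C :=
      { toFun := fun x => ⟨((x : N) : G), (hCmem _).mpr ⟨x.2, fun s hs =>
          hKN_C _ x.2 (x : N).2 s hs⟩⟩
        invFun := fun c => ⟨⟨(c : G), hCN c.2⟩, ((hCmem _).mp c.2).1⟩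
        left_inv := fun x => rfl
        right_inv := fun c => rfl
        map_mul' := fun a b => rfl }
    exact Nat.card_congr (irrCongr e)
  -- complements
  have hcomplG : H.IsComplement' K :=
    Subgroup.isComplement'_of_coprime (by rw [hcardG, mul_comm]) hcop.symm
  have hcardH' : Nat.card (H.subgroupOf N) = Nat.card H :=
    Nat.card_congr (Subgroup.subgroupOfEquivOfLe hHN).toEquiv
  have hcomplN : (H.subgroupOf N).IsComplement' (K.subgroupOf N) := by
    apply Subgroup.isComplement'_of_coprime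
    · rw [hcardH', ← hidx', mul_comm]
      exact Subgroup.card_mul_index _
    · rw [hcardH']
      exact (Nat.Coprime.coprime_dvd_left hcardK' hcop).symm
  have hhomG := hom_count_of_complement K H hcomplG
  have hhomN := hom_count_of_complement (K.subgroupOf N) (H.subgroupOf N) hcomplN
  have hhomH : Nat.card ((H.subgroupOf N) →* ℂˣ) = Nat.card (H →* ℂˣ) :=
    Nat.card_congr (MulEquiv.monoidHomCongrLeftEquiv (Subgroup.subgroupOfEquivOfLe hHN))
  rw [hL, hR, hinvcount, hinvcount', hhomG, hhomN, hhomH]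

end Cfsg.Agent.Lib.Helper8
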