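import Mathlib
import Cfsg.Agent.Lib.Helper8.CyclicTI

set_option autoImplicit false

namespace Cfsg.Agent.Lib.Helper8
open Cfsg

/-- An "additive rank one" array `f i + h j` on an `I × J` grid with few nonzero entries is zero,
or supported on a single column with constant value, or on a single row with constant value. -/
theorem grid_few_nonzero {I J : Type*} [Fintype I] [Fintype J] [DecidableEq I] [DecidableEq J]
    (f : I → ℂ) (h : J → ℂ) (w : ℕ) (hI : w ≤ Fintype.card I) (hJ : w + 2 ≤ Fintype.card J)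
    (N : Finset (I × J)) (hmemN : ∀ p : I × J, p ∈ N ↔ f p.1 + h p.2 ≠ 0)
    (hfew : N.card < 2 * w) :
    (∀ i j, f i + h j = 0) ∨ (∃ (j₀ : J) (c : ℂ), ∀ i j, f i + h j = if j = j₀ then c else 0) ∨
    (∃ (i₀ : I) (c : ℂ), ∀ i j, f i + h j = if i = i₀ then c else 0) := by
  by_cases hf : ∀ i i', f i = f i'
  · by_cases hall : ∀ i j, f i + h j = 0
    · left; exact hall
    · right; left
      push_neg at hall
      obtain ⟨i₀, j₀, h0⟩ := hall
      refine ⟨j₀, f i₀ + h j₀, ?_⟩
      intro i j
      by_cases hj : j = j₀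
      · rw [if_pos hj, hj, hf i i₀]
      · rw [if_neg hj]
        by_contra hne
        have hsub : (Finset.univ : Finset I) ×ˢ ({j₀, j} : Finset J) ⊆ N := by
          intro p hp
          rw [Finset.mem_product] at hp
          rw [hmemN]
          rcases Finset.mem_insert.mp hp.2 with e | e
          · rw [e, hf p.1 i₀]; exact h0
          · rw [Finset.mem_singleton.mp e, hf p.1 i]; exact hne
        have hc := Finset.card_le_card hsub
        rw [Finset.card_product, Finset.card_univ, Finset.card_pair (Ne.symm hj)] at hc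
        omega
  · push_neg at hf
    obtain ⟨i₁, i₂, hi⟩ := hf
    by_cases hh : ∀ j j', h j = h j'
    · by_cases hall : ∀ i j, f i + h j = 0
      · left; exact hall
      · right; right
        push_neg at hall
        obtain ⟨i₀, j₀, h0⟩ := hall
        refine ⟨i₀, f i₀ + h j₀, ?_⟩
        intro i j
        by_cases hi' : i = i₀
        · rw [if_pos hi', hi', hh j j₀]
        · rw [if_neg hi']
          by_contra hne
          have hsub : ({i₀, i} : Finset I) ×ˢ (Finset.univ : Finset J) ⊆ N := by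
            intro p hp
            rw [Finset.mem_product] at hp
            rw [hmemN]
            rcases Finset.mem_insert.mp hp.1 with e | e
            · rw [e, hh p.2 j₀]; exact h0
            · rw [Finset.mem_singleton.mp e, hh p.2 j]; exact hne
          have hc := Finset.card_le_card hsub
          rw [Finset.card_product, Finset.card_univ, Finset.card_pair (Ne.symm hi')] at hc
          omega
    · exfalso
      push_neg at hh
      obtain ⟨j₁, j₂, hj⟩ := hh
      have hi12 : i₁ ≠ i₂ := fun e => hi (by rw [e])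
      obtain ⟨g₁, hg₁⟩ : ∃ g₁ : J → I × J,
          g₁ = fun j => (if f i₁ + h j ≠ 0 then i₁ else i₂, j) := ⟨_, rfl⟩
      obtain ⟨g₂, hg₂⟩ : ∃ g₂ : I → I × J,
          g₂ = fun i => (i, if f i + h j₁ ≠ 0 then j₁ else j₂) := ⟨_, rfl⟩
      have hg₁N : ∀ j, g₁ j ∈ N := by
        intro j
        rw [hmemN, hg₁]
        by_cases hb : f i₁ + h j ≠ 0
        · simp only [if_pos hb]; exact hb
        · simp only [if_neg hb]
          push_neg at hb
          intro hb2
          apply hi
          linear_combination hb - hb2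
      have hg₂N : ∀ i, g₂ i ∈ N := by
        intro i
        rw [hmemN, hg₂]
        by_cases hb : f i + h j₁ ≠ 0
        · simp only [if_pos hb]; exact hb
        · simp only [if_neg hb]
          push_neg at hb
          intro hb2
          apply hj
          linear_combination hb - hb2
      have hg₁inj : Function.Injective g₁ := by
        intro j j' e
        rw [hg₁] at e
        exact congrArg Prod.snd e
      have hg₂inj : Function.Injective g₂ := by
        intro i i' e
        rw [hg₂] at e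
        exact congrArg Prod.fst e
      obtain ⟨S₁, hS₁⟩ : ∃ S : Finset (I × J), S = Finset.univ.image g₁ := ⟨_, rfl⟩
      obtain ⟨S₂, hS₂⟩ : ∃ S : Finset (I × J), S = (Finset.univ \ {i₁, i₂}).image g₂ := ⟨_, rfl⟩
      have hdisj : Disjoint S₁ S₂ := by
        rw [Finset.disjoint_left]
        intro p hp1 hp2
        rw [hS₁, Finset.mem_image] at hp1
        rw [hS₂, Finset.mem_image] at hp2
        obtain ⟨j, _, rfl⟩ := hp1
        obtain ⟨i, hi', e⟩ := hp2
        have e1 : (g₂ i).1 = (g₁ j).1 := congrArg Prod.fst e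
        rw [Finset.mem_sdiff, Finset.mem_insert, Finset.mem_singleton] at hi'
        apply hi'.2
        rw [hg₁, hg₂] at e1
        simp only at e1
        split_ifs at e1
        · left; exact e1
        · right; exact e1
      have hsub : S₁ ∪ S₂ ⊆ N := by
        intro p hp
        rcases Finset.mem_union.mp hp with hp | hp
        · rw [hS₁, Finset.mem_image] at hp
          obtain ⟨j, _, rfl⟩ := hp
          exact hg₁N j
        · rw [hS₂, Finset.mem_image] at hp
          obtain ⟨i, _, rfl⟩ := hp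
          exact hg₂N i
      have hc := Finset.card_le_card hsub
      rw [Finset.card_union_of_disjoint hdisj, hS₁, hS₂,
        Finset.card_image_of_injective _ hg₁inj, Finset.card_image_of_injective _ hg₂inj,
        Finset.card_univ, Finset.card_univ_diff, Finset.card_pair hi12] at hc
      omega

section Proj
variable {G : Type*} [Group G]

theorem decomp_unique (W₁ W₂ : Subgroup G) (hinf : W₁ ⊓ W₂ = ⊥) {a a' b b' : G} (ha : a ∈ W₁)
    (ha' : a' ∈ W₁) (hb : b ∈ W₂) (hb' : b' ∈ W₂) (h : a * b = a' * b') : a = a' ∧ b = b' := by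
  have e : a'⁻¹ * a = b' * b⁻¹ := by
    calc a'⁻¹ * a = a'⁻¹ * (a * b) * b⁻¹ := by group
      _ = a'⁻¹ * (a' * b') * b⁻¹ := by rw [h]
      _ = b' * b⁻¹ := by group
  have hm : a'⁻¹ * a ∈ W₁ ⊓ W₂ :=
    ⟨W₁.mul_mem (W₁.inv_mem ha') ha, by rw [e]; exact W₂.mul_mem hb' (W₂.inv_mem hb)⟩
  rw [hinf, Subgroup.mem_bot] at hm
  have h1 : a = a' := by rw [inv_mul_eq_one] at hm; exact hm.symm
  refine ⟨h1, ?_⟩
  rw [h1] at h
  exact mul_left_cancel h

theorem exists_proj (W₁ W₂ : Subgroup G) (hcomm : ∀ a ∈ W₁, ∀ b ∈ W₂, a * b = b * a)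
    (hinf : W₁ ⊓ W₂ = ⊥) :
    ∃ p₁ p₂ : ↥(W₁ ⊔ W₂) →* ↥(W₁ ⊔ W₂), (∀ w, (p₁ w : G) ∈ W₁) ∧ (∀ w, (p₂ w : G) ∈ W₂) ∧
      (∀ w, w = p₁ w * p₂ w) ∧ (∀ w : ↥(W₁ ⊔ W₂), (w : G) ∈ W₁ → p₁ w = w ∧ p₂ w = 1) ∧
      (∀ w : ↥(W₁ ⊔ W₂), (w : G) ∈ W₂ → p₁ w = 1 ∧ p₂ w = w) := by
  classical
  have hex : ∀ w : ↥(W₁ ⊔ W₂), ∃ a ∈ W₁, ∃ b ∈ W₂, (w : G) = a * b :=
    fun w => mem_sup_comm W₁ W₂ hcomm w.2
  choose a ha b hb hab using hex
  have hmul_a : ∀ w w', a (w * w') = a w * a w' ∧ b (w * w') = b w * b w' := by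
    intro w w'
    apply decomp_unique W₁ W₂ hinf (ha _) (mul_mem (ha w) (ha w')) (hb _)
      (mul_mem (hb w) (hb w'))
    rw [← hab (w * w'), Subgroup.coe_mul, hab w, hab w']
    have := hcomm (a w') (ha w') (b w) (hb w)
    calc a w * b w * (a w' * b w') = a w * (b w * a w') * b w' := by group
      _ = a w * (a w' * b w) * b w' := by rw [this]
      _ = _ := by group
  refine ⟨MonoidHom.mk' (fun w => ⟨a w, Subgroup.mem_sup_left (ha w)⟩)
      (fun w w' => Subtype.ext (hmul_a w w').1),
    MonoidHom.mk' (fun w => ⟨b w, Subgroup.mem_sup_right (hb w)⟩)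
      (fun w w' => Subtype.ext (hmul_a w w').2), ?_, ?_, ?_, ?_, ?_⟩
  · intro w; exact ha w
  · intro w; exact hb w
  · intro w; exact Subtype.ext (hab w)
  · intro w hw
    have := decomp_unique W₁ W₂ hinf (ha w) hw (hb w) W₂.one_mem
      (by rw [← hab w, mul_one])
    exact ⟨Subtype.ext this.1, Subtype.ext this.2⟩
  · intro w hw
    have := decomp_unique W₁ W₂ hinf (ha w) W₁.one_mem (hb w) hw
      (by rw [← hab w, one_mul])
    exact ⟨Subtype.ext this.1, Subtype.ext this.2⟩

end Proj

end Cfsg.Agent.Lib.Helper8
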