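import Mathlib
import Cfsg.Prelude.Def_Characters
import Cfsg.Prelude.Def_Local
import Cfsg.Agent.Lib.Helper8.CharItoSolv2
import Cfsg.Agent.Lib.Helper8.CharComplete2
import Cfsg.Agent.Lib.Helper7.PSolvable
import Cfsg.Agent.S4445

set_option autoImplicit false

namespace Cfsg.Agent.Lib.Helper8
open Cfsg
open scoped ComplexConjugate

universe u

/-- A subgroup of a finite group meeting every conjugacy class is the whole group. -/
theorem eq_top_of_meets_all_classes {G : Type*} [Group G] [Finite G] (H : Subgroup G)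
    (h : ∀ g : G, ∃ c : G, c * g * c⁻¹ ∈ H) : H = ⊤ := by
  classical
  haveI : Fintype G := Fintype.ofFinite G
  haveI : Fintype (G ⧸ H) := Fintype.ofFinite _
  have hB := MulAction.sum_card_fixedBy_eq_card_orbits_mul_card_group G (G ⧸ H)
  have horb : Fintype.card (Quotient (MulAction.orbitRel G (G ⧸ H))) = 1 := by
    have hsub : Subsingleton (MulAction.orbitRel.Quotient G (G ⧸ H)) :=
      (MulAction.pretransitive_iff_subsingleton_quotient G (G ⧸ H)).mp inferInstance
    apply le_antisymm
    · exact Fintype.card_le_one_iff_subsingleton.mpr hsub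
    · exact Fintype.card_pos_iff.mpr ⟨Quotient.mk'' (QuotientGroup.mk 1)⟩
  rw [horb, one_mul] at hB
  have hge : ∀ g : G, 1 ≤ Fintype.card (MulAction.fixedBy (G ⧸ H) g) := by
    intro g
    obtain ⟨c, hc⟩ := h g
    apply Fintype.card_pos_iff.mpr
    refine ⟨⟨QuotientGroup.mk c⁻¹, ?_⟩⟩
    rw [MulAction.mem_fixedBy, MulAction.Quotient.smul_mk, QuotientGroup.eq]
    have : (g • c⁻¹)⁻¹ * c⁻¹ = (c * g * c⁻¹)⁻¹ := by
      rw [smul_eq_mul]; group
    rw [this]
    exact H.inv_mem hc
  have h1 : Fintype.card (MulAction.fixedBy (G ⧸ H) (1 : G)) = H.index := by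
    rw [Subgroup.index_eq_card, Nat.card_eq_fintype_card]
    apply Fintype.card_of_subtype Finset.univ
    intro x
    simp [MulAction.mem_fixedBy]
  have hsum2 : H.index + (Fintype.card G - 1) ≤
      ∑ g : G, Fintype.card (MulAction.fixedBy (G ⧸ H) g) := by
    rw [← Finset.add_sum_erase Finset.univ _ (Finset.mem_univ (1 : G)), h1]
    apply Nat.add_le_add_left
    calc Fintype.card G - 1 = (Finset.univ.erase (1 : G)).card := by
          rw [Finset.card_erase_of_mem (Finset.mem_univ _), Finset.card_univ]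
      _ = ∑ g ∈ Finset.univ.erase (1 : G), 1 := by simp
      _ ≤ _ := Finset.sum_le_sum (fun g _ => hge g)
  have hsum : H.index + (Fintype.card G - 1) ≤ Fintype.card G := by
    rw [hB] at hsum2; exact hsum2
  have hpos : 0 < Fintype.card G := Fintype.card_pos
  have hidx : H.index ≠ 0 := Subgroup.index_ne_zero_of_finite
  rw [← Subgroup.index_eq_one]
  omega

/-- If `M` is a normal subgroup of `p`-power index and all irreducible character degrees of `G`
are prime to `p`, then every irreducible character of `M` is invariant in `G`. -/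
theorem invariant_of_pquotient {G : Type u} [Group G] [Fintype G] (p : ℕ) (hp : p.Prime)
    (A : Subgroup G) (hA : A.Normal) {k : ℕ}
    (hk : A.index = p ^ k) (hdeg : ∀ χ : IrrCharacter G, ¬ p ∣ charDegree χ.1)
    (θ : IrrCharacter A) (g : G) : conjChar hA θ.1 g = θ.1 := by
  classical
  letI := irrConjAction hA
  by_contra hne
  have hnf : ∃ a : G, a • θ ≠ θ := by
    refine ⟨g⁻¹, ?_⟩
    intro h
    apply hne
    have := congrArg Subtype.val h
    rw [irrConjAction_smul, inv_inv] at this
    exact this
  have h1 := irr_stab_dvd' p hp A hA hk θ hnf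
  obtain ⟨χ, e, _, h2⟩ := exists_over_degree A hA θ
  apply hdeg χ
  rw [h2]
  exact Dvd.dvd.mul_right (Dvd.dvd.mul_left h1 e) _

/-- If `M` is a normal `p'`-subgroup of `p`-power index and all irreducible character degrees of
`G` are prime to `p`, then every Sylow `p`-subgroup centralizes `M`. -/
theorem sylow_centralizes_of_pquotient {G : Type u} [Group G] [Fintype G] (p : ℕ) [hpf : Fact p.Prime]
    (M : Subgroup G) (hM : M.Normal) (hMp : (Nat.card M).Coprime p) {k : ℕ}
    (hk : M.index = p ^ k) (hdeg : ∀ χ : IrrCharacter G, ¬ p ∣ charDegree χ.1) (P : Sylow p G) :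
    ∀ a ∈ M, ∀ h ∈ (P : Subgroup G), h * a = a * h := by
  classical
  have hp : p.Prime := hpf.out
  haveI : Fintype ↥M := Fintype.ofFinite _
  haveI : Finite (IrrCharacter ↥M) := irr_finite
  haveI : Fintype (IrrCharacter ↥M) := Fintype.ofFinite _
  have hinvar := invariant_of_pquotient p hp M hM hk hdeg
  have hPp : IsPGroup p ↥(P : Subgroup G) := P.2
  have hcop : (Nat.card ↥M).Coprime (Nat.card ↥(P : Subgroup G)) := by
    obtain ⟨j, hj⟩ := hPp.exists_card_eq
    rw [hj]
    exact Nat.Coprime.pow_right j hMp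
  have hsolvP : Group.IsSolvable ↥(P : Subgroup G) := by
    haveI : Group.IsNilpotent ↥(P : Subgroup G) := hPp.isNilpotent
    infer_instance
  have hcount := Cfsg.Agent.S4445.result M (P : Subgroup G)
    (fun s _ g hg => hM.conj_mem g hg s) hcop hsolvP
  -- every character is invariant
  have hall : ∀ χ : IrrCharacter ↥M, ∀ s ∈ (P : Subgroup G), ∀ g g' : ↥M,
      (g' : G) = s * g * s⁻¹ → χ.1 g' = χ.1 g := by
    intro χ s _ g g' hgg'
    have := congrFun (hinvar χ s) g
    rw [conjChar_apply] at this
    rw [← this]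
    exact congrArg χ.1 (Subtype.ext hgg')
  have hL : Nat.card {χ : IrrCharacter ↥M // ∀ s ∈ (P : Subgroup G), ∀ g g' : ↥M,
      (g' : G) = s * g * s⁻¹ → χ.1 g' = χ.1 g} = Nat.card (IrrCharacter ↥M) :=
    Nat.card_congr (Equiv.subtypeUnivEquiv hall)
  rw [hL, card_irr_eq] at hcount
  -- so every class is invariant
  have hclass : ∀ K : ConjClasses ↥M, ∀ s ∈ (P : Subgroup G), ∀ g g' : ↥M,
      (g' : G) = s * g * s⁻¹ → ConjClasses.mk g = K → ConjClasses.mk g' = K := by
    have hbij := Function.Injective.bijective_of_nat_card_le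
      (Subtype.val_injective (p := fun K : ConjClasses ↥M => ∀ s ∈ (P : Subgroup G),
        ∀ g g' : ↥M, (g' : G) = s * g * s⁻¹ → ConjClasses.mk g = K → ConjClasses.mk g' = K))
      (le_of_eq hcount)
    intro K
    obtain ⟨K', rfl⟩ := hbij.2 K
    exact K'.2
  -- fixed points in every class
  have hfixed : ∀ g : ↥M, ∃ m₀ : ↥M, ConjClasses.mk m₀ = ConjClasses.mk g ∧
      ∀ s ∈ (P : Subgroup G), s * (m₀ : G) * s⁻¹ = m₀ := by
    intro g
    obtain ⟨K, hK⟩ : ∃ K : ConjClasses ↥M, K = ConjClasses.mk g := ⟨_, rfl⟩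
    letI act : MulAction ↥(P : Subgroup G) {m : ↥M // ConjClasses.mk m = K} :=
      { smul := fun s m => ⟨⟨(s : G) * (m.1 : G) * (s : G)⁻¹, hM.conj_mem _ m.1.2 s⟩,
          hclass K s s.2 m.1 _ rfl m.2⟩
        one_smul := by
          intro m
          apply Subtype.ext
          apply Subtype.ext
          show ((1 : ↥(P : Subgroup G)) : G) * (m.1 : G) * ((1 : ↥(P : Subgroup G)) : G)⁻¹ = (m.1 : G)
          simp
        mul_smul := by
          intro a b m
          apply Subtype.ext
          apply Subtype.ext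
          show ((a * b : ↥(P : Subgroup G)) : G) * (m.1 : G) * ((a * b : ↥(P : Subgroup G)) : G)⁻¹ =
            (a : G) * ((b : G) * (m.1 : G) * (b : G)⁻¹) * (a : G)⁻¹
          simp only [Subgroup.coe_mul]
          group }
    have hsm : ∀ (s : ↥(P : Subgroup G)) (m : {m : ↥M // ConjClasses.mk m = K}),
        (((s • m : {m : ↥M // ConjClasses.mk m = K}).1 : ↥M) : G) = (s : G) * (m.1 : G) * (s : G)⁻¹ :=
      fun s m => rfl
    have hcardK : ¬ p ∣ Nat.card {m : ↥M // ConjClasses.mk m = K} := by
      have hdvd : Nat.card {m : ↥M // ConjClasses.mk m = K} ∣ Nat.card ↥M := by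
        have e : {m : ↥M // ConjClasses.mk m = K} ≃ ↥(ConjClasses.mk g).carrier := by
          rw [hK]
          exact Equiv.subtypeEquivRight (fun m => ConjClasses.mem_carrier_iff_mk_eq.symm)
        rw [Nat.card_congr e, Nat.card_eq_fintype_card, Nat.card_eq_fintype_card,
          ConjClasses.card_carrier]
        apply Nat.div_dvd_of_dvd
        have := Subgroup.card_subgroup_dvd_card (MulAction.stabilizer (ConjAct ↥M) g)
        rw [Nat.card_eq_fintype_card, Nat.card_eq_fintype_card, ConjAct.card] at this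
        exact this
      intro hpd
      have := dvd_trans hpd hdvd
      exact (Nat.Prime.coprime_iff_not_dvd hp).mp hMp.symm this
    obtain ⟨m₀, hm₀⟩ := hPp.nonempty_fixed_point_of_prime_not_dvd_card
      {m : ↥M // ConjClasses.mk m = K} hcardK
    refine ⟨m₀.1, by rw [m₀.2, hK], ?_⟩
    intro s hs
    have := hm₀ ⟨s, hs⟩
    have h2 := hsm ⟨s, hs⟩ m₀
    rw [this] at h2
    exact h2.symm
  -- conclude
  have htop := eq_top_of_meets_all_classes
    ((Subgroup.centralizer ((P : Subgroup G) : Set G)).subgroupOf M) (by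
    intro g
    obtain ⟨m₀, hm₀K, hm₀⟩ := hfixed g
    rw [ConjClasses.mk_eq_mk_iff_isConj, isConj_comm, isConj_iff] at hm₀K
    obtain ⟨c, hc⟩ := hm₀K
    refine ⟨c, ?_⟩
    rw [hc, Subgroup.mem_subgroupOf, Subgroup.mem_centralizer_iff]
    intro h hh
    have := hm₀ h hh
    calc h * (m₀ : G) = (h * (m₀ : G) * h⁻¹) * h := by group
      _ = (m₀ : G) * h := by rw [this])
  intro a ha h hh
  have : (⟨a, ha⟩ : ↥M) ∈ (Subgroup.centralizer ((P : Subgroup G) : Set G)).subgroupOf M := by
    rw [htop]; trivial
  rw [Subgroup.mem_subgroupOf, Subgroup.mem_centralizer_iff] at this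
  exact this h hh

/-- Itô--Michler for `p`-solvable groups: all irreducible character degrees prime to `p` forces a
normal Sylow `p`-subgroup. -/
theorem ito_psolvable_aux (p : ℕ) (hp : p.Prime) : ∀ (n : ℕ) (G : Type u) [Group G] [Finite G],
    Nat.card G = n → IsPSolvable p G → (∀ χ : IrrCharacter G, ¬ p ∣ charDegree χ.1) →
    ∃ P : Subgroup G, P.Normal ∧ IsPGroup p P ∧ ¬ p ∣ P.index := by
  intro n
  induction n using Nat.strong_induction_on with
  | _ n ih =>
  intro G _ _ hcard hsolv hdeg
  classical
  haveI : Fact p.Prime := ⟨hp⟩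
  have : Fintype G := Fintype.ofFinite G
  by_cases hpG : p ∣ Nat.card G
  swap
  · refine ⟨⊥, inferInstance, IsPGroup.of_bot, ?_⟩
    rw [Subgroup.index_bot]; exact hpG
  have hnt : Nontrivial G := by
    rw [← Finite.one_lt_card_iff_nontrivial]
    have := Nat.le_of_dvd Nat.card_pos hpG
    have := hp.two_le
    omega
  obtain ⟨A, hAn, hAne, hAtype⟩ := Cfsg.Agent.Lib.Helper7.exists_normal_of_isPSolvable hsolv
  haveI := hAn
  -- quotient step
  have hquot : ∀ (K : Subgroup G) [K.Normal], K ≠ ⊥ →
      ∃ Pb : Subgroup (G ⧸ K), Pb.Normal ∧ IsPGroup p Pb ∧ ¬ p ∣ Pb.index := by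
    intro K _ hK
    have hlt : Nat.card (G ⧸ K) < n := by
      rw [← hcard, Subgroup.card_eq_card_quotient_mul_card_subgroup K]
      have h1 : 1 < Nat.card K := by
        rw [Subgroup.one_lt_card_iff_ne_bot]; exact hK
      have h2 : 0 < Nat.card (G ⧸ K) := Nat.card_pos
      nlinarith
    apply ih _ hlt (G ⧸ K) rfl (Cfsg.Agent.Lib.Helper7.isPSolvable_quotient hp hsolv K)
    intro χb
    have hirr := isIrrCharacter_comp_surjective (QuotientGroup.mk' K)
      (QuotientGroup.mk'_surjective K) χb.2
    have := hdeg ⟨_, hirr⟩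
    rw [charDegree_comp_mk] at this
    exact this
  obtain ⟨Pb, hPbn, hPbp, hPbi⟩ := hquot A hAne
  rcases hAtype with ⟨m, hm⟩ | hAcop
  · -- `A` is a `p`-group
    have hAp : IsPGroup p A := IsPGroup.of_card hm
    refine ⟨Pb.comap (QuotientGroup.mk' A), hPbn.comap _, ?_, ?_⟩
    · apply hPbp.comap_of_ker_isPGroup
      rw [QuotientGroup.ker_mk']; exact hAp
    · rw [Subgroup.index_comap_of_surjective Pb (QuotientGroup.mk'_surjective A)]
      exact hPbi
  · -- `A` is a `p'`-group
    obtain ⟨L, hL⟩ : ∃ L : Subgroup G, L = Pb.comap (QuotientGroup.mk' A) := ⟨_, rfl⟩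
    have hLn : L.Normal := by rw [hL]; exact hPbn.comap _
    haveI := hLn
    have hLidx : L.index = Pb.index := by
      rw [hL]; exact Subgroup.index_comap_of_surjective Pb (QuotientGroup.mk'_surjective A)
    by_cases hLtop : L = ⊤
    · -- G/A is a p-group
      have hPbtop : Pb = ⊤ := by
        rw [eq_top_iff]
        intro x _
        obtain ⟨g, rfl⟩ := QuotientGroup.mk'_surjective A x
        have : g ∈ L := by rw [hLtop]; trivial
        rw [hL] at this
        exact this
      have hpg : IsPGroup p (G ⧸ A) := by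
        intro x
        obtain ⟨k, hk⟩ := hPbp ⟨x, by rw [hPbtop]; trivial⟩
        exact ⟨k, by simpa using congrArg Subtype.val hk⟩
      obtain ⟨k, hk⟩ := hpg.exists_card_eq
      have hAidx : A.index = p ^ k := by rw [Subgroup.index_eq_card, hk]
      let P : Sylow p G := default
      have hcent := sylow_centralizes_of_pquotient p A hAn hAcop hAidx hdeg P
      have hsup : A ⊔ (P : Subgroup G) = ⊤ := by
        rw [← Subgroup.index_eq_one]
        have h1 : (A ⊔ (P : Subgroup G)).index ∣ (P : Subgroup G).index :=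
          Subgroup.index_dvd_of_le le_sup_right
        have h2 : (A ⊔ (P : Subgroup G)).index ∣ p ^ k := by
          rw [← hAidx]; exact Subgroup.index_dvd_of_le le_sup_left
        obtain ⟨i, _, hi⟩ := (Nat.dvd_prime_pow hp).mp h2
        rcases Nat.eq_zero_or_pos i with h0 | hpos
        · rw [hi, h0, pow_zero]
        · exfalso
          apply P.not_dvd_index
          apply dvd_trans _ h1
          rw [hi]; exact dvd_pow_self p hpos.ne'
      have hnorm : (P : Subgroup G).Normal := by
        rw [← Subgroup.normalizer_eq_top_iff, eq_top_iff, ← hsup, sup_le_iff]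
        refine ⟨?_, Subgroup.le_normalizer⟩
        intro a ha
        rw [Subgroup.mem_normalizer_iff]
        intro h
        constructor
        · intro hh
          have : a * h * a⁻¹ = h := by
            rw [← hcent a ha h hh, mul_inv_cancel_right]
          rw [this]; exact hh
        · intro hh
          have h1 := hcent a⁻¹ (A.inv_mem ha) _ hh
          have : h = a * h * a⁻¹ := by
            calc h = a⁻¹ * (a * h * a⁻¹) * a := by group
              _ = (a * h * a⁻¹) * a⁻¹ * a := by rw [h1]
              _ = a * h * a⁻¹ := by group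
          rw [this]; exact hh
      exact ⟨P, hnorm, P.2, P.not_dvd_index⟩
    · -- induction on L
      have hLlt : Nat.card L < n := by
        rw [← hcard, ← Subgroup.card_mul_index L]
        have h1 : L.index ≠ 1 := fun h => hLtop (Subgroup.index_eq_one.mp h)
        have h2 : L.index ≠ 0 := Subgroup.index_ne_zero_of_finite
        have h3 : 0 < Nat.card L := Nat.card_pos
        have : 2 ≤ L.index := by omega
        nlinarith
      have : Fintype L := Fintype.ofFinite L
      obtain ⟨P₀, hP₀n, hP₀p, hP₀i⟩ := ih _ hLlt L rfl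
        (Cfsg.Agent.Lib.Helper7.isPSolvable_subgroup hp hsolv L) (by
        intro θ
        obtain ⟨χ, hχ⟩ := charDegree_dvd_of_normal L hLn θ
        intro h
        exact hdeg χ (dvd_trans h hχ))
      haveI := hP₀n
      refine ⟨P₀.map L.subtype, ?_, hP₀p.map _, ?_⟩
      · constructor
        rintro x ⟨y, hy, rfl⟩ g
        obtain ⟨k, hk⟩ := hP₀p ⟨y, hy⟩
        have hyk : y ^ p ^ k = 1 := by simpa using congrArg Subtype.val hk
        have hmemL : g * (y : G) * g⁻¹ ∈ L := hLn.conj_mem y y.2 g
        have hpow : (⟨g * (y : G) * g⁻¹, hmemL⟩ : L) ^ p ^ k = 1 := by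
          apply Subtype.ext
          simp only [Subgroup.coe_pow, OneMemClass.coe_one]
          rw [conj_pow]
          have : ((y : G)) ^ p ^ k = 1 := by
            have := congrArg Subtype.val hyk
            simpa using this
          rw [this, mul_one, mul_inv_cancel]
        have := mem_of_normal_sylow P₀ hP₀i hp _ hpow
        exact ⟨⟨g * (y : G) * g⁻¹, hmemL⟩, this, rfl⟩
      · rw [Subgroup.index_map_subtype, hLidx]
        exact (Nat.Prime.dvd_mul hp).not.mpr (not_or.mpr ⟨hP₀i, hPbi⟩)

end Cfsg.Agent.Lib.Helper8
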