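import Mathlib
import Cfsg.Prelude.Def_Characters
import Cfsg.Agent.Lib.Helper8.MGroup

set_option autoImplicit false

namespace Cfsg.Agent.Lib.Helper8
open Cfsg
open scoped ComplexConjugate

universe u

section MGroup2

/-- primitivity forces invariance of constituents -/
theorem invariant_of_primitive {H : Type u} [Group H] [Fintype H] {ψ : H → ℂ}
    (hψ : IsIrrCharacter H ψ)
    (hprim : ¬ ∃ (J : Subgroup H) (η : J → ℂ), J ≠ ⊤ ∧ IsIrrCharacter J η ∧ indFun J η = ψ)
    (M : Subgroup H) [Fintype M] (hM : M.Normal) (θ : IrrCharacter M)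
    (hcon : classInner (fun m : M => ψ m) θ.1 ≠ 0) (g : H) : conjChar hM θ.1 g = θ.1 := by
  classical
  by_contra hg
  obtain ⟨T, hTdef⟩ : ∃ T : Subgroup H, T = inertiaSubgroup hM θ.1 := ⟨_, rfl⟩
  haveI : Fintype T := Fintype.ofFinite _
  have hθcf : IsClassFunction M θ.1 := isClassFunction_of_isCharacter (irr_isCharacter θ.2)
  have hMT : M ≤ T := by rw [hTdef]; exact le_inertiaSubgroup hM hθcf
  haveI := hM
  obtain ⟨ξ, hξ, hind, -⟩ := Cfsg.Agent.S0854.result M θ.1 θ.2 T
    (fun g => by rw [hTdef]; exact mem_inertiaSubgroup hM θ.1 g) hMT ψ hψ hcon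
  apply hprim
  refine ⟨T, ξ, ?_, hξ, hind⟩
  intro hT
  apply hg
  have : g ∈ T := by rw [hT]; exact Subgroup.mem_top g
  rw [hTdef] at this
  exact this

/-- constituents of a primitive character on normal subgroups with abelian Sylow subgroups are
linear -/
theorem primitive_constituent_linear {H : Type u} [Group H] [Fintype H] [Group.IsSolvable H]
    (N : Subgroup H)
    (hsyl : ∀ (p : ℕ) [Fact p.Prime] (Q : Subgroup H), Q ≤ N → IsPGroup p Q →
      ∀ a ∈ Q, ∀ b ∈ Q, a * b = b * a)
    {ψ : H → ℂ} (hψ : IsIrrCharacter H ψ)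
    (hprim : ¬ ∃ (J : Subgroup H) (η : J → ℂ), J ≠ ⊤ ∧ IsIrrCharacter J η ∧ indFun J η = ψ) :
    ∀ (k : ℕ) (M : Subgroup H) [Fintype M] (hM : M.Normal), M ≤ N → Nat.card M = k →
      ∀ θ : IrrCharacter M, classInner (fun m : M => ψ m) θ.1 ≠ 0 → θ.1 1 = 1 := by
  intro k
  induction k using Nat.strong_induction_on with
  | _ k ih =>
  intro M _ hM hMN hcard θ hcon
  classical
  haveI := hM
  by_cases hMbot : M = ⊥
  · have hc1 : Nat.card M = 1 := by rw [hMbot]; exact Subgroup.card_bot
    have h1 := charDegree_dvd_card θ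
    rw [hc1] at h1
    have h2 := Nat.dvd_one.1 h1
    rw [irr_one_eq_charDegree θ, h2]; simp
  · obtain ⟨p, hp, L, hLn, hLM, hpow⟩ := exists_normal_pquotient M hMbot
    haveI : Fact p.Prime := ⟨hp⟩
    haveI := hLn
    haveI : Fintype L := Fintype.ofFinite _
    haveI hL'n : (L.subgroupOf M).Normal := Subgroup.normal_subgroupOf
    haveI : Fintype (L.subgroupOf M) := Fintype.ofFinite _
    have hresc : IsCharacter (L.subgroupOf M) (fun x : L.subgroupOf M => θ.1 x) :=
      isCharacter_restrict _ (irr_isCharacter θ.2)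
    have hres0 : (fun x : L.subgroupOf M => θ.1 x) ≠ 0 := by
      intro h0
      have := congrFun h0 1
      simp only [Pi.zero_apply, OneMemClass.coe_one] at this
      exact irr_one_ne_zero θ this
    obtain ⟨lam', hlam'con⟩ := exists_constituent_of_ne_zero hresc hres0
    obtain ⟨e₀, he₀⟩ : ∃ e₀ : ↥(L.subgroupOf M) ≃* ↥L,
        e₀ = Subgroup.subgroupOfEquivOfLe hLM.le := ⟨_, rfl⟩
    have he₀coe : ∀ x : ↥(L.subgroupOf M), ((e₀ x : L) : H) = ((x : M) : H) := by
      intro x; rw [he₀]; rfl
    obtain ⟨lam, hlam⟩ : ∃ lam : IrrCharacter L, lam.1 = lam'.1 ∘ e₀.symm :=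
      ⟨⟨_, isIrrCharacter_comp_equiv e₀.symm lam'.2⟩, rfl⟩
    have hψc := irr_isCharacter hψ
    have h1 := constituent_restrict_ne_zero (isCharacter_restrict M hψc) θ hcon
      (L.subgroupOf M) lam' hlam'con
    have h2 : classInner (fun l : L => ψ l) lam.1 ≠ 0 := by
      have : (fun l : L => ψ l) =
          (fun x : L.subgroupOf M => (fun m : M => ψ m) x) ∘ e₀.symm := by
        funext l
        simp only [Function.comp_apply]
        rw [← he₀coe (e₀.symm l), MulEquiv.apply_symm_apply]
      rw [this, hlam, classInner_comp_equiv]; exact h1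
    have hLlt : Nat.card L < k := by
      rw [← hcard]
      by_contra hge
      push_neg at hge
      exact hLM.ne (Subgroup.eq_of_le_of_card_ge hLM.le hge)
    have hlam1 : lam.1 1 = 1 := ih (Nat.card L) hLlt L hLn (hLM.le.trans hMN) rfl lam h2
    have hlam'1 : lam'.1 1 = 1 := by
      have := hlam1; rw [hlam] at this; simpa using this
    have hinvlam := invariant_of_primitive hψ hprim L hLn lam h2
    have hinvlam' : ∀ m : ↥M, conjChar hL'n lam'.1 m = lam'.1 := by
      intro m
      funext x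
      have h3 := congrFun (hinvlam (m : H)) (e₀ x)
      rw [conjChar_apply] at h3 ⊢
      rw [hlam] at h3
      simp only [Function.comp_apply, MulEquiv.symm_apply_apply] at h3
      rw [← h3]
      refine congrArg lam'.1 ?_
      rw [MulEquiv.eq_symm_apply]
      apply Subtype.ext
      rw [he₀coe]
      simp [he₀coe]
    have hclif := clifford_invariant hL'n θ.2 lam'.2 hlam'con hinvlam'
    have hpow' : ∀ x : ↥M, x ^ p ∈ L.subgroupOf M := by
      intro x; rw [Subgroup.mem_subgroupOf]; simpa using hpow x x.2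
    have hsylM : ∀ Q : Subgroup ↥M, IsPGroup p Q → ∀ a ∈ Q, ∀ b ∈ Q, a * b = b * a := by
      intro Q hQ a ha b hb
      have hQ' : IsPGroup p (Q.map M.subtype) := hQ.map M.subtype
      have hQN : Q.map M.subtype ≤ N := (Subgroup.map_subtype_le Q).trans hMN
      have := hsyl p (Q.map M.subtype) hQN hQ' a (Subgroup.mem_map_of_mem _ ha) b
        (Subgroup.mem_map_of_mem _ hb)
      exact Subtype.ext this
    exact linear_of_ramified_over_linear (L.subgroupOf M) hL'n lam' hlam'1 θ hclif p hpow' hsylM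

/-- Isaacs 6.23, main induction -/
theorem monomial_of_irr_restrict_aux : ∀ (n : ℕ) (H : Type u) [Group H] [Fintype H]
    [Group.IsSolvable H] (N : Subgroup H) [N.Normal], Nat.card H = n →
    (∀ (p : ℕ) [Fact p.Prime] (Q : Subgroup H), Q ≤ N → IsPGroup p Q →
      ∀ a ∈ Q, ∀ b ∈ Q, a * b = b * a) →
    ∀ ψ : H → ℂ, IsIrrCharacter H ψ → IsIrrCharacter N (fun n : N => ψ n) →
    ∃ (U : Subgroup H) (lam : U → ℂ), IsCharacter U lam ∧ lam 1 = 1 ∧ indFun U lam = ψ := by
  intro n
  induction n using Nat.strong_induction_on with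
  | _ n ih =>
  intro H _ _ _ N _ hcard hsyl ψ hψ hres
  classical
  have hψcf := isClassFunction_of_isCharacter (irr_isCharacter hψ)
  by_cases himp : ∃ (J : Subgroup H) (η : J → ℂ), J ≠ ⊤ ∧ IsIrrCharacter J η ∧ indFun J η = ψ
  · obtain ⟨J, η, hJtop, hη, hind⟩ := himp
    haveI : Fintype J := Fintype.ofFinite _
    have hltJ : Nat.card J < n := by
      rw [← hcard]
      exact lt_of_le_of_ne (Subgroup.card_le_card_group J)
        (fun h => hJtop ((Subgroup.card_eq_iff_eq_top J).mp h))
    haveI : (N.subgroupOf J).Normal := Subgroup.normal_subgroupOf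
    have hres' : IsIrrCharacter (N.subgroupOf J) (fun x : N.subgroupOf J => η x) := by
      apply restrict_irr_of_induced_irr N J η hη
      · rw [hind]; exact hψ
      · rw [hind]; exact hres
    have hsylJ : ∀ (p : ℕ) [Fact p.Prime] (Q : Subgroup ↥J), Q ≤ N.subgroupOf J → IsPGroup p Q →
        ∀ a ∈ Q, ∀ b ∈ Q, a * b = b * a := by
      intro p _ Q hQN hQ a ha b hb
      have hQ' : IsPGroup p (Q.map J.subtype) := hQ.map J.subtype
      have hQN' : Q.map J.subtype ≤ N := by
        intro x hx
        obtain ⟨y, hy, rfl⟩ := Subgroup.mem_map.1 hx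
        exact Subgroup.mem_subgroupOf.1 (hQN hy)
      have := hsyl p (Q.map J.subtype) hQN' hQ' a (Subgroup.mem_map_of_mem _ ha) b
        (Subgroup.mem_map_of_mem _ hb)
      exact Subtype.ext this
    obtain ⟨U', lam', hlam'c, hlam'1, hind'⟩ :=
      ih _ hltJ J (N.subgroupOf J) rfl hsylJ η hη hres'
    refine ⟨U'.map J.subtype, fun e =>
      lam' ((U'.equivMapOfInjective J.subtype J.subtype_injective).symm e), ?_, ?_, ?_⟩
    · exact isCharacter_comp
        (U'.equivMapOfInjective J.subtype J.subtype_injective).symm.toMonoidHom hlam'c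
    · simp [hlam'1]
    · rw [← hind, ← hind']
      exact (indFun_trans_map J U' lam').symm
  · haveI : Fintype N := Fintype.ofFinite _
    have hφ1 : (fun n : N => ψ n) 1 = 1 :=
      primitive_constituent_linear N hsyl hψ himp (Nat.card N) N inferInstance le_rfl rfl
        ⟨_, hres⟩ (by rw [irr_classInner hres hres, if_pos rfl]; exact one_ne_zero)
    have hψ1 : ψ 1 = 1 := by simpa using hφ1
    refine ⟨⊤, fun h => ψ h, ?_, ?_, indFun_top hψcf⟩
    · exact irr_isCharacter (isIrrCharacter_comp_equiv Subgroup.topEquiv hψ)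
    · simpa using hψ1

end MGroup2

end Cfsg.Agent.Lib.Helper8
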