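import Mathlib
import Cfsg.Prelude.Def_Characters
import Cfsg.Prelude.Def_Transfer
import Cfsg.Agent.Lib.Helper8.OnePSing2
import Cfsg.Agent.Lib.Helper8.CharIto
import Cfsg.Agent.Lib.Helper8.CharItoSolv2

set_option autoImplicit false

namespace Cfsg.Agent.Lib.Helper8
open Cfsg
open scoped ComplexConjugate
open scoped commutatorElement

universe u

section OnePSing3

/-- the inner product of a constant function with the principal character of a subgroup -/
theorem classInner_one_const {K : Type*} [Group K] [Fintype K] (c : ℂ) :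
    classInner (fun _ : K => (1 : ℂ)) (fun _ : K => c) = conj c := by
  unfold classInner
  simp only [one_mul, Finset.sum_const, Finset.card_univ, nsmul_eq_mul]
  rw [← Nat.card_eq_fintype_card]
  have : (Nat.card K : ℂ) ≠ 0 := by exact_mod_cast Nat.card_pos.ne'
  field_simp

/-- an extraspecial `2`-group has exactly one irreducible character of even degree -/
theorem extraspecial_two_unique_even {G : Type u} [Group G] [Fintype G]
    (hG : IsExtraspecial 2 G) :
    ∃ χ : IrrCharacter G, 2 ∣ charDegree χ.1 ∧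
      ∀ ψ : IrrCharacter G, 2 ∣ charDegree ψ.1 → ψ = χ := by
  classical
  haveI : Finite (IrrCharacter G) := irr_finite
  haveI : Fintype (IrrCharacter G) := Fintype.ofFinite _
  obtain ⟨⟨hP, hfrat, hcomm⟩, hZ2⟩ := hG
  haveI : Fintype (Subgroup.center G) := Fintype.ofFinite _
  obtain ⟨y, hy1, hyuniq⟩ := (Nat.card_eq_two_iff' (1 : ↥(Subgroup.center G))).1 hZ2
  obtain ⟨z, hzdef⟩ : ∃ z : G, z = (y : G) := ⟨_, rfl⟩
  have hzZ : z ∈ Subgroup.center G := by rw [hzdef]; exact y.2
  have hz1 : z ≠ 1 := by
    intro h; apply hy1; apply Subtype.ext; rw [← hzdef, h]; rfl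
  have hmemZ : ∀ w ∈ Subgroup.center G, w = 1 ∨ w = z := by
    intro w hw
    by_cases hw1 : w = 1
    · left; exact hw1
    · right
      have : (⟨w, hw⟩ : ↥(Subgroup.center G)) = y := by
        apply hyuniq; intro h; exact hw1 (congrArg Subtype.val h)
      rw [hzdef, ← this]
  have hzz : z * z = 1 := by
    rcases hmemZ (z * z) (Subgroup.mul_mem _ hzZ hzZ) with h | h
    · exact h
    · exfalso; apply hz1
      exact mul_left_cancel (a := z) (b := z) (c := 1) (by rw [h, mul_one])
  have hcommel : ∀ x y : G, x * y * x⁻¹ * y⁻¹ ∈ Subgroup.center G := by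
    intro x y
    rw [← hcomm, ← commutatorElement_def, commutator_def]
    exact Subgroup.commutator_mem_commutator (Subgroup.mem_top _) (Subgroup.mem_top _)
  have hkey : ∀ χ : IrrCharacter G, χ.1 1 ≠ 1 → 2 * (charDegree χ.1) ^ 2 = Nat.card G := by
    intro χ hχ
    have hχ1 : χ.1 1 ≠ 0 := irr_one_ne_zero χ
    have hχcf := isClassFunction_of_isCharacter (irr_isCharacter χ.2)
    obtain ⟨ε, hε0, hε⟩ := irr_central_mul χ hzZ
    have hχz : χ.1 z = ε * χ.1 1 := by have := hε 1; rwa [mul_one] at this
    have hε2 : ε * ε = 1 := by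
      have h1 := hε z
      rw [hzz, hχz] at h1
      have h3 : (ε * ε - 1) * χ.1 1 = 0 := by linear_combination -h1
      rcases mul_eq_zero.1 h3 with h4 | h4
      · exact sub_eq_zero.1 h4
      · exact absurd h4 hχ1
    have hεne1 : ε ≠ 1 := by
      intro hε1
      apply hχ
      have hconst : (fun h : Subgroup.center G => χ.1 (h : G)) = fun _ => χ.1 1 := by
        funext h
        rcases hmemZ h h.2 with h' | h'
        · rw [h']
        · rw [h', hχz, hε1, one_mul]
      apply linear_of_over_principal (inferInstance : (Subgroup.center G).Normal) hcommel χ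
      rw [frobenius_reciprocity _ _ χ.1 hχcf, hconst, classInner_one_const]
      intro h0
      apply hχ1
      have := congrArg (starRingEnd ℂ) h0
      simpa using this
    have hεm1 : ε = -1 := by
      have : (ε - 1) * (ε + 1) = 0 := by linear_combination hε2
      rcases mul_eq_zero.1 this with h | h
      · exact absurd (sub_eq_zero.1 h) hεne1
      · exact eq_neg_of_add_eq_zero_left h
    have hvan : ∀ g : G, g ∉ Subgroup.center G → χ.1 g = 0 := by
      intro g hg
      rw [Subgroup.mem_center_iff] at hg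
      push_neg at hg
      obtain ⟨h, hh⟩ := hg
      have hc := hcommel h g
      rcases hmemZ _ hc with h1 | h1
      · exfalso; apply hh
        have : h * g = (h * g * h⁻¹ * g⁻¹) * (g * h) := by group
        rw [this, h1, one_mul]
      · have h2 : h * g * h⁻¹ = z * g := by
          have : h * g * h⁻¹ = (h * g * h⁻¹ * g⁻¹) * g := by group
          rw [this, h1]
        have h3 := hχcf g h
        rw [h2, hε, hεm1] at h3
        have : (2 : ℂ) * χ.1 g = 0 := by linear_combination -h3
        rcases mul_eq_zero.1 this with h4 | h4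
        · norm_num at h4
        · exact h4
    have hnorm := norm_restrict_of_vanish (Subgroup.center G) χ.2 hvan
    have hLHS : classInner (fun l : Subgroup.center G => χ.1 l)
        (fun l : Subgroup.center G => χ.1 l) = χ.1 1 * χ.1 1 := by
      unfold classInner
      rw [hZ2]
      have hy' : (y : G) = z := hzdef.symm
      rw [Fintype.sum_eq_add (1 : ↥(Subgroup.center G)) y (Ne.symm hy1) (by
        intro x hx
        exfalso
        exact hx.2 (hyuniq x hx.1))]
      have hreal : conj (χ.1 1) = χ.1 1 := by rw [irr_one_eq_charDegree χ]; simp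
      simp only [OneMemClass.coe_one, hy', hχz, hεm1, map_mul, map_neg, map_one, hreal]
      push_cast; ring
    rw [hLHS, irr_one_eq_charDegree χ] at hnorm
    have h5 : charDegree χ.1 * charDegree χ.1 = (Subgroup.center G).index := by
      exact_mod_cast hnorm
    have h6 := Subgroup.card_mul_index (Subgroup.center G)
    rw [hZ2, ← h5] at h6
    rw [← h6]; ring
  have hexNL : ∃ χ : IrrCharacter G, χ.1 1 ≠ 1 := by
    by_contra hall
    push_neg at hall
    have hab := abelian_of_all_linear (K := G) (fun θ => (irr_one_eq_one_iff θ).1 (hall θ))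
    have hbot : commutator G = ⊥ := by
      rw [eq_bot_iff, commutator_def, Subgroup.commutator_le]
      intro a _ b _
      rw [Subgroup.mem_bot, commutatorElement_eq_one_iff_mul_comm]; exact hab a b
    rw [hcomm] at hbot
    have : z = 1 := by
      have := hzZ
      rw [hbot, Subgroup.mem_bot] at this
      exact this
    exact hz1 this
  obtain ⟨χ, hχ⟩ := hexNL
  have hdegχ := hkey χ hχ
  have heven : ∀ ψ : IrrCharacter G, ψ.1 1 ≠ 1 → 2 ∣ charDegree ψ.1 := by
    intro ψ hψ
    have hdvd := charDegree_dvd_card ψ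
    haveI : Fact (Nat.Prime 2) := ⟨Nat.prime_two⟩
    obtain ⟨k, hk⟩ := IsPGroup.iff_card.1 hP
    rw [hk] at hdvd
    obtain ⟨j, _, hj⟩ := (Nat.dvd_prime_pow Nat.prime_two).1 hdvd
    have hj0 : j ≠ 0 := by
      intro h0
      rw [h0, pow_zero] at hj
      exact hψ ((irr_one_eq_one_iff ψ).2 hj)
    rw [hj]; exact dvd_pow_self 2 hj0
  refine ⟨χ, heven χ hχ, ?_⟩
  intro ψ hψ
  have hψ1 : ψ.1 1 ≠ 1 := by
    intro h
    rw [(irr_one_eq_one_iff ψ).1 h] at hψ
    norm_num at hψ
  by_contra hne
  have hdegψ := hkey ψ hψ1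
  have hsum := card_eq_sum_charDegree_sq (G := G)
  obtain ⟨π, hπ⟩ : ∃ π : IrrCharacter G, π = ⟨fun _ => (1 : ℂ), principal_isIrrCharacter⟩ :=
    ⟨_, rfl⟩
  have hπ1 : π.1 1 = 1 := by rw [hπ]
  have hπχ : π ≠ χ := fun h => hχ (h ▸ hπ1)
  have hπψ : π ≠ ψ := fun h => hψ1 (h ▸ hπ1)
  have hsub : ({π, ψ, χ} : Finset (IrrCharacter G)) ⊆ Finset.univ := Finset.subset_univ _
  have hle := Finset.sum_le_sum_of_subset (f := fun ψ : IrrCharacter G => charDegree ψ.1 ^ 2) hsub
  rw [Finset.sum_insert (by simp [hπψ, hπχ]), Finset.sum_insert (by simp [hne]),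
    Finset.sum_singleton, ← hsum] at hle
  have hπd : charDegree π.1 = 1 := (irr_one_eq_one_iff π).1 hπ1
  rw [hπd] at hle
  omega

/-- a normal subgroup with `p`-group quotient together with a Sylow `p`-subgroup
generates the group -/
theorem exists_mul_sylow' {M : Type*} [Group M] [Finite M] (p : ℕ) [hp : Fact p.Prime]
    (L : Subgroup M) [hL : L.Normal] (hQ : IsPGroup p (M ⧸ L)) (P : Sylow p M) (a : M) :
    ∃ l ∈ L, ∃ x ∈ P, a = l * x := by
  obtain ⟨n, hn⟩ := IsPGroup.iff_card.1 hQ
  have hLidx : L.index = p ^ n := by rw [Subgroup.index_eq_card]; exact hn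
  have h1 : (L ⊔ (P : Subgroup M)).index ∣ p ^ n := by
    rw [← hLidx]; exact Subgroup.index_dvd_of_le le_sup_left
  have h2 : (L ⊔ (P : Subgroup M)).index ∣ (P : Subgroup M).index :=
    Subgroup.index_dvd_of_le le_sup_right
  have h3 : ¬ p ∣ (P : Subgroup M).index := Sylow.not_dvd_index P
  have h4 : (L ⊔ (P : Subgroup M)).index = 1 := by
    obtain ⟨k, _, hk⟩ := (Nat.dvd_prime_pow hp.out).1 h1
    rcases Nat.eq_zero_or_pos k with h0 | hpos
    · rw [hk, h0, pow_zero]
    · exfalso
      apply h3
      apply dvd_trans _ h2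
      rw [hk]
      exact dvd_pow_self p hpos.ne'
  have h5 : L ⊔ (P : Subgroup M) = ⊤ := Subgroup.index_eq_one.1 h4
  have h6 : a ∈ ((L ⊔ (P : Subgroup M) : Subgroup M) : Set M) := by
    rw [h5]; exact Set.mem_univ a
  rw [Subgroup.normal_mul] at h6
  obtain ⟨l, hl, x, hx, hlx⟩ := Set.mem_mul.1 h6
  exact ⟨l, hl, x, hx, hlx.symm⟩

end OnePSing3

end Cfsg.Agent.Lib.Helper8
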