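import Mathlib
import Cfsg.Prelude.Def_Characters
import Cfsg.Prelude.Def_Transfer
import Cfsg.Agent.Lib.Helper8.OnePSing3

set_option autoImplicit false

namespace Cfsg.Agent.Lib.Helper8
open Cfsg
open scoped ComplexConjugate
open scoped commutatorElement

universe u

section OnePSing4

/-- a nilpotent group with a unique irreducible character of degree divisible by `p` is a
`p`-group -/
theorem nilpotent_unique_psing_pgroup (p : ℕ) [hp : Fact p.Prime] : ∀ (n : ℕ) (G : Type u)
    [Group G] [Fintype G] [Group.IsNilpotent G], Nat.card G = n → ∀ χ : IrrCharacter G,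
    p ∣ charDegree χ.1 → (∀ ψ : IrrCharacter G, p ∣ charDegree ψ.1 → ψ = χ) →
    ∀ q : ℕ, q.Prime → q ∣ Nat.card G → q = p := by
  intro n
  induction n using Nat.strong_induction_on with
  | _ n ih =>
  intro G _ _ _ hcard χ hχ huniq q hq hqdvd
  classical
  by_contra hqp
  haveI : Fact q.Prime := ⟨hq⟩
  haveI : Finite (IrrCharacter G) := irr_finite
  haveI : Fintype (IrrCharacter G) := Fintype.ofFinite _
  obtain ⟨z, hzZ, hzord⟩ := exists_central_prime_order q hqdvd
  have hz1 : z ≠ 1 := by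
    intro h; rw [h, orderOf_one] at hzord; exact hq.one_lt.ne hzord
  obtain ⟨A, hAdef⟩ : ∃ A : Subgroup G, A = Subgroup.zpowers z := ⟨_, rfl⟩
  have hAZ : A ≤ Subgroup.center G := by rw [hAdef]; exact Subgroup.zpowers_le.2 hzZ
  haveI hAn : A.Normal := by
    constructor
    intro a ha g
    have := Subgroup.mem_center_iff.1 (hAZ ha) g
    rw [this, mul_assoc, mul_inv_cancel, mul_one]; exact ha
  have hAcard : Nat.card A = q := by rw [hAdef, Nat.card_zpowers, hzord]
  haveI : Fintype (G ⧸ A) := Fintype.ofFinite _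
  have hcardQ : Nat.card G = Nat.card (G ⧸ A) * q := by
    rw [← hAcard]; exact Subgroup.card_eq_card_quotient_mul_card_subgroup A
  have hltQ : Nat.card (G ⧸ A) < n := by
    rw [← hcard, hcardQ]
    have h1 : 0 < Nat.card (G ⧸ A) := Nat.card_pos
    have h2 := hq.two_le
    nlinarith
  obtain ⟨ε, hε0, hε⟩ := irr_central_mul χ hzZ
  have hχ1 : χ.1 1 ≠ 0 := irr_one_ne_zero χ
  have hχz : χ.1 z ≠ 0 := by
    have := hε 1; rw [mul_one] at this; rw [this]; exact mul_ne_zero hε0 hχ1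
  obtain ⟨P⟩ : Nonempty (Sylow p G) := inferInstance
  haveI hPn : (P : Subgroup G).Normal := inferInstance
  have hzP : z ∉ (P : Subgroup G) := by
    intro hz
    obtain ⟨k, hk⟩ := P.2 ⟨z, hz⟩
    have hk' : z ^ p ^ k = 1 := by
      have := congrArg Subtype.val hk; simpa using this
    have h1 : orderOf z ∣ p ^ k := orderOf_dvd_of_pow_eq_one hk'
    rw [hzord] at h1
    exact hqp ((Nat.prime_dvd_prime_iff_eq hq hp.out).1 (hq.dvd_of_dvd_pow h1))
  have hinfl : ∀ ψ' : IrrCharacter (G ⧸ A),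
      IsIrrCharacter G (ψ'.1 ∘ (QuotientGroup.mk' A)) := fun ψ' =>
    isIrrCharacter_comp_surjective (QuotientGroup.mk' A) (QuotientGroup.mk'_surjective A) ψ'.2
  have hinfldeg : ∀ ψ' : IrrCharacter (G ⧸ A),
      charDegree (ψ'.1 ∘ (QuotientGroup.mk' A)) = charDegree ψ'.1 :=
    fun ψ' => charDegree_comp_mk A ψ'.1
  by_cases hex : ∃ ψ' : IrrCharacter (G ⧸ A), p ∣ charDegree ψ'.1
  · obtain ⟨ψ', hψ'⟩ := hex
    have huniq' : ∀ φ' : IrrCharacter (G ⧸ A), p ∣ charDegree φ'.1 → φ' = ψ' := by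
      intro φ' hφ'
      have h1 := huniq ⟨_, hinfl φ'⟩ (by rw [hinfldeg]; exact hφ')
      have h2 := huniq ⟨_, hinfl ψ'⟩ (by rw [hinfldeg]; exact hψ')
      have h3 : φ'.1 ∘ (QuotientGroup.mk' A) = ψ'.1 ∘ (QuotientGroup.mk' A) :=
        congrArg Subtype.val (h1.trans h2.symm)
      apply Subtype.ext
      funext x
      obtain ⟨g, rfl⟩ := QuotientGroup.mk'_surjective A x
      exact congrFun h3 g
    have hall := ih _ hltQ (G ⧸ A) rfl ψ' hψ' huniq'
    have hQp : IsPGroup p (G ⧸ A) := by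
      have hpow := Nat.eq_prime_pow_of_unique_prime_dvd (n := Nat.card (G ⧸ A)) (p := p)
        Nat.card_pos.ne' (fun {d} hd hdvd => hall d hd hdvd)
      exact IsPGroup.of_card hpow
    have hab : ∀ x y : G, x * y * x⁻¹ * y⁻¹ ∈ (P : Subgroup G) := by
      intro x y
      obtain ⟨a₁, ha₁, x₁, hx₁, rfl⟩ := exists_mul_sylow' p A hQp P x
      obtain ⟨a₂, ha₂, x₂, hx₂, rfl⟩ := exists_mul_sylow' p A hQp P y
      rw [← QuotientGroup.eq_one_iff]
      have e1 : ((a₁ * x₁ : G) : G ⧸ (P : Subgroup G)) = (a₁ : G ⧸ (P : Subgroup G)) := by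
        rw [QuotientGroup.mk_mul, (QuotientGroup.eq_one_iff x₁).2 hx₁, mul_one]
      have e2 : ((a₂ * x₂ : G) : G ⧸ (P : Subgroup G)) = (a₂ : G ⧸ (P : Subgroup G)) := by
        rw [QuotientGroup.mk_mul, (QuotientGroup.eq_one_iff x₂).2 hx₂, mul_one]
      rw [QuotientGroup.mk_mul, QuotientGroup.mk_mul, QuotientGroup.mk_mul, QuotientGroup.mk_inv,
        QuotientGroup.mk_inv, e1, e2]
      have hc : (a₁ : G ⧸ (P : Subgroup G)) * (a₂ : G ⧸ (P : Subgroup G)) =
          (a₂ : G ⧸ (P : Subgroup G)) * (a₁ : G ⧸ (P : Subgroup G)) := by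
        rw [← QuotientGroup.mk_mul, ← QuotientGroup.mk_mul,
          Subgroup.mem_center_iff.1 (hAZ ha₁) a₂]
      rw [hc]; group
    haveI : Fintype (P : Subgroup G) := Fintype.ofFinite _
    have hsum := ind_principal_eq_sum (P : Subgroup G) hPn hab
    have h1 := congrFun hsum 1
    have hz0 := congrFun hsum z
    rw [indFun_normal_not_mem _ _ hzP] at hz0
    rw [indFun_one, mul_one] at h1
    have hexl : ∃ lam : IrrCharacter G, lam.1 1 = 1 ∧ lam.1 z ≠ 1 := by
      by_contra hno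
      push_neg at hno
      have h2 : ∑ ψ ∈ Finset.univ.filter (fun ψ : IrrCharacter G =>
          ψ.1 1 = 1 ∧ ∀ x ∈ (P : Subgroup G), ψ.1 x = 1), ψ.1 z =
          ∑ ψ ∈ Finset.univ.filter (fun ψ : IrrCharacter G =>
          ψ.1 1 = 1 ∧ ∀ x ∈ (P : Subgroup G), ψ.1 x = 1), ψ.1 1 := by
        apply Finset.sum_congr rfl
        intro ψ hψ
        simp only [Finset.mem_filter, Finset.mem_univ, true_and] at hψ
        rw [hno ψ hψ.1, hψ.1]
      rw [h2, ← h1] at hz0
      have : ((P : Subgroup G).index : ℂ) ≠ 0 := by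
        exact_mod_cast Subgroup.index_ne_zero_of_finite
      exact this hz0.symm
    obtain ⟨lam, hl1, hlz⟩ := hexl
    have hirr := linear_mul_isIrr lam hl1 χ.2
    have hdeg : p ∣ charDegree (lam.1 * χ.1) := by
      have : charDegree (lam.1 * χ.1) = charDegree χ.1 := by
        unfold charDegree
        rw [Pi.mul_apply, hl1, one_mul]
      rw [this]; exact hχ
    have heq := huniq ⟨_, hirr⟩ hdeg
    have h5 := congrFun (congrArg Subtype.val heq) z
    simp only [Pi.mul_apply] at h5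
    have h6 : (lam.1 z - 1) * χ.1 z = 0 := by rw [sub_mul, one_mul, h5, sub_self]
    rcases mul_eq_zero.1 h6 with h7 | h7
    · exact hlz (sub_eq_zero.1 h7)
    · exact hχz h7
  · push_neg at hex
    obtain ⟨Pb⟩ : Nonempty (Sylow p (G ⧸ A)) := inferInstance
    haveI : (Pb : Subgroup (G ⧸ A)).Normal := inferInstance
    haveI : Fintype (Pb : Subgroup (G ⧸ A)) := Fintype.ofFinite _
    have hPbab : ∀ a b : ↥(Pb : Subgroup (G ⧸ A)), a * b = b * a := by
      apply abelian_of_all_linear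
      intro θ
      obtain ⟨ψ', hψ'⟩ := charDegree_dvd_of_normal (Pb : Subgroup (G ⧸ A)) inferInstance θ
      have hdvd := charDegree_dvd_card θ
      obtain ⟨k, hk⟩ := IsPGroup.iff_card.1 Pb.2
      rw [hk] at hdvd
      obtain ⟨j, _, hj⟩ := (Nat.dvd_prime_pow hp.out).1 hdvd
      rcases Nat.eq_zero_or_pos j with h0 | hpos
      · rw [hj, h0, pow_zero]
      · exfalso
        apply hex ψ'
        apply dvd_trans _ hψ'
        rw [hj]; exact dvd_pow_self p hpos.ne'
    have hPab : ∀ a ∈ (P : Subgroup G), ∀ b ∈ (P : Subgroup G), a * b = b * a := by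
      intro a ha b hb
      have hmemPb : ∀ x ∈ (P : Subgroup G),
          (QuotientGroup.mk x : G ⧸ A) ∈ (Pb : Subgroup (G ⧸ A)) := by
        intro x hx
        obtain ⟨k, hk⟩ := P.2 ⟨x, hx⟩
        have hk' : x ^ p ^ k = 1 := by
          have := congrArg Subtype.val hk; simpa using this
        apply mem_of_normal_sylow (Pb : Subgroup (G ⧸ A)) (Sylow.not_dvd_index Pb) hp.out _
          (k := k)
        rw [← QuotientGroup.mk_pow, hk', QuotientGroup.mk_one]
      have h1 := hPbab ⟨_, hmemPb a ha⟩ ⟨_, hmemPb b hb⟩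
      have h2 : ((a * b : G) : G ⧸ A) = ((b * a : G) : G ⧸ A) := by
        have := congrArg Subtype.val h1
        simpa using this
      have h3 : (b * a)⁻¹ * (a * b) ∈ A := QuotientGroup.eq.1 h2.symm
      have hcP : (b * a)⁻¹ * (a * b) ∈ (P : Subgroup G) :=
        Subgroup.mul_mem _ (Subgroup.inv_mem _ (Subgroup.mul_mem _ hb ha))
          (Subgroup.mul_mem _ ha hb)
      have ho1 : orderOf ((b * a)⁻¹ * (a * b)) ∣ q := by
        rw [← hAcard]; exact Subgroup.orderOf_dvd_natCard A h3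
      obtain ⟨k, hk⟩ := P.2 ⟨_, hcP⟩
      have hk' : ((b * a)⁻¹ * (a * b)) ^ p ^ k = 1 := by
        have := congrArg Subtype.val hk; simpa using this
      have ho2 : orderOf ((b * a)⁻¹ * (a * b)) ∣ p ^ k := orderOf_dvd_of_pow_eq_one hk'
      have hcop : Nat.Coprime q (p ^ k) :=
        Nat.Coprime.pow_right k ((Nat.coprime_primes hq hp.out).2 hqp)
      have ho : orderOf ((b * a)⁻¹ * (a * b)) = 1 := Nat.eq_one_of_dvd_coprimes hcop ho1 ho2
      rw [orderOf_eq_one_iff] at ho
      exact (inv_mul_eq_one.1 ho).symm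
    have hito := ito_character (P : Subgroup G) hPab χ
    exact (Sylow.not_dvd_index P) (dvd_trans hχ hito)

/-- a nilpotent group has exactly one irreducible character of degree divisible by `p` iff
it is an extraspecial `2`-group and `p = 2` -/
theorem one_psing_iff {G : Type u} [Group G] [Finite G] [Group.IsNilpotent G] (p : ℕ)
    [Fact p.Prime] :
    Nat.card {χ : IrrCharacter G // p ∣ charDegree χ.1} = 1 ↔ (p = 2 ∧ IsExtraspecial 2 G) := by
  classical
  haveI : Fintype G := Fintype.ofFinite G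
  constructor
  · intro h
    obtain ⟨⟨χ, hχ⟩, huniq⟩ := Nat.card_eq_one_iff_exists.1 h
    have huniq' : ∀ ψ : IrrCharacter G, p ∣ charDegree ψ.1 → ψ = χ := by
      intro ψ hψ
      exact congrArg Subtype.val (huniq ⟨ψ, hψ⟩)
    have hall := nilpotent_unique_psing_pgroup p _ G rfl χ hχ huniq'
    have hpow := Nat.eq_prime_pow_of_unique_prime_dvd (n := Nat.card G) (p := p)
      Nat.card_pos.ne' (fun {d} hd hdvd => hall d hd hdvd)
    have hG : IsPGroup p G := IsPGroup.of_card hpow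
    have hnl : ∀ ψ : IrrCharacter G, ψ.1 1 ≠ 1 → p ∣ charDegree ψ.1 := by
      intro ψ hψ
      have hdvd := charDegree_dvd_card ψ
      rw [hpow] at hdvd
      obtain ⟨j, _, hj⟩ := (Nat.dvd_prime_pow (Fact.out : p.Prime)).1 hdvd
      have hj0 : j ≠ 0 := by
        intro h0; rw [h0, pow_zero] at hj; exact hψ ((irr_one_eq_one_iff ψ).2 hj)
      rw [hj]; exact dvd_pow_self p hj0
    have hχnl : χ.1 1 ≠ 1 := by
      intro h1
      rw [(irr_one_eq_one_iff χ).1 h1] at hχ
      exact (Fact.out : p.Prime).one_lt.ne' (Nat.dvd_one.1 hχ)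
    exact extraspecial_of_unique_nonlinear p hG χ hχnl (fun ψ hψ => huniq' ψ (hnl ψ hψ))
  · rintro ⟨rfl, hE⟩
    obtain ⟨χ, hχ, huniq⟩ := extraspecial_two_unique_even hE
    rw [Nat.card_eq_one_iff_exists]
    exact ⟨⟨χ, hχ⟩, fun ⟨ψ, hψ⟩ => Subtype.ext (huniq ψ hψ)⟩

end OnePSing4

end Cfsg.Agent.Lib.Helper8
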