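import Mathlib

set_option autoImplicit false

namespace Cfsg.Agent.Lib.Helper8

/-- Burnside's orbit-counting lemma for an action given as a bare function. -/
theorem card_quot_act {G X : Type*} [Group G] [Fintype G] [Finite X] (act : G → X → X)
    (h1 : ∀ x, act 1 x = x) (hmul : ∀ g h x, act (g * h) x = act g (act h x)) :
    Nat.card (Quot (fun x y : X => ∃ g, act g x = y)) * Nat.card G =
      ∑ g : G, Nat.card {x : X // act g x = x} := by
  classical
  letI : MulAction G X := { smul := act, one_smul := h1, mul_smul := hmul }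
  haveI : Fintype X := Fintype.ofFinite X
  have hB := MulAction.sum_card_fixedBy_eq_card_orbits_mul_card_group G X
  have hinv : ∀ g x, act g⁻¹ (act g x) = x := by
    intro g x
    rw [← hmul, inv_mul_cancel, h1]
  have e : Quot (fun x y : X => ∃ g, act g x = y) ≃ Quotient (MulAction.orbitRel G X) := by
    refine Quot.congrRight (fun x y => ?_)
    show (∃ g, act g x = y) ↔ (MulAction.orbitRel G X) x y
    rw [MulAction.orbitRel_apply, MulAction.mem_orbit_iff]
    constructor
    · rintro ⟨g, hg⟩
      refine ⟨g⁻¹, ?_⟩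
      show act g⁻¹ y = x
      rw [← hg, hinv]
    · rintro ⟨g, hg⟩
      refine ⟨g⁻¹, ?_⟩
      have hg' : act g y = x := hg
      rw [← hg', hinv]
  rw [Nat.card_congr e, Nat.card_eq_fintype_card, Nat.card_eq_fintype_card, ← hB]
  apply Finset.sum_congr rfl
  intro g _
  rw [Nat.card_eq_fintype_card]
  apply Fintype.card_congr
  exact Equiv.refl _

/-- Two actions with the same numbers of fixed points have the same number of orbits. -/
theorem card_quot_eq_of_fixed {G X Y : Type*} [Group G] [Finite G] [Finite X] [Finite Y]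
    (act₁ : G → X → X) (h1 : ∀ x, act₁ 1 x = x) (hmul : ∀ g h x, act₁ (g * h) x = act₁ g (act₁ h x))
    (act₂ : G → Y → Y) (h1' : ∀ x, act₂ 1 x = x)
    (hmul' : ∀ g h x, act₂ (g * h) x = act₂ g (act₂ h x))
    (hfix : ∀ g, Nat.card {x : X // act₁ g x = x} = Nat.card {y : Y // act₂ g y = y}) :
    Nat.card (Quot (fun x y : X => ∃ g, act₁ g x = y)) =
      Nat.card (Quot (fun x y : Y => ∃ g, act₂ g x = y)) := by
  haveI : Fintype G := Fintype.ofFinite G
  have e1 := card_quot_act act₁ h1 hmul
  have e2 := card_quot_act act₂ h1' hmul'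
  have : Nat.card (Quot (fun x y : X => ∃ g, act₁ g x = y)) * Nat.card G =
      Nat.card (Quot (fun x y : Y => ∃ g, act₂ g x = y)) * Nat.card G := by
    rw [e1, e2]
    exact Finset.sum_congr rfl (fun g _ => hfix g)
  exact Nat.eq_of_mul_eq_mul_right Nat.card_pos this

end Cfsg.Agent.Lib.Helper8
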