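import Mathlib
import Cfsg.Agent.Lib.Helper8.PiPart

set_option autoImplicit false

universe u

namespace Cfsg.Agent.Lib.Helper8

theorem orderOf_eq_of_isConj {X : Type*} [Group X] {x y : X} (h : IsConj x y) :
    orderOf x = orderOf y := by
  obtain ⟨c, hc⟩ := isConj_iff.mp h
  rw [← hc]
  have := orderOf_injective (MulAut.conj c).toMonoidHom (MulAut.conj c).injective x
  simpa [MulAut.conj_apply] using this.symm

theorem piPart_le_of_dvd (σ : Finset ℕ) (hσ : ∀ r ∈ σ, r.Prime) {a b : ℕ} (ha : a ≠ 0)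
    (hb : b ≠ 0) (hab : a ∣ b) :
    σ.prod (fun r => r ^ a.factorization r) ≤ σ.prod (fun r => r ^ b.factorization r) := by
  apply Finset.prod_le_prod
  · intro i _; exact Nat.zero_le _
  · intro r hr
    exact Nat.pow_le_pow_right (hσ r hr).pos ((Nat.factorization_le_iff_dvd ha hb).mpr hab r)

theorem rclass_card_le {G : Type*} [Group G] [Finite G] {p : ℕ} [Fact p.Prime] (P : Sylow p G) :
    Nat.card {c : ConjClasses G // ∀ x ∈ c.carrier, ∃ k : ℕ, orderOf x = p ^ k} ≤
      Nat.card ↥(P : Subgroup G) := by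
  classical
  have hmem : ∀ x : ↥(P : Subgroup G), ∀ y ∈ (ConjClasses.mk (x : G)).carrier,
      ∃ k : ℕ, orderOf y = p ^ k := by
    intro x y hy
    rw [ConjClasses.mem_carrier_iff_mk_eq, ConjClasses.mk_eq_mk_iff_isConj] at hy
    obtain ⟨k, hk⟩ := (IsPGroup.iff_orderOf.mp P.2) x
    refine ⟨k, ?_⟩
    rw [orderOf_eq_of_isConj hy, ← hk, Subgroup.orderOf_coe]
  let f : ↥(P : Subgroup G) →
      {c : ConjClasses G // ∀ x ∈ c.carrier, ∃ k : ℕ, orderOf x = p ^ k} :=
    fun x => ⟨ConjClasses.mk (x : G), hmem x⟩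
  have hsurj : Function.Surjective f := by
    rintro ⟨c, hc⟩
    obtain ⟨y, rfl⟩ := ConjClasses.mk_surjective c
    have hy : ∃ k : ℕ, orderOf y = p ^ k := hc y (by rw [ConjClasses.mem_carrier_iff_mk_eq])
    have hpg : IsPGroup p (Subgroup.zpowers y) := by
      obtain ⟨k, hk⟩ := hy
      rw [IsPGroup.iff_card]
      exact ⟨k, by rw [Nat.card_zpowers, hk]⟩
    obtain ⟨Q, hQ⟩ := hpg.exists_le_sylow
    obtain ⟨g, hg⟩ := MulAction.exists_smul_eq G Q P
    have hmem' : g * y * g⁻¹ ∈ (P : Subgroup G) := by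
      have h1 : y ∈ (Q : Subgroup G) := hQ (Subgroup.mem_zpowers y)
      have h2 := Subgroup.smul_mem_pointwise_smul y (MulAut.conj g) (Q : Subgroup G) h1
      rw [← Sylow.coe_subgroup_smul, hg] at h2
      simpa [MulAut.smul_def, MulAut.conj_apply] using h2
    refine ⟨⟨g * y * g⁻¹, hmem'⟩, ?_⟩
    apply Subtype.ext
    show ConjClasses.mk (g * y * g⁻¹) = ConjClasses.mk y
    rw [ConjClasses.mk_eq_mk_iff_isConj, isConj_comm, isConj_iff]
    exact ⟨g, rfl⟩
  exact Nat.card_le_card_of_surjective f hsurj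

theorem kpi_insert_le (τ : Finset ℕ) (r : ℕ) (hrp : r.Prime) (hrτ : r ∉ τ)
    (hτ : ∀ q ∈ τ, q.Prime)
    (IH : ∀ (Y : Type u) [Group Y] [Finite Y],
      Nat.card {c : ConjClasses Y // ∀ x ∈ c.carrier, ∀ q : ℕ, q.Prime → q ∣ orderOf x → q ∈ τ} ≤
        τ.prod (fun q => q ^ (Nat.card Y).factorization q))
    (X : Type u) [Group X] [Finite X] :
    Nat.card {c : ConjClasses X // ∀ x ∈ c.carrier, ∀ q : ℕ, q.Prime → q ∣ orderOf x →
        q ∈ insert r τ} ≤
      Nat.card {c : ConjClasses X // ∀ x ∈ c.carrier, ∃ k : ℕ, orderOf x = r ^ k} *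
        τ.prod (fun q => q ^ (Nat.card X).factorization q) := by
  classical
  let R : Type u := {c : ConjClasses X // ∀ x ∈ c.carrier, ∃ k : ℕ, orderOf x = r ^ k}
  let u : R → X := fun c => Quotient.out c.1
  let C : R → Subgroup X := fun c => Subgroup.centralizer {u c}
  let T : R → Type u := fun c =>
    {d : ConjClasses (C c) // ∀ x ∈ d.carrier, ∀ q : ℕ, q.Prime → q ∣ orderOf x → q ∈ τ}
  let D : Type u := Σ c : R, T c
  let f : D → ConjClasses X := fun cd =>
    ConjClasses.mk (u cd.1 * ((Quotient.out cd.2.1 : C cd.1) : X))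
  have hcover : ∀ s : {c : ConjClasses X // ∀ x ∈ c.carrier, ∀ q : ℕ, q.Prime →
      q ∣ orderOf x → q ∈ insert r τ}, ∃ d : D, f d = s.1 := by
    rintro ⟨c0, hc0⟩
    obtain ⟨x, rfl⟩ := ConjClasses.mk_surjective c0
    have hx : ∀ q : ℕ, q.Prime → q ∣ orderOf x → q ∈ insert r τ :=
      hc0 x (by rw [ConjClasses.mem_carrier_iff_mk_eq])
    have hn0 : orderOf x ≠ 0 := (orderOf_pos x).ne'
    obtain ⟨N1, hN1⟩ : ∃ N1, N1 = r ^ (orderOf x).factorization r := ⟨_, rfl⟩
    obtain ⟨M, hM⟩ : ∃ M, M = orderOf x / r ^ (orderOf x).factorization r := ⟨_, rfl⟩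
    have hcop : Nat.Coprime N1 M := by
      rw [hN1, hM]; exact (Nat.coprime_ordCompl hrp hn0).pow_left _
    have hNM : N1 * M = orderOf x := by
      rw [hN1, hM]; exact Nat.ordProj_mul_ordCompl_eq_self (orderOf x) r
    have hxn : x ^ (N1 * M) = 1 := by rw [hNM]; exact pow_orderOf_eq_one x
    obtain ⟨xr, hxr⟩ : ∃ xr, xr = x ^ piExp N1 M := ⟨_, rfl⟩
    obtain ⟨xt, hxt⟩ : ∃ xt, xt = x ^ piExp M N1 := ⟨_, rfl⟩
    have hxr1 : xr ^ N1 = 1 := by rw [hxr]; exact pow_piExp_pow hcop hxn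
    have hxt1 : xt ^ M = 1 := by
      rw [hxt]; exact pow_piExp_pow hcop.symm (by rw [mul_comm]; exact hxn)
    have hmul : xt * xr = x := by rw [hxr, hxt]; exact pow_piExp_mul_compl hcop hxn
    have hcomm : xr * xt = xt * xr := by rw [hxr, hxt, ← pow_add, ← pow_add, add_comm]
    have hxr_ord : ∃ k, orderOf xr = r ^ k := by
      have h1 : orderOf xr ∣ r ^ (orderOf x).factorization r := by
        rw [← hN1]; exact orderOf_dvd_of_pow_eq_one hxr1
      obtain ⟨k, _, hk⟩ := (Nat.dvd_prime_pow hrp).mp h1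
      exact ⟨k, hk⟩
    have hcprop : ∀ y ∈ (ConjClasses.mk xr).carrier, ∃ k : ℕ, orderOf y = r ^ k := by
      intro y hy
      rw [ConjClasses.mem_carrier_iff_mk_eq, ConjClasses.mk_eq_mk_iff_isConj] at hy
      obtain ⟨k, hk⟩ := hxr_ord
      exact ⟨k, by rw [orderOf_eq_of_isConj hy, hk]⟩
    obtain ⟨c, hc⟩ : ∃ c : R, c = ⟨ConjClasses.mk xr, hcprop⟩ := ⟨_, rfl⟩
    have hcu : IsConj (u c) xr := by
      rw [← ConjClasses.mk_eq_mk_iff_isConj]
      have : ConjClasses.mk (u c) = c.1 := Quotient.out_eq _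
      rw [this, hc]
    obtain ⟨g, hg⟩ := isConj_iff.mp hcu
    obtain ⟨v, hv⟩ : ∃ v, v = g⁻¹ * xt * g := ⟨_, rfl⟩
    have hvC : v ∈ C c := by
      show v ∈ Subgroup.centralizer {u c}
      rw [Subgroup.mem_centralizer_iff]
      intro h hh
      rw [Set.mem_singleton_iff] at hh
      rw [hh]
      have e : u c = g⁻¹ * xr * g := by rw [← hg]; group
      rw [e, hv]
      calc g⁻¹ * xr * g * (g⁻¹ * xt * g) = g⁻¹ * (xr * xt) * g := by group
        _ = g⁻¹ * (xt * xr) * g := by rw [hcomm]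
        _ = _ := by group
    have hvM : v ^ M = 1 := by
      have e : v = g⁻¹ * xt * g⁻¹⁻¹ := by rw [hv, inv_inv]
      rw [e, conj_pow, hxt1]; group
    have hMτ : ∀ q : ℕ, q.Prime → q ∣ M → q ∈ τ := by
      intro q hq hqM
      have hqn : q ∣ orderOf x := by
        rw [hM] at hqM
        exact hqM.trans (Nat.ordCompl_dvd (orderOf x) r)
      rcases Finset.mem_insert.mp (hx q hq hqn) with h | h
      · exfalso
        rw [h, hM] at hqM
        exact (Nat.not_dvd_ordCompl hrp hn0) hqM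
      · exact h
    have hdprop : ∀ y ∈ (ConjClasses.mk (⟨v, hvC⟩ : C c)).carrier, ∀ q : ℕ, q.Prime →
        q ∣ orderOf y → q ∈ τ := by
      intro y hy q hq hqy
      rw [ConjClasses.mem_carrier_iff_mk_eq, ConjClasses.mk_eq_mk_iff_isConj] at hy
      rw [orderOf_eq_of_isConj hy, Subgroup.orderOf_mk] at hqy
      exact hMτ q hq (hqy.trans (orderOf_dvd_of_pow_eq_one hvM))
    obtain ⟨d, hd⟩ : ∃ d : T c, d = ⟨ConjClasses.mk (⟨v, hvC⟩ : C c), hdprop⟩ := ⟨_, rfl⟩
    refine ⟨⟨c, d⟩, ?_⟩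
    show ConjClasses.mk (u c * ((Quotient.out d.1 : C c) : X)) = ConjClasses.mk x
    have hw : IsConj (Quotient.out d.1 : C c) (⟨v, hvC⟩ : C c) := by
      rw [← ConjClasses.mk_eq_mk_iff_isConj]
      have : ConjClasses.mk (Quotient.out d.1 : C c) = d.1 := Quotient.out_eq _
      rw [this, hd]
    obtain ⟨h, hh⟩ := isConj_iff.mp hw
    obtain ⟨w, hwdef⟩ : ∃ w : C c, w = (Quotient.out d.1 : C c) := ⟨_, rfl⟩
    rw [← hwdef] at hh ⊢
    have hh' : (h : X) * (w : X) * (h : X)⁻¹ = v := by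
      have := congrArg Subtype.val hh
      simpa using this
    have hhu : (h : X) * u c = u c * h := by
      have := h.2
      rw [Subgroup.mem_centralizer_iff] at this
      exact (this (u c) rfl).symm
    rw [ConjClasses.mk_eq_mk_iff_isConj, isConj_iff]
    refine ⟨g * h, ?_⟩
    calc g * h * (u c * w) * (g * h)⁻¹ = g * ((h : X) * u c * w * (h : X)⁻¹) * g⁻¹ := by group
      _ = g * (u c * ((h : X) * w * (h : X)⁻¹)) * g⁻¹ := by rw [hhu]; group
      _ = g * (u c * v) * g⁻¹ := by rw [hh']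
      _ = (g * u c * g⁻¹) * (g * v * g⁻¹) := by group
      _ = xr * xt := by rw [hg, hv]; group
      _ = x := by rw [hcomm, hmul]
  choose gg hgg using hcover
  have hginj : Function.Injective gg := by
    intro s t hst
    apply Subtype.ext
    rw [← hgg s, ← hgg t, hst]
  haveI : Finite R := inferInstanceAs (Finite {c : ConjClasses X // _})
  haveI : ∀ c : R, Finite (T c) := fun c =>
    inferInstanceAs (Finite {d : ConjClasses (C c) // _})
  haveI : Fintype R := Fintype.ofFinite R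
  haveI : Finite D := inferInstanceAs (Finite (Σ c : R, T c))
  have h1 := Nat.card_le_card_of_injective gg hginj
  have h2 : Nat.card D = ∑ c : R, Nat.card (T c) := Nat.card_sigma
  have h3 : ∀ c : R, Nat.card (T c) ≤ τ.prod (fun q => q ^ (Nat.card X).factorization q) := by
    intro c
    refine (IH (C c)).trans ?_
    exact piPart_le_of_dvd τ hτ Nat.card_pos.ne' Nat.card_pos.ne'
      (Subgroup.card_subgroup_dvd_card (C c))
  calc _ ≤ Nat.card D := h1
    _ = ∑ c : R, Nat.card (T c) := h2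
    _ ≤ ∑ _c : R, τ.prod (fun q => q ^ (Nat.card X).factorization q) :=
      Finset.sum_le_sum (fun c _ => h3 c)
    _ = Nat.card R * τ.prod (fun q => q ^ (Nat.card X).factorization q) := by
      rw [Finset.sum_const, Finset.card_univ, smul_eq_mul, Nat.card_eq_fintype_card (α := R)]

theorem kpi_le (σ : Finset ℕ) : (∀ r ∈ σ, r.Prime) → ∀ (X : Type u) [Group X] [Finite X],
    Nat.card {c : ConjClasses X // ∀ x ∈ c.carrier, ∀ q : ℕ, q.Prime → q ∣ orderOf x →
        q ∈ σ} ≤
      σ.prod (fun q => q ^ (Nat.card X).factorization q) := by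
  classical
  induction σ using Finset.induction_on with
  | empty =>
    intro _ X _ _
    rw [Finset.prod_empty, Finite.card_le_one_iff_subsingleton]
    have key : ∀ s : {c : ConjClasses X // ∀ x ∈ c.carrier, ∀ q : ℕ, q.Prime →
        q ∣ orderOf x → q ∈ (∅ : Finset ℕ)}, s.1 = ConjClasses.mk 1 := by
      rintro ⟨c, hc⟩
      obtain ⟨x, rfl⟩ := ConjClasses.mk_surjective c
      have hx := hc x (by rw [ConjClasses.mem_carrier_iff_mk_eq])
      have h1 : orderOf x = 1 := by
        rw [Nat.eq_one_iff_not_exists_prime_dvd]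
        intro q hq hqx
        exact absurd (hx q hq hqx) (Finset.notMem_empty q)
      rw [orderOf_eq_one_iff] at h1
      show ConjClasses.mk x = ConjClasses.mk 1
      rw [h1]
    exact ⟨fun s t => Subtype.ext ((key s).trans (key t).symm)⟩
  | insert r τ hrτ ih =>
    intro hσ X _ _
    have hrp : r.Prime := hσ r (Finset.mem_insert_self r τ)
    have hτ : ∀ q ∈ τ, q.Prime := fun q hq => hσ q (Finset.mem_insert_of_mem hq)
    have h1 := kpi_insert_le τ r hrp hrτ hτ (fun Y _ _ => ih hτ Y) X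
    haveI : Fact r.Prime := ⟨hrp⟩
    have P : Sylow r X := default
    have h2 := rclass_card_le P
    rw [Finset.prod_insert hrτ, ← Sylow.card_eq_multiplicity P]
    exact h1.trans (Nat.mul_le_mul_right _ h2)

end Cfsg.Agent.Lib.Helper8
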