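import Mathlib
import Cfsg.Prelude.Def_RootSubgroups
import Cfsg.Agent.Lib.Helper8.RankOne

set_option autoImplicit false

namespace Cfsg.Agent.Lib.Helper8

open Cfsg

variable {G : Type*} [Group G]

theorem conjBy_nilpotent {A : Subgroup G} (h : Group.IsNilpotent A) (g : G) :
    Group.IsNilpotent (conjBy A g) :=
  (Group.isNilpotent_congr (A.equivMapOfInjective _ (MulAut.conj g).injective)).mp h

theorem rankOneCondition_conj {A B : Subgroup G} (h : RankOneCondition A B) (g : G) :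
    RankOneCondition (conjBy A g) (conjBy B g) := by
  intro a ha ha1
  rw [mem_conjBy] at ha
  have ha1' : g⁻¹ * a * g ≠ 1 := by
    intro h1
    apply ha1
    have : a = g * (g⁻¹ * a * g) * g⁻¹ := by simp [mul_assoc]
    rw [this, h1]; simp
  obtain ⟨b, hb, hb1, hab⟩ := h _ ha ha1'
  refine ⟨g * b * g⁻¹, ?_, ?_, ?_⟩
  · rw [mem_conjBy]; simpa [mul_assoc] using hb
  · intro h1
    apply hb1
    have : b = g⁻¹ * (g * b * g⁻¹) * g := by simp [mul_assoc]
    rw [this, h1]; simp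
  · rw [conjBy_conjBy, conjBy_conjBy]
    have e1 : (g * b * g⁻¹)⁻¹ * g = g * b⁻¹ := by simp [mul_assoc]
    have e2 : a⁻¹ * g = g * (g⁻¹ * a * g)⁻¹ := by simp [mul_assoc]
    rw [e1, e2, ← conjBy_conjBy, ← conjBy_conjBy, hab]

theorem isRankOnePair_conj {A B : Subgroup G} (h : IsRankOnePair A B) (g : G) :
    IsRankOnePair (conjBy A g) (conjBy B g) where
  ne := fun hAB => h.ne (conjBy_injective g hAB)
  nilpotent_left := conjBy_nilpotent h.nilpotent_left g
  nilpotent_right := conjBy_nilpotent h.nilpotent_right g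
  cond_left := rankOneCondition_conj h.cond_left g
  cond_right := rankOneCondition_conj h.cond_right g

theorem rankOne_left_ne_bot {A B : Subgroup G} (h : IsRankOnePair A B) : A ≠ ⊥ := by
  intro hA
  have hB : B = ⊥ := by
    rw [eq_bot_iff]
    intro b hb
    rw [Subgroup.mem_bot]
    by_contra hb1
    obtain ⟨a, ha, ha1, -⟩ := h.cond_right b hb hb1
    rw [hA, Subgroup.mem_bot] at ha
    exact ha1 ha
  exact h.ne (hA.trans hB.symm)

theorem rankOne_right_ne_bot {A B : Subgroup G} (h : IsRankOnePair A B) : B ≠ ⊥ :=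
  rankOne_left_ne_bot (RankOnePair_symm h)

theorem exists_ne_one_of_ne_bot {A : Subgroup G} (h : A ≠ ⊥) : ∃ a ∈ A, a ≠ 1 := by
  by_contra hcon
  push Not at hcon
  apply h
  rw [eq_bot_iff]
  intro a ha
  rw [Subgroup.mem_bot]
  exact hcon a ha

/-- `B` is an `⟨A,B⟩`-conjugate of `A`. -/
theorem rankOne_right_mem_unipotent {A B : Subgroup G} (h : IsRankOnePair A B) :
    B ∈ unipotentSubgroups A B := by
  obtain ⟨a, ha, ha1⟩ := exists_ne_one_of_ne_bot (rankOne_left_ne_bot h)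
  obtain ⟨b, hb, -, hab⟩ := h.cond_left a ha ha1
  refine ⟨a * b⁻¹, ?_, ?_⟩
  · exact Subgroup.mul_mem _ (Subgroup.mem_sup_left ha) (Subgroup.inv_mem _ (Subgroup.mem_sup_right hb))
  · rw [← conjBy_conjBy, hab, conjBy_conjBy]; simp

theorem rankOne_left_mem_unipotent (A B : Subgroup G) : A ∈ unipotentSubgroups A B :=
  ⟨1, Subgroup.one_mem _, by simp⟩

theorem unipotent_conj_mem {A B : Subgroup G} {C : Subgroup G} (hC : C ∈ unipotentSubgroups A B)
    {x : G} (hx : x ∈ A ⊔ B) : conjBy C x ∈ unipotentSubgroups A B := by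
  obtain ⟨y, hy, rfl⟩ := hC
  exact ⟨x * y, Subgroup.mul_mem _ hx hy, conjBy_conjBy _ _ _⟩

/-- The structure of `Ω = A^X`: every member is `A` or `B^a` for some `a ∈ A`. -/
theorem rankOne_omega {A B : Subgroup G} (h : IsRankOnePair A B) {C : Subgroup G}
    (hC : C ∈ unipotentSubgroups A B) : C = A ∨ ∃ a ∈ A, C = conjBy B a := by
  -- the invariant family
  let P : Subgroup G → Prop := fun C => C = A ∨ ∃ a ∈ A, C = conjBy B a
  have hA : ∀ a ∈ A, ∀ C, P C → P (conjBy C a) := by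
    rintro a ha C (rfl | ⟨a', ha', rfl⟩)
    · left; exact conjBy_of_mem ha
    · right; exact ⟨a * a', A.mul_mem ha ha', conjBy_conjBy _ _ _⟩
  have hBA : ∀ b ∈ B, P (conjBy A b) := by
    intro b hb
    by_cases hb1 : b = 1
    · left; rw [hb1]; simp
    · have hb1' : b⁻¹ ≠ 1 := by simpa using hb1
      obtain ⟨a, ha, -, hab⟩ := h.cond_right b⁻¹ (B.inv_mem hb) hb1'
      right
      refine ⟨a⁻¹, A.inv_mem ha, ?_⟩
      rw [hab, inv_inv]
  have hB : ∀ b ∈ B, ∀ C, P C → P (conjBy C b) := by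
    rintro b hb C (rfl | ⟨a', ha', rfl⟩)
    · exact hBA b hb
    · by_cases ha1 : a' = 1
      · right
        refine ⟨1, A.one_mem, ?_⟩
        rw [ha1, conjBy_conjBy]; simp [conjBy_of_mem hb]
      · have ha1' : a'⁻¹ ≠ 1 := by simpa using ha1
        obtain ⟨b', hb', -, hab⟩ := h.cond_left a'⁻¹ (A.inv_mem ha') ha1'
        rw [inv_inv] at hab
        rw [← hab, conjBy_conjBy]
        exact hBA _ (B.mul_mem hb (B.inv_mem hb'))
  let T : Subgroup G :=
    { carrier := {x | ∀ C, P C → P (conjBy C x) ∧ P (conjBy C x⁻¹)}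
      one_mem' := by intro C hC; simp [hC]
      mul_mem' := by
        intro x y hx hy C hC
        constructor
        · rw [← conjBy_conjBy]
          exact (hx _ (hy C hC).1).1
        · rw [mul_inv_rev, ← conjBy_conjBy]
          exact (hy _ (hx C hC).2).2
      inv_mem' := by
        intro x hx C hC
        rw [inv_inv]
        exact ⟨(hx C hC).2, (hx C hC).1⟩ }
  have hAT : A ≤ T := fun a ha C hC => ⟨hA a ha C hC, hA a⁻¹ (A.inv_mem ha) C hC⟩
  have hBT : B ≤ T := fun b hb C hC => ⟨hB b hb C hC, hB b⁻¹ (B.inv_mem hb) C hC⟩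
  obtain ⟨x, hx, rfl⟩ := hC
  exact ((sup_le hAT hBT) hx A (Or.inl rfl)).1

theorem conjBy_right_mem_unipotent {A B : Subgroup G} (h : IsRankOnePair A B) {a : G} (ha : a ∈ A) :
    conjBy B a ∈ unipotentSubgroups A B :=
  unipotent_conj_mem (rankOne_right_mem_unipotent h) (Subgroup.mem_sup_left ha)

theorem conjBy_right_ne_left {A B : Subgroup G} (h : IsRankOnePair A B) {a : G} (ha : a ∈ A) :
    conjBy B a ≠ A := by
  intro hBa
  rw [conjBy_eq_iff, conjBy_of_mem (A.inv_mem ha)] at hBa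
  exact h.ne hBa.symm

/-- `A` is regular on `Ω \ {A}`. -/
theorem rankOne_regular {A B : Subgroup G} (h : IsRankOnePair A B) {C D : Subgroup G}
    (hC : C ∈ unipotentSubgroups A B) (hD : D ∈ unipotentSubgroups A B) (hCA : C ≠ A) (hDA : D ≠ A) :
    ∃! a : G, a ∈ A ∧ conjBy C a = D := by
  rcases rankOne_omega h hC with hC' | ⟨a₁, ha₁, rfl⟩
  · exact absurd hC' hCA
  rcases rankOne_omega h hD with hD' | ⟨a₂, ha₂, rfl⟩
  · exact absurd hD' hDA
  refine ⟨a₂ * a₁⁻¹, ⟨A.mul_mem ha₂ (A.inv_mem ha₁), ?_⟩, ?_⟩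
  · rw [conjBy_conjBy]; simp [mul_assoc]
  · rintro a ⟨ha, hCa⟩
    rw [conjBy_conjBy] at hCa
    have h1 : conjBy B (a₂⁻¹ * (a * a₁)) = B := by
      rw [← conjBy_conjBy, hCa, conjBy_conjBy]; simp
    have h2 : a₂⁻¹ * (a * a₁) ∈ A ⊓ Subgroup.normalizer (B : Set G) :=
      ⟨A.mul_mem (A.inv_mem ha₂) (A.mul_mem ha ha₁), mem_normalizer_iff_conjBy.mpr h1⟩
    rw [rankOne_inf_normalizer h.ne h.cond_left, Subgroup.mem_bot] at h2
    have : a * a₁ = a₂ := by
      have := congrArg (fun t => a₂ * t) h2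
      simpa [mul_assoc] using this
    rw [← this]; simp [mul_assoc]

/-- `⟨A,B⟩` is doubly transitive on `Ω`. -/
theorem rankOne_two_transitive {A B : Subgroup G} (h : IsRankOnePair A B) {C₁ C₂ D₁ D₂ : Subgroup G}
    (hC₁ : C₁ ∈ unipotentSubgroups A B) (hC₂ : C₂ ∈ unipotentSubgroups A B)
    (hD₁ : D₁ ∈ unipotentSubgroups A B) (hD₂ : D₂ ∈ unipotentSubgroups A B)
    (hC : C₁ ≠ C₂) (hD : D₁ ≠ D₂) :
    ∃ x ∈ A ⊔ B, conjBy C₁ x = D₁ ∧ conjBy C₂ x = D₂ := by
  obtain ⟨x₁, hx₁, rfl⟩ := hC₁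
  obtain ⟨y₁, hy₁, rfl⟩ := hD₁
  have hx₁' : x₁⁻¹ ∈ A ⊔ B := Subgroup.inv_mem _ hx₁
  have hy₁' : y₁⁻¹ ∈ A ⊔ B := Subgroup.inv_mem _ hy₁
  have hC₂' : conjBy C₂ x₁⁻¹ ∈ unipotentSubgroups A B := unipotent_conj_mem hC₂ hx₁'
  have hD₂' : conjBy D₂ y₁⁻¹ ∈ unipotentSubgroups A B := unipotent_conj_mem hD₂ hy₁'
  have hCA : conjBy C₂ x₁⁻¹ ≠ A := by
    intro hcon
    apply hC
    rw [conjBy_eq_iff, inv_inv] at hcon
    exact hcon.symm
  have hDA : conjBy D₂ y₁⁻¹ ≠ A := by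
    intro hcon
    apply hD
    rw [conjBy_eq_iff, inv_inv] at hcon
    exact hcon.symm
  obtain ⟨a, ⟨ha, haCD⟩, -⟩ := rankOne_regular h hC₂' hD₂' hCA hDA
  refine ⟨y₁ * a * x₁⁻¹, ?_, ?_, ?_⟩
  · exact Subgroup.mul_mem _ (Subgroup.mul_mem _ hy₁ (Subgroup.mem_sup_left ha)) hx₁'
  · rw [conjBy_conjBy]
    have : y₁ * a * x₁⁻¹ * x₁ = y₁ * a := by simp [mul_assoc]
    rw [this, ← conjBy_conjBy, conjBy_of_mem ha]
  · have : conjBy C₂ (y₁ * a * x₁⁻¹) = conjBy (conjBy (conjBy C₂ x₁⁻¹) a) y₁ := by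
      rw [conjBy_conjBy, conjBy_conjBy, mul_assoc]
    rw [this, haCD, conjBy_conjBy]; simp

/-- Any two different members of `Ω` form a rank one pair generating `⟨A,B⟩`. -/
theorem rankOne_pair_of_mem {A B : Subgroup G} (h : IsRankOnePair A B) {C D : Subgroup G}
    (hC : C ∈ unipotentSubgroups A B) (hD : D ∈ unipotentSubgroups A B) (hne : C ≠ D) :
    IsRankOnePair C D ∧ C ⊔ D = A ⊔ B ∧ ∃ x ∈ A ⊔ B, conjBy A x = C ∧ conjBy B x = D := by
  obtain ⟨x, hx, rfl, rfl⟩ := rankOne_two_transitive h (rankOne_left_mem_unipotent A B)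
    (rankOne_right_mem_unipotent h) hC hD h.ne hne
  refine ⟨isRankOnePair_conj h x, ?_, x, hx, rfl, rfl⟩
  rw [← conjBy_sup, conjBy_of_mem hx]

end Cfsg.Agent.Lib.Helper8
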