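import Mathlib
import Cfsg.Prelude.Def_RootSubgroups
import Cfsg.Agent.Lib.Helper8.RankOneOmega

set_option autoImplicit false

namespace Cfsg.Agent.Lib.Helper8

open Cfsg

variable {G : Type*} [Group G]

theorem conj_mem_of_conjBy_eq {N : Subgroup G} {x n : G} (h : conjBy N x = N) (hn : n ∈ N) :
    x * n * x⁻¹ ∈ N := by
  rw [← h, mem_conjBy]
  simpa [mul_assoc] using hn

theorem conj_mem_of_conjBy_eq' {N : Subgroup G} {x n : G} (h : conjBy N x = N) (hn : n ∈ N) :
    x⁻¹ * n * x ∈ N := by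
  have : n ∈ conjBy N x := by rw [h]; exact hn
  exact mem_conjBy.mp this

theorem mem_centralizer_sup {A B : Subgroup G} {n : G} (hA : ∀ a ∈ A, n * a = a * n)
    (hB : ∀ b ∈ B, n * b = b * n) : n ∈ Subgroup.centralizer ((A ⊔ B : Subgroup G) : Set G) := by
  have h1 : A ≤ Subgroup.centralizer ({n} : Set G) := by
    intro a ha
    rw [Subgroup.mem_centralizer_iff]
    intro m hm
    rw [Set.mem_singleton_iff] at hm
    rw [hm]; exact hA a ha
  have h2 : B ≤ Subgroup.centralizer ({n} : Set G) := by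
    intro b hb
    rw [Subgroup.mem_centralizer_iff]
    intro m hm
    rw [Set.mem_singleton_iff] at hm
    rw [hm]; exact hB b hb
  rw [Subgroup.mem_centralizer_iff]
  intro x hx
  have := (sup_le h1 h2) hx
  rw [Subgroup.mem_centralizer_iff] at this
  exact (this n rfl).symm

/-- A subgroup `N ≤ ⟨A,B⟩` normalized by `⟨A,B⟩` either satisfies `⟨A,B⟩ ≤ N A` or centralizes `⟨A,B⟩`. -/
theorem rankOne_normal_dichotomy {A B : Subgroup G} (h : IsRankOnePair A B) {N : Subgroup G}
    (hN : N ≤ A ⊔ B) (hnorm : ∀ x ∈ A ⊔ B, conjBy N x = N) :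
    A ⊔ B ≤ N ⊔ A ∨ N ≤ Subgroup.centralizer ((A ⊔ B : Subgroup G) : Set G) := by
  by_cases hNA : ∀ n ∈ N, conjBy A n = A
  · right
    -- N normalizes every member of Ω
    have hNC : ∀ C ∈ unipotentSubgroups A B, ∀ n ∈ N, conjBy C n = C := by
      rintro C ⟨x, hx, rfl⟩ n hn
      have h1 : x⁻¹ * n * x ∈ N := conj_mem_of_conjBy_eq' (hnorm x hx) hn
      have h2 := hNA _ h1
      rw [conjBy_conjBy]
      have : n * x = x * (x⁻¹ * n * x) := by simp [mul_assoc]
      rw [this, ← conjBy_conjBy, h2]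
    have hNB : ∀ n ∈ N, conjBy B n = B := hNC B (rankOne_right_mem_unipotent h)
    intro n hn
    apply mem_centralizer_sup
    · intro a ha
      have h1 : n * a * n⁻¹ * a⁻¹ ∈ A := by
        have : n * a * n⁻¹ ∈ A := conj_mem_of_conjBy_eq (hNA n hn) ha
        exact A.mul_mem this (A.inv_mem ha)
      have h2 : n * a * n⁻¹ * a⁻¹ ∈ N := by
        have : a * n⁻¹ * a⁻¹ ∈ N :=
          conj_mem_of_conjBy_eq (hnorm a (Subgroup.mem_sup_left ha)) (N.inv_mem hn)
        have := N.mul_mem hn this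
        simpa [mul_assoc] using this
      have h3 : n * a * n⁻¹ * a⁻¹ ∈ A ⊓ Subgroup.normalizer (B : Set G) :=
        ⟨h1, mem_normalizer_iff_conjBy.mpr (hNB _ h2)⟩
      rw [rankOne_inf_normalizer h.ne h.cond_left, Subgroup.mem_bot] at h3
      have := congrArg (fun t => t * a * n) h3
      simpa [mul_assoc] using this
    · intro b hb
      have h1 : n * b * n⁻¹ * b⁻¹ ∈ B := by
        have : n * b * n⁻¹ ∈ B := conj_mem_of_conjBy_eq (hNB n hn) hb
        exact B.mul_mem this (B.inv_mem hb)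
      have h2 : n * b * n⁻¹ * b⁻¹ ∈ N := by
        have : b * n⁻¹ * b⁻¹ ∈ N :=
          conj_mem_of_conjBy_eq (hnorm b (Subgroup.mem_sup_right hb)) (N.inv_mem hn)
        have := N.mul_mem hn this
        simpa [mul_assoc] using this
      have h3 : n * b * n⁻¹ * b⁻¹ ∈ B ⊓ Subgroup.normalizer (A : Set G) :=
        ⟨h1, mem_normalizer_iff_conjBy.mpr (hNA _ h2)⟩
      rw [rankOne_inf_normalizer h.ne.symm h.cond_right, Subgroup.mem_bot] at h3
      have := congrArg (fun t => t * b * n) h3
      simpa [mul_assoc] using this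
  · left
    push Not at hNA
    obtain ⟨n, hn, hnA⟩ := hNA
    have hC : conjBy A n ∈ unipotentSubgroups A B := ⟨n, hN hn, rfl⟩
    obtain ⟨-, hsup, -⟩ := rankOne_pair_of_mem h (rankOne_left_mem_unipotent A B) hC (Ne.symm hnA)
    rw [← hsup]
    apply sup_le le_sup_right
    intro x hx
    rw [mem_conjBy] at hx
    -- x = n (n⁻¹ x n) n⁻¹ = [n, a] a
    set a := n⁻¹ * x * n with ha_def
    have hx_eq : x = (n * (a * n⁻¹ * a⁻¹)) * a := by
      simp [ha_def, mul_assoc]
    have h1 : a * n⁻¹ * a⁻¹ ∈ N :=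
      conj_mem_of_conjBy_eq (hnorm a (Subgroup.mem_sup_left hx)) (N.inv_mem hn)
    rw [hx_eq]
    exact Subgroup.mul_mem _ (Subgroup.mem_sup_left (N.mul_mem hn h1)) (Subgroup.mem_sup_right hx)

/-- In a rank one group `⟨A,B⟩`, `⟨A,B⟩ ≤ Z A` is impossible for `Z` centralizing `⟨A,B⟩`. -/
theorem rankOne_not_le_center_sup {A B : Subgroup G} (h : IsRankOnePair A B) {Z : Subgroup G}
    (hZ : Z ≤ Subgroup.centralizer ((A ⊔ B : Subgroup G) : Set G)) : ¬ (A ⊔ B ≤ Z ⊔ A) := by
  intro hle
  -- every x ∈ ⟨A,B⟩ normalizes A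
  have hnormA : ∀ x ∈ A ⊔ B, conjBy A x ≤ A := by
    intro x hx
    have hx' := hle hx
    have hZA : Z ⊔ A ≤ Subgroup.normalizer (A : Set G) := by
      apply sup_le
      · intro z hz
        rw [mem_normalizer_iff_conjBy]
        ext y
        rw [mem_conjBy]
        have hzc := hZ hz
        rw [Subgroup.mem_centralizer_iff] at hzc
        constructor
        · intro hy
          have h1 := hzc _ (Subgroup.mem_sup_left hy)
          -- (z⁻¹ y z) * z = z * (z⁻¹ y z)
          have : y = z⁻¹ * y * z := by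
            have h2 : z⁻¹ * y * z * z = z * (z⁻¹ * y * z) := h1
            have h3 : z⁻¹ * y * z * z = y * z := by
              rw [← h1.symm] at h2
              have : z * (z⁻¹ * y * z) = y * z := by simp [mul_assoc]
              rw [h1, this]
            exact (mul_right_cancel h3).symm
          rw [this]; exact hy
        · intro hy
          have h1 := hzc _ (Subgroup.mem_sup_left hy)
          have : z⁻¹ * y * z = y := by
            have : z⁻¹ * y * z = z⁻¹ * (y * z) := by simp [mul_assoc]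
            rw [this, h1]; simp
          rw [this]; exact hy
      · exact Subgroup.le_normalizer
    have := hZA hx'
    rw [mem_normalizer_iff_conjBy] at this
    exact this.le
  obtain ⟨x, hx, hBx⟩ := rankOne_right_mem_unipotent h
  have h1 : conjBy A x ≤ A := hnormA x hx
  have h2 : conjBy A x⁻¹ ≤ A := hnormA x⁻¹ (Subgroup.inv_mem _ hx)
  have h3 : A ≤ conjBy A x := by
    have := conjBy_mono h2 x
    rwa [conjBy_conjBy, mul_inv_cancel, conjBy_one] at this
  exact h.ne (le_antisymm (hBx ▸ h3) (hBx ▸ h1))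

end Cfsg.Agent.Lib.Helper8
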