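import Mathlib
import Cfsg.Prelude.Def_RootSubgroups
import Cfsg.Agent.Lib.Helper8.RankOneNormal

set_option autoImplicit false

namespace Cfsg.Agent.Lib.Helper8

open Cfsg

variable {X : Type*} [Group X]

theorem conjBy_normal {N : Subgroup X} (hN : N.Normal) (x : X) : conjBy N x = N := by
  ext y
  rw [mem_conjBy]
  constructor
  · intro hy
    have := hN.conj_mem _ hy x
    simpa [mul_assoc] using this
  · intro hy
    have := hN.conj_mem _ hy x⁻¹
    simpa [mul_assoc] using this

theorem rankOneGroup_centralizer_eq {A B : Subgroup X} (h : IsRankOneGroup X A B) :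
    Subgroup.centralizer ((A ⊔ B : Subgroup X) : Set X) = Subgroup.center X := by
  rw [h.1, Subgroup.coe_top, Subgroup.centralizer_univ]

/-- A normal subgroup `N` of a rank one group `X` satisfies `X = N A` or `N ≤ Z(X)`. -/
theorem rankOneGroup_normal {A B : Subgroup X} (h : IsRankOneGroup X A B) (N : Subgroup X)
    (hN : N.Normal) : N ⊔ A = ⊤ ∨ N ≤ Subgroup.center X := by
  have hN' : N ≤ A ⊔ B := by rw [h.1]; exact le_top
  rcases rankOne_normal_dichotomy h.2 hN' (fun x _ => conjBy_normal hN x) with h1 | h1
  · left
    rw [h.1] at h1
    exact top_le_iff.mp h1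
  · right
    rwa [rankOneGroup_centralizer_eq h] at h1

theorem rankOneGroup_center_sup_ne_top {A B : Subgroup X} (h : IsRankOneGroup X A B) :
    Subgroup.center X ⊔ A ≠ ⊤ := by
  intro hcon
  have hZ : Subgroup.center X ≤ Subgroup.centralizer ((A ⊔ B : Subgroup X) : Set X) := by
    rw [rankOneGroup_centralizer_eq h]
  apply rankOne_not_le_center_sup h.2 hZ
  rw [hcon]; exact le_top

theorem rankOneGroup_center_ne_top {A B : Subgroup X} (h : IsRankOneGroup X A B) :
    Subgroup.center X ≠ ⊤ := by
  intro hcon
  apply rankOneGroup_center_sup_ne_top h
  rw [hcon]; simp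

/-- `Z₂(X) = Z(X)` for a rank one group. -/
theorem rankOneGroup_upperCentralSeries_two {A B : Subgroup X} (h : IsRankOneGroup X A B) :
    Subgroup.upperCentralSeries X 2 = Subgroup.center X := by
  apply le_antisymm
  · rcases rankOneGroup_normal h (Subgroup.upperCentralSeries X 2) inferInstance with h1 | h1
    · exfalso
      -- X = Z₂ A; then Z A is normal, contains B, so Z A = X
      apply rankOneGroup_center_sup_ne_top h
      -- conjugates of A lie in Z ⊔ A
      have hconj : ∀ x : X, conjBy A x ≤ Subgroup.center X ⊔ A := by
        intro x
        have hx : x ∈ Subgroup.upperCentralSeries X 2 ⊔ A := by rw [h1]; trivial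
        -- the set of x with conjBy A x ≤ Z ⊔ A and conjBy A x⁻¹ ≤ Z ⊔ A... use a direct argument
        have hZ2 : ∀ z ∈ Subgroup.upperCentralSeries X 2, ∀ a ∈ A, z * a * z⁻¹ ∈ Subgroup.center X ⊔ A := by
          intro z hz a ha
          have hz' : z * a * z⁻¹ * a⁻¹ ∈ Subgroup.center X := by
            have := (Subgroup.mem_upperCentralSeries_succ_iff (n := 1)).mp hz a
            rwa [Subgroup.upperCentralSeries_one] at this
          have : z * a * z⁻¹ = (z * a * z⁻¹ * a⁻¹) * a := by simp [mul_assoc]
          rw [this]
          exact Subgroup.mul_mem _ (Subgroup.mem_sup_left hz') (Subgroup.mem_sup_right ha)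
        -- the subgroup of elements normalizing Z ⊔ A
        have hnorm : Subgroup.upperCentralSeries X 2 ⊔ A ≤
            Subgroup.normalizer ((Subgroup.center X ⊔ A : Subgroup X) : Set X) := by
          apply sup_le
          · intro z hz
            rw [Subgroup.mem_normalizer_iff]
            have key : ∀ w ∈ Subgroup.upperCentralSeries X 2, ∀ y ∈ Subgroup.center X ⊔ A,
                w * y * w⁻¹ ∈ Subgroup.center X ⊔ A := by
              intro w hw y hy
              have hle : Subgroup.center X ⊔ A ≤
                  (Subgroup.center X ⊔ A).comap (MulAut.conj w).toMonoidHom := by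
                apply sup_le
                · intro c hc
                  rw [Subgroup.mem_comap]
                  have : (MulAut.conj w).toMonoidHom c = c := by
                    simp only [MulEquiv.toMonoidHom_eq_coe, MonoidHom.coe_coe, MulAut.conj_apply]
                    rw [Subgroup.mem_center_iff] at hc
                    rw [hc w]; simp
                  rw [this]
                  exact Subgroup.mem_sup_left hc
                · intro a ha
                  rw [Subgroup.mem_comap]
                  simpa [MulAut.conj_apply] using hZ2 w hw a ha
              have := hle hy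
              rw [Subgroup.mem_comap] at this
              simpa [MulAut.conj_apply] using this
            intro y
            constructor
            · intro hy
              exact key z hz y hy
            · intro hy
              have := key z⁻¹ (Subgroup.inv_mem _ hz) _ hy
              simpa [mul_assoc] using this
          · exact le_trans le_sup_right Subgroup.le_normalizer
        have hxn := hnorm hx
        rw [mem_normalizer_iff_conjBy] at hxn
        calc conjBy A x ≤ conjBy (Subgroup.center X ⊔ A) x := conjBy_mono le_sup_right x
          _ = Subgroup.center X ⊔ A := hxn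
      obtain ⟨x, -, hBx⟩ := rankOne_right_mem_unipotent h.2
      have hB : B ≤ Subgroup.center X ⊔ A := hBx ▸ hconj x
      rw [eq_top_iff, ← h.1]
      exact sup_le le_sup_right hB
    · exact h1
  · rw [← Subgroup.upperCentralSeries_one]
    exact Subgroup.upperCentralSeries_mono X (by norm_num)

theorem rankOneGroup_not_nilpotent {A B : Subgroup X} (h : IsRankOneGroup X A B) :
    ¬ Group.IsNilpotent X := by
  intro hnil
  have h12 : Subgroup.upperCentralSeries X 1 = Subgroup.upperCentralSeries X 2 := by
    rw [rankOneGroup_upperCentralSeries_two h, Subgroup.upperCentralSeries_one]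
  have := Subgroup.upperCentralSeries.eq_top (G := X) (a := 1) (b := 2) (by norm_num) h12
  rw [Subgroup.upperCentralSeries_one] at this
  exact rankOneGroup_center_ne_top h this

end Cfsg.Agent.Lib.Helper8
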