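import Mathlib
import Cfsg.Prelude.Def_RootSubgroups
import Cfsg.Agent.Lib.Helper8.RankOneNormal

set_option autoImplicit false

namespace Cfsg.Agent.Lib.Helper8

open Cfsg

variable {G : Type*} [Group G]

theorem unipotent_le_sup {A B C : Subgroup G} (hC : C ∈ unipotentSubgroups A B) : C ≤ A ⊔ B := by
  obtain ⟨x, hx, rfl⟩ := hC
  exact conjBy_le_of_mem le_sup_left hx

theorem unipotent_ne_bot {A B C : Subgroup G} (h : IsRankOnePair A B)
    (hC : C ∈ unipotentSubgroups A B) : C ≠ ⊥ := by
  obtain ⟨x, hx, rfl⟩ := hC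
  rw [Ne, conjBy_eq_bot]
  exact rankOne_left_ne_bot h

/-- If `a ∈ ⟨A,B⟩` moves `E ∈ Ω` then the commutators `[a, e]` cannot all lie in a subgroup centralizing `E`. -/
theorem rankOne_commutator_normalizes {A B : Subgroup G} (h : IsRankOnePair A B) {E : Subgroup G}
    (hE : E ∈ unipotentSubgroups A B) {a : G} (ha : a ∈ A ⊔ B) {F : Subgroup G}
    (hF : ∀ f ∈ F, ∀ e ∈ E, f * e = e * f) (hc : ∀ e ∈ E, a * e * a⁻¹ * e⁻¹ ∈ F) :
    conjBy E a = E := by
  by_contra hne
  obtain ⟨hpair, -, -⟩ := rankOne_pair_of_mem h (unipotent_conj_mem hE ha) hE hne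
  have hbot := rankOne_inf_normalizer hpair.ne hpair.cond_left
  apply unipotent_ne_bot h hE
  rw [eq_bot_iff]
  intro e he
  rw [Subgroup.mem_bot]
  have h1 : a * e * a⁻¹ ∈ conjBy E a := by
    rw [mem_conjBy]; simpa [mul_assoc] using he
  have h2 : a * e * a⁻¹ ∈ Subgroup.normalizer (E : Set G) := by
    have : a * e * a⁻¹ = (a * e * a⁻¹ * e⁻¹) * e := by simp [mul_assoc]
    rw [this]
    apply Subgroup.mul_mem _ _ (Subgroup.le_normalizer he)
    have hf := hc e he
    rw [Subgroup.mem_normalizer_iff]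
    intro y
    set f := a * e * a⁻¹ * e⁻¹
    constructor
    · intro hy
      have : f * y * f⁻¹ = y := by rw [hF f hf y hy]; simp
      rw [this]; exact hy
    · intro hy
      have := hF f hf _ hy
      have h3 : f * y * f⁻¹ = y := by
        have h4 : f * (f * y * f⁻¹) = f * y := by rw [this]; simp [mul_assoc]
        exact mul_left_cancel h4
      rw [← h3]; exact hy
  have h3 : a * e * a⁻¹ ∈ conjBy E a ⊓ Subgroup.normalizer (E : Set G) := ⟨h1, h2⟩
  rw [hbot, Subgroup.mem_bot] at h3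
  have := congrArg (fun t => a⁻¹ * t * a) h3
  simpa [mul_assoc] using this

theorem not_isolated_iff {S : Set (Subgroup G)} {A : Subgroup G} (hAS : A ∈ S) :
    ¬ IsIsolatedIn (FAdj S) S A ↔ ∃ C ∈ S, IsRankOnePair A C := by
  constructor
  · intro h
    unfold IsIsolatedIn at h
    push Not at h
    obtain ⟨B, hB⟩ := h hAS
    by_cases h1 : FAdj S A B
    · exact ⟨B, h1.2.1, h1.2.2⟩
    · have h2 := hB h1
      exact ⟨B, h2.1, RankOnePair_symm h2.2.2⟩
  · rintro ⟨C, hC, hAC⟩ ⟨-, h⟩
    exact (h C).1 ⟨hAS, hC, hAC⟩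

theorem commute_of_commutator_eq_bot {A B : Subgroup G} (h : ⁅A, B⁆ = ⊥) {a b : G} (ha : a ∈ A)
    (hb : b ∈ B) : a * b = b * a := by
  rw [Subgroup.commutator_eq_bot_iff_le_centralizer] at h
  have := h ha
  rw [Subgroup.mem_centralizer_iff] at this
  exact (this b hb).symm

theorem mem_normalizer_of_commute {B : Subgroup G} {x : G} (h : ∀ b ∈ B, x * b = b * x) :
    x ∈ Subgroup.normalizer (B : Set G) := by
  rw [Subgroup.mem_normalizer_iff]
  intro y
  constructor
  · intro hy
    have : x * y * x⁻¹ = y := by rw [h y hy]; simp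
    rw [this]; exact hy
  · intro hy
    have := h _ hy
    have h3 : x * y * x⁻¹ = y := by
      have h4 : x * (x * y * x⁻¹) = x * y := by rw [this]; simp [mul_assoc]
      exact mul_left_cancel h4
    rw [← h3]; exact hy

/-- A member `A` of a set of abstract root subgroups which is in a rank one pair `(A, C)` meets
every other member trivially. -/
theorem rootSet_inf_eq_bot {S : Set (Subgroup G)} (hS : IsRootSubgroupSet S) {A C : Subgroup G}
    (hC : C ∈ S) (hAC : IsRankOnePair A C) {B : Subgroup G} (hB : B ∈ S) :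
    A ⊓ B = ⊥ ∨ A = B := by
  by_contra hcon
  push Not at hcon
  obtain ⟨hne, hAB⟩ := hcon
  obtain ⟨x, ⟨hxA, hxB⟩, hx1⟩ := exists_ne_one_of_ne_bot hne
  have hbot := rankOne_inf_normalizer hAC.ne hAC.cond_left
  have hxN : x ∉ Subgroup.normalizer (C : Set G) := by
    intro hxN
    have : x ∈ A ⊓ Subgroup.normalizer (C : Set G) := ⟨hxA, hxN⟩
    rw [hbot, Subgroup.mem_bot] at this
    exact hx1 this
  rcases hS.pair B hB C hC with h1 | h1 | h1
  · apply hxN
    exact mem_normalizer_of_commute (fun c hc => commute_of_commutator_eq_bot h1 hxB hc)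
  · obtain ⟨c', hc', -, hBc⟩ := h1.cond_left x hxB hx1
    obtain ⟨c, hc, -, hAc⟩ := hAC.cond_left x hxA hx1
    have hBA : B = conjBy A (c' * c⁻¹) := by
      rw [← conjBy_conjBy, hAc, ← hBc, conjBy_conjBy]; simp
    have hBΩ : B ∈ unipotentSubgroups A C :=
      ⟨c' * c⁻¹, Subgroup.mem_sup_right (C.mul_mem hc' (C.inv_mem hc)), hBA⟩
    obtain ⟨hp, -, -⟩ := rankOne_pair_of_mem hAC (rankOne_left_mem_unipotent A C) hBΩ hAB
    have hbot' := rankOne_inf_normalizer hp.ne hp.cond_left
    have : x ∈ A ⊓ Subgroup.normalizer (B : Set G) := ⟨hxA, Subgroup.le_normalizer hxB⟩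
    rw [hbot', Subgroup.mem_bot] at this
    exact hx1 this
  · obtain ⟨-, hcent, -, -⟩ := h1
    apply hxN
    rw [mem_normalizer_iff_conjBy]
    apply rankOne_commutator_normalizes hAC (rankOne_right_mem_unipotent hAC)
      (Subgroup.mem_sup_left hxA) (F := ⁅B, C⁆)
    · intro f hf e he
      exact hcent f hf e (Subgroup.mem_sup_right he)
    · intro e he
      have := Subgroup.commutator_mem_commutator hxB he
      rwa [commutatorElement_def] at this

/-- If `A ∈ S`, `(A,B)` a rank one pair, `1 ≠ z` centralizes `⟨A,B⟩`, then `z a` is not a root element. -/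
theorem rootSet_central_mul_not_root {S : Set (Subgroup G)} (hS : IsRootSubgroupSet S)
    {A B : Subgroup G} (hB : B ∈ S) (hAB : IsRankOnePair A B) {z : G}
    (hz : z ∈ Subgroup.centralizer ((A ⊔ B : Subgroup G) : Set G)) (hz1 : z ≠ 1)
    {a : G} (ha : a ∈ A) (ha1 : a ≠ 1) : z * a ∉ rootElements S := by
  rintro ⟨hza1, C, hC, hzaC⟩
  rw [Subgroup.mem_centralizer_iff] at hz
  have hzA : ∀ y ∈ A, z * y = y * z := fun y hy => (hz y (Subgroup.mem_sup_left hy)).symm
  have hzB : ∀ y ∈ B, z * y = y * z := fun y hy => (hz y (Subgroup.mem_sup_right hy)).symm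
  have hbot := rankOne_inf_normalizer hAB.ne hAB.cond_left
  have haN : a ∉ Subgroup.normalizer (B : Set G) := by
    intro haN
    have : a ∈ A ⊓ Subgroup.normalizer (B : Set G) := ⟨ha, haN⟩
    rw [hbot, Subgroup.mem_bot] at this
    exact ha1 this
  have hzNB : z ∈ Subgroup.normalizer (B : Set G) := mem_normalizer_of_commute hzB
  have hzNA : z ∈ Subgroup.normalizer (A : Set G) := mem_normalizer_of_commute hzA
  rcases hS.pair C hC B hB with h1 | h1 | h1
  · apply haN
    have hzaN : z * a ∈ Subgroup.normalizer (B : Set G) :=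
      mem_normalizer_of_commute (fun b hb => commute_of_commutator_eq_bot h1 hzaC hb)
    have := Subgroup.mul_mem _ (Subgroup.inv_mem _ hzNB) hzaN
    simpa using this
  · obtain ⟨b', hb', -, hCb⟩ := h1.cond_left (z * a) hzaC hza1
    obtain ⟨b, hb, -, hAb⟩ := hAB.cond_left a ha ha1
    have hz' : conjBy B z⁻¹ = B := mem_normalizer_iff_conjBy.mp (Subgroup.inv_mem _ hzNB)
    have e1 : conjBy B (z * a)⁻¹ = conjBy B a⁻¹ := by
      rw [mul_inv_rev, ← conjBy_conjBy, hz']
    rw [e1] at hCb
    have hCA : C = conjBy A (b' * b⁻¹) := by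
      rw [← conjBy_conjBy, hAb, ← hCb, conjBy_conjBy]; simp
    have hCΩ : C ∈ unipotentSubgroups A B :=
      ⟨b' * b⁻¹, Subgroup.mem_sup_right (B.mul_mem hb' (B.inv_mem hb)), hCA⟩
    by_cases hCeqA : C = A
    · rw [hCeqA] at hzaC
      have hzA' : z ∈ A := by
        have := A.mul_mem hzaC (A.inv_mem ha)
        simpa using this
      have : z ∈ A ⊓ Subgroup.normalizer (B : Set G) := ⟨hzA', hzNB⟩
      rw [hbot, Subgroup.mem_bot] at this
      exact hz1 this
    · obtain ⟨hp, -, -⟩ := rankOne_pair_of_mem hAB hCΩ (rankOne_left_mem_unipotent A B) hCeqA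
      have hbot' := rankOne_inf_normalizer hp.ne hp.cond_left
      have : z * a ∈ C ⊓ Subgroup.normalizer (A : Set G) :=
        ⟨hzaC, Subgroup.mul_mem _ hzNA (Subgroup.le_normalizer ha)⟩
      rw [hbot', Subgroup.mem_bot] at this
      exact hza1 this
  · obtain ⟨-, hcent, -, -⟩ := h1
    apply haN
    rw [mem_normalizer_iff_conjBy]
    apply rankOne_commutator_normalizes hAB (rankOne_right_mem_unipotent hAB)
      (Subgroup.mem_sup_left ha) (F := ⁅C, B⁆)
    · intro f hf e he
      exact hcent f hf e (Subgroup.mem_sup_right he)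
    · intro e he
      have := Subgroup.commutator_mem_commutator hzaC he
      rw [commutatorElement_def] at this
      have e2 : z * a * e * (z * a)⁻¹ * e⁻¹ = a * e * a⁻¹ * e⁻¹ := by
        have h5 : a * e * a⁻¹ ∈ A ⊔ B :=
          Subgroup.mul_mem _ (Subgroup.mul_mem _ (Subgroup.mem_sup_left ha) (Subgroup.mem_sup_right he))
            (Subgroup.inv_mem _ (Subgroup.mem_sup_left ha))
        have h6 := hz _ h5
        have : z * a * e * (z * a)⁻¹ = z * (a * e * a⁻¹) * z⁻¹ := by simp [mul_assoc]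
        rw [this, ← h6]; simp [mul_assoc]
      rwa [e2] at this

end Cfsg.Agent.Lib.Helper8
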