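import Mathlib
import Cfsg.Prelude.Def_RootSubgroups
import Cfsg.Agent.Lib.Helper8.RankOne

set_option autoImplicit false

namespace Cfsg.Agent.Lib.Helper8

open Cfsg Matrix

variable {k : Type*} [Field k]

/-- The upper unitriangular matrix with entry `t`. -/
def uSL (t : k) : Matrix.SpecialLinearGroup (Fin 2) k :=
  ⟨!![1, t; 0, 1], by simp [Matrix.det_fin_two]⟩

/-- The lower unitriangular matrix with entry `t`. -/
def lSL (t : k) : Matrix.SpecialLinearGroup (Fin 2) k :=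
  ⟨!![1, 0; t, 1], by simp [Matrix.det_fin_two]⟩

theorem sl2_ext {g h : Matrix.SpecialLinearGroup (Fin 2) k}
    (h00 : g 0 0 = h 0 0) (h01 : g 0 1 = h 0 1) (h10 : g 1 0 = h 1 0) (h11 : g 1 1 = h 1 1) : g = h := by
  apply Matrix.SpecialLinearGroup.ext
  intro i j
  fin_cases i <;> fin_cases j <;> assumption

@[simp] theorem uSL_00 (t : k) : (uSL t) 0 0 = 1 := rfl
@[simp] theorem uSL_01 (t : k) : (uSL t) 0 1 = t := rfl
@[simp] theorem uSL_10 (t : k) : (uSL t) 1 0 = 0 := rfl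
@[simp] theorem uSL_11 (t : k) : (uSL t) 1 1 = 1 := rfl
@[simp] theorem lSL_00 (t : k) : (lSL t) 0 0 = 1 := rfl
@[simp] theorem lSL_01 (t : k) : (lSL t) 0 1 = 0 := rfl
@[simp] theorem lSL_10 (t : k) : (lSL t) 1 0 = t := rfl
@[simp] theorem lSL_11 (t : k) : (lSL t) 1 1 = 1 := rfl

theorem sl2_mul_apply (g h : Matrix.SpecialLinearGroup (Fin 2) k) (i j : Fin 2) :
    (g * h) i j = g i 0 * h 0 j + g i 1 * h 1 j := by
  rw [Matrix.SpecialLinearGroup.coe_mul, Matrix.mul_apply, Fin.sum_univ_two]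

theorem sl2_inv_00 (g : Matrix.SpecialLinearGroup (Fin 2) k) : (g⁻¹) 0 0 = g 1 1 := by
  rw [Matrix.SpecialLinearGroup.coe_inv, Matrix.adjugate_fin_two]; rfl
theorem sl2_inv_01 (g : Matrix.SpecialLinearGroup (Fin 2) k) : (g⁻¹) 0 1 = - g 0 1 := by
  rw [Matrix.SpecialLinearGroup.coe_inv, Matrix.adjugate_fin_two]; rfl
theorem sl2_inv_10 (g : Matrix.SpecialLinearGroup (Fin 2) k) : (g⁻¹) 1 0 = - g 1 0 := by
  rw [Matrix.SpecialLinearGroup.coe_inv, Matrix.adjugate_fin_two]; rfl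
theorem sl2_inv_11 (g : Matrix.SpecialLinearGroup (Fin 2) k) : (g⁻¹) 1 1 = g 0 0 := by
  rw [Matrix.SpecialLinearGroup.coe_inv, Matrix.adjugate_fin_two]; rfl

theorem sl2_one_00 : (1 : Matrix.SpecialLinearGroup (Fin 2) k) 0 0 = 1 := by simp
theorem sl2_one_01 : (1 : Matrix.SpecialLinearGroup (Fin 2) k) 0 1 = 0 := by simp
theorem sl2_one_10 : (1 : Matrix.SpecialLinearGroup (Fin 2) k) 1 0 = 0 := by simp
theorem sl2_one_11 : (1 : Matrix.SpecialLinearGroup (Fin 2) k) 1 1 = 1 := by simp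

theorem sl2_det (g : Matrix.SpecialLinearGroup (Fin 2) k) : g 0 0 * g 1 1 - g 0 1 * g 1 0 = 1 := by
  have := g.det_coe
  rwa [Matrix.det_fin_two] at this

theorem uSL_mul (s t : k) : uSL s * uSL t = uSL (s + t) := by
  apply sl2_ext <;> simp [sl2_mul_apply]
  ring

theorem lSL_mul (s t : k) : lSL s * lSL t = lSL (s + t) := by
  apply sl2_ext <;> simp [sl2_mul_apply]

theorem uSL_zero : uSL (0 : k) = 1 := by
  apply sl2_ext <;> simp

theorem lSL_zero : lSL (0 : k) = 1 := by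
  apply sl2_ext <;> simp

theorem uSL_inv (t : k) : (uSL t)⁻¹ = uSL (-t) := by
  rw [inv_eq_iff_mul_eq_one, uSL_mul, add_neg_cancel, uSL_zero]

theorem lSL_inv (t : k) : (lSL t)⁻¹ = lSL (-t) := by
  rw [inv_eq_iff_mul_eq_one, lSL_mul, add_neg_cancel, lSL_zero]

theorem uSL_injective {s t : k} (h : uSL s = uSL t) : s = t := by
  have := congrArg (fun g : Matrix.SpecialLinearGroup (Fin 2) k => g 0 1) h
  simpa using this

theorem lSL_injective {s t : k} (h : lSL s = lSL t) : s = t := by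
  have := congrArg (fun g : Matrix.SpecialLinearGroup (Fin 2) k => g 1 0) h
  simpa using this

theorem mem_upper_iff {g : Matrix.SpecialLinearGroup (Fin 2) k} :
    g ∈ upperUnipotentSL2 k ↔ ∃ t : k, g = uSL t := by
  constructor
  · intro hg
    unfold upperUnipotentSL2 at hg
    induction hg using Subgroup.closure_induction with
    | mem x hx =>
      obtain ⟨h10, h00, h11⟩ := hx
      exact ⟨x 0 1, by apply sl2_ext <;> simp [h10, h00, h11]⟩
    | one => exact ⟨0, uSL_zero.symm⟩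
    | mul x y _ _ ihx ihy =>
      obtain ⟨s, rfl⟩ := ihx
      obtain ⟨t, rfl⟩ := ihy
      exact ⟨s + t, uSL_mul s t⟩
    | inv x _ ihx =>
      obtain ⟨s, rfl⟩ := ihx
      exact ⟨-s, uSL_inv s⟩
  · rintro ⟨t, rfl⟩
    apply Subgroup.subset_closure
    exact ⟨rfl, rfl, rfl⟩

theorem mem_lower_iff {g : Matrix.SpecialLinearGroup (Fin 2) k} :
    g ∈ lowerUnipotentSL2 k ↔ ∃ t : k, g = lSL t := by
  constructor
  · intro hg
    unfold lowerUnipotentSL2 at hg
    induction hg using Subgroup.closure_induction with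
    | mem x hx =>
      obtain ⟨h01, h00, h11⟩ := hx
      exact ⟨x 1 0, by apply sl2_ext <;> simp [h01, h00, h11]⟩
    | one => exact ⟨0, lSL_zero.symm⟩
    | mul x y _ _ ihx ihy =>
      obtain ⟨s, rfl⟩ := ihx
      obtain ⟨t, rfl⟩ := ihy
      exact ⟨s + t, lSL_mul s t⟩
    | inv x _ ihx =>
      obtain ⟨s, rfl⟩ := ihx
      exact ⟨-s, lSL_inv s⟩
  · rintro ⟨t, rfl⟩
    apply Subgroup.subset_closure
    exact ⟨rfl, rfl, rfl⟩

theorem uSL_mem (t : k) : uSL t ∈ upperUnipotentSL2 k := mem_upper_iff.mpr ⟨t, rfl⟩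
theorem lSL_mem (t : k) : lSL t ∈ lowerUnipotentSL2 k := mem_lower_iff.mpr ⟨t, rfl⟩

theorem uSL_eq_one_iff {t : k} : uSL t = 1 ↔ t = 0 := by
  rw [← uSL_zero]
  exact ⟨uSL_injective, fun h => by rw [h]⟩

theorem lSL_eq_one_iff {t : k} : lSL t = 1 ↔ t = 0 := by
  rw [← lSL_zero]
  exact ⟨lSL_injective, fun h => by rw [h]⟩

/-- The key conjugation identity: `u(-s) l(r) u(s) = l(-t) u(-s² r) l(t)` when `s t = 1`. -/
theorem key_conj {s t : k} (hst : s * t = 1) (r : k) :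
    (uSL s)⁻¹ * lSL r * uSL s = (lSL t)⁻¹ * uSL (-(s ^ 2 * r)) * lSL t := by
  rw [uSL_inv, lSL_inv]
  have ht : t = s⁻¹ := eq_inv_of_mul_eq_one_right hst
  have hs : s ≠ 0 := left_ne_zero_of_mul_eq_one hst
  subst ht
  apply sl2_ext <;> simp [sl2_mul_apply] <;> field_simp <;> ring

theorem sl2_generated : lowerUnipotentSL2 k ⊔ upperUnipotentSL2 k = ⊤ := by
  rw [eq_top_iff]
  -- case c ≠ 0
  have h1 : ∀ g : Matrix.SpecialLinearGroup (Fin 2) k, g 1 0 ≠ 0 →
      g ∈ lowerUnipotentSL2 k ⊔ upperUnipotentSL2 k := by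
    intro g hc
    have hdet := sl2_det g
    have : g = uSL ((g 0 0 - 1) / g 1 0) * lSL (g 1 0) * uSL ((g 1 1 - 1) / g 1 0) := by
      apply sl2_ext
      · simp [sl2_mul_apply]
        field_simp
        ring
      · simp [sl2_mul_apply]
        field_simp
        linear_combination (-1 : k) * hdet
      · simp [sl2_mul_apply]
      · simp [sl2_mul_apply]
        field_simp
        ring
    rw [this]
    exact Subgroup.mul_mem _ (Subgroup.mul_mem _ (Subgroup.mem_sup_right (uSL_mem _))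
      (Subgroup.mem_sup_left (lSL_mem _))) (Subgroup.mem_sup_right (uSL_mem _))
  intro g _
  by_cases hc : g 1 0 = 0
  · have hdet := sl2_det g
    rw [hc, mul_zero, sub_zero] at hdet
    have ha : g 0 0 ≠ 0 := left_ne_zero_of_mul_eq_one hdet
    have h2 : lSL 1 * g ∈ lowerUnipotentSL2 k ⊔ upperUnipotentSL2 k := by
      apply h1
      simp [sl2_mul_apply, hc, ha]
    have : g = (lSL 1)⁻¹ * (lSL 1 * g) := by simp
    rw [this]
    exact Subgroup.mul_mem _ (Subgroup.inv_mem _ (Subgroup.mem_sup_left (lSL_mem _))) h2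
  · exact h1 g hc

end Cfsg.Agent.Lib.Helper8
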